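import Mathlib

/-!
S3928 split project (architect helper86), piece ABGEN: a group generated by `k` pairwise commuting
elements of exponent `e` has order `≤ e ^ k`.
-/

set_option autoImplicit false

namespace Cfsg.Agent.Lib.helper86.IV

/-- ABGEN : a group generated by `k` pairwise commuting elements of exponent `e` has order `≤ e ^ k`. -/
theorem iv_ab_gen_card {G : Type*} [Group G] (O : Finset G) (e : ℕ) (he : 0 < e)
    (hcomm : ∀ a ∈ O, ∀ b ∈ O, a * b = b * a) (hpow : ∀ o ∈ O, o ^ e = 1) :
    Nat.card (Subgroup.closure (O : Set G)) ≤ e ^ O.card := by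
  classical
  let H : (↥O) → Subgroup G := fun o => Subgroup.zpowers (o : G)
  have hc : Pairwise fun i j : ↥O => ∀ x y : G, x ∈ H i → y ∈ H j → Commute x y := by
    intro i j _ x y hx hy
    obtain ⟨a, rfl⟩ := Subgroup.mem_zpowers_iff.mp hx
    obtain ⟨b, rfl⟩ := Subgroup.mem_zpowers_iff.mp hy
    exact ((show Commute (i : G) (j : G) from hcomm _ i.2 _ j.2).zpow_right b).zpow_left a
  have hrange : (Subgroup.noncommPiCoprod hc).range = Subgroup.closure (O : Set G) := by
    rw [Subgroup.noncommPiCoprod_range]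
    apply le_antisymm
    · refine iSup_le fun o => ?_
      show Subgroup.zpowers (o : G) ≤ _
      rw [Subgroup.zpowers_le]
      exact Subgroup.subset_closure o.2
    · rw [Subgroup.closure_le]
      intro o ho
      exact (le_iSup H ⟨o, ho⟩) (Subgroup.mem_zpowers o)
  have hord : ∀ o : ↥O, 0 < orderOf (o : G) ∧ orderOf (o : G) ≤ e := fun o => by
    have hd : orderOf (o : G) ∣ e := orderOf_dvd_of_pow_eq_one (hpow _ o.2)
    exact ⟨Nat.pos_of_dvd_of_pos hd he, Nat.le_of_dvd he hd⟩
  have hcard : ∀ o : ↥O, Nat.card (H o) = orderOf (o : G) := fun o => Nat.card_zpowers (o : G)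
  have hfin : ∀ o : ↥O, Finite (H o) := fun o =>
    Nat.finite_of_card_ne_zero (by rw [hcard o]; exact (hord o).1.ne')
  calc Nat.card (Subgroup.closure (O : Set G))
      = Nat.card (Subgroup.noncommPiCoprod hc).range := by rw [hrange]
    _ ≤ Nat.card (∀ o : ↥O, H o) :=
        Nat.card_le_card_of_surjective (Subgroup.noncommPiCoprod hc).rangeRestrict
          (MonoidHom.rangeRestrict_surjective _)
    _ = ∏ o : ↥O, Nat.card (H o) := Nat.card_pi
    _ ≤ ∏ _o : ↥O, e := Finset.prod_le_prod' fun o _ => by rw [hcard o]; exact (hord o).2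
    _ = e ^ O.card := by simp

end Cfsg.Agent.Lib.helper86.IV
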