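import Mathlib

/-!
The field with four elements as a concrete type, vectors and matrices of size four over it, and
the bound `979200` for the order of the symplectic group `Sp(4, 4)`.
-/

set_option autoImplicit false
set_option maxRecDepth 100000

namespace Cfsg.Agent.Lib.helper35.SpF

/-- the field with four elements `0, 1, ω, ω + 1` -/
inductive F4
  | o
  | i
  | w
  | v
  deriving DecidableEq

namespace F4

/-- addition -/
def add : F4 → F4 → F4
  | o, x => x
  | x, o => x
  | i, i => o
  | i, w => v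
  | i, v => w
  | w, i => v
  | w, w => o
  | w, v => i
  | v, i => w
  | v, w => i
  | v, v => o

/-- multiplication -/
def mul : F4 → F4 → F4
  | o, _ => o
  | _, o => o
  | i, x => x
  | x, i => x
  | w, w => v
  | w, v => i
  | v, w => i
  | v, v => w

/-- inverse -/
def inv : F4 → F4
  | o => o
  | i => i
  | w => v
  | v => w

instance instFintype : Fintype F4 := ⟨⟨[o, i, w, v], by decide⟩, by intro x; cases x <;> decide⟩

instance instZero : Zero F4 := ⟨o⟩

instance instOne : One F4 := ⟨i⟩

instance instAdd : Add F4 := ⟨add⟩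

instance instMul : Mul F4 := ⟨mul⟩

instance instNeg : Neg F4 := ⟨id⟩

instance instInv : Inv F4 := ⟨inv⟩

instance instCommRing : CommRing F4 where
  add_assoc := by decide
  zero_add := by decide
  add_zero := by decide
  nsmul := nsmulRec
  zsmul := zsmulRec
  neg_add_cancel := by decide
  add_comm := by decide
  left_distrib := by decide
  right_distrib := by decide
  zero_mul := by decide
  mul_zero := by decide
  mul_assoc := by decide
  one_mul := by decide
  mul_one := by decide
  mul_comm := by decide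

instance instField : Field F4 where
  exists_pair_ne := ⟨o, i, by decide⟩
  mul_inv_cancel := by decide
  inv_zero := rfl
  nnqsmul := _
  qsmul := _

theorem card : Fintype.card F4 = 4 := rfl

theorem neg_eq (a : F4) : -a = a := rfl

theorem zero_eq : (0 : F4) = o := rfl

theorem one_eq : (1 : F4) = i := rfl

end F4

open Matrix

/-- vectors with index set `Fin 2 ⊕ Fin 2` -/
abbrev V : Type := Fin 2 ⊕ Fin 2 → F4

/-- vectors as quadruples, in the order `inl 0, inl 1, inr 0, inr 1` -/
abbrev V4 : Type := F4 × F4 × F4 × F4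

/-- matrices as quadruples of rows -/
abbrev M4 : Type := V4 × V4 × V4 × V4

/-- the vector of a quadruple -/
def toV (x : V4) : V := Sum.elim ![x.1, x.2.1] ![x.2.2.1, x.2.2.2]

/-- the quadruple of a vector -/
def ofV (x : V) : V4 := (x (Sum.inl 0), x (Sum.inl 1), x (Sum.inr 0), x (Sum.inr 1))

theorem toV_ofV (x : V) : toV (ofV x) = x := by
  funext j
  rcases j with j | j <;> fin_cases j <;> rfl

theorem ofV_toV (x : V4) : ofV (toV x) = x := rfl

theorem toV_injective : Function.Injective toV := fun x y h => by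
  rw [← ofV_toV x, ← ofV_toV y, h]

/-- the product of a row and a column -/
def dot (r x : V4) : F4 := r.1 * x.1 + r.2.1 * x.2.1 + r.2.2.1 * x.2.2.1 + r.2.2.2 * x.2.2.2

/-- the product of a matrix and a column -/
def app (m : M4) (x : V4) : V4 := (dot m.1 x, dot m.2.1 x, dot m.2.2.1 x, dot m.2.2.2 x)

/-- the matrix of a quadruple of rows -/
def toM (m : M4) : Matrix (Fin 2 ⊕ Fin 2) (Fin 2 ⊕ Fin 2) F4 :=
  Matrix.of (Sum.elim ![toV m.1, toV m.2.1] ![toV m.2.2.1, toV m.2.2.2])

theorem toM_mulVec (m : M4) (x : V4) : toM m *ᵥ toV x = toV (app m x) := by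
  funext j
  rcases j with j | j <;> fin_cases j <;>
    simp [toM, toV, app, dot, Matrix.mulVec, dotProduct, Fintype.sum_sum_type, Fin.sum_univ_two,
      add_assoc]

/-- the alternating form on quadruples -/
def frm4 (x y : V4) : F4 := x.1 * y.2.2.1 + x.2.2.1 * y.1 + x.2.1 * y.2.2.2 + x.2.2.2 * y.2.1

theorem frm4_eq (x y : V) : frm4 (ofV x) (ofV y) = x ⬝ᵥ (J (Fin 2) F4 *ᵥ y) := by
  simp [frm4, ofV, J, Matrix.mulVec, dotProduct, Fintype.sum_sum_type, Fin.sum_univ_two,
    Matrix.fromBlocks, F4.neg_eq, Matrix.one_apply]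
  ring

/-- symplectic matrices preserve the alternating form -/
theorem frm4_mulVec {A : Matrix (Fin 2 ⊕ Fin 2) (Fin 2 ⊕ Fin 2) F4}
    (hA : A ∈ Matrix.symplecticGroup (Fin 2) F4) (x y : V) :
    frm4 (ofV (A *ᵥ x)) (ofV (A *ᵥ y)) = frm4 (ofV x) (ofV y) := by
  have h : Aᵀ * J (Fin 2) F4 * A = J (Fin 2) F4 := SymplecticGroup.mem_iff'.1 hA
  rw [frm4_eq, frm4_eq]
  calc (A *ᵥ x) ⬝ᵥ (J (Fin 2) F4 *ᵥ (A *ᵥ y))
      = (x ᵥ* Aᵀ) ⬝ᵥ (J (Fin 2) F4 *ᵥ (A *ᵥ y)) := by rw [Matrix.vecMul_transpose]
    _ = x ⬝ᵥ (Aᵀ *ᵥ (J (Fin 2) F4 *ᵥ (A *ᵥ y))) := (Matrix.dotProduct_mulVec _ _ _).symm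
    _ = x ⬝ᵥ ((Aᵀ * J (Fin 2) F4 * A) *ᵥ y) := by
      rw [Matrix.mulVec_mulVec, Matrix.mulVec_mulVec]
    _ = x ⬝ᵥ (J (Fin 2) F4 *ᵥ y) := by rw [h]

/-- the symplectic group of degree four over the field with four elements -/
abbrev G : Type := ↥(Matrix.symplecticGroup (Fin 2) F4)

instance actV : MulAction G V where
  smul A x := A.1 *ᵥ x
  one_smul x := Matrix.one_mulVec x
  mul_smul A B x := (Matrix.mulVec_mulVec x A.1 B.1).symm

theorem smul_def (A : G) (x : V) : A • x = A.1 *ᵥ x := rfl

theorem smul_zero' (A : G) : A • (0 : V) = 0 := Matrix.mulVec_zero A.1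

theorem smul_ne_zero' (A : G) {x : V} (hx : x ≠ 0) : A • x ≠ 0 := by
  intro h
  apply hx
  have := congrArg (fun z => A⁻¹ • z) h
  simpa [inv_smul_smul, smul_zero'] using this

theorem frm4_smul (A : G) (x y : V) : frm4 (ofV (A • x)) (ofV (A • y)) = frm4 (ofV x) (ofV y) :=
  frm4_mulVec A.2 x y

/-- counting a subgroup by an orbit and a point stabiliser -/
theorem card_le_orbit {Γ X : Type*} [Group Γ] [Finite Γ] [MulAction Γ X] [DecidableEq X]
    (H : Subgroup Γ) (x : X) (T : Finset X) (hT : ∀ h ∈ H, h • x ∈ T) :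
    Nat.card H ≤ T.card * Nat.card ↥(H ⊓ MulAction.stabilizer Γ x) := by
  classical
  have : Fintype H := Fintype.ofFinite H
  have : Fintype ↥(H ⊓ MulAction.stabilizer Γ x) := Fintype.ofFinite _
  rw [Nat.card_eq_fintype_card, Nat.card_eq_fintype_card, mul_comm, ← Finset.card_univ]
  apply Finset.card_le_mul_card_image_of_maps_to (f := fun h : H => (h : Γ) • x)
  · intro h _
    exact hT h h.2
  · intro b _
    by_cases hb : ∃ h0 : H, (h0 : Γ) • x = b
    · obtain ⟨h0, rfl⟩ := hb
      rw [← Fintype.card_subtype]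
      apply Fintype.card_le_of_injective
        (fun h : {h : H // (h : Γ) • x = (h0 : Γ) • x} =>
          (⟨(h0 : Γ)⁻¹ * (h.1 : Γ), H.mul_mem (H.inv_mem h0.2) h.1.2,
            MulAction.mem_stabilizer_iff.2 (by rw [mul_smul, h.2, inv_smul_smul])⟩ :
            ↥(H ⊓ MulAction.stabilizer Γ x)))
      intro a b hab
      have := congrArg (fun z : ↥(H ⊓ MulAction.stabilizer Γ x) => (z : Γ)) hab
      simp only [mul_right_inj] at this
      exact Subtype.ext (Subtype.ext this)
    · have : (Finset.univ.filter fun h : H => (h : Γ) • x = b) = ∅ := by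
        apply Finset.filter_eq_empty_iff.2
        intro h _ hh
        exact hb ⟨h, hh⟩
      rw [this]
      simp

/-- the zero quadruple -/
def zero4 : V4 := (F4.o, F4.o, F4.o, F4.o)

/-- the quadruples of the standard symplectic basis `e₁, f₁, e₂, f₂` -/
def q1 : V4 := (F4.i, F4.o, F4.o, F4.o)
/-- second basis quadruple -/
def q2 : V4 := (F4.o, F4.o, F4.i, F4.o)
/-- third basis quadruple -/
def q3 : V4 := (F4.o, F4.i, F4.o, F4.o)
/-- fourth basis quadruple -/
def q4 : V4 := (F4.o, F4.o, F4.o, F4.i)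

/-- the possible images of the first basis vector -/
def T1 : Finset V4 := Finset.univ.filter fun u => u ≠ zero4
/-- the possible images of the second basis vector when the first is fixed -/
def T2 : Finset V4 := Finset.univ.filter fun u => u.2.2.1 = F4.i
/-- the possible images of the third basis vector when the first two are fixed -/
def T3 : Finset V4 := Finset.univ.filter fun u => u.1 = F4.o ∧ u.2.2.1 = F4.o ∧ u ≠ zero4
/-- the possible images of the fourth basis vector when the first three are fixed -/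
def T4 : Finset V4 :=
  Finset.univ.filter fun u => u.1 = F4.o ∧ u.2.2.1 = F4.o ∧ u.2.2.2 = F4.i

theorem cT1 : T1.card = 255 := by decide +kernel
theorem cT2 : T2.card = 64 := by decide +kernel
theorem cT3 : T3.card = 15 := by decide +kernel
theorem cT4 : T4.card = 4 := by decide +kernel

theorem d2 : ∀ u : V4, frm4 q1 u = frm4 q1 q2 → u ∈ T2 := by decide +kernel

theorem d3 : ∀ u : V4, frm4 q1 u = frm4 q1 q3 → frm4 q2 u = frm4 q2 q3 → u = zero4 ∨ u ∈ T3 := by
  decide +kernel

theorem d4 : ∀ u : V4, frm4 q1 u = frm4 q1 q4 → frm4 q2 u = frm4 q2 q4 →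
    frm4 q3 u = frm4 q3 q4 → u ∈ T4 := by decide +kernel

theorem toV_zero4 : toV zero4 = 0 := by
  funext j
  rcases j with j | j <;> fin_cases j <;> rfl

theorem ofV_ne_zero {u : V} (h : u ≠ 0) : ofV u ≠ zero4 := by
  intro h0
  apply h
  rw [← toV_ofV u, h0, toV_zero4]

theorem toV_ne_zero {x : V4} (h : x ≠ zero4) : toV x ≠ 0 := by
  intro h0
  apply h
  rw [← ofV_toV x, h0]
  rfl

/-- one step of the count, with the images given as quadruples -/
theorem step (H : Subgroup G) (x : V) (T : Finset V4) (n : ℕ) (hn : T.card = n)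
    (hT : ∀ A ∈ H, ofV (A • x) ∈ T) :
    Nat.card H ≤ n * Nat.card ↥(H ⊓ MulAction.stabilizer G x) := by
  classical
  have h := card_le_orbit H x (T.image toV)
    (fun A hA => Finset.mem_image.2 ⟨ofV (A • x), hT A hA, toV_ofV _⟩)
  refine le_trans h (Nat.mul_le_mul_right _ ?_)
  rw [← hn]
  exact Finset.card_image_le

/-- the stabiliser of the first basis vector -/
def K1 : Subgroup G := ⊤ ⊓ MulAction.stabilizer G (toV q1)
/-- the stabiliser of the first two basis vectors -/
def K2 : Subgroup G := K1 ⊓ MulAction.stabilizer G (toV q2)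
/-- the stabiliser of the first three basis vectors -/
def K3 : Subgroup G := K2 ⊓ MulAction.stabilizer G (toV q3)
/-- the stabiliser of the four basis vectors -/
def K4 : Subgroup G := K3 ⊓ MulAction.stabilizer G (toV q4)

theorem mem_K1 {A : G} (h : A ∈ K1) : A • toV q1 = toV q1 := MulAction.mem_stabilizer_iff.1 h.2
theorem mem_K2 {A : G} (h : A ∈ K2) : A • toV q2 = toV q2 := MulAction.mem_stabilizer_iff.1 h.2
theorem mem_K3 {A : G} (h : A ∈ K3) : A • toV q3 = toV q3 := MulAction.mem_stabilizer_iff.1 h.2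
theorem mem_K4 {A : G} (h : A ∈ K4) : A • toV q4 = toV q4 := MulAction.mem_stabilizer_iff.1 h.2

theorem toV_single (j : Fin 2 ⊕ Fin 2) :
    (Pi.single j 1 : V) = toV (Sum.elim ![q1, q3] ![q2, q4] j) := by
  funext k
  rcases j with j | j <;> fin_cases j <;> rcases k with k | k <;> fin_cases k <;> rfl

theorem K4_eq_bot : K4 = ⊥ := by
  rw [eq_bot_iff]
  intro A hA
  have h4 := mem_K4 hA
  have h3 := mem_K3 hA.1
  have h2 := mem_K2 hA.1.1
  have h1 := mem_K1 hA.1.1.1
  rw [Subgroup.mem_bot]
  apply Subtype.ext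
  have hcol : ∀ j, A.1 *ᵥ (Pi.single j 1 : V) = Pi.single j 1 := by
    intro j
    rw [toV_single]
    rcases j with j | j <;> fin_cases j
    · exact h1
    · exact h3
    · exact h2
    · exact h4
  ext k j
  have := congrFun (hcol j) k
  rw [Matrix.mulVec_single_one] at this
  rw [show (A.1 k j) = A.1.col j k from rfl, this]
  simp [Matrix.one_apply, Pi.single_apply]

/-- the order of the symplectic group `Sp(4, 4)` is at most `979200` -/
theorem card_le : Nat.card G ≤ 979200 := by
  have s1 : Nat.card (⊤ : Subgroup G) ≤ 255 * Nat.card K1 :=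
    step ⊤ (toV q1) T1 255 cT1 (fun A _ => by
      simp only [T1, Finset.mem_filter, Finset.mem_univ, true_and]
      exact ofV_ne_zero (smul_ne_zero' A (toV_ne_zero (by decide))))
  have s2 : Nat.card K1 ≤ 64 * Nat.card K2 :=
    step K1 (toV q2) T2 64 cT2 (fun A hA => by
      have h := frm4_smul A (toV q1) (toV q2)
      rw [mem_K1 hA] at h
      exact d2 _ h)
  have s3 : Nat.card K2 ≤ 15 * Nat.card K3 :=
    step K2 (toV q3) T3 15 cT3 (fun A hA => by
      have h := frm4_smul A (toV q1) (toV q3)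
      rw [mem_K1 hA.1] at h
      have h' := frm4_smul A (toV q2) (toV q3)
      rw [mem_K2 hA] at h'
      exact (d3 _ h h').resolve_left (ofV_ne_zero (smul_ne_zero' A (toV_ne_zero (by decide)))))
  have s4 : Nat.card K3 ≤ 4 * Nat.card K4 :=
    step K3 (toV q4) T4 4 cT4 (fun A hA => by
      have h := frm4_smul A (toV q1) (toV q4)
      rw [mem_K1 hA.1.1] at h
      have h' := frm4_smul A (toV q2) (toV q4)
      rw [mem_K2 hA.1] at h'
      have h'' := frm4_smul A (toV q3) (toV q4)
      rw [mem_K3 hA] at h''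
      exact d4 _ h h' h'')
  have s5 : Nat.card K4 = 1 := by rw [K4_eq_bot, Subgroup.card_bot]
  rw [Subgroup.card_top] at s1
  rw [s5] at s4
  omega

end Cfsg.Agent.Lib.helper35.SpF
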