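import Mathlib

/-!
S3928 split project (architect helper86), piece COMM: there are at most `|G : Z(G)|²` commutators.
-/

set_option autoImplicit false

namespace Cfsg.Agent.Lib.helper86.IV

open scoped commutatorElement

/-- COMM : there are at most `|G : Z(G)|²` commutators. -/
theorem iv_commset_card {G : Type*} [Group G] [Finite G] :
    Nat.card (commutatorSet G) ≤ (Subgroup.center G).index ^ 2 := by
  classical
  let g : (G ⧸ Subgroup.center G) × (G ⧸ Subgroup.center G) → G :=
    fun p => ⁅p.1.out, p.2.out⁆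
  have hsub : commutatorSet G ⊆ Set.range g := by
    rintro x ⟨a, b, rfl⟩
    refine ⟨((a : G ⧸ Subgroup.center G), (b : G ⧸ Subgroup.center G)), ?_⟩
    obtain ⟨z1, hz1⟩ := QuotientGroup.mk_out_eq_mul (Subgroup.center G) a
    obtain ⟨z2, hz2⟩ := QuotientGroup.mk_out_eq_mul (Subgroup.center G) b
    show ⁅((a : G ⧸ Subgroup.center G)).out, ((b : G ⧸ Subgroup.center G)).out⁆ = ⁅a, b⁆
    rw [hz1, hz2]
    have hz1c : ∀ y : G, (z1 : G) * y = y * z1 := fun y =>
      (Subgroup.mem_center_iff.mp z1.2 y).symm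
    have hz2c : ∀ y : G, (z2 : G) * y = y * z2 := fun y =>
      (Subgroup.mem_center_iff.mp z2.2 y).symm
    have e1 : ∀ y : G, (z1 : G) * y * (z1 : G)⁻¹ = y := fun y => by
      rw [hz1c y, mul_inv_cancel_right]
    have e2 : ∀ y : G, (z2 : G) * y * (z2 : G)⁻¹ = y := fun y => by
      rw [hz2c y, mul_inv_cancel_right]
    rw [commutatorElement_def, commutatorElement_def]
    calc a * (z1 : G) * (b * (z2 : G)) * (a * (z1 : G))⁻¹ * (b * (z2 : G))⁻¹
        = a * ((z1 : G) * (b * (z2 : G)) * (z1 : G)⁻¹) * a⁻¹ * (z2 : G)⁻¹ * b⁻¹ := by group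
      _ = a * b * ((z2 : G) * a⁻¹ * (z2 : G)⁻¹) * b⁻¹ := by rw [e1]; group
      _ = a * b * a⁻¹ * b⁻¹ := by rw [e2]
  calc Nat.card (commutatorSet G) ≤ Nat.card (Set.range g) :=
        Nat.card_mono (Set.toFinite _) hsub
    _ ≤ Nat.card ((G ⧸ Subgroup.center G) × (G ⧸ Subgroup.center G)) :=
        Finite.card_range_le g
    _ = (Subgroup.center G).index ^ 2 := by
        rw [Nat.card_prod, ← Subgroup.index_eq_card, sq]

end Cfsg.Agent.Lib.helper86.IV
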