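import Cfsg.Agent.Lib.helper26.S4409Defs

/-!
S4409 split project (architect helper26), piece MAXQ1: `⁅X, X⁆ ≤ M` for a maximal proper
invariant subgroup `M` of the 2-group `X`.
-/

set_option autoImplicit false

namespace Cfsg.Agent.Lib.helper26.S4409

open scoped commutatorElement

variable {G : Type*} [Group G]

theorem maxq1 [Finite G] (X H M : Subgroup G) (hX : IsPGroup 2 ↥X)
    (hH : H ≤ Subgroup.normalizer (X : Set G)) (hMax : IsMaxInv X H M) : ⁅X, X⁆ ≤ M := by
  obtain ⟨hMX, hMne, hXM, hHM, hmax⟩ := hMax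
  have hcX : ⁅X, X⁆ ≤ X := by
    rw [Subgroup.commutator_le]
    intro a ha b hb
    rw [commutatorElement_def]
    exact X.mul_mem (X.mul_mem (X.mul_mem ha hb) (X.inv_mem ha)) (X.inv_mem hb)
  have hnorm : ∀ g : G, g ∈ Subgroup.normalizer (M : Set G) →
      g ∈ Subgroup.normalizer (X : Set G) →
      g ∈ Subgroup.normalizer ((M ⊔ ⁅X, X⁆ : Subgroup G) : Set G) := by
    intro g hgM hgX
    rw [Subgroup.mem_normalizer_iff_map_conj_eq] at hgM hgX ⊢
    rw [Subgroup.map_sup, Subgroup.map_commutator, hgM, hgX]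
  rcases hmax (M ⊔ ⁅X, X⁆) le_sup_left (sup_le hMX hcX)
      (fun x hx => hnorm x (hXM hx) (Subgroup.le_normalizer hx))
      (fun h hh => hnorm h (hHM hh) (hH hh)) with h1 | h1
  · exact le_sup_right.trans h1.le
  · exfalso
    apply hMne
    have htop : M.subgroupOf X ⊔ _root_.commutator ↥X = ⊤ := by
      apply Subgroup.map_injective X.subtype_injective
      rw [Subgroup.map_sup, Subgroup.subgroupOf_map_subtype, Subgroup.map_subtype_commutator,
        inf_eq_left.mpr hMX, h1, ← MonoidHom.range_eq_map, Subgroup.range_subtype]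
    have hfr : M.subgroupOf X ⊔ frattini ↥X = ⊤ := by
      rw [eq_top_iff, ← htop]
      exact sup_le_sup_left (Cfsg.Agent.Lib.helper3.commutator_le_frattini hX) _
    have h2 := frattini_nongenerating hfr
    exact le_antisymm hMX (Subgroup.subgroupOf_eq_top.mp h2)

end Cfsg.Agent.Lib.helper26.S4409
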