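import Cfsg.Agent.Lib.helper26.S4409Defs

/-!
S4409 split project (architect helper26), piece SPECX: transfer of `⁅X, X⁆ = M = X ⊓ C(X)` to the
subtype `↥X`.
-/

set_option autoImplicit false

namespace Cfsg.Agent.Lib.helper26.S4409

variable {G : Type*} [Group G]

theorem specx (X M : Subgroup G) (hMX : M ≤ X)
    (hZ : X ⊓ Subgroup.centralizer (X : Set G) = M) (hc : ⁅X, X⁆ = M) :
    _root_.commutator ↥X = Subgroup.center ↥X ∧
      Nat.card ↥(Subgroup.center ↥X) = Nat.card ↥M ∧
      ∀ x : ↥X, (x : G) ∈ M → x ∈ Subgroup.center ↥X := by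
  have hcen : Subgroup.center ↥X = M.subgroupOf X := by
    ext x
    rw [Subgroup.mem_center_iff, Subgroup.mem_subgroupOf, ← hZ, Subgroup.mem_inf,
      Subgroup.mem_centralizer_iff]
    constructor
    · intro hx
      refine ⟨x.2, fun h hh => ?_⟩
      have h0 := hx ⟨h, hh⟩
      exact congrArg Subtype.val h0
    · rintro ⟨-, hx⟩ y
      exact Subtype.ext (hx y y.2)
  refine ⟨?_, ?_, ?_⟩
  · apply Subgroup.map_injective X.subtype_injective
    rw [Subgroup.map_subtype_commutator, hc, hcen, Subgroup.subgroupOf_map_subtype,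
      inf_eq_left.mpr hMX]
  · rw [hcen]
    exact Nat.card_congr (Subgroup.subgroupOfEquivOfLe hMX).toEquiv
  · intro x hx
    rw [hcen, Subgroup.mem_subgroupOf]
    exact hx

end Cfsg.Agent.Lib.helper26.S4409
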