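import Cfsg.Agent.Lib.helper26.S4409Defs

/-!
S4409 split project (architect helper26), piece Q8LB: an involution normalizing a quaternion
group `Q` and commuting with an element `q` of order 4 of `Q` acts on `Q` trivially or as
conjugation by `q`.
-/

set_option autoImplicit false

namespace Cfsg.Agent.Lib.helper26.S4409

set_option maxRecDepth 100000 in
/-- structure of `Q8` around an element of order 4 (by enumeration) -/
theorem helper35_q8_dec : ∀ q : QuaternionGroup 2, q * q ≠ 1 → q ^ 4 = 1 ∧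
    ∃ j : QuaternionGroup 2,
      (∀ x : QuaternionGroup 2, ∃ s : Fin 4, x = q ^ (s : ℕ) ∨ x = q ^ (s : ℕ) * j) ∧
      (∀ s : Fin 4, j ≠ q ^ (s : ℕ)) ∧ j * q = q⁻¹ * j := by
  decide

/-- the same in any group isomorphic to `Q8` -/
theorem helper35_q8_struct {Γ : Type*} [Group Γ] (e : Γ ≃* QuaternionGroup 2) (q : Γ)
    (hq2 : q * q ≠ 1) : q ^ 4 = 1 ∧ ∃ j : Γ, (∀ x : Γ, ∃ s : ℕ, x = q ^ s ∨ x = q ^ s * j) ∧
      (∀ s : ℕ, j ≠ q ^ s) ∧ j * q = q⁻¹ * j := by
  have hq0 : e q * e q ≠ 1 := by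
    intro h0
    apply hq2
    apply e.injective
    rw [map_mul, map_one]
    exact h0
  obtain ⟨h4, j₀, hgen, hjn, hjq⟩ := helper35_q8_dec (e q) hq0
  have h4' : q ^ 4 = 1 := by
    apply e.injective
    rw [map_pow, map_one]
    exact h4
  refine ⟨h4', e.symm j₀, ?_, ?_, ?_⟩
  · intro x
    obtain ⟨s, hs | hs⟩ := hgen (e x)
    · refine ⟨(s : ℕ), Or.inl ?_⟩
      apply e.injective
      rw [map_pow]
      exact hs
    · refine ⟨(s : ℕ), Or.inr ?_⟩
      apply e.injective
      rw [map_mul, map_pow, e.apply_symm_apply]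
      exact hs
  · intro s hs
    have hlt : s % 4 < 4 := Nat.mod_lt _ (by norm_num)
    apply hjn ⟨s % 4, hlt⟩
    have h1 : e (e.symm j₀) = e (q ^ s) := congrArg e hs
    rw [e.apply_symm_apply, map_pow] at h1
    rw [h1]
    exact pow_eq_pow_mod s h4
  · apply e.injective
    rw [map_mul, map_mul, map_inv, e.apply_symm_apply]
    exact hjq

variable {G : Type*} [Group G]

theorem q8lb (Q : Subgroup G) (hQ : IsQ8 Q) (a : G) (ha : a ∈ Subgroup.normalizer (Q : Set G))
    (ha2 : a * a = 1) (q : G) (hq : q ∈ Q) (hq2 : q * q ≠ 1) (hc : a * q = q * a) :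
    a ∈ Subgroup.centralizer (Q : Set G) ∨ q⁻¹ * a ∈ Subgroup.centralizer (Q : Set G) := by
  obtain ⟨e⟩ := hQ
  have hqQ2 : (⟨q, hq⟩ : ↥Q) * ⟨q, hq⟩ ≠ 1 := by
    intro h0
    exact hq2 (congrArg Subtype.val h0)
  obtain ⟨h4, j', hgen, hjn, hjq⟩ := helper35_q8_struct e (⟨q, hq⟩ : ↥Q) hqQ2
  obtain ⟨j, hjQ, rfl⟩ : ∃ j : G, ∃ hj : j ∈ Q, j' = ⟨j, hj⟩ := ⟨j'.1, j'.2, rfl⟩
  have h4' : q ^ 4 = 1 := by
    have h0 := congrArg Subtype.val h4
    simpa using h0
  have hgen' : ∀ x ∈ Q, ∃ s : ℕ, x = q ^ s ∨ x = q ^ s * j := by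
    intro x hx
    obtain ⟨s, hs | hs⟩ := hgen ⟨x, hx⟩
    · refine ⟨s, Or.inl ?_⟩
      have h0 := congrArg Subtype.val hs
      simpa using h0
    · refine ⟨s, Or.inr ?_⟩
      have h0 := congrArg Subtype.val hs
      simpa using h0
  have hjn' : ∀ s : ℕ, j ≠ q ^ s := by
    intro s hs
    apply hjn s
    apply Subtype.ext
    simpa using hs
  have hjq' : j * q = q⁻¹ * j := by
    have h0 := congrArg Subtype.val hjq
    simpa using h0
  have haj : a * j * a⁻¹ ∈ Q := (Subgroup.mem_normalizer_iff.mp ha j).mp hjQ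
  have hcs : ∀ s : ℕ, a * q ^ s = q ^ s * a := fun s =>
    (Commute.pow_right (show Commute a q from hc) s).eq
  have hainv : a⁻¹ = a := inv_eq_of_mul_eq_one_right ha2
  -- the centralizer criterion
  have hcrit : ∀ b : G, Commute b q → Commute b j → b ∈ Subgroup.centralizer (Q : Set G) := by
    intro b hbq hbj
    rw [Subgroup.mem_centralizer_iff]
    intro x hx
    obtain ⟨t, ht | ht⟩ := hgen' x hx
    · rw [ht]; exact (hbq.pow_right t).eq.symm
    · rw [ht]; exact ((hbq.pow_right t).mul_right hbj).eq.symm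
  obtain ⟨s, hs | hs⟩ := hgen' _ haj
  · exfalso
    apply hjn' s
    calc j = a⁻¹ * (a * j * a⁻¹) * a := by group
      _ = a⁻¹ * q ^ s * a := by rw [hs]
      _ = a⁻¹ * (a * q ^ s) := by rw [hcs s, mul_assoc]
      _ = q ^ s := by group
  · have h2s : q ^ s * q ^ s = 1 := by
      have e1 : a * (a * j * a⁻¹) * a⁻¹ = j := by
        calc a * (a * j * a⁻¹) * a⁻¹ = (a * a) * j * (a⁻¹ * a⁻¹) := by group
          _ = j := by rw [hainv, ha2, one_mul, mul_one]
      have e2 : a * (q ^ s * j) * a⁻¹ = q ^ s * (q ^ s * j) := by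
        calc a * (q ^ s * j) * a⁻¹ = (a * q ^ s) * j * a⁻¹ := by group
          _ = q ^ s * a * j * a⁻¹ := by rw [hcs s]
          _ = q ^ s * (a * j * a⁻¹) := by group
          _ = q ^ s * (q ^ s * j) := by rw [hs]
      rw [hs, e2] at e1
      have e3 : q ^ s * q ^ s * j = 1 * j := by rw [one_mul, mul_assoc]; exact e1
      exact mul_right_cancel e3
    have hmod : q ^ s = q ^ (s % 4) := pow_eq_pow_mod s h4'
    have hlt : s % 4 < 4 := Nat.mod_lt _ (by norm_num)
    rw [hmod] at h2s hs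
    have hqq : q ^ 2 ≠ 1 := by rw [pow_two]; exact hq2
    obtain ⟨r, hr⟩ : ∃ r, r = s % 4 := ⟨_, rfl⟩
    rw [← hr] at h2s hs hlt
    interval_cases r
    · -- `a` centralizes `Q`
      left
      rw [pow_zero, one_mul] at hs
      apply hcrit a hc
      calc a * j = (a * j * a⁻¹) * a := by group
        _ = j * a := by rw [hs]
    · exfalso
      apply hqq
      rw [pow_two]
      simpa using h2s
    · -- `q⁻¹ * a` centralizes `Q`
      right
      have hqj : q * j = j * q⁻¹ := by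
        calc q * j = q * (j * q) * q⁻¹ := by group
          _ = q * (q⁻¹ * j) * q⁻¹ := by rw [hjq']
          _ = j * q⁻¹ := by group
      apply hcrit
      · show q⁻¹ * a * q = q * (q⁻¹ * a)
        rw [mul_assoc, hc]
        group
      · show q⁻¹ * a * j = j * (q⁻¹ * a)
        calc q⁻¹ * a * j = q⁻¹ * (a * j * a⁻¹) * a := by group
          _ = q⁻¹ * (q ^ 2 * j) * a := by rw [hs]
          _ = (q * j) * a := by group
          _ = j * q⁻¹ * a := by rw [hqj]
          _ = j * (q⁻¹ * a) := by group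
    · exfalso
      apply hqq
      have e6 : q ^ 3 * q ^ 3 = q ^ 4 * q ^ 2 := by group
      rw [e6, h4', one_mul] at h2s
      exact h2s

end Cfsg.Agent.Lib.helper26.S4409
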