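import Cfsg.Agent.Lib.helper3.GfDefs

/-!
S4395 split project (architect helper3), piece FIB: a minimal subgroup `K` of the fibre product `F`
projecting onto `A` gives a surjection `A →* B` with central kernel.
-/

set_option autoImplicit false

namespace Cfsg.Agent.Lib.helper3.Gf

universe u

/-- FIB -/
theorem fib {A B : Type u} [Group A] [Finite A] [Group B] [Finite B]
    (NA : Subgroup A) (NB : Subgroup B) (hA : NA ≤ Subgroup.center A) (hgB : NonGen NB)
    (F : Subgroup (A × B)) (hF1 : ∀ a : A, ∃ b : B, (a, b) ∈ F) (hF2 : ∀ b : B, ∃ a : A, (a, b) ∈ F)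
    (hF3 : ∀ a : A, (a, (1 : B)) ∈ F ↔ a ∈ NA) (hF4 : ∀ b : B, ((1 : A), b) ∈ F ↔ b ∈ NB)
    (hb : ∀ K : Subgroup (A × B), K ≤ F → (∀ a : A, ∃ b : B, (a, b) ∈ K) →
      (∀ S : Subgroup (A × B), S ≤ K → (∀ a : A, ∃ b : B, (a, b) ∈ S) → S = K) → Nat.card ↥K ≤ Nat.card A) :
    ∃ φ : A →* B, Function.Surjective φ ∧ φ.ker ≤ Subgroup.center A := by
  classical
  -- a minimal subgroup `K` of `F` projecting onto `A`
  obtain ⟨K, ⟨hKF, hK1⟩, hKmin'⟩ := (wellFounded_lt (α := Subgroup (A × B))).has_min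
    {K : Subgroup (A × B) | K ≤ F ∧ ∀ a : A, ∃ b : B, (a, b) ∈ K} ⟨F, le_refl F, hF1⟩
  have hKmin : ∀ S : Subgroup (A × B), S ≤ K → (∀ a : A, ∃ b : B, (a, b) ∈ S) → S = K := by
    intro S hSK hS1
    by_contra hne
    exact hKmin' S ⟨hSK.trans hKF, hS1⟩ (lt_of_le_of_ne hSK hne)
  have hcard := hb K hKF hK1 hKmin
  -- the first projection on `K` is bijective
  let f : ↥K →* A := (MonoidHom.fst A B).comp K.subtype
  have hfs : Function.Surjective f := by
    intro a
    obtain ⟨b, hab⟩ := hK1 a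
    exact ⟨⟨(a, b), hab⟩, rfl⟩
  have hfb : Function.Bijective f := hfs.bijective_of_nat_card_le hcard
  let e : ↥K ≃* A := MulEquiv.ofBijective f hfb
  let φ : A →* B := ((MonoidHom.snd A B).comp K.subtype).comp e.symm.toMonoidHom
  have hφ : ∀ a : A, (a, φ a) ∈ K := by
    intro a
    have h1 : f (e.symm a) = a := e.apply_symm_apply a
    have h2 : ((e.symm a : ↥K) : A × B) = (a, φ a) := by
      apply Prod.ext
      · exact h1
      · rfl
    rw [← h2]
    exact (e.symm a).2
  refine ⟨φ, ?_, ?_⟩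
  · -- surjectivity: the image supplements the non-generators `NB`
    have htop : φ.range = ⊤ := by
      apply hgB
      rw [eq_top_iff]
      intro b _
      obtain ⟨a, hab⟩ := hF2 b
      have h1 : (a, φ a) ∈ F := hKF (hφ a)
      have h2 : ((1 : A), (φ a)⁻¹ * b) ∈ F := by
        have h := F.mul_mem (F.inv_mem h1) hab
        have h' : ((a, φ a) : A × B)⁻¹ * (a, b) = ((1 : A), (φ a)⁻¹ * b) := by
          apply Prod.ext
          · show a⁻¹ * a = 1
            exact inv_mul_cancel a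
          · rfl
        rw [h'] at h
        exact h
      have h3 : (φ a)⁻¹ * b ∈ NB := (hF4 _).mp h2
      have h4 : b = φ a * ((φ a)⁻¹ * b) := by group
      rw [h4]
      exact Subgroup.mul_mem_sup ⟨a, rfl⟩ h3
    intro b
    have hbm : b ∈ φ.range := by rw [htop]; trivial
    exact hbm
  · intro a ha
    have h1 : φ a = 1 := ha
    have h2 : (a, (1 : B)) ∈ F := by
      have h := hKF (hφ a)
      rwa [h1] at h
    exact hA ((hF3 a).mp h2)

end Cfsg.Agent.Lib.helper3.Gf
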