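import Cfsg.Agent.Lib.helper3.GfDefs

/-!
S4395 split project (architect helper3), piece MNPC (racer copy by helper35): a cover with
non-generating `N` is a minimal non-`p`-nilpotent group.
-/

set_option autoImplicit false

namespace Cfsg.Agent.Lib.helper3.Gf

/-- every element is `u * y ^ k` with `u ∈ P` -/
theorem h35_decomp {p q r : ℕ} {K : Type*} [Group K] [Finite K] {N P : Subgroup K} {y : K}
    (h : Cov p q r N P y) (g : K) : ∃ u ∈ P, ∃ k : ℕ, g = u * y ^ k := by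
  have := h.P_normal
  have hg : g ∈ (P ⊔ Subgroup.zpowers y : Subgroup K) := by
    rw [h.sup_top]; exact Subgroup.mem_top g
  rw [← SetLike.mem_coe, Subgroup.normal_mul] at hg
  obtain ⟨u, hu, w, hw, rfl⟩ := Set.mem_mul.mp hg
  obtain ⟨k, rfl⟩ := (Submonoid.mem_powers_iff _ _).mp (mem_powers_iff_mem_zpowers.mpr hw)
  exact ⟨u, hu, k, rfl⟩

/-- `K / P` has exponent `q ^ r` -/
theorem h35_pow_qr_mem {p q r : ℕ} {K : Type*} [Group K] [Finite K] {N P : Subgroup K} {y : K}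
    (h : Cov p q r N P y) (s : K) : s ^ (q ^ r) ∈ P := by
  have := h.P_normal
  obtain ⟨u, hu, k, rfl⟩ := h35_decomp h s
  refine (QuotientGroup.eq_one_iff (N := P) _).mp ?_
  rw [QuotientGroup.mk_pow, QuotientGroup.mk_mul, (QuotientGroup.eq_one_iff u).mpr hu, one_mul,
    QuotientGroup.mk_pow, ← pow_mul, mul_comm, pow_mul, ← QuotientGroup.mk_pow,
    (QuotientGroup.eq_one_iff _).mpr h.ord_mem, one_pow]

/-- the elements acting trivially on `P / N` -/
def h35_triv {K : Type*} [Group K] (N P : Subgroup K) (hNc : N ≤ Subgroup.center K)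
    (hPn : P.Normal) : Subgroup K where
  carrier := {g | ∀ v ∈ P, g * v * g⁻¹ * v⁻¹ ∈ N}
  one_mem' := by
    intro v _
    have e : (1 : K) * v * (1 : K)⁻¹ * v⁻¹ = 1 := by group
    rw [e]; exact N.one_mem
  mul_mem' := by
    intro a b ha hb v hv
    have h1 := hb v hv
    have h2 := ha v hv
    have hc := Subgroup.mem_center_iff.mp (hNc h1) a
    have e : a * b * v * (a * b)⁻¹ * v⁻¹ = (b * v * b⁻¹ * v⁻¹) * (a * v * a⁻¹ * v⁻¹) := by
      calc a * b * v * (a * b)⁻¹ * v⁻¹ = a * (b * v * b⁻¹ * v⁻¹) * v * a⁻¹ * v⁻¹ := by group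
        _ = (b * v * b⁻¹ * v⁻¹) * a * v * a⁻¹ * v⁻¹ := by rw [hc]
        _ = (b * v * b⁻¹ * v⁻¹) * (a * v * a⁻¹ * v⁻¹) := by group
    rw [e]
    exact N.mul_mem h1 h2
  inv_mem' := by
    intro a ha v hv
    have hv' : a⁻¹ * v * a ∈ P := by
      have h0 := hPn.conj_mem v hv a⁻¹
      rwa [inv_inv] at h0
    have h1 := ha _ hv'
    have e : a⁻¹ * v * a⁻¹⁻¹ * v⁻¹ = (a * (a⁻¹ * v * a) * a⁻¹ * (a⁻¹ * v * a)⁻¹)⁻¹ := by group
    rw [e]
    exact N.inv_mem h1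

/-- a `q`-element acting trivially on `P / N` centralizes `P` -/
theorem h35_centralize {p q r : ℕ} [Fact p.Prime] [Fact q.Prime] (hpq : p ≠ q) {K : Type*}
    [Group K] [Finite K] {N P : Subgroup K} {y : K} (h : Cov p q r N P y) (x : K)
    (hx : ∀ v ∈ P, x * v * x⁻¹ * v⁻¹ ∈ N) (j : ℕ) (hxj : x ^ (q ^ j) = 1) :
    ∀ v ∈ P, x * v = v * x := by
  intro v hv
  obtain ⟨n, hn⟩ : ∃ n, n = x * v * x⁻¹ * v⁻¹ := ⟨_, rfl⟩
  have hnN : n ∈ N := by rw [hn]; exact hx v hv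
  have hnc : x * n = n * x := Subgroup.mem_center_iff.mp (h.N_central hnN) x
  have e1 : v * x * v⁻¹ = n⁻¹ * x := by rw [hn]; group
  have e2 : (v * x * v⁻¹) ^ (q ^ j) = 1 := by rw [conj_pow, hxj, mul_one, mul_inv_cancel]
  rw [e1] at e2
  have hcomm : Commute n⁻¹ x := (Commute.inv_right (show Commute x n from hnc)).symm
  rw [hcomm.mul_pow, hxj, mul_one, inv_pow, inv_eq_one] at e2
  obtain ⟨e, he⟩ := h.P_pgroup ⟨n, h.N_le_P hnN⟩
  have he' : n ^ (p ^ e) = 1 := by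
    have h0 := congrArg Subtype.val he
    simpa using h0
  have hn1 : n = 1 := by
    have hcop : Nat.Coprime (q ^ j) (p ^ e) :=
      Nat.Coprime.pow _ _ ((Nat.coprime_primes Fact.out Fact.out).mpr (Ne.symm hpq))
    have h1 : orderOf n ∣ q ^ j := orderOf_dvd_of_pow_eq_one e2
    have h2 : orderOf n ∣ p ^ e := orderOf_dvd_of_pow_eq_one he'
    exact orderOf_eq_one_iff.mp (Nat.eq_one_of_dvd_coprimes hcop h1 h2)
  have e3 : x * v * x⁻¹ * v⁻¹ = 1 := by rw [← hn]; exact hn1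
  calc x * v = (x * v * x⁻¹ * v⁻¹) * v * x := by group
    _ = v * x := by rw [e3, one_mul]

/-- a `q`-element of a proper subgroup `S` centralizes `S ⊓ P` -/
theorem h35_cl {p q r : ℕ} [Fact p.Prime] [Fact q.Prime] (hpq : p ≠ q) {K : Type*} [Group K]
    [Finite K] {N P : Subgroup K} {y : K} (h : Cov p q r N P y) (hng : NonGen N) (S : Subgroup K)
    (hS : S ≠ ⊤) (x : K) (hxS : x ∈ S) (j : ℕ) (hxj : x ^ (q ^ j) = 1) :
    ∀ v ∈ S ⊓ P, x * v = v * x := by
  have := h.P_normal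
  obtain ⟨u, hu, k, hxk⟩ := h35_decomp h x
  by_cases hqk : q ∣ k
  · -- `x` acts trivially on `P / N`
    obtain ⟨k', rfl⟩ := hqk
    have hxT : x ∈ h35_triv N P h.N_central h.P_normal := by
      rw [hxk, pow_mul]
      refine Subgroup.mul_mem _ ?_ (Subgroup.pow_mem _ ?_ k')
      · intro v hv; exact h.comm_mem u hu v hv
      · intro v hv; exact h.yq v hv
    intro v hv
    exact h35_centralize hpq h x hxT j hxj v hv.2
  · -- `x` generates `K` modulo `P`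
    intro v hv
    have hNn : N.Normal := ⟨fun n hn g => by
      have h0 := Subgroup.mem_center_iff.mp (h.N_central hn) g
      rw [h0, mul_inv_cancel_right]; exact hn⟩
    have hWmem : ∀ w, w ∈ (S ⊓ P) ⊔ N ↔ ∃ a ∈ S ⊓ P, ∃ n ∈ N, a * n = w := by
      intro w
      rw [← SetLike.mem_coe, Subgroup.mul_normal, Set.mem_mul]
      rfl
    have hSW : ∀ s ∈ S, ∀ w ∈ (S ⊓ P) ⊔ N, s * w * s⁻¹ ∈ (S ⊓ P) ⊔ N := by
      intro s hs w hw
      obtain ⟨a, ha, n, hn, rfl⟩ := (hWmem w).mp hw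
      refine (hWmem _).mpr ⟨s * a * s⁻¹,
        ⟨S.mul_mem (S.mul_mem hs ha.1) (S.inv_mem hs), h.P_normal.conj_mem a ha.2 s⟩, n, hn, ?_⟩
      have hc := Subgroup.mem_center_iff.mp (h.N_central hn) s⁻¹
      calc s * a * s⁻¹ * n = s * a * (s⁻¹ * n) := by group
        _ = s * a * (n * s⁻¹) := by rw [hc]
        _ = s * (a * n) * s⁻¹ := by group
    have hPW : ∀ t ∈ P, ∀ w ∈ (S ⊓ P) ⊔ N, t * w * t⁻¹ ∈ (S ⊓ P) ⊔ N := by
      intro t ht w hw
      obtain ⟨a, ha, n, hn, rfl⟩ := (hWmem w).mp hw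
      have hc : t * a * t⁻¹ * a⁻¹ ∈ N := h.comm_mem t ht a ha.2
      have hcc := Subgroup.mem_center_iff.mp (h.N_central hc) a
      refine (hWmem _).mpr ⟨a, ha, (t * a * t⁻¹ * a⁻¹) * n, N.mul_mem hc hn, ?_⟩
      have hnc := Subgroup.mem_center_iff.mp (h.N_central hn) t⁻¹
      calc a * ((t * a * t⁻¹ * a⁻¹) * n) = (a * (t * a * t⁻¹ * a⁻¹)) * n := by group
        _ = ((t * a * t⁻¹ * a⁻¹) * a) * n := by rw [hcc]
        _ = t * a * (t⁻¹ * n) := by group
        _ = t * a * (n * t⁻¹) := by rw [hnc]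
        _ = t * (a * n) * t⁻¹ := by group
    -- `y ∈ P ⊔ S`
    have hyPS : y ∈ P ⊔ S := by
      have hcop : Nat.Coprime k (q ^ r) :=
        Nat.Coprime.pow_right r ((Nat.Prime.coprime_iff_not_dvd Fact.out).mpr hqk).symm
      have hyk : y ^ k ∈ P ⊔ S := by
        have e : y ^ k = u⁻¹ * x := by rw [hxk]; group
        rw [e]
        exact Subgroup.mul_mem _ (Subgroup.mem_sup_left (P.inv_mem hu)) (Subgroup.mem_sup_right hxS)
      have hyq : y ^ (q ^ r) ∈ P ⊔ S := Subgroup.mem_sup_left h.ord_mem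
      have hb := Nat.gcd_eq_gcd_ab k (q ^ r)
      rw [hcop] at hb
      have e : y = (y ^ k) ^ (Nat.gcdA k (q ^ r)) * (y ^ (q ^ r)) ^ (Nat.gcdB k (q ^ r)) := by
        rw [← zpow_natCast, ← zpow_natCast, ← zpow_mul, ← zpow_mul, ← zpow_add, ← hb]
        simp
      rw [e]
      exact Subgroup.mul_mem _ (Subgroup.zpow_mem _ hyk _) (Subgroup.zpow_mem _ hyq _)
    have hPStop : P ⊔ S = ⊤ := by
      rw [eq_top_iff, ← h.sup_top]
      exact sup_le le_sup_left ((Subgroup.zpowers_le).mpr hyPS)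
    have hyW : ∀ w ∈ (S ⊓ P) ⊔ N, y * w * y⁻¹ ∈ (S ⊓ P) ⊔ N := by
      intro w hw
      rw [← SetLike.mem_coe, Subgroup.normal_mul] at hyPS
      obtain ⟨t, ht, s, hs, hts⟩ := Set.mem_mul.mp hyPS
      have h1 := hPW t ht _ (hSW s hs w hw)
      have e : y * w * y⁻¹ = t * (s * w * s⁻¹) * t⁻¹ := by rw [← hts]; group
      rw [e]; exact h1
    rcases h.irr ((S ⊓ P) ⊔ N) le_sup_right (sup_le inf_le_right h.N_le_P) hyW with hW | hW
    · have hvN : v ∈ (S ⊓ P) ⊔ N := Subgroup.mem_sup_left hv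
      rw [hW] at hvN
      exact Subgroup.mem_center_iff.mp (h.N_central hvN) x
    · exfalso
      apply hS
      apply hng
      rw [eq_top_iff, ← hPStop]
      exact sup_le (hW.ge.trans (sup_le (inf_le_left.trans le_sup_left) le_sup_right)) le_sup_left

/-- part (ii): every proper subgroup has a normal `p`-complement -/
theorem h35_mnpc_proper {p q r : ℕ} [Fact p.Prime] [Fact q.Prime] (hpq : p ≠ q) {K : Type*}
    [Group K] [Finite K] {N P : Subgroup K} {y : K} (h : Cov p q r N P y) (hng : NonGen N)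
    (S : Subgroup K) (hS : S ≠ ⊤) : Cfsg.HasNormalPComplement p ↥S := by
  have := h.P_normal
  have hp : p.Prime := Fact.out
  have hq : q.Prime := Fact.out
  have hP' : IsPGroup p (P.subgroupOf S) := h.P_pgroup.comap_subtype
  have hquot : IsPGroup q (↥S ⧸ P.subgroupOf S) := by
    intro g
    induction g using QuotientGroup.induction_on with
    | H s =>
      refine ⟨r, ?_⟩
      rw [← QuotientGroup.mk_pow, QuotientGroup.eq_one_iff, Subgroup.mem_subgroupOf,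
        Subgroup.coe_pow]
      exact h35_pow_qr_mem h (s : K)
  obtain ⟨n, hn⟩ := IsPGroup.iff_card.mp hquot
  obtain ⟨m, hm⟩ := IsPGroup.iff_card.mp hP'
  have hidx : (P.subgroupOf S).index = q ^ n := by rw [Subgroup.index_eq_card]; exact hn
  have hcop : Nat.Coprime (Nat.card (P.subgroupOf S)) (P.subgroupOf S).index := by
    rw [hm, hidx]
    exact Nat.Coprime.pow _ _ ((Nat.coprime_primes hp hq).mpr hpq)
  obtain ⟨R, hR⟩ := Subgroup.exists_right_complement'_of_coprime hcop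
  have hRcard : Nat.card R = q ^ n := by rw [← hidx]; exact hR.symm.index_eq_card.symm
  have hRc : ∀ ρ ∈ R, ∀ a ∈ P.subgroupOf S, ρ * a = a * ρ := by
    intro ρ hρ a ha
    have h1 : (ρ : K) ^ (q ^ n) = 1 := by
      have h0 : (⟨ρ, hρ⟩ : R) ^ (Nat.card R) = 1 := pow_card_eq_one'
      rw [hRcard] at h0
      have h00 := congrArg (fun z : R => ((z : ↥S) : K)) h0
      simpa using h00
    have h2 := h35_cl hpq h hng S hS (ρ : K) ρ.2 n h1 (a : K)
      ⟨a.2, Subgroup.mem_subgroupOf.mp ha⟩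
    exact Subtype.ext h2
  have hRn : R.Normal := by
    constructor
    intro ρ hρ s
    obtain ⟨⟨a, b⟩, hab⟩ := hR.2 s
    have hab' : (a : ↥S) * (b : ↥S) = s := hab
    have hbρ : (b : ↥S) * ρ * (b : ↥S)⁻¹ ∈ R := R.mul_mem (R.mul_mem b.2 hρ) (R.inv_mem b.2)
    have hcomm := hRc _ hbρ (a : ↥S) a.2
    have e : s * ρ * s⁻¹ = (b : ↥S) * ρ * (b : ↥S)⁻¹ := by
      rw [← hab']
      calc (a : ↥S) * b * ρ * ((a : ↥S) * b)⁻¹
          = (a : ↥S) * (b * ρ * (b : ↥S)⁻¹) * (a : ↥S)⁻¹ := by group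
        _ = (b * ρ * (b : ↥S)⁻¹) * a * (a : ↥S)⁻¹ := by rw [hcomm]
        _ = (b : ↥S) * ρ * (b : ↥S)⁻¹ := by group
    rw [e]; exact hbρ
  have hndvd : ¬ p ∣ (P.subgroupOf S).index := by
    rw [hidx]
    intro hdvd
    exact hpq ((Nat.prime_dvd_prime_iff_eq hp hq).mp (hp.dvd_of_dvd_pow hdvd))
  exact ⟨hP'.toSylow hndvd, R, hRn, hR.symm⟩

/-- part (i): no normal `p`-complement -/
theorem h35_mnpc_not {p q r : ℕ} [Fact p.Prime] [Fact q.Prime] (hpq : p ≠ q) {K : Type*}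
    [Group K] [Finite K] {N P : Subgroup K} {y : K} (h : Cov p q r N P y) :
    ¬ Cfsg.HasNormalPComplement p K := by
  rintro ⟨Q, M, hMn, hMQ⟩
  have := h.P_normal
  have hp : p.Prime := Fact.out
  have hq : q.Prime := Fact.out
  have hMidx : M.index = Nat.card (Q : Subgroup K) := hMQ.symm.index_eq_card
  have hQidx : (Q : Subgroup K).index = Nat.card M := hMQ.index_eq_card
  obtain ⟨n, hn⟩ := IsPGroup.iff_card.mp Q.isPGroup'
  have hyM : y ^ (p ^ n) ∈ M := by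
    have h0 := Subgroup.pow_index_mem M y
    rwa [hMidx, hn] at h0
  have hyP : y ^ (q ^ r) ∈ P := h.ord_mem
  have hcop : Nat.Coprime (p ^ n) (q ^ r) :=
    Nat.Coprime.pow _ _ ((Nat.coprime_primes hp hq).mpr hpq)
  have hb := Nat.gcd_eq_gcd_ab (p ^ n) (q ^ r)
  rw [hcop] at hb
  have hy : y = (y ^ (p ^ n)) ^ (Nat.gcdA (p ^ n) (q ^ r)) *
      (y ^ (q ^ r)) ^ (Nat.gcdB (p ^ n) (q ^ r)) := by
    rw [← zpow_natCast, ← zpow_natCast, ← zpow_mul, ← zpow_mul, ← zpow_add, ← hb]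
    simp
  obtain ⟨m, hm, w, hw, hy'⟩ : ∃ m ∈ M, ∃ w ∈ P, y = m * w :=
    ⟨_, M.zpow_mem hyM _, _, P.zpow_mem hyP _, hy⟩
  have hMP : M ⊓ P = ⊥ := by
    have hpg : IsPGroup p ↥(M ⊓ P) := h.P_pgroup.to_le inf_le_right
    rcases hpg.card_eq_or_dvd with h1 | h1
    · exact Subgroup.eq_bot_of_card_eq _ h1
    · exfalso
      have hdvd : Nat.card ↥(M ⊓ P) ∣ Nat.card M := Subgroup.card_dvd_of_le inf_le_left
      have h2 : p ∣ (Q : Subgroup K).index := by rw [hQidx]; exact h1.trans hdvd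
      exact Q.not_dvd_index h2
  have hMc : ∀ m ∈ M, ∀ v ∈ P, m * v * m⁻¹ = v := by
    intro m hm v hv
    have h1 : m * v * m⁻¹ * v⁻¹ ∈ M ⊓ P := by
      constructor
      · have h0 := hMn.conj_mem m⁻¹ (M.inv_mem hm) v
        have e : m * v * m⁻¹ * v⁻¹ = m * (v * m⁻¹ * v⁻¹) := by group
        rw [e]; exact M.mul_mem hm h0
      · exact P.mul_mem (h.P_normal.conj_mem v hv m) (P.inv_mem hv)
    rw [hMP, Subgroup.mem_bot] at h1
    exact mul_inv_eq_one.mp h1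
  obtain ⟨u, hu, hnot⟩ := h.nontriv
  apply hnot
  have h3 := hMc m hm (w * u * w⁻¹) (h.P_normal.conj_mem u hu w)
  have h2 : y * u * y⁻¹ * u⁻¹ = w * u * w⁻¹ * u⁻¹ := by
    rw [hy']
    calc m * w * u * (m * w)⁻¹ * u⁻¹ = (m * (w * u * w⁻¹) * m⁻¹) * u⁻¹ := by group
      _ = w * u * w⁻¹ * u⁻¹ := by rw [h3]
  rw [h2]
  exact h.comm_mem w hw u hu

/-- MNPC (racer copy, verbatim statement) -/
theorem h35_mnpc (p q r : ℕ) [Fact p.Prime] [Fact q.Prime] (hpq : p ≠ q) {K : Type*} [Group K] [Finite K]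
    (N P : Subgroup K) (y : K) (h : Cov p q r N P y) (hng : NonGen N) : MNP p K :=
  ⟨h35_mnpc_not hpq h, fun S hS => h35_mnpc_proper hpq h hng S hS⟩

end Cfsg.Agent.Lib.helper3.Gf
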