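/-
helper35: S5238 REST, block G steps (1)-(3): a finite `p`-group with an element `x` whose centralizer
has order `p ^ 2` has maximal class; `g ↦ x⁻¹ g x g⁻¹` maps `γ_i` onto `γ_(i+1)`; `x` acts uniserially.
`gam G i` is helper68's shifted lower central series.  All names carry the prefix `h35_pg_`.
-/
import Mathlib
import Cfsg.Agent.Lib.helper68.HallPet
import Cfsg.Agent.S0012

set_option autoImplicit false

namespace Cfsg.Agent.Lib.helper35.PearlG

open Cfsg.Agent.Lib.helper68

variable {G : Type*} [Group G]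

/-- counting lemma: `g ↦ x⁻¹ g x g⁻¹` on `K` has fibres the cosets of `C(x) ∩ K`. -/
theorem h35_pg_count [Finite G] (x : G) (K L : Subgroup G)
    (hKL : ∀ g ∈ K, x⁻¹ * g * x * g⁻¹ ∈ L) :
    Nat.card K ≤ Nat.card L * Nat.card (Subgroup.centralizer ({x} : Set G) ⊓ K : Subgroup G) ∧
    (Nat.card K = Nat.card L * Nat.card (Subgroup.centralizer ({x} : Set G) ⊓ K : Subgroup G) →
      ∀ m ∈ L, ∃ g ∈ K, x⁻¹ * g * x * g⁻¹ = m) := by
  classical
  set C := Subgroup.centralizer ({x} : Set G) with hC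
  have hcardD : Nat.card (C.subgroupOf K) = Nat.card (C ⊓ K : Subgroup G) := by
    rw [← Subgroup.inf_subgroupOf_right]
    exact Nat.card_congr (Subgroup.subgroupOfEquivOfLe inf_le_right).toEquiv
  have hmul := Subgroup.card_eq_card_quotient_mul_card_subgroup (C.subgroupOf K)
  let ψ : (↥K ⧸ C.subgroupOf K) → ↥L := fun q => Quotient.liftOn' q
    (fun g => (⟨x⁻¹ * (g : G) * x * (g : G)⁻¹, hKL g g.2⟩ : ↥L)) (by
      intro a b hab
      rw [QuotientGroup.leftRel_apply] at hab
      apply Subtype.ext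
      simp only
      have h1 : ((a⁻¹ * b : ↥K) : G) ∈ C := hab
      rw [hC, Subgroup.mem_centralizer_iff] at h1
      have h2 := h1 x (Set.mem_singleton x)
      simp only [Subgroup.coe_mul, Subgroup.coe_inv] at h2
      have h3 : (a : G) * x * (a : G)⁻¹ = (b : G) * x * (b : G)⁻¹ := by
        calc (a : G) * x * (a : G)⁻¹ = a * (x * ((a : G)⁻¹ * b)) * (b : G)⁻¹ := by group
          _ = a * (((a : G)⁻¹ * b) * x) * (b : G)⁻¹ := by rw [h2]
          _ = b * x * (b : G)⁻¹ := by group
      calc x⁻¹ * (a : G) * x * (a : G)⁻¹ = x⁻¹ * ((a : G) * x * (a : G)⁻¹) := by group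
        _ = x⁻¹ * ((b : G) * x * (b : G)⁻¹) := by rw [h3]
        _ = x⁻¹ * (b : G) * x * (b : G)⁻¹ := by group)
  have hinj : Function.Injective ψ := by
    intro q₁ q₂
    refine Quotient.inductionOn₂' q₁ q₂ (fun a b h => ?_)
    apply Quotient.sound'
    rw [QuotientGroup.leftRel_apply]
    have h1 : x⁻¹ * (a : G) * x * (a : G)⁻¹ = x⁻¹ * (b : G) * x * (b : G)⁻¹ :=
      congrArg Subtype.val h
    show ((a⁻¹ * b : ↥K) : G) ∈ C
    rw [hC, Subgroup.mem_centralizer_iff]
    intro y hy
    rw [Set.mem_singleton_iff] at hy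
    subst hy
    simp only [Subgroup.coe_mul, Subgroup.coe_inv]
    have h3 : (a : G) * y * (a : G)⁻¹ = (b : G) * y * (b : G)⁻¹ := by
      have := congrArg (fun t => y * t) h1
      simpa [mul_assoc] using this
    calc y * ((a : G)⁻¹ * b) = (a : G)⁻¹ * ((a : G) * y * (a : G)⁻¹) * b := by group
      _ = (a : G)⁻¹ * ((b : G) * y * (b : G)⁻¹) * b := by rw [h3]
      _ = (a : G)⁻¹ * b * y := by group
  have hle : Nat.card (↥K ⧸ C.subgroupOf K) ≤ Nat.card ↥L := Nat.card_le_card_of_injective ψ hinj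
  constructor
  · rw [hmul, hcardD]
    exact Nat.mul_le_mul_right _ hle
  · intro heq m hm
    have hpos : 0 < Nat.card (C ⊓ K : Subgroup G) := Nat.card_pos
    have hcq : Nat.card (↥K ⧸ C.subgroupOf K) = Nat.card ↥L := by
      rw [hmul, hcardD] at heq
      exact Nat.eq_of_mul_eq_mul_right hpos heq
    have hsurj : Function.Surjective ψ :=
      ((Nat.bijective_iff_injective_and_card ψ).2 ⟨hinj, hcq⟩).2
    obtain ⟨q, hq⟩ := hsurj ⟨m, hm⟩
    induction q using Quotient.inductionOn' with
    | h g => exact ⟨g, g.2, congrArg Subtype.val hq⟩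

/-- the lower central series of a `p`-group is strictly decreasing until it reaches `⊥`. -/
theorem h35_pg_strict [Finite G] (p n : ℕ) [Fact p.Prime] (hG : Nat.card G = p ^ n) (i : ℕ)
    (hi : 1 ≤ i) (hne : gam G i ≠ ⊥) : Nat.card (gam G (i + 1)) * p ≤ Nat.card (gam G i) := by
  have hp : p.Prime := Fact.out
  have hPG : IsPGroup p G := IsPGroup.of_card hG
  have hnil : Group.IsNilpotent G := hPG.isNilpotent
  obtain ⟨c, hc⟩ := Subgroup.nilpotent_iff_lowerCentralSeries.1 hnil
  have hle : gam G (i + 1) ≤ gam G i := gam_antitone (Nat.le_succ i)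
  have hneq : gam G (i + 1) ≠ gam G i := by
    intro heq
    apply hne
    have hstab : ∀ k, (⊤ : Subgroup G).lowerCentralSeries (i - 1 + k) =
        (⊤ : Subgroup G).lowerCentralSeries (i - 1) := by
      intro k
      induction k with
      | zero => rfl
      | succ k ih =>
        have e1 : i - 1 + (k + 1) = (i - 1 + k) + 1 := by omega
        rw [e1, Subgroup.lowerCentralSeries_succ, ih, ← Subgroup.lowerCentralSeries_succ]
        have e : i - 1 + 1 = (i + 1) - 1 := by omega
        rw [e]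
        exact heq
    have h1 := hstab c
    have h2 : (⊤ : Subgroup G).lowerCentralSeries (i - 1 + c) ≤
        (⊤ : Subgroup G).lowerCentralSeries c :=
      Subgroup.lowerCentralSeries_antitone _ (by omega)
    rw [h1, hc] at h2
    exact le_bot_iff.1 h2
  obtain ⟨a, ha, hcarda⟩ := (Nat.dvd_prime_pow hp).1
    (hG ▸ Subgroup.card_subgroup_dvd_card (gam G (i + 1)))
  obtain ⟨b, hb, hcardb⟩ := (Nat.dvd_prime_pow hp).1
    (hG ▸ Subgroup.card_subgroup_dvd_card (gam G i))
  have hab : a ≤ b := by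
    have := Subgroup.card_dvd_of_le hle
    rw [hcarda, hcardb] at this
    exact (Nat.pow_dvd_pow_iff_le_right hp.one_lt).1 this
  have hab' : a ≠ b := by
    intro h
    apply hneq
    exact Subgroup.eq_of_le_of_card_ge hle (by rw [hcarda, hcardb, h])
  rw [hcarda, hcardb, ← pow_succ]
  exact Nat.pow_le_pow_right hp.pos (by omega)

theorem h35_pg_step (x : G) (i : ℕ) (g : G) (hg : g ∈ gam G i) :
    x⁻¹ * g * x * g⁻¹ ∈ gam G (i + 1) := by
  have h1 : x ∈ gam G 1 := by unfold gam; simp
  have h2 := com_mem h1 ((gam G i).inv_mem hg)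
  have e : com x g⁻¹ = x⁻¹ * g * x * g⁻¹ := by unfold com; group
  rw [e, add_comm] at h2
  exact h2

/-- `[G : G'] ≥ p ^ 2` -/
theorem h35_pg_index [Finite G] (p : ℕ) [Fact p.Prime] (n : ℕ) (hG : Nat.card G = p ^ n) (x : G)
    (hC : Nat.card (Subgroup.centralizer ({x} : Set G)) = p ^ 2) (hn : 3 ≤ n) :
    Nat.card (gam G 2) * p ^ 2 ≤ p ^ n := by
  have hp : p.Prime := Fact.out
  have hPG : IsPGroup p G := IsPGroup.of_card hG
  obtain ⟨a, ha, hcarda⟩ := (Nat.dvd_prime_pow hp).1
    (hG ▸ Subgroup.card_subgroup_dvd_card (gam G 2))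
  have htop : gam G 1 = ⊤ := by unfold gam; rfl
  have hne1 : gam G 1 ≠ ⊥ := by
    rw [htop]
    intro h
    have h1 : Nat.card (⊤ : Subgroup G) = 1 := by rw [h]; exact Subgroup.card_bot
    rw [Subgroup.card_top, hG] at h1
    have : p ^ n > 1 := Nat.one_lt_pow (by omega) hp.one_lt
    omega
  have hs := h35_pg_strict p n hG 1 le_rfl hne1
  rw [htop, Subgroup.card_top, hG, hcarda, ← pow_succ] at hs
  have ha1 : a + 1 ≤ n := (Nat.pow_le_pow_iff_right hp.one_lt).1 hs
  rw [hcarda, ← pow_add]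
  apply Nat.pow_le_pow_right hp.pos
  by_contra hcon
  have han : a = n - 1 := by omega
  -- `G` is cyclic, contradiction
  have hfr : gam G 2 ≤ frattini G := by
    have h0 := (Cfsg.Agent.S0012.result p hPG).1
    have e : gam G 2 = commutator G := by
      unfold gam
      exact Subgroup.top_lowerCentralSeries_one
    rw [e]
    exact h0
  have hnetop : gam G 2 ≠ ⊤ := by
    intro h
    have h1 : Nat.card (gam G 2) = p ^ n := by rw [h, Subgroup.card_top, hG]
    rw [hcarda] at h1
    have := Nat.pow_right_injective hp.two_le h1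
    omega
  obtain ⟨g, hg⟩ : ∃ g, g ∉ gam G 2 := by
    by_contra h
    push Not at h
    exact hnetop (eq_top_iff.2 (fun y _ => h y))
  have hK : Subgroup.zpowers g ⊔ gam G 2 = ⊤ := by
    obtain ⟨b, hb, hcardb⟩ := (Nat.dvd_prime_pow hp).1
      (hG ▸ Subgroup.card_subgroup_dvd_card (Subgroup.zpowers g ⊔ gam G 2))
    have hle : gam G 2 ≤ Subgroup.zpowers g ⊔ gam G 2 := le_sup_right
    have hab : a ≤ b := by
      have := Subgroup.card_dvd_of_le hle
      rw [hcarda, hcardb] at this
      exact (Nat.pow_dvd_pow_iff_le_right hp.one_lt).1 this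
    have hab' : a ≠ b := by
      intro h
      have heq := Subgroup.eq_of_le_of_card_ge hle (by rw [hcarda, hcardb, h])
      apply hg
      rw [heq]
      exact (le_sup_left : Subgroup.zpowers g ≤ _) (Subgroup.mem_zpowers g)
    have hbn : b = n := by omega
    apply Subgroup.eq_top_of_card_eq
    rw [hcardb, hbn, hG]
  have hz : Subgroup.zpowers g = ⊤ := by
    apply frattini_nongenerating
    rw [eq_top_iff, ← hK]
    exact sup_le_sup_left hfr _
  have hCtop : Subgroup.centralizer ({x} : Set G) = ⊤ := by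
    rw [eq_top_iff]
    intro y _
    rw [Subgroup.mem_centralizer_iff]
    intro z hz'
    rw [Set.mem_singleton_iff] at hz'
    subst hz'
    have hy : y ∈ Subgroup.zpowers g := by rw [hz]; trivial
    have hzz : z ∈ Subgroup.zpowers g := by rw [hz]; trivial
    obtain ⟨k, rfl⟩ := Subgroup.mem_zpowers_iff.1 hy
    obtain ⟨l, rfl⟩ := Subgroup.mem_zpowers_iff.1 hzz
    rw [← zpow_add, ← zpow_add, add_comm]
  rw [hCtop, Subgroup.card_top, hG] at hC
  have := Nat.pow_right_injective hp.two_le hC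
  omega

/-- the series data (maximal class) -/
theorem h35_pg_series [Finite G] (p : ℕ) [Fact p.Prime] (n : ℕ) (hG : Nat.card G = p ^ n) (x : G)
    (hC : Nat.card (Subgroup.centralizer ({x} : Set G)) = p ^ 2) (hn : 3 ≤ n) :
    x ∉ gam G 2 ∧
    ∀ i, 1 ≤ i → i + 1 ≤ n →
      Nat.card (gam G (i + 1)) = p ^ (n - (i + 1)) ∧
      (∀ m ∈ gam G (i + 1), ∃ g ∈ gam G i, x⁻¹ * g * x * g⁻¹ = m) ∧
      (2 ≤ i → Nat.card (Subgroup.centralizer ({x} : Set G) ⊓ gam G i : Subgroup G) = p) := by
  have hp : p.Prime := Fact.out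
  have htop : gam G 1 = ⊤ := by unfold gam; rfl
  have e1 : Nat.card (gam G 1) = p ^ n := by rw [htop, Subgroup.card_top, hG]
  have e2 : Nat.card (Subgroup.centralizer ({x} : Set G) ⊓ gam G 1 : Subgroup G) = p ^ 2 := by
    rw [htop, inf_top_eq, hC]
  have hcnt1 := h35_pg_count x (gam G 1) (gam G 2) (fun g hg => h35_pg_step x 1 g hg)
  rw [e1, e2] at hcnt1
  have hidx := h35_pg_index p n hG x hC hn
  have hP2 : Nat.card (gam G 2) * p ^ 2 = p ^ n := le_antisymm hidx hcnt1.1
  have hP2' : Nat.card (gam G 2) = p ^ (n - 2) := by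
    have e : p ^ n = p ^ (n - 2) * p ^ 2 := by rw [← pow_add]; congr 1; omega
    rw [e] at hP2
    exact Nat.eq_of_mul_eq_mul_right (pow_pos hp.pos 2) hP2
  have hsurj1 := hcnt1.2 hP2.symm
  have hx2 : x ∉ gam G 2 := by
    intro hx
    obtain ⟨g, -, hg⟩ := hsurj1 x⁻¹ ((gam G 2).inv_mem hx)
    have h1 : g * x * g⁻¹ = 1 := by
      have := congrArg (fun t => x * t) hg
      simpa [mul_assoc] using this
    have hx1 : x = 1 := by
      have := congrArg (fun t => g⁻¹ * t * g) h1
      simpa [mul_assoc] using this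
    have hCtop : Subgroup.centralizer ({x} : Set G) = ⊤ := by
      rw [eq_top_iff]
      intro y _
      rw [Subgroup.mem_centralizer_iff]
      intro z hz
      rw [Set.mem_singleton_iff] at hz
      rw [hz, hx1]
      simp
    rw [hCtop, Subgroup.card_top, hG] at hC
    have := Nat.pow_right_injective hp.two_le hC
    omega
  refine ⟨hx2, ?_⟩
  intro i hi
  induction i, hi using Nat.le_induction with
  | base =>
    intro _
    exact ⟨hP2', hsurj1, fun h => absurd h (by omega)⟩
  | succ i hi ih =>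
    intro hin
    obtain ⟨hcard, -, -⟩ := ih (by omega)
    have hne : gam G (i + 1) ≠ ⊥ := by
      intro h
      rw [h, Subgroup.card_bot] at hcard
      have : p ^ (n - (i + 1)) > 1 := Nat.one_lt_pow (by omega) hp.one_lt
      omega
    have hs := h35_pg_strict p n hG (i + 1) (by omega) hne
    have hcnt := h35_pg_count x (gam G (i + 1)) (gam G (i + 1 + 1))
      (fun g hg => h35_pg_step x (i + 1) g hg)
    have hxi : x ∉ gam G (i + 1) := fun h => hx2 (gam_antitone (by omega) h)
    have hCi : Nat.card (Subgroup.centralizer ({x} : Set G) ⊓ gam G (i + 1) : Subgroup G) ≤ p := by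
      obtain ⟨a, ha, hcarda⟩ := (Nat.dvd_prime_pow hp).1
        (hC ▸ Subgroup.card_dvd_of_le
          (inf_le_left : Subgroup.centralizer ({x} : Set G) ⊓ gam G (i + 1) ≤ _))
      have ha2 : a ≠ 2 := by
        intro h
        have heq := Subgroup.eq_of_le_of_card_ge
          (inf_le_left : Subgroup.centralizer ({x} : Set G) ⊓ gam G (i + 1) ≤ _)
          (by rw [hcarda, h, hC])
        apply hxi
        have hxC : x ∈ Subgroup.centralizer ({x} : Set G) := by
          rw [Subgroup.mem_centralizer_iff]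
          intro y hy
          rw [Set.mem_singleton_iff] at hy
          rw [hy]
        rw [← heq] at hxC
        exact hxC.2
      rw [hcarda]
      calc p ^ a ≤ p ^ 1 := Nat.pow_le_pow_right hp.pos (by omega)
        _ = p := pow_one p
    have h1 : Nat.card (gam G (i + 1)) ≤ Nat.card (gam G (i + 1 + 1)) * p :=
      le_trans hcnt.1 (Nat.mul_le_mul_left _ hCi)
    have h2 : Nat.card (gam G (i + 1 + 1)) * p = Nat.card (gam G (i + 1)) := le_antisymm hs h1
    have hcard' : Nat.card (gam G (i + 1 + 1)) = p ^ (n - (i + 1 + 1)) := by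
      rw [hcard] at h2
      have e : p ^ (n - (i + 1)) = p ^ (n - (i + 1 + 1)) * p := by
        rw [← pow_succ]; congr 1; omega
      rw [e] at h2
      exact Nat.eq_of_mul_eq_mul_right hp.pos h2
    have hCi' : Nat.card (Subgroup.centralizer ({x} : Set G) ⊓ gam G (i + 1) : Subgroup G) = p := by
      have h3 : Nat.card (gam G (i + 1 + 1)) *
          Nat.card (Subgroup.centralizer ({x} : Set G) ⊓ gam G (i + 1) : Subgroup G) =
          Nat.card (gam G (i + 1 + 1)) * p :=
        le_antisymm (Nat.mul_le_mul_left _ hCi) (by rw [h2]; exact hcnt.1)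
      exact Nat.eq_of_mul_eq_mul_left Nat.card_pos h3
    exact ⟨hcard', hcnt.2 (by rw [hCi', h2]), fun _ => hCi'⟩

/-- `|γ_i| = p ^ (n - i)` for `2 ≤ i ≤ n` (all `n`). -/
theorem h35_pg_card [Finite G] (p : ℕ) [Fact p.Prime] (n : ℕ) (hG : Nat.card G = p ^ n) (x : G)
    (hC : Nat.card (Subgroup.centralizer ({x} : Set G)) = p ^ 2) :
    ∀ i, 2 ≤ i → i ≤ n → Nat.card (gam G i) = p ^ (n - i) := by
  have hp : p.Prime := Fact.out
  intro i hi hin
  by_cases hn : 3 ≤ n
  · obtain ⟨-, hser⟩ := h35_pg_series p n hG x hC hn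
    have := (hser (i - 1) (by omega) (by omega)).1
    have e : i - 1 + 1 = i := by omega
    rw [e] at this
    exact this
  · have hn2 : n = 2 := by omega
    have hi2 : i = 2 := by omega
    subst hn2 hi2
    have hcomm : ∀ a b : G, a * b = b * a := IsPGroup.commutative_of_card_eq_prime_sq hG
    have hbot : gam G 2 = ⊥ := by
      have e : gam G 2 = commutator G := by
        unfold gam
        exact Subgroup.top_lowerCentralSeries_one
      rw [e, commutator_def, Subgroup.commutator_eq_bot_iff_le_centralizer]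
      intro a _
      rw [Subgroup.mem_centralizer_iff]
      intro b _
      exact hcomm b a
    rw [hbot, Subgroup.card_bot]
    simp

/-- `g ↦ com x g` maps `γ_i` onto `γ_(i+1)`. -/
theorem h35_pg_onto [Finite G] (p : ℕ) [Fact p.Prime] (n : ℕ) (hG : Nat.card G = p ^ n) (x : G)
    (hC : Nat.card (Subgroup.centralizer ({x} : Set G)) = p ^ 2) (hn : 3 ≤ n) (i : ℕ) (hi : 1 ≤ i)
    (m : G) (hm : m ∈ gam G (i + 1)) : ∃ g ∈ gam G i, com x g = m := by
  by_cases hin : i + 1 ≤ n
  · obtain ⟨-, hser⟩ := h35_pg_series p n hG x hC hn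
    obtain ⟨g, hg, hgm⟩ := (hser i hi hin).2.1 m hm
    refine ⟨g⁻¹, (gam G i).inv_mem hg, ?_⟩
    rw [← hgm]
    unfold com
    group
  · have hbot : gam G n = ⊥ := by
      have := h35_pg_card p n hG x hC n (by omega) le_rfl
      rw [Nat.sub_self, pow_zero] at this
      exact Subgroup.card_eq_one.1 this
    have hm1 : m = 1 := by
      have : m ∈ gam G n := gam_antitone (by omega) hm
      rw [hbot] at this
      exact Subgroup.mem_bot.1 this
    refine ⟨1, (gam G i).one_mem, ?_⟩
    rw [hm1]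
    unfold com
    group

/-- `x` acts uniserially. -/
theorem h35_pg_uniserial [Finite G] (p : ℕ) [Fact p.Prime] (n : ℕ) (hG : Nat.card G = p ^ n) (x : G)
    (hC : Nat.card (Subgroup.centralizer ({x} : Set G)) = p ^ 2) (i : ℕ) (hi : 2 ≤ i)
    (hin : i + 2 ≤ n) (m : G) (hm : m ∈ gam G i) (hm' : m ∉ gam G (i + 1)) :
    com m x ∉ gam G (i + 2) := by
  intro hcon
  obtain ⟨-, hser⟩ := h35_pg_series p n hG x hC (by omega)
  have h1 : x⁻¹ * m⁻¹ * x * m⁻¹⁻¹ ∈ gam G (i + 1 + 1) := by
    have e : x⁻¹ * m⁻¹ * x * m⁻¹⁻¹ = (com m x)⁻¹ := by unfold com; group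
    rw [e]
    exact (gam G (i + 2)).inv_mem hcon
  obtain ⟨g, hg, hgm⟩ := (hser (i + 1) (by omega) (by omega)).2.1 _ h1
  have h2 : g * x * g⁻¹ = m⁻¹ * x * m := by
    have := congrArg (fun t => x * t) hgm
    simpa [mul_assoc] using this
  have hmgC : m * g ∈ Subgroup.centralizer ({x} : Set G) := by
    rw [Subgroup.mem_centralizer_iff]
    intro y hy
    rw [Set.mem_singleton_iff] at hy
    subst hy
    calc y * (m * g) = m * (m⁻¹ * y * m) * g := by group
      _ = m * (g * y * g⁻¹) * g := by rw [h2]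
      _ = m * g * y := by group
  have hgi : g ∈ gam G i := gam_antitone (by omega) hg
  have hmem : m * g ∈ (Subgroup.centralizer ({x} : Set G) ⊓ gam G i : Subgroup G) :=
    ⟨hmgC, (gam G i).mul_mem hm hgi⟩
  have hc1 := (hser i (by omega) (by omega)).2.2 hi
  have hc2 := (hser (i + 1) (by omega) (by omega)).2.2 (by omega)
  have hle : (Subgroup.centralizer ({x} : Set G) ⊓ gam G (i + 1) : Subgroup G) ≤
      Subgroup.centralizer ({x} : Set G) ⊓ gam G i :=
    inf_le_inf_left _ (gam_antitone (by omega))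
  have heq := Subgroup.eq_of_le_of_card_ge hle (by rw [hc1, hc2])
  rw [← heq] at hmem
  apply hm'
  have := (gam G (i + 1)).mul_mem hmem.2 ((gam G (i + 1)).inv_mem hg)
  simpa using this

/-- every element of `x γ_2` has order dividing `p`. -/
theorem h35_pg_order [Finite G] (p : ℕ) [Fact p.Prime] (n : ℕ) (hG : Nat.card G = p ^ n) (x : G)
    (hC : Nat.card (Subgroup.centralizer ({x} : Set G)) = p ^ 2) (hn : 3 ≤ n) (hx : x ^ p = 1)
    (m : G) (hm : m ∈ gam G 2) : (x * m) ^ p = 1 := by
  obtain ⟨-, hser⟩ := h35_pg_series p n hG x hC hn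
  obtain ⟨g, -, hgm⟩ := (hser 1 le_rfl (by omega)).2.1 m hm
  have e : x * m = g * x * g⁻¹ := by rw [← hgm]; group
  rw [e, conj_pow, hx]
  group

end Cfsg.Agent.Lib.helper35.PearlG
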