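import Cfsg.Agent.Lib.helper35.APIntvMain
import Cfsg.Agent.Lib.helper7.APGPC

/-!
S2276 split (architect helper95), piece INTV, spare copy by helper35 (verbatim statement, prefixed
name): block model of `APIntvMain` + the landed piece GPC.
-/

set_option autoImplicit false

namespace Cfsg.Agent.Lib.helper95.AP

open Equiv

/-- [INTV] (spare copy) interval model: a permutation of `Fin (p^e)` with cycle type `L` forming a
good pair with the rotation -/
theorem h35_intv (p : ℕ) (hp : p.Prime) (hp3 : 3 ≤ p) (e : ℕ) (L : List ℕ) (hL0 : L ≠ [])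
    (hsort : L.Pairwise (· ≥ ·)) (hpow : ∀ l ∈ L, ∃ j : ℕ, 1 ≤ j ∧ l = p ^ j ∧ l < p ^ e)
    (hsum : L.sum ≤ p ^ e) :
    ∃ b : Perm (Fin (p ^ e)), b.cycleType = (L : Multiset ℕ) ∧ GoodBoth p (finRotate (p ^ e)) b := by
  have he : 1 ≤ e := by
    obtain ⟨l, hl⟩ := List.exists_mem_of_ne_nil L hL0
    obtain ⟨j, hj1, rfl, hlt⟩ := hpow l hl
    have hje : j < e := (Nat.pow_lt_pow_iff_right hp.one_lt).mp hlt
    omega
  exact h35_intv_of_gpc p hp hp3 e
    (fun b x y hxy hbxy f hf hf2 hfp => gpc p hp hp3 e he b x y hxy hbxy f hf hf2 hfp)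
    L hL0 hsort hpow hsum

end Cfsg.Agent.Lib.helper95.AP
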