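import Cfsg.Agent.Lib.helper95.APDefs

/-!
S2276 split (architect helper95), piece INTV, base lemmas (helper35): block model.
`h35J σ τ` acts as `σ` on the first `m` points of `Fin (m + n)` and as `τ` on the last `n`.
`h35cnt σ` counts the points `x` with `σ x = x - 1` (no wrap-around).
-/

set_option autoImplicit false

namespace Cfsg.Agent.Lib.helper95.AP

open Equiv

/-- the join of two permutations on `Fin (m + n)` -/
def h35J {m n : ℕ} (σ : Perm (Fin m)) (τ : Perm (Fin n)) : Perm (Fin (m + n)) :=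
  σ.viaFintypeEmbedding (Fin.castAddEmb n) * τ.viaFintypeEmbedding (Fin.natAddEmb m)

theorem h35_cast_notMem {m n : ℕ} (i : Fin m) :
    Fin.castAdd n i ∉ Set.range (Fin.natAddEmb m : Fin n ↪ Fin (m + n)) := by
  rintro ⟨j, hj⟩
  have h := congrArg Fin.val hj
  simp at h
  omega

theorem h35_nat_notMem {m n : ℕ} (j : Fin n) :
    Fin.natAdd m j ∉ Set.range (Fin.castAddEmb n : Fin m ↪ Fin (m + n)) := by
  rintro ⟨i, hi⟩
  have h := congrArg Fin.val hi
  simp at h
  omega

theorem h35J_cast {m n : ℕ} (σ : Perm (Fin m)) (τ : Perm (Fin n)) (i : Fin m) :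
    h35J σ τ (Fin.castAdd n i) = Fin.castAdd n (σ i) := by
  unfold h35J
  rw [Perm.mul_apply, Perm.viaFintypeEmbedding_apply_notMem_range _ _ (h35_cast_notMem i)]
  exact Perm.viaFintypeEmbedding_apply_image σ (Fin.castAddEmb n) i

theorem h35J_nat {m n : ℕ} (σ : Perm (Fin m)) (τ : Perm (Fin n)) (j : Fin n) :
    h35J σ τ (Fin.natAdd m j) = Fin.natAdd m (τ j) := by
  unfold h35J
  rw [Perm.mul_apply]
  have h1 : τ.viaFintypeEmbedding (Fin.natAddEmb m) (Fin.natAdd m j) = Fin.natAdd m (τ j) :=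
    Perm.viaFintypeEmbedding_apply_image τ (Fin.natAddEmb m) j
  rw [h1, Perm.viaFintypeEmbedding_apply_notMem_range _ _ (h35_nat_notMem (τ j))]

theorem h35_cases {m n : ℕ} (x : Fin (m + n)) :
    (∃ i : Fin m, x = Fin.castAdd n i) ∨ (∃ j : Fin n, x = Fin.natAdd m j) := by
  induction x using Fin.addCases with
  | left i => exact Or.inl ⟨i, rfl⟩
  | right j => exact Or.inr ⟨j, rfl⟩

theorem h35J_cycleType {m n : ℕ} (σ : Perm (Fin m)) (τ : Perm (Fin n)) :
    (h35J σ τ).cycleType = σ.cycleType + τ.cycleType := by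
  unfold h35J
  have hd : Perm.Disjoint (σ.viaFintypeEmbedding (Fin.castAddEmb n))
      (τ.viaFintypeEmbedding (Fin.natAddEmb m)) := by
    intro x
    rcases h35_cases x with ⟨i, rfl⟩ | ⟨j, rfl⟩
    · right
      exact Perm.viaFintypeEmbedding_apply_notMem_range _ _ (h35_cast_notMem i)
    · left
      exact Perm.viaFintypeEmbedding_apply_notMem_range _ _ (h35_nat_notMem j)
  rw [hd.cycleType_mul]
  unfold Perm.viaFintypeEmbedding
  rw [Perm.cycleType_extendDomain, Perm.cycleType_extendDomain]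

/-- number of points with `σ x = x - 1` -/
def h35cnt {N : ℕ} (σ : Perm (Fin N)) : ℕ :=
  (Finset.univ.filter (fun x : Fin N => (σ x).val + 1 = x.val)).card

theorem h35J_cnt {m n : ℕ} (σ : Perm (Fin m)) (τ : Perm (Fin n)) :
    h35cnt (h35J σ τ) = h35cnt σ + h35cnt τ := by
  unfold h35cnt
  rw [Finset.card_filter, Finset.card_filter, Finset.card_filter, Fin.sum_univ_add]
  congr 1
  · apply Finset.sum_congr rfl
    intro i _
    rw [h35J_cast]
    simp
  · apply Finset.sum_congr rfl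
    intro j _
    rw [h35J_nat]
    have e : ((Fin.natAdd m (τ j)).val + 1 = (Fin.natAdd m j).val) ↔ ((τ j).val + 1 = j.val) := by
      simp only [Fin.val_natAdd]
      omega
    exact if_congr e rfl rfl

theorem h35J_commute {m n : ℕ} (σ : Perm (Fin m)) (τ τ' : Perm (Fin n)) (h : Commute τ' τ) :
    Commute (h35J (1 : Perm (Fin m)) τ') (h35J σ τ) := by
  show h35J 1 τ' * h35J σ τ = h35J σ τ * h35J 1 τ'
  ext x
  rcases h35_cases x with ⟨i, rfl⟩ | ⟨j, rfl⟩
  · rw [Perm.mul_apply, Perm.mul_apply, h35J_cast, h35J_cast, h35J_cast, h35J_cast]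
    rfl
  · rw [Perm.mul_apply, Perm.mul_apply, h35J_nat, h35J_nat, h35J_nat, h35J_nat]
    have h1 : τ' (τ j) = τ (τ' j) := by
      have h0 := congrArg (fun f : Perm (Fin n) => f j) h.eq
      exact h0
    rw [h1]

theorem h35J_sign {m n : ℕ} (τ' : Perm (Fin n)) :
    Perm.sign (h35J (1 : Perm (Fin m)) τ') = Perm.sign τ' := by
  unfold h35J
  rw [map_mul, Perm.viaFintypeEmbedding_sign, Perm.viaFintypeEmbedding_sign, map_one, one_mul]

/-! ### rotations -/

theorem h35_rot_cnt (l : ℕ) (hl : 3 ≤ l) : h35cnt (finRotate l) = 0 := by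
  obtain ⟨n, rfl⟩ : ∃ n, l = n + 1 := ⟨l - 1, by omega⟩
  unfold h35cnt
  rw [Finset.card_eq_zero, Finset.filter_eq_empty_iff]
  intro x _ hx
  rw [coe_finRotate] at hx
  split_ifs at hx with h
  · rw [h] at hx
    simp at hx
    omega
  · omega

theorem h35_rotinv_val (l : ℕ) (x : Fin l) (hx : x.val ≠ 0) :
    ((finRotate l)⁻¹ x).val + 1 = x.val := by
  obtain ⟨n, rfl⟩ : ∃ n, l = n + 1 := ⟨l - 1, by have := x.2; omega⟩
  have h1 : finRotate (n + 1) ((finRotate (n + 1))⁻¹ x) = x :=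
    (finRotate (n + 1)).apply_symm_apply x
  have h2 := coe_finRotate ((finRotate (n + 1))⁻¹ x)
  rw [h1] at h2
  split_ifs at h2 with h
  · exact absurd h2 hx
  · omega

theorem h35_rotinv_cnt (l : ℕ) (hl : 1 ≤ l) : h35cnt (finRotate l)⁻¹ = l - 1 := by
  obtain ⟨n, rfl⟩ : ∃ n, l = n + 1 := ⟨l - 1, by omega⟩
  unfold h35cnt
  have e : (Finset.univ.filter (fun x : Fin (n + 1) =>
      ((finRotate (n + 1))⁻¹ x).val + 1 = x.val)) = Finset.univ.erase 0 := by
    ext x
    simp only [Finset.mem_filter, Finset.mem_univ, true_and, Finset.mem_erase, and_true]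
    constructor
    · intro h hx
      rw [hx] at h
      simp at h
    · intro hx
      apply h35_rotinv_val
      intro h0
      exact hx (Fin.ext h0)
  rw [e, Finset.card_erase_of_mem (Finset.mem_univ _), Finset.card_univ, Fintype.card_fin]

theorem h35_rot_one (l : ℕ) (hl : 3 ≤ l) : (finRotate l ⟨1, by omega⟩).val = 2 := by
  obtain ⟨n, rfl⟩ : ∃ n, l = n + 1 := ⟨l - 1, by omega⟩
  rw [coe_finRotate]
  have h : (⟨1, by omega⟩ : Fin (n + 1)) ≠ Fin.last n := by
    intro h0
    have h1 := congrArg Fin.val h0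
    simp at h1
    omega
  rw [if_neg h]

theorem h35_rotinv_one (l : ℕ) (hl : 2 ≤ l) : ((finRotate l)⁻¹ ⟨1, by omega⟩).val = 0 := by
  have h := h35_rotinv_val l ⟨1, by omega⟩ (by simp)
  simpa using h

end Cfsg.Agent.Lib.helper95.AP
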