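import Cfsg.Agent.Lib.helper35.APIntvRec

/-!
S2276 split (architect helper95), piece INTV, core (helper35): the interval model from the
good pair criterion (GPC enters as the hypothesis `h35GPC`).
-/

set_option autoImplicit false

namespace Cfsg.Agent.Lib.helper95.AP

open Equiv

/-- the statement of GPC on `Fin M` (to be used with `M = p ^ e`) -/
def h35GPC (p e M : ℕ) : Prop :=
  ∀ (b : Perm (Fin M)) (x y : Fin M),
    ((p ^ (e - 1) : ℕ) : ℤ) ∣ ((x : ℕ) : ℤ) - ((y : ℕ) : ℤ) →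
    ¬ (p : ℤ) ∣ (((b x : Fin M) : ℕ) : ℤ) - (((b y : Fin M) : ℕ) : ℤ) →
    ∀ f : ℕ, (Finset.univ.filter (fun z : Fin M => (finRotate M * b) z = z)).card = f →
      2 ≤ f → ¬ p ∣ f → Good p (finRotate M) b

theorem h35_fix_iff {N : ℕ} (hN : 0 < N) (b : Perm (Fin N)) (h0 : (b ⟨0, hN⟩).val + 1 < N)
    (z : Fin N) : (finRotate N * b) z = z ↔ (b z).val + 1 = z.val := by
  obtain ⟨n, rfl⟩ : ∃ n, N = n + 1 := ⟨N - 1, by omega⟩
  rw [Perm.mul_apply]
  constructor
  · intro h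
    have h1 := congrArg Fin.val h
    rw [coe_finRotate] at h1
    split_ifs at h1 with hl
    · exfalso
      have hz : z = ⟨0, hN⟩ := Fin.ext h1.symm
      rw [hz] at hl
      rw [hl] at h0
      simp at h0
    · exact h1
  · intro h
    apply Fin.ext
    rw [coe_finRotate, if_neg]
    · exact h
    · intro hl
      rw [hl] at h
      have hz := z.2
      simp at h
      omega

theorem h35_cnt_one (N : ℕ) : h35cnt (1 : Perm (Fin N)) = 0 := by
  unfold h35cnt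
  rw [Finset.card_eq_zero, Finset.filter_eq_empty_iff]
  intro x _ hx
  simp at hx

/-- the good pair criterion applied to the two standard witnesses -/
theorem h35_good_of_facts (p : ℕ) (hp3 : 3 ≤ p) (e : ℕ) (he : 2 ≤ e) (q : ℕ) (hq : p = q + 1)
    (M : ℕ) (_hMp : M = p ^ e) (hg : h35GPC p e M) (b : Perm (Fin M)) (hM0 : 0 < M)
    (hb0 : (b ⟨0, hM0⟩).val + 1 < M) (hf2 : 2 ≤ h35cnt b) (hfp : ¬ p ∣ h35cnt b)
    (x y : Fin M) (hxv : x.val = 1) (hyv : y.val = 1 + q * p ^ (e - 1))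
    (hw : ((b x).val = 2 ∧ ((b y).val + 1 = y.val ∨ (b y).val = y.val)) ∨
      ((b x).val = 0 ∧ (b y).val = y.val)) :
    Good p (finRotate M) b := by
  have hpe1 : p ∣ p ^ (e - 1) := dvd_pow_self p (by omega)
  have hpz : (p : ℤ) ∣ ((q * p ^ (e - 1) : ℕ) : ℤ) :=
    Int.natCast_dvd_natCast.mpr (Dvd.dvd.mul_left hpe1 q)
  have hxy : ((p ^ (e - 1) : ℕ) : ℤ) ∣ ((x : ℕ) : ℤ) - ((y : ℕ) : ℤ) := by
    rw [hxv, hyv]
    refine ⟨-(q : ℤ), ?_⟩
    push_cast
    ring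
  have hbxy : ¬ (p : ℤ) ∣ (((b x : Fin M) : ℕ) : ℤ) - (((b y : Fin M) : ℕ) : ℤ) := by
    intro hdiv
    rcases hw with ⟨hbx, hby⟩ | ⟨hbx, hby⟩
    · rcases hby with h | h
      · have hv : (b y).val = q * p ^ (e - 1) := by omega
        rw [hbx, hv] at hdiv
        have h2 : (p : ℤ) ∣ ((2 : ℕ) : ℤ) := by
          have h3 := dvd_add hdiv hpz
          have e1 : ((2 : ℕ) : ℤ) - ((q * p ^ (e - 1) : ℕ) : ℤ) + ((q * p ^ (e - 1) : ℕ) : ℤ)
              = ((2 : ℕ) : ℤ) := by ring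
          rwa [e1] at h3
        have h4 := Nat.le_of_dvd (by norm_num) (Int.natCast_dvd_natCast.mp h2)
        omega
      · have hv : (b y).val = 1 + q * p ^ (e - 1) := by omega
        rw [hbx, hv] at hdiv
        have h2 : (p : ℤ) ∣ ((1 : ℕ) : ℤ) := by
          have h3 := dvd_add hdiv hpz
          have e1 : ((2 : ℕ) : ℤ) - ((1 + q * p ^ (e - 1) : ℕ) : ℤ)
              + ((q * p ^ (e - 1) : ℕ) : ℤ) = ((1 : ℕ) : ℤ) := by
            push_cast
            ring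
          rwa [e1] at h3
        have h4 := Nat.le_of_dvd one_pos (Int.natCast_dvd_natCast.mp h2)
        omega
    · have hv : (b y).val = 1 + q * p ^ (e - 1) := by omega
      rw [hbx, hv] at hdiv
      have h2 : (p : ℤ) ∣ ((1 : ℕ) : ℤ) := by
        have h3 := dvd_add hdiv hpz
        have e1 : ((0 : ℕ) : ℤ) - ((1 + q * p ^ (e - 1) : ℕ) : ℤ)
            + ((q * p ^ (e - 1) : ℕ) : ℤ) = -((1 : ℕ) : ℤ) := by
          push_cast
          ring
        rw [e1] at h3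
        exact (Int.dvd_neg).mp h3
      have h4 := Nat.le_of_dvd one_pos (Int.natCast_dvd_natCast.mp h2)
      omega
  have hfilter : (Finset.univ.filter (fun z : Fin M => (finRotate M * b) z = z)).card
      = h35cnt b := by
    unfold h35cnt
    congr 1
    apply Finset.filter_congr
    intro z _
    exact h35_fix_iff hM0 b hb0 z
  exact hg b x y hxy hbxy (h35cnt b) hfilter hf2 hfp

/-- core: at least one forward block -/
theorem h35_intv_core (p : ℕ) (hp3 : 3 ≤ p) (e : ℕ) (he : 2 ≤ e)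
    {N₀ : ℕ} (β : Perm (Fin N₀)) (l₁ : ℕ) (L' : List ℕ) (k rβ : ℕ)
    (hL : ∀ l ∈ l₁ :: L', p ∣ l ∧ 3 ≤ l ∧ l ≤ p ^ (e - 1))
    (hk1 : 1 ≤ k) (hk2 : k ≤ 2) (hkt : k ≤ (l₁ :: L').length)
    (hTP : h35TP p β 0) (hcβ : p ∣ h35cnt β + rβ)
    (hnd : ¬ p ∣ ((l₁ :: L').length - k) + rβ)
    (h2 : k < (l₁ :: L').length ∨ 2 ≤ h35cnt β)
    (τ₀ : Perm (Fin N₀)) (hτs : Perm.sign τ₀ = -1) (hτc : Commute τ₀ β)
    (M : ℕ) (hM : h35tot N₀ (l₁ :: L') = M) (hMp : M = p ^ e) (hg : h35GPC p e M) :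
    ∃ b : Perm (Fin M), b.cycleType = ((l₁ :: L' : List ℕ) : Multiset ℕ) + β.cycleType ∧
      GoodBoth p (finRotate M) b := by
  subst hM
  obtain ⟨b, hb⟩ : ∃ b, b = h35B β k (l₁ :: L') := ⟨_, rfl⟩
  refine ⟨b, ?_, ?_⟩
  · rw [hb]
    exact h35B_cycleType β _ (fun l hl => by have := (hL l hl).2.1; omega) k
  have hgood : Good p (finRotate (h35tot N₀ (l₁ :: L'))) b := by
    obtain ⟨q, hq⟩ : ∃ q, p = q + 1 := ⟨p - 1, by omega⟩
    have hpe : p ^ e = p * p ^ (e - 1) := by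
      rw [← pow_succ']
      congr 1
      omega
    have hpe1 : p ∣ p ^ (e - 1) := dvd_pow_self p (by omega)
    have hpe1pos : 3 ≤ p ^ (e - 1) :=
      le_trans hp3 (Nat.le_of_dvd (pow_pos (by omega) _) hpe1)
    have hl₁ := hL l₁ (List.mem_cons_self)
    have hNM : h35tot N₀ (l₁ :: L') = (q + 1) * p ^ (e - 1) := by rw [hMp, hpe, hq]
    have hsplit : (q + 1) * p ^ (e - 1) = q * p ^ (e - 1) + p ^ (e - 1) := by ring
    have hq2 : 2 * p ^ (e - 1) ≤ q * p ^ (e - 1) := Nat.mul_le_mul_right _ (by omega)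
    have hM0 : 0 < h35tot N₀ (l₁ :: L') := by omega
    have hx1 : 1 < h35tot N₀ (l₁ :: L') := by omega
    have hy1 : 1 + q * p ^ (e - 1) < h35tot N₀ (l₁ :: L') := by omega
    obtain ⟨x, hxv⟩ : ∃ x : Fin (h35tot N₀ (l₁ :: L')), x.val = 1 := ⟨⟨1, hx1⟩, rfl⟩
    obtain ⟨y, hyv⟩ : ∃ y : Fin (h35tot N₀ (l₁ :: L')), y.val = 1 + q * p ^ (e - 1) :=
      ⟨⟨_, hy1⟩, rfl⟩
    have hbx : (b x).val = 2 := by
      have hx : x = Fin.castAdd (h35tot N₀ L') (⟨1, by omega⟩ : Fin l₁) := Fin.ext hxv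
      rw [hx, hb, h35B_first, if_neg (by omega)]
      exact h35_rot_one l₁ hl₁.2.1
    have hTPb := h35B_TP p β hTP (l₁ :: L') (fun l hl => (hL l hl).1) k
    have hK : ((l₁ :: L').take k).sum ≤ 2 * p ^ (e - 1) := by
      have h1 : ((l₁ :: L').take k).sum ≤ ((l₁ :: L').take k).length • p ^ (e - 1) :=
        List.sum_le_card_nsmul _ _ (fun l hl => (hL l (List.mem_of_mem_take hl)).2.2)
      have h3 : ((l₁ :: L').take k).length ≤ 2 := le_trans (List.length_take_le k _) hk2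
      rw [smul_eq_mul] at h1
      exact le_trans h1 (Nat.mul_le_mul_right _ h3)
    have hyK : ¬ y.val < ((l₁ :: L').take k).sum := by
      rw [hyv]
      omega
    have hyp : ¬ p ∣ y.val := by
      rw [hyv]
      intro h
      have h1 : p ∣ q * p ^ (e - 1) := Dvd.dvd.mul_left hpe1 q
      have h3 : p ∣ (1 + q * p ^ (e - 1)) - q * p ^ (e - 1) := Nat.dvd_sub h h1
      rw [Nat.add_sub_cancel] at h3
      have h4 := Nat.le_of_dvd one_pos h3
      omega
    have hby : (b y).val + 1 = y.val ∨ (b y).val = y.val := by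
      have h0 := hTPb y
      rw [← hb] at h0
      rcases h0 with h | h | h | h
      · exact absurd h hyK
      · exact absurd h hyp
      · exact Or.inl h
      · exact Or.inr h
    have hb0 : (b ⟨0, hM0⟩).val + 1 < h35tot N₀ (l₁ :: L') := by
      have hx0 : (⟨0, hM0⟩ : Fin (h35tot N₀ (l₁ :: L')))
          = Fin.castAdd (h35tot N₀ L') (⟨0, by omega⟩ : Fin l₁) := Fin.ext rfl
      have h5 : (b ⟨0, hM0⟩).val < l₁ := by
        rw [hx0, hb, h35B_first]
        exact Fin.is_lt ((if k = 0 then (finRotate l₁)⁻¹ else finRotate l₁)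
          (⟨0, by omega⟩ : Fin l₁))
      omega
    have hf2 : 2 ≤ h35cnt b := by
      rw [hb]
      rcases h2 with h | h
      · exact h35B_cnt_ge β _ (fun l hl => (hL l hl).2.1) k h
      · exact le_trans h (h35B_cnt_base β _ k)
    have hfp : ¬ p ∣ h35cnt b := by
      intro h
      have h1 := h35B_cnt_dvd p β rβ hcβ (l₁ :: L')
        (fun l hl => ⟨(hL l hl).1, (hL l hl).2.1⟩) k hkt
      rw [← hb] at h1
      apply hnd
      have h3 : p ∣ (h35cnt b + ((l₁ :: L').length - k) + rβ) - h35cnt b := Nat.dvd_sub h1 h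
      have e1 : (h35cnt b + ((l₁ :: L').length - k) + rβ) - h35cnt b
          = ((l₁ :: L').length - k) + rβ := by omega
      rwa [e1] at h3
    exact h35_good_of_facts p hp3 e he q hq _ hMp hg b hM0 hb0 hf2 hfp x y hxv hyv
      (Or.inl ⟨hbx, hby⟩)
  refine ⟨hgood, ?_⟩
  obtain ⟨τ, hτ1, hτ2⟩ := h35B_lift β τ₀ hτc (l₁ :: L') k
  refine ⟨τ, hτ1.trans hτs, ?_⟩
  have e2 : τ * b * τ⁻¹ = b := by
    rw [hb, hτ2.eq, mul_inv_cancel_right]
  rw [e2]
  exact hgood

end Cfsg.Agent.Lib.helper95.AP
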