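import Cfsg.Agent.Lib.helper35.APIntvCore

/-!
S2276 split (architect helper95), piece INTV (helper35): the interval model, from the good pair
criterion `h35GPC p e (p ^ e)` (= the statement of piece GPC).
-/

set_option autoImplicit false

namespace Cfsg.Agent.Lib.helper95.AP

open Equiv

/-- a single reversed block followed by fixed points -/
theorem h35_intv_single (p : ℕ) (hp3 : 3 ≤ p) (e : ℕ) (he : 2 ≤ e) (l₁ φ : ℕ)
    (hl : p ∣ l₁ ∧ 3 ≤ l₁ ∧ l₁ ≤ p ^ (e - 1)) (hφ : 2 ≤ φ)
    (M : ℕ) (hM : l₁ + φ = M) (hMp : M = p ^ e) (hg : h35GPC p e M) :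
    ∃ b : Perm (Fin M), b.cycleType = {l₁} ∧ GoodBoth p (finRotate M) b := by
  subst hM
  obtain ⟨b, hb⟩ : ∃ b, b = h35J (finRotate l₁)⁻¹ (1 : Perm (Fin φ)) := ⟨_, rfl⟩
  refine ⟨b, ?_, ?_⟩
  · rw [hb, h35J_cycleType, Perm.cycleType_inv, cycleType_finRotate_of_le (by omega),
      Perm.cycleType_one, add_zero]
  have hgood : Good p (finRotate (l₁ + φ)) b := by
    obtain ⟨q, hq⟩ : ∃ q, p = q + 1 := ⟨p - 1, by omega⟩
    have hpe : p ^ e = p * p ^ (e - 1) := by
      rw [← pow_succ']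
      congr 1
      omega
    have hpe1 : p ∣ p ^ (e - 1) := dvd_pow_self p (by omega)
    have hpe1pos : 3 ≤ p ^ (e - 1) :=
      le_trans hp3 (Nat.le_of_dvd (pow_pos (by omega) _) hpe1)
    have hNM : l₁ + φ = (q + 1) * p ^ (e - 1) := by rw [hMp, hpe, hq]
    have hsplit : (q + 1) * p ^ (e - 1) = q * p ^ (e - 1) + p ^ (e - 1) := by ring
    have hq2 : 2 * p ^ (e - 1) ≤ q * p ^ (e - 1) := Nat.mul_le_mul_right _ (by omega)
    have hM0 : 0 < l₁ + φ := by omega
    have hx1 : 1 < l₁ + φ := by omega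
    have hy1 : 1 + q * p ^ (e - 1) < l₁ + φ := by omega
    obtain ⟨x, hxv⟩ : ∃ x : Fin (l₁ + φ), x.val = 1 := ⟨⟨1, hx1⟩, rfl⟩
    obtain ⟨y, hyv⟩ : ∃ y : Fin (l₁ + φ), y.val = 1 + q * p ^ (e - 1) := ⟨⟨_, hy1⟩, rfl⟩
    have hbx : (b x).val = 0 := by
      have hx : x = Fin.castAdd φ (⟨1, by omega⟩ : Fin l₁) := Fin.ext hxv
      rw [hx, hb, h35J_cast]
      exact h35_rotinv_one l₁ (by omega)
    have hby : (b y).val = y.val := by
      have hyl : l₁ ≤ y.val := by rw [hyv]; omega
      have hylt := y.2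
      obtain ⟨j, hj⟩ : ∃ j : Fin φ, y = Fin.natAdd l₁ j :=
        ⟨⟨y.val - l₁, by omega⟩, Fin.ext (by show y.val = l₁ + (y.val - l₁); omega)⟩
      rw [hj, hb, h35J_nat]
      rfl
    have hb0 : (b ⟨0, hM0⟩).val + 1 < l₁ + φ := by
      have hx0 : (⟨0, hM0⟩ : Fin (l₁ + φ)) = Fin.castAdd φ (⟨0, by omega⟩ : Fin l₁) :=
        Fin.ext rfl
      have h5 : (b ⟨0, hM0⟩).val < l₁ := by
        rw [hx0, hb, h35J_cast]
        exact Fin.is_lt ((finRotate l₁)⁻¹ (⟨0, by omega⟩ : Fin l₁))
      omega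
    have hcnt : h35cnt b = l₁ - 1 := by
      rw [hb, h35J_cnt, h35_rotinv_cnt l₁ (by omega), h35_cnt_one, add_zero]
    have hf2 : 2 ≤ h35cnt b := by rw [hcnt]; omega
    have hfp : ¬ p ∣ h35cnt b := by
      rw [hcnt]
      intro h
      have h3 : p ∣ l₁ - (l₁ - 1) := Nat.dvd_sub hl.1 h
      have e1 : l₁ - (l₁ - 1) = 1 := by omega
      rw [e1] at h3
      have h4 := Nat.le_of_dvd one_pos h3
      omega
    exact h35_good_of_facts p hp3 e he q hq _ hMp hg b hM0 hb0 hf2 hfp x y hxv hyv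
      (Or.inr ⟨hbx, hby⟩)
  refine ⟨hgood, ?_⟩
  have hne : (⟨0, by omega⟩ : Fin φ) ≠ ⟨1, by omega⟩ := by
    intro h
    have h0 := congrArg Fin.val h
    simp at h0
  refine ⟨h35J (1 : Perm (Fin l₁)) (Equiv.swap (⟨0, by omega⟩ : Fin φ) ⟨1, by omega⟩), ?_, ?_⟩
  · rw [h35J_sign, Perm.sign_swap hne]
  · have hc : Commute (h35J (1 : Perm (Fin l₁))
        (Equiv.swap (⟨0, by omega⟩ : Fin φ) ⟨1, by omega⟩)) b := by
      rw [hb]
      exact h35J_commute _ _ _ (Commute.one_right _)
    have e2 : h35J (1 : Perm (Fin l₁)) (Equiv.swap (⟨0, by omega⟩ : Fin φ) ⟨1, by omega⟩) * b *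
        (h35J (1 : Perm (Fin l₁)) (Equiv.swap (⟨0, by omega⟩ : Fin φ) ⟨1, by omega⟩))⁻¹ = b := by
      rw [hc.eq, mul_inv_cancel_right]
    rw [e2]
    exact hgood

/-- the number of forward blocks -/
theorem h35_k (p : ℕ) (hp3 : 3 ≤ p) (t : ℕ) (ht : 2 ≤ t) :
    ∃ k : ℕ, 1 ≤ k ∧ k ≤ 2 ∧ k < t ∧ (k = 2 → 4 ≤ t) ∧ ¬ p ∣ (t - k) := by
  by_cases h : t % p = 1
  · have h4 : 4 ≤ t := by
      have h0 := Nat.div_add_mod t p
      rcases Nat.eq_zero_or_pos (t / p) with hz | hz
      · rw [hz] at h0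
        omega
      · have h5 : p ≤ p * (t / p) := Nat.le_mul_of_pos_right p hz
        omega
    refine ⟨2, by norm_num, le_refl _, by omega, fun _ => h4, ?_⟩
    intro hd
    obtain ⟨c, hc⟩ := hd
    have ht2 : t = p * c + 2 := by omega
    rw [ht2, Nat.mul_add_mod, Nat.mod_eq_of_lt (by omega)] at h
    omega
  · refine ⟨1, le_refl _, by norm_num, by omega, fun h' => by omega, ?_⟩
    intro hd
    obtain ⟨c, hc⟩ := hd
    have ht1 : t = p * c + 1 := by omega
    apply h
    rw [ht1, Nat.mul_add_mod, Nat.mod_eq_of_lt (by omega)]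

/-- INTV from GPC -/
theorem h35_intv_of_gpc (p : ℕ) (hp : p.Prime) (hp3 : 3 ≤ p) (e : ℕ)
    (hgpc : h35GPC p e (p ^ e))
    (L : List ℕ) (hL0 : L ≠ []) (hsort : L.Pairwise (· ≥ ·))
    (hpow : ∀ l ∈ L, ∃ j : ℕ, 1 ≤ j ∧ l = p ^ j ∧ l < p ^ e) (hsum : L.sum ≤ p ^ e) :
    ∃ b : Perm (Fin (p ^ e)), b.cycleType = (L : Multiset ℕ) ∧
      GoodBoth p (finRotate (p ^ e)) b := by
  have hp1 : 1 < p := hp.one_lt
  have hpodd : Odd p := hp.odd_of_ne_two (by omega)
  have hfacts : ∀ l ∈ L, p ∣ l ∧ 3 ≤ l ∧ l ≤ p ^ (e - 1) := by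
    intro l hl
    obtain ⟨j, hj1, rfl, hlt⟩ := hpow l hl
    have hje : j < e := (Nat.pow_lt_pow_iff_right hp1).mp hlt
    refine ⟨dvd_pow_self p (by omega), ?_, Nat.pow_le_pow_right (by omega) (by omega)⟩
    exact le_trans hp3 (Nat.le_self_pow (by omega) p)
  have he : 2 ≤ e := by
    obtain ⟨l, hl⟩ := List.exists_mem_of_ne_nil L hL0
    obtain ⟨j, hj1, rfl, hlt⟩ := hpow l hl
    have hje : j < e := (Nat.pow_lt_pow_iff_right hp1).mp hlt
    omega
  have hdvdsum : p ∣ L.sum := List.dvd_sum (fun l hl => (hfacts l hl).1)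
  have hpdvd : p ∣ p ^ e := dvd_pow_self p (by omega)
  by_cases hφ : L.sum = p ^ e
  · -- no fixed points: the last two parts are equal
    rcases List.eq_nil_or_concat L with hnil | ⟨L₁, l, hL⟩
    · exact absurd hnil hL0
    rw [List.concat_eq_append] at hL
    rcases List.eq_nil_or_concat L₁ with hnil₁ | ⟨L₀, l', hL₁⟩
    · exfalso
      subst hnil₁
      subst hL
      obtain ⟨j, hj1, hlj, hlt⟩ := hpow l (by simp)
      simp at hφ
      omega
    rw [List.concat_eq_append] at hL₁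
    subst hL₁
    subst hL
    have hmem_l : l ∈ (L₀ ++ [l']) ++ [l] := by simp
    obtain ⟨j, hj1, hlj, hlt⟩ := hpow l hmem_l
    have hje : j < e := by
      rw [hlj] at hlt
      exact (Nat.pow_lt_pow_iff_right hp1).mp hlt
    rw [List.pairwise_append] at hsort
    obtain ⟨hs1, -, hs3⟩ := hsort
    have hl'l : l' ≥ l := hs3 l' (by simp) l (by simp)
    have hll : l' = l := by
      by_contra hne
      have hgt : l < l' := lt_of_le_of_ne hl'l (Ne.symm hne)
      rw [List.pairwise_append] at hs1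
      obtain ⟨-, -, hs4⟩ := hs1
      have hd : ∀ a ∈ L₀ ++ [l'], p ^ (j + 1) ∣ a := by
        intro a ha
        have hal' : l' ≤ a := by
          rcases List.mem_append.mp ha with h | h
          · exact hs4 a h l' (by simp)
          · have h' : a = l' := by simpa using h
            omega
        obtain ⟨i, hi1, rfl, hia⟩ := hpow a (List.mem_append_left _ ha)
        have hji : j < i := by
          apply (Nat.pow_lt_pow_iff_right hp1).mp
          rw [← hlj]
          omega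
        exact pow_dvd_pow p (by omega)
      have hsumd : p ^ (j + 1) ∣ (L₀ ++ [l']).sum := List.dvd_sum hd
      have hsumL : (L₀ ++ [l']).sum + l = p ^ e := by
        rw [← hφ]
        simp only [List.sum_append, List.sum_cons, List.sum_nil]
        omega
      have hpe' : p ^ (j + 1) ∣ p ^ e := pow_dvd_pow p (by omega)
      have h3 : p ^ (j + 1) ∣ p ^ e - (L₀ ++ [l']).sum := Nat.dvd_sub hpe' hsumd
      have e1 : p ^ e - (L₀ ++ [l']).sum = p ^ j := by
        rw [← hlj]
        omega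
      rw [e1] at h3
      have h4 := Nat.le_of_dvd (pow_pos (by omega) _) h3
      have h5 : p ^ j < p ^ (j + 1) := Nat.pow_lt_pow_right hp1 (by omega)
      omega
    subst hll
    rcases L₀ with _ | ⟨l₁, L'⟩
    · exfalso
      simp only [List.nil_append, List.sum_append, List.sum_cons, List.sum_nil] at hφ
      have hodd : Odd (p ^ e) := hpodd.pow
      rw [← hφ] at hodd
      exact (Nat.not_even_iff_odd.mpr hodd) ⟨l', by omega⟩
    have hmem_l2 : l' ∈ ((l₁ :: L') ++ [l']) ++ [l'] := by simp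
    have hfl := hfacts l' hmem_l2
    have hoddl : Odd l' := by
      rw [hlj]
      exact hpodd.pow
    obtain ⟨β, hβ⟩ : ∃ β, β = h35J (finRotate l')⁻¹ (finRotate l')⁻¹ := ⟨_, rfl⟩
    have hTP : h35TP p β 0 := by
      intro x
      rcases h35_cases x with ⟨i, rfl⟩ | ⟨i, rfl⟩
      · by_cases hi : i.val = 0
        · right; left
          show p ∣ i.val
          rw [hi]
          exact dvd_zero p
        · right; right; left
          rw [hβ, h35J_cast]
          exact h35_rotinv_val l' i hi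
      · by_cases hi : i.val = 0
        · right; left
          show p ∣ l' + i.val
          rw [hi]
          simpa using hfl.1
        · right; right; left
          rw [hβ, h35J_nat]
          show l' + ((finRotate l')⁻¹ i).val + 1 = l' + i.val
          have h0 := h35_rotinv_val l' i hi
          omega
    have hcntβ : h35cnt β = (l' - 1) + (l' - 1) := by
      rw [hβ, h35J_cnt, h35_rotinv_cnt l' (by omega)]
    have hcβ : p ∣ h35cnt β + 2 := by
      rw [hcntβ]
      have e1 : l' - 1 + (l' - 1) + 2 = l' + l' := by omega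
      rw [e1]
      exact dvd_add hfl.1 hfl.1
    have hτs : Perm.sign (h35S l') = -1 := h35S_sign l' hoddl
    have hτc : Commute (h35S l') β := by
      rw [hβ]
      exact h35S_commute l' _
    obtain ⟨k, hk1, hk2, hkt, hk4, hkd⟩ := h35_k p hp3 ((l₁ :: L').length + 2) (by omega)
    have hktL : k ≤ (l₁ :: L').length := by
      rcases Nat.lt_or_ge k 2 with h | h
      · simp only [List.length_cons]
        omega
      · have h4 := hk4 (by omega)
        omega
    have hM : h35tot (l' + l') (l₁ :: L') = p ^ e := by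
      have hs := hφ
      simp only [List.sum_append, List.sum_cons, List.sum_nil] at hs
      rw [h35tot_eq]
      simp only [List.sum_cons]
      omega
    obtain ⟨b, hb1, hb2⟩ := h35_intv_core p hp3 e he β l₁ L' k 2
      (fun a ha => hfacts a (List.mem_append_left _ (List.mem_append_left _ ha)))
      hk1 hk2 hktL hTP hcβ
      (by
        intro h
        apply hkd
        have e1 : (l₁ :: L').length + 2 - k = (l₁ :: L').length - k + 2 := by omega
        rw [e1]
        exact h)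
      (Or.inr (by rw [hcntβ]; omega)) (h35S l') hτs hτc (p ^ e) hM rfl hgpc
    refine ⟨b, ?_, hb2⟩
    rw [hb1, hβ, h35J_cycleType, Perm.cycleType_inv, cycleType_finRotate_of_le (by omega)]
    rw [List.append_assoc, ← Multiset.coe_add]
    rfl
  · -- fixed points
    have hφpos : 0 < p ^ e - L.sum := by omega
    have hφd : p ∣ p ^ e - L.sum := Nat.dvd_sub hpdvd hdvdsum
    have hφ2 : 2 ≤ p ^ e - L.sum := by
      have h0 := Nat.le_of_dvd hφpos hφd
      omega
    obtain ⟨φ, hφe⟩ : ∃ φ, φ = p ^ e - L.sum := ⟨_, rfl⟩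
    rcases L with _ | ⟨l₁, L'⟩
    · exact absurd rfl hL0
    rcases L' with _ | ⟨l₂, L''⟩
    · have hfl := hfacts l₁ (by simp)
      have hs1 : [l₁].sum = l₁ := by simp
      rw [hs1] at hsum hφe hφ2
      obtain ⟨b, hb1, hb2⟩ := h35_intv_single p hp3 e he l₁ φ hfl (by omega) (p ^ e)
        (by omega) rfl hgpc
      exact ⟨b, by rw [hb1]; rfl, hb2⟩
    · obtain ⟨k, hk1, hk2, hkt, hk4, hkd⟩ :=
        h35_k p hp3 (l₁ :: l₂ :: L'').length (by simp only [List.length_cons]; omega)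
      have hne01 : (⟨0, by omega⟩ : Fin φ) ≠ ⟨1, by omega⟩ := by
        intro h
        have h0 := congrArg Fin.val h
        simp at h0
      obtain ⟨b, hb1, hb2⟩ := h35_intv_core p hp3 e he (1 : Perm (Fin φ)) l₁ (l₂ :: L'') k 0
        hfacts hk1 hk2 (le_of_lt hkt)
        (fun x => Or.inr (Or.inr (Or.inr rfl)))
        (by rw [h35_cnt_one]; exact dvd_zero p)
        (by simpa using hkd) (Or.inl hkt)
        (Equiv.swap (⟨0, by omega⟩ : Fin φ) ⟨1, by omega⟩) (Perm.sign_swap hne01)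
        (Commute.one_right _)
        (p ^ e) (by rw [h35tot_eq, hφe]; omega) rfl hgpc
      exact ⟨b, by rw [hb1, Perm.cycleType_one, add_zero], hb2⟩

end Cfsg.Agent.Lib.helper95.AP
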