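import Cfsg.Agent.Lib.helper35.APIntvBase

/-!
S2276 split (architect helper95), piece INTV, recursion lemmas (helper35).
`h35B β k L` : the first `k` blocks of `L` are forward cycles, the others reversed cycles,
followed by the base permutation `β`.
-/

set_option autoImplicit false

namespace Cfsg.Agent.Lib.helper95.AP

open Equiv

/-- total number of points -/
def h35tot (N₀ : ℕ) : List ℕ → ℕ
  | [] => N₀
  | l :: L => l + h35tot N₀ L

theorem h35tot_eq (N₀ : ℕ) (L : List ℕ) : h35tot N₀ L = L.sum + N₀ := by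
  induction L with
  | nil => simp [h35tot]
  | cons l L ih =>
    simp only [h35tot, ih, List.sum_cons]
    omega

/-- the block permutation -/
def h35B {N₀ : ℕ} (β : Perm (Fin N₀)) : ℕ → (L : List ℕ) → Perm (Fin (h35tot N₀ L))
  | _, [] => β
  | k, l :: L => h35J (if k = 0 then (finRotate l)⁻¹ else finRotate l) (h35B β (k - 1) L)

theorem h35B_first {N₀ : ℕ} (β : Perm (Fin N₀)) (k l : ℕ) (L : List ℕ) (i : Fin l) :
    (h35B β k (l :: L)) (Fin.castAdd (h35tot N₀ L) i) =
      Fin.castAdd (h35tot N₀ L) ((if k = 0 then (finRotate l)⁻¹ else finRotate l) i) :=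
  h35J_cast _ _ i

theorem h35B_rest {N₀ : ℕ} (β : Perm (Fin N₀)) (k l : ℕ) (L : List ℕ) (j : Fin (h35tot N₀ L)) :
    (h35B β k (l :: L)) (Fin.natAdd l j) = Fin.natAdd l (h35B β (k - 1) L j) :=
  h35J_nat _ _ j

theorem h35B_cycleType {N₀ : ℕ} (β : Perm (Fin N₀)) (L : List ℕ) (hL : ∀ l ∈ L, 2 ≤ l) :
    ∀ k : ℕ, (h35B β k L).cycleType = (L : Multiset ℕ) + β.cycleType := by
  induction L with
  | nil =>
    intro k
    show β.cycleType = _
    simp
  | cons l L ih =>
    intro k
    have hl : 2 ≤ l := hL l (List.mem_cons_self)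
    have hσ : (if k = 0 then (finRotate l)⁻¹ else finRotate l).cycleType = {l} := by
      split_ifs
      · rw [Perm.cycleType_inv, cycleType_finRotate_of_le hl]
      · exact cycleType_finRotate_of_le hl
    show (h35J _ (h35B β (k - 1) L)).cycleType = _
    rw [h35J_cycleType, hσ, ih (fun l' hl' => hL l' (List.mem_cons_of_mem _ hl')) (k - 1)]
    rw [← Multiset.cons_coe, ← Multiset.singleton_add, add_assoc]

theorem h35B_cnt_dvd (p : ℕ) {N₀ : ℕ} (β : Perm (Fin N₀)) (rβ : ℕ) (hβ : p ∣ h35cnt β + rβ)
    (L : List ℕ) (hL : ∀ l ∈ L, p ∣ l ∧ 3 ≤ l) :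
    ∀ k : ℕ, k ≤ L.length → p ∣ h35cnt (h35B β k L) + (L.length - k) + rβ := by
  induction L with
  | nil =>
    intro k hk
    have hk0 : k = 0 := by simpa using hk
    subst hk0
    show p ∣ h35cnt β + (0 - 0) + rβ
    simpa using hβ
  | cons l L ih =>
    intro k hk
    obtain ⟨hpl, hl3⟩ := hL l (List.mem_cons_self)
    have ih' := ih (fun l' hl' => hL l' (List.mem_cons_of_mem _ hl'))
    show p ∣ h35cnt (h35J (if k = 0 then (finRotate l)⁻¹ else finRotate l) (h35B β (k - 1) L)) +
      ((l :: L).length - k) + rβ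
    rw [h35J_cnt]
    rcases Nat.eq_zero_or_pos k with rfl | hkpos
    · rw [if_pos rfl, h35_rotinv_cnt l (by omega)]
      have h0 := ih' 0 (Nat.zero_le _)
      simp only [Nat.zero_sub, List.length_cons, Nat.sub_zero] at h0 ⊢
      have e : l - 1 + h35cnt (h35B β 0 L) + (L.length + 1) + rβ
          = l + (h35cnt (h35B β 0 L) + L.length + rβ) := by omega
      rw [e]
      exact dvd_add hpl h0
    · rw [if_neg (by omega), h35_rot_cnt l hl3]
      have hk' : k - 1 ≤ L.length := by
        simp only [List.length_cons] at hk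
        omega
      have h0 := ih' (k - 1) hk'
      have e : 0 + h35cnt (h35B β (k - 1) L) + ((l :: L).length - k) + rβ
          = h35cnt (h35B β (k - 1) L) + (L.length - (k - 1)) + rβ := by
        simp only [List.length_cons]
        omega
      rw [e]
      exact h0

theorem h35B_cnt_ge {N₀ : ℕ} (β : Perm (Fin N₀)) (L : List ℕ) (hL : ∀ l ∈ L, 3 ≤ l) :
    ∀ k : ℕ, k < L.length → 2 ≤ h35cnt (h35B β k L) := by
  induction L with
  | nil =>
    intro k hk
    simp at hk
  | cons l L ih =>
    intro k hk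
    have hl3 := hL l (List.mem_cons_self)
    show 2 ≤ h35cnt (h35J (if k = 0 then (finRotate l)⁻¹ else finRotate l) (h35B β (k - 1) L))
    rw [h35J_cnt]
    rcases Nat.eq_zero_or_pos k with rfl | hkpos
    · rw [if_pos rfl, h35_rotinv_cnt l (by omega)]
      omega
    · have hk' : k - 1 < L.length := by
        simp only [List.length_cons] at hk
        omega
      have h0 := ih (fun l' hl' => hL l' (List.mem_cons_of_mem _ hl')) (k - 1) hk'
      omega

theorem h35B_cnt_base {N₀ : ℕ} (β : Perm (Fin N₀)) (L : List ℕ) :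
    ∀ k : ℕ, h35cnt β ≤ h35cnt (h35B β k L) := by
  induction L with
  | nil =>
    intro k
    exact le_refl _
  | cons l L ih =>
    intro k
    show h35cnt β ≤
      h35cnt (h35J (if k = 0 then (finRotate l)⁻¹ else finRotate l) (h35B β (k - 1) L))
    rw [h35J_cnt]
    have h0 := ih (k - 1)
    omega

/-- tail property: beyond the first `K` points, `σ x ∈ {x - 1, x}` unless `p ∣ x` -/
def h35TP (p : ℕ) {N : ℕ} (σ : Perm (Fin N)) (K : ℕ) : Prop :=
  ∀ x : Fin N, x.val < K ∨ p ∣ x.val ∨ (σ x).val + 1 = x.val ∨ (σ x).val = x.val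

theorem h35_take_cons (l : ℕ) (L : List ℕ) (k : ℕ) (hk : 0 < k) :
    ((l :: L).take k).sum = l + (L.take (k - 1)).sum := by
  obtain ⟨k', rfl⟩ : ∃ k', k = k' + 1 := ⟨k - 1, by omega⟩
  simp

theorem h35B_TP (p : ℕ) {N₀ : ℕ} (β : Perm (Fin N₀)) (hβ : h35TP p β 0) (L : List ℕ)
    (hL : ∀ l ∈ L, p ∣ l) : ∀ k : ℕ, h35TP p (h35B β k L) ((L.take k).sum) := by
  induction L with
  | nil =>
    intro k x
    rcases hβ x with h | h | h | h
    · omega
    · exact Or.inr (Or.inl h)
    · exact Or.inr (Or.inr (Or.inl h))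
    · exact Or.inr (Or.inr (Or.inr h))
  | cons l L ih =>
    intro k x
    have hpl := hL l (List.mem_cons_self)
    have ih' := ih (fun l' hl' => hL l' (List.mem_cons_of_mem _ hl')) (k - 1)
    rcases h35_cases (m := l) (n := h35tot N₀ L) x with ⟨i, rfl⟩ | ⟨j, rfl⟩
    · have hx : (Fin.castAdd (h35tot N₀ L) i).val = i.val := rfl
      have hv : ((h35B β k (l :: L)) (Fin.castAdd (h35tot N₀ L) i)).val
          = ((if k = 0 then (finRotate l)⁻¹ else finRotate l) i).val := by
        rw [h35B_first]
        rfl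
      rcases Nat.eq_zero_or_pos k with rfl | hk
      · by_cases hi : i.val = 0
        · right; left
          rw [hx, hi]
          exact dvd_zero p
        · right; right; left
          rw [hv, if_pos rfl, hx]
          exact h35_rotinv_val l i hi
      · left
        rw [h35_take_cons l L k hk, hx]
        have := i.2
        omega
    · have hx : (Fin.natAdd l j).val = l + j.val := rfl
      have hv : ((h35B β k (l :: L)) (Fin.natAdd l j)).val
          = l + ((h35B β (k - 1) L) j).val := by
        rw [h35B_rest]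
        rfl
      rcases ih' j with h | h | h | h
      · left
        rcases Nat.eq_zero_or_pos k with rfl | hk
        · simp at h
        · rw [h35_take_cons l L k hk, hx]
          omega
      · right; left
        rw [hx]
        exact dvd_add hpl h
      · right; right; left
        rw [hv, hx]
        omega
      · right; right; right
        rw [hv, hx]
        omega

theorem h35B_lift {N₀ : ℕ} (β τ₀ : Perm (Fin N₀)) (h : Commute τ₀ β) (L : List ℕ) :
    ∀ k : ℕ, ∃ τ : Perm (Fin (h35tot N₀ L)),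
      Perm.sign τ = Perm.sign τ₀ ∧ Commute τ (h35B β k L) := by
  induction L with
  | nil =>
    intro k
    exact ⟨τ₀, rfl, h⟩
  | cons l L ih =>
    intro k
    obtain ⟨τ', hs, hc⟩ := ih (k - 1)
    refine ⟨h35J (1 : Perm (Fin l)) τ', ?_, ?_⟩
    · exact (h35J_sign (m := l) τ').trans hs
    · exact h35J_commute _ _ _ hc

/-! ### the block swap -/

/-- swap of the two halves of `Fin (l + l)`, as a function -/
def h35Sfun (l : ℕ) (x : Fin (l + l)) : Fin (l + l) :=
  if h : x.val < l then ⟨x.val + l, by omega⟩ else ⟨x.val - l, by have := x.2; omega⟩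

theorem h35Sfun_val (l : ℕ) (x : Fin (l + l)) :
    (h35Sfun l x).val = if x.val < l then x.val + l else x.val - l := by
  unfold h35Sfun
  split_ifs <;> rfl

/-- swap of the two halves of `Fin (l + l)` -/
def h35S (l : ℕ) : Perm (Fin (l + l)) :=
  Function.Involutive.toPerm (h35Sfun l)
    (by
      intro x
      apply Fin.ext
      have hx := x.2
      rw [h35Sfun_val, h35Sfun_val]
      split_ifs <;> omega)

theorem h35S_val (l : ℕ) (x : Fin (l + l)) :
    (h35S l x).val = if x.val < l then x.val + l else x.val - l :=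
  h35Sfun_val l x

theorem h35S_cast (l : ℕ) (i : Fin l) : h35S l (Fin.castAdd l i) = Fin.natAdd l i := by
  apply Fin.ext
  have hi := i.2
  have hx : (Fin.castAdd l i).val = i.val := rfl
  have hy : (Fin.natAdd l i).val = l + i.val := rfl
  rw [h35S_val, hx, hy, if_pos hi]
  omega

theorem h35S_nat (l : ℕ) (i : Fin l) : h35S l (Fin.natAdd l i) = Fin.castAdd l i := by
  apply Fin.ext
  have hi := i.2
  have hx : (Fin.castAdd l i).val = i.val := rfl
  have hy : (Fin.natAdd l i).val = l + i.val := rfl
  rw [h35S_val, hx, hy, if_neg (by omega)]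
  omega

theorem h35S_commute (l : ℕ) (σ : Perm (Fin l)) : Commute (h35S l) (h35J σ σ) := by
  show h35S l * h35J σ σ = h35J σ σ * h35S l
  apply Equiv.ext
  intro x
  rcases h35_cases x with ⟨i, rfl⟩ | ⟨j, rfl⟩
  · rw [Perm.mul_apply, Perm.mul_apply, h35J_cast, h35S_cast, h35S_cast, h35J_nat]
  · rw [Perm.mul_apply, Perm.mul_apply, h35J_nat, h35S_nat, h35S_nat, h35J_cast]

theorem h35S_sign (l : ℕ) (hl : Odd l) : Perm.sign (h35S l) = -1 := by
  have hlpos : 0 < l := hl.pos
  have h2 : h35S l ^ 2 = 1 := by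
    rw [pow_two]
    apply Equiv.ext
    intro x
    rcases h35_cases x with ⟨i, rfl⟩ | ⟨j, rfl⟩
    · rw [Perm.mul_apply, h35S_cast, h35S_nat]; rfl
    · rw [Perm.mul_apply, h35S_nat, h35S_cast]; rfl
  have hne : ∀ x, h35S l x ≠ x := by
    intro x
    rcases h35_cases x with ⟨i, rfl⟩ | ⟨j, rfl⟩
    · rw [h35S_cast]
      intro h
      have h0 := congrArg Fin.val h
      simp at h0
      omega
    · rw [h35S_nat]
      intro h
      have h0 := congrArg Fin.val h
      simp at h0
      omega
  have h1 : h35S l ≠ 1 := by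
    intro h
    exact hne ⟨0, by omega⟩ (by rw [h]; rfl)
  have hord : orderOf (h35S l) = 2 := orderOf_eq_prime h2 h1
  obtain ⟨n, hn⟩ := Perm.cycleType_prime_order (σ := h35S l) (by rw [hord]; exact Nat.prime_two)
  rw [hord] at hn
  have hsum := Perm.sum_cycleType (h35S l)
  have hsupp : (h35S l).support = Finset.univ := by
    ext x
    simp [Perm.mem_support, hne x]
  rw [hn, hsupp, Multiset.sum_replicate, Finset.card_univ, Fintype.card_fin, smul_eq_mul] at hsum
  rw [Perm.sign_of_cycleType, hn, Multiset.sum_replicate, Multiset.card_replicate, smul_eq_mul]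
  have hodd : Odd ((n + 1) * 2 + (n + 1)) := by
    have hn1 : n + 1 = l := by omega
    rw [hn1]
    obtain ⟨c, rfl⟩ := hl
    exact ⟨3 * c + 1, by ring⟩
  exact hodd.neg_one_pow

end Cfsg.Agent.Lib.helper95.AP
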