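import Cfsg.Agent.Lib.helper35.CosetPrim

/-!
# Word identities from a base (helper35)

If only the identity fixes all the points of a list `βs` (a base), two words represent the same
element as soon as the quotient fixes the points of `βs`.
-/

set_option autoImplicit false

namespace Cfsg.Agent.Lib.helper35

section Base

variable {Γ : Type*} [Group Γ]

/-- Two words represent the same element when `v⁻¹ u` fixes a base. -/
theorem wprod_eq_of_base (ρ : Γ →* Equiv.Perm ℕ) (φ : ℕ → Γ) (hsq : ∀ l, φ l * φ l = 1)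
    (D : PermData) (hinv : ∀ l, l < D.K → allRange (invOK D l) 0 D.n = true)
    (hρ : ∀ l, l < D.K → ∀ c, ρ (φ l) c = sig D l c)
    (βs : List ℕ) (hβs : ∀ b ∈ βs, b < D.n)
    (hbase : ∀ g : Γ, (∀ b ∈ βs, ρ g b = b) → g = 1)
    (u v : List ℕ) (hu : ∀ l ∈ u, l < D.K) (hv : ∀ l ∈ v, l < D.K)
    (h : ∀ b ∈ βs, actP D (v ++ u.reverse) b = b) : wprod φ u = wprod φ v := by
  have hw : ∀ l ∈ v ++ u.reverse, l < D.K := by
    intro l hl
    rcases List.mem_append.1 hl with h1 | h1
    · exact hv l h1
    · exact hu l (List.mem_reverse.1 h1)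
  have h1 : wprod φ (v ++ u.reverse).reverse = 1 := by
    apply hbase
    intro b hb
    rw [rho_wprod ρ φ D hρ _ hw, ← (actP_eq hinv _ hw b (hβs b hb)).1]
    exact h b hb
  rw [List.reverse_append, List.reverse_reverse, wprod_append, wprod_reverse _ hsq] at h1
  exact mul_inv_eq_one.1 h1

end Base

end Cfsg.Agent.Lib.helper35
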