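import Mathlib

/-!
# Kernel-checkable coset enumeration certificates (helper35)

A statically annotated Todd–Coxeter run for a group generated by involutions: every filled slot of the
coset table (and every coincidence pointer) carries a time stamp and a justification that only reads
slots with a smaller time stamp.  `rowOK` checks one row; soundness is `Good`/`cover` below.
All checker functions are written with raw recursors so that the kernel evaluates them quickly.
-/

set_option autoImplicit false

namespace Cfsg.Agent.Lib.helper35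

/-- case analysis on a natural number -/
@[reducible] def nc {A : Type} (z : A) (s : ℕ → A) (n : ℕ) : A :=
  Nat.rec (motive := fun _ => A) z (fun t _ => s t) n

/-- evaluate `n` first, then continue with it -/
@[reducible] def force {A : Type} (n : ℕ) (k : ℕ → A) : A :=
  Nat.rec (motive := fun _ => A) (k 0) (fun t _ => k (Nat.succ t)) n

theorem nc_zero {A : Type} (z : A) (s : ℕ → A) : nc z s 0 = z := rfl
theorem nc_succ {A : Type} (z : A) (s : ℕ → A) (n : ℕ) : nc z s (n + 1) = s n := rfl
theorem force_eq {A : Type} (n : ℕ) (k : ℕ → A) : force n k = k n := by cases n <;> rfl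

/-- list lookup with default -/
def nth {A : Type} (d : A) (xs : List A) : ℕ → A :=
  List.rec (motive := fun _ => ℕ → A) (fun _ => d) (fun a _ ih i => nc a (fun j => ih j) i) xs

theorem nth_nil {A : Type} (d : A) (i : ℕ) : nth d [] i = d := rfl
theorem nth_cons_zero {A : Type} (d a : A) (xs : List A) : nth d (a :: xs) 0 = a := rfl
theorem nth_cons_succ {A : Type} (d a : A) (xs : List A) (i : ℕ) : nth d (a :: xs) (i + 1) = nth d xs i := rfl

theorem nth_mem {A : Type} (d : A) (xs : List A) (i : ℕ) : nth d xs i = d ∨ nth d xs i ∈ xs := by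
  induction xs generalizing i with
  | nil => exact Or.inl rfl
  | cons a xs ih =>
    cases i with
    | zero => exact Or.inr (by rw [nth_cons_zero]; exact List.mem_cons_self)
    | succ i =>
      rw [nth_cons_succ]
      rcases ih i with h | h
      · exact Or.inl h
      · exact Or.inr (List.mem_cons_of_mem _ h)

theorem nth_mem_of_lt {A : Type} (d : A) (xs : List A) (i : ℕ) (h : i < xs.length) : nth d xs i ∈ xs := by
  induction xs generalizing i with
  | nil => simp at h
  | cons a xs ih =>
    cases i with
    | zero => rw [nth_cons_zero]; exact List.mem_cons_self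
    | succ i =>
      rw [nth_cons_succ]
      exact List.mem_cons_of_mem _ (ih i (by simpa using h))

theorem exists_nth_of_mem {A : Type} (d : A) (xs : List A) (a : A) (h : a ∈ xs) :
    ∃ i, i < xs.length ∧ nth d xs i = a := by
  induction xs with
  | nil => simp at h
  | cons b xs ih =>
    rcases List.mem_cons.1 h with rfl | h
    · exact ⟨0, by simp, rfl⟩
    · obtain ⟨i, hi, hx⟩ := ih h
      exact ⟨i + 1, by simpa using hi, by rw [nth_cons_succ]; exact hx⟩

/-- list length by raw recursion -/
def len {A : Type} (xs : List A) : ℕ := List.rec (motive := fun _ => ℕ) 0 (fun _ _ ih => Nat.succ ih) xs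

theorem len_eq {A : Type} (xs : List A) : len xs = xs.length := by
  induction xs with
  | nil => rfl
  | cons a xs ih => show Nat.succ (len xs) = _; rw [ih]; rfl

/-- `f` holds on `lo, lo+1, …, lo+n-1` -/
def allRange (f : ℕ → Bool) (lo : ℕ) (n : ℕ) : Bool :=
  Nat.rec (motive := fun _ => Bool) true (fun i ih => cond (f (Nat.add lo i)) ih false) n

theorem allRange_succ (f : ℕ → Bool) (lo n : ℕ) :
    allRange f lo (n + 1) = cond (f (lo + n)) (allRange f lo n) false := rfl

theorem allRange_spec {f : ℕ → Bool} {lo n : ℕ} (h : allRange f lo n = true) :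
    ∀ c, lo ≤ c → c < lo + n → f c = true := by
  induction n with
  | zero => intro c h1 h2; omega
  | succ n ih =>
    rw [allRange_succ] at h
    intro c h1 h2
    cases hf : f (lo + n) with
    | false => rw [hf] at h; exact absurd h (by simp)
    | true =>
      rw [hf] at h
      by_cases hc : c = lo + n
      · rw [hc]; exact hf
      · exact ih h c h1 (by omega)

theorem allRange_append {f : ℕ → Bool} {lo a b : ℕ} (h1 : allRange f lo a = true)
    (h2 : allRange f (lo + a) b = true) : ∀ c, lo ≤ c → c < lo + (a + b) → f c = true := by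
  intro c hc1 hc2
  by_cases h : c < lo + a
  · exact allRange_spec h1 c hc1 h
  · exact allRange_spec h2 c (by omega) (by omega)

/-- `f` holds on all members of a list -/
def allList {A : Type} (f : A → Bool) (xs : List A) : Bool :=
  List.rec (motive := fun _ => Bool) true (fun a _ ih => cond (f a) ih false) xs

theorem allList_spec {A : Type} {f : A → Bool} {xs : List A} (h : allList f xs = true) :
    ∀ a ∈ xs, f a = true := by
  induction xs with
  | nil => intro a ha; simp at ha
  | cons b xs ih =>
    have h' : cond (f b) (allList f xs) false = true := h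
    intro a ha
    cases hf : f b with
    | false => rw [hf] at h'; exact absurd h' (by simp)
    | true =>
      rw [hf] at h'
      rcases List.mem_cons.1 ha with rfl | ha
      · exact hf
      · exact ih h' a ha

theorem cond_false_iff {b x : Bool} : cond b x false = true ↔ b = true ∧ x = true := by
  cases b <;> simp

theorem nblt_iff {a b : ℕ} : Nat.blt a b = true ↔ a < b := by
  rw [Nat.blt_eq]

theorem nbeq_iff {a b : ℕ} : Nat.beq a b = true ↔ a = b := by
  constructor
  · exact Nat.eq_of_beq_eq_true
  · intro h; rw [h]; exact Nat.beq_refl b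

/-- read entry `i` of width `w` (mask `m`) of a packed table -/
def rdw (T w m i : ℕ) : ℕ := Nat.land (Nat.shiftRight T (Nat.mul i w)) m

/-- read a table that is split into chunks of `2^cb` entries -/
def rdc (Ts : List ℕ) (w m cb cm c : ℕ) : ℕ :=
  force (Nat.shiftRight c cb) fun k => rdw (nth 0 Ts k) w m (Nat.land c cm)

/-- read the table of letter `l` -/
def rdl (Ts : List ℕ) (w m l c : ℕ) : ℕ := rdw (nth 0 Ts l) w m c

/-- read the chunked table of letter `l` -/
def rdlc (Ts : List (List ℕ)) (w m cb cm l c : ℕ) : ℕ :=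
  force (Nat.shiftRight c cb) fun k => rdw (nth 0 (nth [] Ts l) k) w m (Nat.land c cm)

/-- The data of a certificate. Slots are packed: value+1 in the low `sh` bits (`mask`), time stamp above. -/
structure Cert where
  M : ℕ
  K : ℕ
  sh : ℕ
  mask : ℕ
  te : ℕ → ℕ → ℕ
  tj : ℕ → ℕ → ℕ
  ee : ℕ → ℕ
  ej : ℕ → ℕ
  dp : ℕ → ℕ
  dl : ℕ → ℕ
  words : List (List ℕ × List ℕ)
  nrel : ℕ
  tinf : ℕ

/-- time-aware read of a table slot: `0` or value+1 -/
def rdT (C : Cert) (τ l c : ℕ) : ℕ :=
  cond (Nat.blt c C.M)
    (cond (Nat.blt l C.K)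
      (force (C.te l c) fun e => cond (Nat.blt (Nat.shiftRight e C.sh) τ) (Nat.land e C.mask) 0)
      0)
    0

/-- time-aware read of a coincidence pointer: `0` or target+1 -/
def rdE (C : Cert) (τ c : ℕ) : ℕ :=
  cond (Nat.blt c C.M)
    (force (C.ee c) fun e => cond (Nat.blt (Nat.shiftRight e C.sh) τ) (Nat.land e C.mask) 0)
    0

/-- follow coincidence pointers -/
def rep (C : Cert) (τ : ℕ) (fuel : ℕ) : ℕ → ℕ :=
  Nat.rec (motive := fun _ => ℕ → ℕ) (fun c => c) (fun _ ih c => nc c (fun t => ih t) (rdE C τ c)) fuel

theorem rep_zero (C : Cert) (τ c : ℕ) : rep C τ 0 c = c := rfl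
theorem rep_succ (C : Cert) (τ f c : ℕ) :
    rep C τ (f + 1) c = nc c (fun t => rep C τ f t) (rdE C τ c) := rfl

/-- forward walk: returns the unread rest of the word and the coset reached -/
def walk (C : Cert) (τ : ℕ) (ws : List ℕ) : ℕ → List ℕ × ℕ :=
  List.rec (motive := fun _ => ℕ → List ℕ × ℕ) (fun c => ([], c))
    (fun l ws ih c => nc (l :: ws, c) (fun t => force (rep C τ 16 t) ih) (rdT C τ l c)) ws

theorem walk_nil (C : Cert) (τ c : ℕ) : walk C τ [] c = ([], c) := rfl
theorem walk_cons (C : Cert) (τ l : ℕ) (ws : List ℕ) (c : ℕ) :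
    walk C τ (l :: ws) c = nc (l :: ws, c) (fun t => force (rep C τ 16 t) (walk C τ ws)) (rdT C τ l c) := rfl

/-- walk of at most `n` letters: returns the number of letters not done and the coset reached -/
def walkN (C : Cert) (τ : ℕ) (ws : List ℕ) : ℕ → ℕ → ℕ × ℕ :=
  List.rec (motive := fun _ => ℕ → ℕ → ℕ × ℕ) (fun n c => (n, c))
    (fun l _ ih n c => nc (0, c)
      (fun n' => nc (Nat.succ n', c) (fun t => force (rep C τ 16 t) (ih n')) (rdT C τ l c)) n) ws

theorem walkN_nil (C : Cert) (τ n c : ℕ) : walkN C τ [] n c = (n, c) := rfl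
theorem walkN_cons (C : Cert) (τ l : ℕ) (ws : List ℕ) (n c : ℕ) :
    walkN C τ (l :: ws) n c = nc (0, c)
      (fun n' => nc (Nat.succ n', c) (fun t => force (rep C τ 16 t) (walkN C τ ws n')) (rdT C τ l c)) n := rfl

/-- scan of word `r` from `c0` fills the slot `(c, l) ↦ d` -/
def scanT (C : Cert) (τ r c0 l c d : ℕ) : Bool :=
  cond (Nat.blt r C.nrel || Nat.beq c0 0)
    (Prod.rec (motive := fun _ => Bool) (fun w w' =>
      Prod.rec (motive := fun _ => Bool) (fun q f =>
        List.rec (motive := fun _ => Bool) false (fun l' s _ =>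
          cond (Nat.beq l' l) (cond (Nat.beq f c)
            (Prod.rec (motive := fun _ => Bool) (fun n' b => cond (Nat.beq n' 0) (Nat.beq b d) false)
              (walkN C τ w' (len s) c0))
            false) false) q)
        (walk C τ w c0))
      (nth ([], []) C.words r))
    false

/-- scan of word `r` from `c0` closes up and identifies `c` and `d` -/
def scanE (C : Cert) (τ r c0 c d : ℕ) : Bool :=
  cond (Nat.blt r C.nrel || Nat.beq c0 0)
    (Prod.rec (motive := fun _ => Bool) (fun w _ =>
      Prod.rec (motive := fun _ => Bool) (fun q f =>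
        List.rec (motive := fun _ => Bool)
          ((Nat.beq f c && Nat.beq c0 d) || (Nat.beq f d && Nat.beq c0 c)) (fun _ _ _ => false) q)
        (walk C τ w c0))
      (nth ([], []) C.words r))
    false

/-- moving the entry `(y, l)` to representatives fills the slot `(c, l) ↦ d` -/
def moveT (C : Cert) (τ : ℕ) (dir : Bool) (y l c d : ℕ) : Bool :=
  nc false (fun t =>
      force (rep C τ 16 y) fun x => force (rep C τ 16 t) fun dd =>
        cond dir (Nat.beq c x && Nat.beq d dd) (Nat.beq c dd && Nat.beq d x))
    (rdT C τ l y)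

/-- moving the entry `(y, l)` to representatives identifies `c` and `d` -/
def moveE (C : Cert) (τ : ℕ) (dir : Bool) (y l c d : ℕ) : Bool :=
  nc false (fun t =>
      force (rep C τ 16 y) fun x => force (rep C τ 16 t) fun dd =>
        cond dir
          (nc false (fun old => force (rep C τ 16 old) fun o =>
              (Nat.beq o c && Nat.beq dd d) || (Nat.beq o d && Nat.beq dd c)) (rdT C τ l x))
          (nc false (fun old => force (rep C τ 16 old) fun o =>
              (Nat.beq o c && Nat.beq x d) || (Nat.beq o d && Nat.beq x c)) (rdT C τ l dd)))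
    (rdT C τ l y)

/-- justification of a table slot `(c, l) ↦ d` written at time `τ` -/
def justT (C : Cert) (τ l c d k a b : ℕ) : Bool :=
  nc (cond (Nat.blt (C.dp a) a) (cond (Nat.beq (C.dl a) l)
        ((Nat.beq c (C.dp a) && Nat.beq d a) || (Nat.beq c a && Nat.beq d (C.dp a))) false) false)
    (fun k => nc (scanT C τ a b l c d)
      (fun k => cond (Nat.beq b l) (moveT C τ (Nat.beq k 0) a l c d) false) k) k

/-- justification of a coincidence pointer `c ↦ d` written at time `τ` -/
def justE (C : Cert) (τ c d k a b : ℕ) : Bool :=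
  nc false (fun k => nc (scanE C τ a b c d) (fun k => moveE C τ (Nat.beq k 0) a b c d) k) k

def tabOK (C : Cert) (c l : ℕ) : Bool :=
  force (C.te l c) fun e =>
    nc true (fun d => force (C.tj l c) fun j =>
        justT C (Nat.shiftRight e C.sh) l c d (Nat.land j 3) (Nat.land (Nat.shiftRight j 2) C.mask)
          (Nat.shiftRight (Nat.shiftRight j 2) C.sh))
      (Nat.land e C.mask)

def eqOK (C : Cert) (c : ℕ) : Bool :=
  force (C.ee c) fun e =>
    nc true (fun d => force (C.ej c) fun j =>
        justE C (Nat.shiftRight e C.sh) c d (Nat.land j 3) (Nat.land (Nat.shiftRight j 2) C.mask)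
          (Nat.shiftRight (Nat.shiftRight j 2) C.sh))
      (Nat.land e C.mask)

/-- all slots of row `c` are justified -/
def rowOK (C : Cert) (c : ℕ) : Bool :=
  cond (eqOK C c) (allRange (tabOK C c) 0 C.K) false

/-- coset `c` is live (no coincidence pointer) -/
def liveB (C : Cert) (c : ℕ) : Bool := Nat.beq (Nat.land (C.ee c) C.mask) 0

/-- final check: rows of live cosets are complete and lead to live cosets -/
def finOK (C : Cert) (c : ℕ) : Bool :=
  cond (liveB C c)
    (allRange (fun l => nc false (fun t => force (rep C C.tinf 16 t) fun r =>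
        cond (Nat.blt r C.M) (liveB C r) false) (rdT C C.tinf l c)) 0 C.K)
    true

/-- number of live cosets below `m` (plus `acc`) -/
def countLive (C : Cert) : ℕ → ℕ → ℕ :=
  Nat.rec (motive := fun _ => ℕ → ℕ) (fun acc => acc)
    (fun c ih acc => cond (liveB C c) (force (Nat.succ acc) ih) (ih acc))


/-! ### Soundness -/

section Sound

variable {X : Type*} (C : Cert) (g : ℕ → X → X) (x0 : X)

/-- action of a word, first letter first -/
def act (g : ℕ → X → X) (w : List ℕ) (x : X) : X := w.foldl (fun x l => g l x) x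

theorem act_nil (x : X) : act g [] x = x := rfl
theorem act_cons (l : ℕ) (w : List ℕ) (x : X) : act g (l :: w) x = act g w (g l x) := rfl
theorem act_append (p q : List ℕ) (x : X) : act g (p ++ q) x = act g q (act g p x) := by
  unfold act; rw [List.foldl_append]

theorem act_reverse_cancel (hinv : ∀ l x, g l (g l x) = x) (w : List ℕ) (x : X) :
    act g w.reverse (act g w x) = x := by
  induction w generalizing x with
  | nil => rfl
  | cons l w ih => rw [List.reverse_cons, act_cons, act_append, ih, act_cons, act_nil, hinv]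

/-- the point attached to a coset number, by the definition tree -/
noncomputable def val (C : Cert) (g : ℕ → X → X) (x0 : X) (c : ℕ) : X :=
  if _h : C.dp c < c then g (C.dl c) (val C g x0 (C.dp c)) else x0
termination_by c

theorem val_of_lt {c : ℕ} (h : C.dp c < c) : val C g x0 c = g (C.dl c) (val C g x0 (C.dp c)) := by
  rw [val, dif_pos h]

theorem val_zero : val C g x0 0 = x0 := by
  rw [val, dif_neg (Nat.not_lt_zero _)]

/-- what the set `X` with its involutions `g l` and base point `x0` has to satisfy -/
structure Model (C : Cert) (g : ℕ → X → X) (x0 : X) : Prop where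
  inv : ∀ l x, g l (g l x) = x
  rev : ∀ p ∈ C.words, p.2 = p.1.reverse
  rel : ∀ r, r < C.nrel → ∀ x, act g (nth ([], []) C.words r).1 x = x
  sub : ∀ r, act g (nth ([], []) C.words r).1 x0 = x0

/-- all slots written before time `τ` are true statements -/
def Good (C : Cert) (g : ℕ → X → X) (x0 : X) (τ : ℕ) : Prop :=
  (∀ l c t, rdT C τ l c = t + 1 → g l (val C g x0 c) = val C g x0 t) ∧
  (∀ c t, rdE C τ c = t + 1 → val C g x0 c = val C g x0 t)

theorem zero_ne_succ' {t : ℕ} (h : (0 : ℕ) = t + 1) : False := by omega

theorem rdT_eq_succ {C : Cert} {τ l c t : ℕ} (h : rdT C τ l c = t + 1) :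
    c < C.M ∧ l < C.K ∧ Nat.shiftRight (C.te l c) C.sh < τ ∧ Nat.land (C.te l c) C.mask = t + 1 := by
  unfold rdT at h
  rw [force_eq] at h
  cases h1 : Nat.blt c C.M with
  | false => rw [h1] at h; exact (zero_ne_succ' h).elim
  | true =>
    rw [h1] at h
    cases h2 : Nat.blt l C.K with
    | false => rw [h2] at h; exact (zero_ne_succ' h).elim
    | true =>
      rw [h2] at h
      cases h3 : Nat.blt (Nat.shiftRight (C.te l c) C.sh) τ with
      | false => rw [h3] at h; exact (zero_ne_succ' h).elim
      | true => rw [h3] at h; exact ⟨nblt_iff.1 h1, nblt_iff.1 h2, nblt_iff.1 h3, h⟩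

theorem rdT_step {C : Cert} {τ l c t : ℕ} (h : rdT C (τ + 1) l c = t + 1) :
    rdT C τ l c = t + 1 ∨
      (c < C.M ∧ l < C.K ∧ Nat.shiftRight (C.te l c) C.sh = τ ∧ Nat.land (C.te l c) C.mask = t + 1) := by
  obtain ⟨h1, h2, h3, h4⟩ := rdT_eq_succ h
  by_cases h5 : Nat.shiftRight (C.te l c) C.sh < τ
  · left
    unfold rdT
    rw [force_eq, nblt_iff.2 h1, nblt_iff.2 h2, nblt_iff.2 h5]
    exact h4
  · right
    exact ⟨h1, h2, by omega, h4⟩

theorem rdE_eq_succ {C : Cert} {τ c t : ℕ} (h : rdE C τ c = t + 1) :
    c < C.M ∧ Nat.shiftRight (C.ee c) C.sh < τ ∧ Nat.land (C.ee c) C.mask = t + 1 := by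
  unfold rdE at h
  rw [force_eq] at h
  cases h1 : Nat.blt c C.M with
  | false => rw [h1] at h; exact (zero_ne_succ' h).elim
  | true =>
    rw [h1] at h
    cases h3 : Nat.blt (Nat.shiftRight (C.ee c) C.sh) τ with
    | false => rw [h3] at h; exact (zero_ne_succ' h).elim
    | true => rw [h3] at h; exact ⟨nblt_iff.1 h1, nblt_iff.1 h3, h⟩

theorem rdE_step {C : Cert} {τ c t : ℕ} (h : rdE C (τ + 1) c = t + 1) :
    rdE C τ c = t + 1 ∨
      (c < C.M ∧ Nat.shiftRight (C.ee c) C.sh = τ ∧ Nat.land (C.ee c) C.mask = t + 1) := by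
  obtain ⟨h1, h3, h4⟩ := rdE_eq_succ h
  by_cases h5 : Nat.shiftRight (C.ee c) C.sh < τ
  · left
    unfold rdE
    rw [force_eq, nblt_iff.2 h1, nblt_iff.2 h5]
    exact h4
  · right
    exact ⟨h1, by omega, h4⟩

variable {C g x0}

theorem rep_sound {τ : ℕ} (hG : Good C g x0 τ) :
    ∀ fuel c, val C g x0 (rep C τ fuel c) = val C g x0 c := by
  intro fuel
  induction fuel with
  | zero => intro c; rfl
  | succ f ih =>
    intro c
    rw [rep_succ]
    cases h : rdE C τ c with
    | zero => rfl
    | succ t => rw [nc_succ, ih t]; exact (hG.2 c t h).symm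

theorem walk_sound {τ : ℕ} (hG : Good C g x0 τ) :
    ∀ (w : List ℕ) (c : ℕ) (q : List ℕ) (f : ℕ), walk C τ w c = (q, f) →
      ∃ p, w = p ++ q ∧ val C g x0 f = act g p (val C g x0 c) := by
  intro w
  induction w with
  | nil =>
    intro c q f h
    rw [walk_nil] at h
    obtain ⟨h1, h2⟩ := Prod.mk.inj h
    exact ⟨[], by rw [← h1]; rfl, by rw [← h2]; rfl⟩
  | cons l w ih =>
    intro c q f h
    rw [walk_cons] at h
    cases hr : rdT C τ l c with
    | zero =>
      rw [hr, nc_zero] at h
      obtain ⟨h1, h2⟩ := Prod.mk.inj h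
      exact ⟨[], by rw [← h1]; rfl, by rw [← h2]; rfl⟩
    | succ t =>
      rw [hr, nc_succ, force_eq] at h
      obtain ⟨p, hp, hv⟩ := ih _ _ _ h
      refine ⟨l :: p, by rw [hp]; rfl, ?_⟩
      rw [hv, rep_sound hG, act_cons, hG.1 l c t hr]

theorem walkN_sound {τ : ℕ} (hG : Good C g x0 τ) :
    ∀ (w : List ℕ) (n c n' b : ℕ), walkN C τ w n c = (n', b) →
      ∃ p q, w = p ++ q ∧ p.length + n' = n ∧ val C g x0 b = act g p (val C g x0 c) := by
  intro w
  induction w with
  | nil =>
    intro n c n' b h
    rw [walkN_nil] at h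
    obtain ⟨h1, h2⟩ := Prod.mk.inj h
    exact ⟨[], [], rfl, by rw [← h1]; simp, by rw [← h2]; rfl⟩
  | cons l w ih =>
    intro n c n' b h
    rw [walkN_cons] at h
    cases n with
    | zero =>
      rw [nc_zero] at h
      obtain ⟨h1, h2⟩ := Prod.mk.inj h
      exact ⟨[], l :: w, rfl, by rw [← h1]; simp, by rw [← h2]; rfl⟩
    | succ n =>
      rw [nc_succ] at h
      cases hr : rdT C τ l c with
      | zero =>
        rw [hr, nc_zero] at h
        obtain ⟨h1, h2⟩ := Prod.mk.inj h
        exact ⟨[], l :: w, rfl, by rw [← h1]; simp, by rw [← h2]; rfl⟩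
      | succ t =>
        rw [hr, nc_succ, force_eq] at h
        obtain ⟨p, q, hp, hlen, hv⟩ := ih _ _ _ _ h
        refine ⟨l :: p, q, by rw [hp]; rfl, by simp; omega, ?_⟩
        rw [hv, rep_sound hG, act_cons, hG.1 l c t hr]

theorem words_rev (hm : Model C g x0) (r : ℕ) {w w' : List ℕ}
    (hw : nth ([], []) C.words r = (w, w')) : w' = w.reverse := by
  rcases nth_mem ([], []) C.words r with h0 | h0
  · rw [hw] at h0
    obtain ⟨h1, h2⟩ := Prod.mk.inj h0
    rw [h1, h2]; rfl
  · have := hm.rev _ h0
    rw [hw] at this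
    exact this

theorem words_fix (hm : Model C g x0) {r c0 : ℕ} (hr : (Nat.blt r C.nrel || Nat.beq c0 0) = true)
    {w w' : List ℕ} (hw : nth ([], []) C.words r = (w, w')) :
    act g w (val C g x0 c0) = val C g x0 c0 := by
  rcases Bool.or_eq_true_iff.1 hr with h1 | h1
  · have := hm.rel r (nblt_iff.1 h1) (val C g x0 c0)
    rw [hw] at this
    exact this
  · have h2 := nbeq_iff.1 h1
    subst h2
    rw [val_zero]
    have := hm.sub r
    rw [hw] at this
    exact this

theorem scanT_sound (hm : Model C g x0) {τ : ℕ} (hG : Good C g x0 τ) {r c0 l c d : ℕ}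
    (h : scanT C τ r c0 l c d = true) : g l (val C g x0 c) = val C g x0 d := by
  unfold scanT at h
  rw [cond_false_iff] at h
  obtain ⟨hr, h⟩ := h
  rcases hw : nth ([], []) C.words r with ⟨w, w'⟩
  rw [hw] at h
  rcases hf : walk C τ w c0 with ⟨q, f⟩
  dsimp only at h
  rw [hf] at h
  cases q with
  | nil => exact absurd h (by simp)
  | cons l' s =>
    dsimp only at h
    rw [cond_false_iff, cond_false_iff] at h
    obtain ⟨hl, hfc, h⟩ := h
    rcases hb : walkN C τ w' (len s) c0 with ⟨n', b⟩
    rw [hb] at h
    dsimp only at h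
    rw [cond_false_iff] at h
    obtain ⟨hn, hbd⟩ := h
    rw [nbeq_iff] at hl hfc hn hbd
    obtain ⟨p, hp, hvf⟩ := walk_sound hG w c0 _ _ hf
    have hw' : w' = w.reverse := words_rev hm r hw
    obtain ⟨p', q', hp', hlen, hvb⟩ := walkN_sound hG w' (len s) c0 _ _ hb
    have hps : p' = s.reverse := by
      have e : p' ++ q' = s.reverse ++ (l' :: p.reverse) := by
        rw [← hp', hw', hp]; simp
      exact List.append_inj_left e (by rw [len_eq] at hlen; simp; omega)
    have hrel : act g w (val C g x0 c0) = val C g x0 c0 := words_fix hm hr hw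
    rw [hp, act_append, act_cons, ← hvf] at hrel
    rw [← hl, ← hfc, ← hbd, hvb, hps]
    calc g l' (val C g x0 f) = act g s.reverse (act g s (g l' (val C g x0 f))) :=
          (act_reverse_cancel g hm.inv s _).symm
      _ = act g s.reverse (val C g x0 c0) := by rw [hrel]

theorem scanE_sound (hm : Model C g x0) {τ : ℕ} (hG : Good C g x0 τ) {r c0 c d : ℕ}
    (h : scanE C τ r c0 c d = true) : val C g x0 c = val C g x0 d := by
  unfold scanE at h
  rw [cond_false_iff] at h
  obtain ⟨hr, h⟩ := h
  rcases hw : nth ([], []) C.words r with ⟨w, w'⟩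
  rw [hw] at h
  rcases hf : walk C τ w c0 with ⟨q, f⟩
  dsimp only at h
  rw [hf] at h
  cases q with
  | cons l' s => exact absurd h (by simp)
  | nil =>
    dsimp only at h
    obtain ⟨p, hp, hvf⟩ := walk_sound hG w c0 _ _ hf
    have hrel : act g w (val C g x0 c0) = val C g x0 c0 := words_fix hm hr hw
    rw [List.append_nil] at hp
    rw [hp, ← hvf] at hrel
    rw [Bool.or_eq_true, Bool.and_eq_true, Bool.and_eq_true] at h
    simp only [nbeq_iff] at h
    rcases h with ⟨e1, e2⟩ | ⟨e1, e2⟩
    · rw [← e1, ← e2]; exact hrel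
    · rw [← e1, ← e2]; exact hrel.symm

theorem moveT_sound (hm : Model C g x0) {τ : ℕ} (hG : Good C g x0 τ) {dir : Bool} {y l c d : ℕ}
    (h : moveT C τ dir y l c d = true) : g l (val C g x0 c) = val C g x0 d := by
  unfold moveT at h
  cases ht : rdT C τ l y with
  | zero => rw [ht, nc_zero] at h; exact absurd h (by simp)
  | succ t =>
    rw [ht, nc_succ] at h
    simp only [force_eq] at h
    have h1 := hG.1 l y t ht
    have hx := rep_sound hG 16 y
    have hd := rep_sound hG 16 t
    cases dir with
    | true =>
      simp only [cond_true, Bool.and_eq_true, nbeq_iff] at h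
      obtain ⟨e1, e2⟩ := h
      rw [e1, e2, hx, hd, h1]
    | false =>
      simp only [cond_false, Bool.and_eq_true, nbeq_iff] at h
      obtain ⟨e1, e2⟩ := h
      rw [e1, e2, hx, hd, ← h1, hm.inv]

theorem moveE_sound (hm : Model C g x0) {τ : ℕ} (hG : Good C g x0 τ) {dir : Bool} {y l c d : ℕ}
    (h : moveE C τ dir y l c d = true) : val C g x0 c = val C g x0 d := by
  unfold moveE at h
  cases ht : rdT C τ l y with
  | zero => rw [ht, nc_zero] at h; exact absurd h (by simp)
  | succ t =>
    rw [ht, nc_succ] at h
    simp only [force_eq] at h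
    have h1 := hG.1 l y t ht
    have hx := rep_sound hG 16 y
    have hd := rep_sound hG 16 t
    cases dir with
    | true =>
      simp only [cond_true] at h
      cases ho : rdT C τ l (rep C τ 16 y) with
      | zero => rw [ho, nc_zero] at h; exact absurd h (by simp)
      | succ old =>
        rw [ho, nc_succ] at h
        simp only [Bool.or_eq_true, Bool.and_eq_true, nbeq_iff] at h
        have h2 := hG.1 l _ old ho
        have h3 := rep_sound hG 16 old
        rw [hx, h1] at h2
        rcases h with ⟨e1, e2⟩ | ⟨e1, e2⟩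
        · rw [← e1, ← e2, h3, hd, h2]
        · rw [← e1, ← e2, h3, hd, h2]
    | false =>
      simp only [cond_false] at h
      cases ho : rdT C τ l (rep C τ 16 t) with
      | zero => rw [ho, nc_zero] at h; exact absurd h (by simp)
      | succ old =>
        rw [ho, nc_succ] at h
        simp only [Bool.or_eq_true, Bool.and_eq_true, nbeq_iff] at h
        have h2 := hG.1 l _ old ho
        have h3 := rep_sound hG 16 old
        rw [hd, ← h1, hm.inv] at h2
        rcases h with ⟨e1, e2⟩ | ⟨e1, e2⟩
        · rw [← e1, ← e2, h3, hx, h2]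
        · rw [← e1, ← e2, h3, hx, h2]

theorem justT_sound (hm : Model C g x0) {τ : ℕ} (hG : Good C g x0 τ) {l c d k a b : ℕ}
    (h : justT C τ l c d k a b = true) : g l (val C g x0 c) = val C g x0 d := by
  unfold justT at h
  cases k with
  | zero =>
    rw [nc_zero, cond_false_iff, cond_false_iff] at h
    obtain ⟨h1, h2, h3⟩ := h
    have hv := val_of_lt C g x0 (nblt_iff.1 h1)
    rw [nbeq_iff] at h2
    rw [Bool.or_eq_true, Bool.and_eq_true, Bool.and_eq_true] at h3
    simp only [nbeq_iff] at h3
    rcases h3 with ⟨e1, e2⟩ | ⟨e1, e2⟩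
    · rw [e1, e2, hv, h2]
    · rw [e1, e2, hv, h2, hm.inv]
  | succ k =>
    rw [nc_succ] at h
    cases k with
    | zero => rw [nc_zero] at h; exact scanT_sound hm hG h
    | succ k =>
      rw [nc_succ, cond_false_iff] at h
      obtain ⟨h1, h2⟩ := h
      have := nbeq_iff.1 h1
      subst this
      exact moveT_sound hm hG h2

theorem justE_sound (hm : Model C g x0) {τ : ℕ} (hG : Good C g x0 τ) {c d k a b : ℕ}
    (h : justE C τ c d k a b = true) : val C g x0 c = val C g x0 d := by
  unfold justE at h
  cases k with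
  | zero => rw [nc_zero] at h; exact absurd h (by simp)
  | succ k =>
    rw [nc_succ] at h
    cases k with
    | zero => rw [nc_zero] at h; exact scanE_sound hm hG h
    | succ k => rw [nc_succ] at h; exact moveE_sound hm hG h

/-- the invariant holds at all times -/
theorem good_all (hm : Model C g x0) (hrows : ∀ c, c < C.M → rowOK C c = true) :
    ∀ τ, Good C g x0 τ := by
  intro τ
  induction τ with
  | zero =>
    constructor
    · intro l c t h; have := (rdT_eq_succ h).2.2.1; omega
    · intro c t h; have := (rdE_eq_succ h).2.1; omega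
  | succ τ ih =>
    constructor
    · intro l c t h
      rcases rdT_step h with h' | ⟨h1, h2, h3, h4⟩
      · exact ih.1 l c t h'
      · have hrow := hrows c h1
        unfold rowOK at hrow
        rw [cond_false_iff] at hrow
        have htab := allRange_spec hrow.2 l (Nat.zero_le _) (by omega)
        unfold tabOK at htab
        simp only [force_eq] at htab
        rw [h4, nc_succ, h3] at htab
        exact justT_sound hm ih htab
    · intro c t h
      rcases rdE_step h with h' | ⟨h1, h3, h4⟩
      · exact ih.2 c t h'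
      · have hrow := hrows c h1
        unfold rowOK at hrow
        rw [cond_false_iff] at hrow
        have heq := hrow.1
        unfold eqOK at heq
        simp only [force_eq] at heq
        rw [h4, nc_succ, h3] at heq
        exact justE_sound hm ih heq

/-- Every point of `X` is the value of a live coset number. -/
theorem cover (hm : Model C g x0) (hrows : ∀ c, c < C.M → rowOK C c = true)
    (hfin : ∀ c, c < C.M → finOK C c = true) (hM : 0 < C.M) (h0 : liveB C 0 = true)
    (htrans : ∀ S : Set X, x0 ∈ S → (∀ l, l < C.K → ∀ x ∈ S, g l x ∈ S) → S = Set.univ) :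
    ∀ x : X, ∃ c, c < C.M ∧ liveB C c = true ∧ val C g x0 c = x := by
  have hG := good_all hm hrows C.tinf
  have hS := htrans {x | ∃ c, c < C.M ∧ liveB C c = true ∧ val C g x0 c = x}
    ⟨0, hM, h0, val_zero C g x0⟩ (by
      rintro l hl x ⟨c, hc, hlive, rfl⟩
      have h1 := hfin c hc
      unfold finOK at h1
      rw [hlive, cond_true] at h1
      have h2 := allRange_spec h1 l (Nat.zero_le _) (by omega)
      cases ht : rdT C C.tinf l c with
      | zero => rw [ht, nc_zero] at h2; exact absurd h2 (by simp)
      | succ t =>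
        rw [ht, nc_succ, force_eq, cond_false_iff] at h2
        refine ⟨rep C C.tinf 16 t, nblt_iff.1 h2.1, h2.2, ?_⟩
        rw [rep_sound hG, hG.1 l c t ht])
  intro x
  have : x ∈ {x | ∃ c, c < C.M ∧ liveB C c = true ∧ val C g x0 c = x} := by rw [hS]; trivial
  exact this

theorem countLive_eq (C : Cert) (m acc : ℕ) :
    countLive C m acc = acc + ((Finset.range m).filter (fun c => liveB C c = true)).card := by
  induction m generalizing acc with
  | zero => rfl
  | succ m ih =>
    have h : countLive C (m + 1) acc =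
        cond (liveB C m) (force (Nat.succ acc) (countLive C m)) (countLive C m acc) := rfl
    rw [h, force_eq, Finset.range_add_one, Finset.filter_insert]
    cases hl : liveB C m with
    | false => simp [ih]
    | true =>
      rw [cond_true, ih, if_pos rfl, Finset.card_insert_of_notMem (by simp)]
      omega

/-- The bound: `X` is finite with at most `countLive` points. -/
theorem card_le (hm : Model C g x0) (hrows : ∀ c, c < C.M → rowOK C c = true)
    (hfin : ∀ c, c < C.M → finOK C c = true) (hM : 0 < C.M) (h0 : liveB C 0 = true)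
    (htrans : ∀ S : Set X, x0 ∈ S → (∀ l, l < C.K → ∀ x ∈ S, g l x ∈ S) → S = Set.univ) :
    Finite X ∧ Nat.card X ≤ countLive C C.M 0 := by
  have hc := cover hm hrows hfin hM h0 htrans
  let L : Finset ℕ := (Finset.range C.M).filter (fun c => liveB C c = true)
  have hu : (Set.univ : Set X) = (val C g x0) '' (L : Set ℕ) := by
    ext x
    simp only [Set.mem_univ, Set.mem_image, true_iff]
    obtain ⟨c, h1, h2, h3⟩ := hc x
    exact ⟨c, by simp [L, h1, h2], h3⟩
  have hfin' : (Set.univ : Set X).Finite := by
    rw [hu]; exact (Finset.finite_toSet L).image _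
  refine ⟨Set.finite_univ_iff.1 hfin', ?_⟩
  rw [← Set.ncard_univ, hu, countLive_eq, Nat.zero_add]
  calc ((val C g x0) '' (L : Set ℕ)).ncard ≤ (L : Set ℕ).ncard :=
        Set.ncard_image_le (Finset.finite_toSet L)
    _ = L.card := Set.ncard_coe_finset L

end Sound

end Cfsg.Agent.Lib.helper35
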