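import Cfsg.Agent.Lib.helper35.CosetPerm

/-!
# Small additions to the coset enumeration checker (helper35)
-/

set_option autoImplicit false

namespace Cfsg.Agent.Lib.helper35

theorem allRange_of_forall {f : ℕ → Bool} {lo n : ℕ}
    (h : ∀ c, lo ≤ c → c < lo + n → f c = true) : allRange f lo n = true := by
  induction n with
  | zero => rfl
  | succ n ih =>
    rw [allRange_succ, h (lo + n) (by omega) (by omega)]
    exact ih (fun c h1 h2 => h c h1 (by omega))

end Cfsg.Agent.Lib.helper35
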