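import Cfsg.Agent.Lib.helper35.CosetPerm
import Cfsg.Prelude.Def_SporCoxeter

/-!
# Index and orbits of a subgroup of a Coxeter-presented group from kernel-checked certificates (helper35)

`CoxIndex.main`: for a group presented as in `Cfsg.Spor.CoxPresented` with all generators nodes of
the graph (hence involutions), a coset enumeration certificate (`Cert`, upper bound for the index) and
a permutation representation (`PermData`, lower bound, orbits) give the index of the subgroup
generated by the images of a list of words, and the sizes of its orbits on the cosets.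
-/

set_option autoImplicit false

namespace Cfsg.Agent.Lib.helper35

open Cfsg.Spor

section Words

variable {Γ : Type*} [Group Γ] (φ : ℕ → Γ)

/-- the product of the letters of a word -/
def wprod (w : List ℕ) : Γ := (w.map φ).prod

theorem wprod_nil : wprod φ [] = 1 := by simp [wprod]
theorem wprod_cons (l : ℕ) (w : List ℕ) : wprod φ (l :: w) = φ l * wprod φ w := by simp [wprod]
theorem wprod_append (p q : List ℕ) : wprod φ (p ++ q) = wprod φ p * wprod φ q := by simp [wprod]

theorem wprod_reverse (hsq : ∀ i, φ i * φ i = 1) (w : List ℕ) :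
    wprod φ w.reverse = (wprod φ w)⁻¹ := by
  induction w with
  | nil => simp [wprod]
  | cons l w ih =>
    rw [List.reverse_cons, wprod_append, ih, wprod_cons, wprod_cons, wprod_nil, mul_one, mul_inv_rev]
    congr 1
    exact eq_inv_of_mul_eq_one_left (hsq l)

theorem act_smul {Y : Type*} [MulAction Γ Y] (w : List ℕ) (y : Y) :
    act (fun l y => φ l • y) w y = wprod φ w.reverse • y := by
  induction w generalizing y with
  | nil => simp [act_nil, wprod_nil]
  | cons l w ih =>
    rw [act_cons, ih, List.reverse_cons, wprod_append, wprod_cons, wprod_nil, mul_one, mul_smul]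

/-- the word `(i j)^m` -/
def coxWord (m i j : ℕ) : List ℕ := (List.replicate m [i, j]).flatten

theorem wprod_coxWord (m i j : ℕ) : wprod φ (coxWord m i j) = (φ i * φ j) ^ m := by
  induction m with
  | zero => simp [coxWord, wprod]
  | succ m ih =>
    have : coxWord (m + 1) i j = [i, j] ++ coxWord m i j := by
      simp [coxWord, List.replicate_succ]
    rw [this, wprod_append, ih, pow_succ']
    simp [wprod]

theorem pow_swap_eq_one {a b : Γ} {m : ℕ} (h : (b * a) ^ m = 1) : (a * b) ^ m = 1 := by
  have e : a * b = a * (b * a) * a⁻¹ := by group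
  rw [e, conj_pow, h]
  group

end Words

theorem perm_iff_of_mapsTo (π : Equiv.Perm ℕ) (lo len : ℕ)
    (h : ∀ c, lo ≤ c ∧ c < lo + len → lo ≤ π⁻¹ c ∧ π⁻¹ c < lo + len) :
    ∀ c, (lo ≤ c ∧ c < lo + len) ↔ (lo ≤ π c ∧ π c < lo + len) := by
  have himg : (Finset.Ico lo (lo + len)).image (fun c => π⁻¹ c) = Finset.Ico lo (lo + len) := by
    apply Finset.eq_of_subset_of_card_le
    · intro x hx
      obtain ⟨c, hc, rfl⟩ := Finset.mem_image.1 hx
      rw [Finset.mem_Ico] at hc ⊢
      exact h c hc
    · rw [Finset.card_image_of_injective _ (π⁻¹).injective]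
  intro c
  constructor
  · intro hc
    have : c ∈ (Finset.Ico lo (lo + len)).image (fun c => π⁻¹ c) := by
      rw [himg, Finset.mem_Ico]; exact hc
    obtain ⟨c', hc', e⟩ := Finset.mem_image.1 this
    have e' : π c = c' := by rw [← e]; simp
    rw [e']
    exact Finset.mem_Ico.1 hc'
  · intro hc
    have := h (π c) hc
    simpa using this

section Pres

variable {α : Type} [DecidableEq α] (edges : List (α × ℕ × α)) (extra : List (FreeGroup α))
  (gen : ℕ → α) (code : α → ℕ) (K : ℕ)

/-- a word of the free group as a list of letter numbers (inverses are dropped: involutions) -/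
def wordOf (r : FreeGroup α) : List ℕ := r.toWord.map (fun p => code p.1)

/-- the Coxeter words `(i j)^m(i,j)` for `i < j < K` -/
def coxWords : List (List ℕ) :=
  (List.range K).flatMap fun i =>
    ((List.range K).filter (fun j => decide (i < j))).map fun j =>
      coxWord (coxLabel edges (gen i) (gen j)) i j

/-- all relator words -/
def relWords : List (List ℕ) := coxWords edges gen K ++ extra.map (wordOf code)

/-- numbering of the generators; every generator is a node of the graph -/
structure Pres : Prop where
  node : ∀ x : α, x ∈ coxNodes edges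
  gen_code : ∀ x, gen (code x) = x
  code_lt : ∀ x, code x < K
  code_gen : ∀ i, i < K → code (gen i) = i

theorem coxLabel_self (x : α) : coxLabel edges x x = 1 := by simp [coxLabel]

theorem coxLabel_comm (x y : α) : coxLabel edges x y = coxLabel edges y x := by
  unfold coxLabel
  by_cases h : x = y
  · subst h; rfl
  · rw [if_neg h, if_neg (Ne.symm h)]
    have e : (fun e : α × ℕ × α => decide ((e.1 = x ∧ e.2.2 = y) ∨ (e.1 = y ∧ e.2.2 = x))) =
        (fun e : α × ℕ × α => decide ((e.1 = y ∧ e.2.2 = x) ∨ (e.1 = x ∧ e.2.2 = y))) := by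
      funext e
      simp only [or_comm]
    rw [e]

omit [DecidableEq α] in
theorem lift_mk_word {Γ : Type*} [Group Γ] (φ : ℕ → Γ) (h2 : ∀ x, φ (code x) * φ (code x) = 1)
    (L : List (α × Bool)) :
    FreeGroup.lift (fun x => φ (code x)) (FreeGroup.mk L) = wprod φ (L.map (fun p => code p.1)) := by
  rw [FreeGroup.lift_mk]
  unfold wprod
  rw [List.map_map]
  congr 1
  apply List.map_congr_left
  intro p _
  rcases p with ⟨x, b⟩
  cases b with
  | true => rfl
  | false => exact inv_eq_of_mul_eq_one_left (h2 x)

theorem hom_word {Γ : Type*} [Group Γ] (θ : FreeGroup α →* Γ) (φ : ℕ → Γ)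
    (h1 : ∀ x, θ (FreeGroup.of x) = φ (code x)) (h2 : ∀ x, φ (code x) * φ (code x) = 1)
    (r : FreeGroup α) : θ r = wprod φ (wordOf code r) := by
  have e : θ r = FreeGroup.lift (fun x => φ (code x)) r := FreeGroup.lift_unique θ h1
  rw [e]
  have := lift_mk_word code φ h2 r.toWord
  rw [FreeGroup.mk_toWord] at this
  exact this

variable {edges extra gen code K}

/-- the generators of the presented group, by letter -/
def sG (edges : List (α × ℕ × α)) (extra : List (FreeGroup α)) (gen : ℕ → α) (i : ℕ) :
    PresentedGroup (coxRelators edges ∪ {r | r ∈ extra}) :=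
  PresentedGroup.mk _ (FreeGroup.of (gen i))

theorem sG_sq (P : Pres edges gen code K) (i : ℕ) :
    sG edges extra gen i * sG edges extra gen i = 1 := by
  unfold sG
  rw [← map_mul]
  apply PresentedGroup.one_of_mem
  left
  refine ⟨gen i, P.node _, gen i, P.node _, ?_⟩
  rw [coxLabel_self, pow_one]

theorem mk_eq_wprod (P : Pres edges gen code K) (r : FreeGroup α) :
    PresentedGroup.mk (coxRelators edges ∪ {r | r ∈ extra}) r =
      wprod (sG edges extra gen) (wordOf code r) :=
  hom_word code (PresentedGroup.mk _) (sG edges extra gen)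
    (fun x => by unfold sG; rw [P.gen_code]) (fun x => sG_sq P _) r

theorem relWords_one (P : Pres edges gen code K) :
    ∀ w ∈ relWords edges extra gen code K, wprod (sG edges extra gen) w = 1 := by
  intro w hw
  unfold relWords at hw
  rcases List.mem_append.1 hw with h | h
  · unfold coxWords at h
    simp only [List.mem_flatMap, List.mem_map, List.mem_filter, List.mem_range,
      decide_eq_true_eq] at h
    obtain ⟨i, hi, j, ⟨hj, hij⟩, rfl⟩ := h
    rw [wprod_coxWord]
    unfold sG
    rw [← map_mul, ← map_pow]
    apply PresentedGroup.one_of_mem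
    left
    exact ⟨gen i, P.node _, gen j, P.node _, rfl⟩
  · obtain ⟨r, hr, rfl⟩ := List.mem_map.1 h
    rw [← mk_eq_wprod P]
    exact PresentedGroup.one_of_mem (Or.inr hr)

theorem exists_hom (P : Pres edges gen code K) {Γ : Type*} [Group Γ] (φ : ℕ → Γ)
    (hsq : ∀ i, φ i * φ i = 1)
    (hrel : ∀ w ∈ relWords edges extra gen code K, wprod φ w = 1) :
    ∃ ρ : PresentedGroup (coxRelators edges ∪ {r | r ∈ extra}) →* Γ,
      ∀ i, i < K → ρ (sG edges extra gen i) = φ i := by
  have key : ∀ r ∈ coxRelators edges ∪ {r | r ∈ extra},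
      FreeGroup.lift (fun x => φ (code x)) r = 1 := by
    intro r hr
    rcases hr with ⟨x, -, y, -, rfl⟩ | hr
    · rw [map_pow, map_mul, FreeGroup.lift_apply_of, FreeGroup.lift_apply_of]
      rcases Nat.lt_trichotomy (code x) (code y) with h | h | h
      · have hm : coxWord (coxLabel edges (gen (code x)) (gen (code y))) (code x) (code y) ∈
            relWords edges extra gen code K := by
          unfold relWords coxWords
          apply List.mem_append_left
          simp only [List.mem_flatMap, List.mem_map, List.mem_filter, List.mem_range,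
            decide_eq_true_eq]
          exact ⟨code x, P.code_lt x, code y, ⟨P.code_lt y, h⟩, rfl⟩
        have := hrel _ hm
        rw [wprod_coxWord, P.gen_code, P.gen_code] at this
        exact this
      · have hxy : x = y := by rw [← P.gen_code x, ← P.gen_code y, h]
        subst hxy
        rw [coxLabel_self, pow_one]
        exact hsq _
      · have hm : coxWord (coxLabel edges (gen (code y)) (gen (code x))) (code y) (code x) ∈
            relWords edges extra gen code K := by
          unfold relWords coxWords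
          apply List.mem_append_left
          simp only [List.mem_flatMap, List.mem_map, List.mem_filter, List.mem_range,
            decide_eq_true_eq]
          exact ⟨code y, P.code_lt y, code x, ⟨P.code_lt x, h⟩, rfl⟩
        have := hrel _ hm
        rw [wprod_coxWord, P.gen_code, P.gen_code] at this
        rw [coxLabel_comm]
        exact pow_swap_eq_one this
    · have := hom_word code (FreeGroup.lift (fun x => φ (code x))) φ
        (fun x => FreeGroup.lift_apply_of) (fun x => hsq _) r
      rw [this]
      exact hrel _ (List.mem_append_right _ (List.mem_map_of_mem hr))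
  refine ⟨PresentedGroup.toGroup key, fun i hi => ?_⟩
  have := PresentedGroup.toGroup.of key (x := gen i)
  rw [P.code_gen i hi] at this
  exact this

end Pres


section Main

variable {α : Type} [DecidableEq α]

/-- everything that is checked about a certificate and a permutation representation -/
structure Checks (edges : List (α × ℕ × α)) (extra : List (FreeGroup α)) (gen : ℕ → α)
    (code : α → ℕ) (K : ℕ) (C : Cert) (D : PermData) (relW subW : List (List ℕ))
    (orbs : List (ℕ × ℕ × List ℕ)) (ys : List (FreeGroup α)) : Prop where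
  pres : Pres edges gen code K
  relW_eq : relW = relWords edges extra gen code K
  subW_eq : subW = ys.map (wordOf code)
  cK : C.K = K
  rows : ∀ c, c < C.M → rowOK C c = true
  fin : ∀ c, c < C.M → finOK C c = true
  cM : 0 < C.M
  live0 : liveB C 0 = true
  cnt : countLive C C.M 0 = D.n
  rev : ∀ p ∈ C.words, p.2 = p.1.reverse
  wr : ∀ r, r < C.nrel → (nth ([], []) C.words r).1 ∈ relW
  ws : ∀ p ∈ C.words, p.1 ∈ relW ∨ p.1 ∈ subW
  dK : D.K = K
  dn : 0 < D.n
  inv : ∀ l, l < D.K → allRange (invOK D l) 0 D.n = true
  rel : ∀ w ∈ relW, allRange (relOK D w) 0 D.n = true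
  sub : ∀ y ∈ subW, Nat.beq (actP D y 0) 0 = true
  letters : ∀ w ∈ relW ++ subW ++ orbs.map (fun o => o.2.2), ∀ l ∈ w, l < K
  tile : tileB orbs 0 D.n = true
  pos : ∀ o ∈ orbs, 0 < o.2.1
  orb : ∀ o ∈ orbs, orbOK D subW o = true

variable {edges : List (α × ℕ × α)} {extra : List (FreeGroup α)} {gen : ℕ → α}
  {code : α → ℕ} {K : ℕ} {C : Cert} {D : PermData} {relW subW : List (List ℕ)}
  {orbs : List (ℕ × ℕ × List ℕ)} {ys : List (FreeGroup α)}

/-- Index and orbits from the checks: the cosets are numbered injectively so that the orbits of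
the subgroup are the given intervals. -/
theorem CoxIndex.main' (h : Checks edges extra gen code K C D relW subW orbs ys)
    (Y : Set (FreeGroup α)) (hY : ∀ y, y ∈ Y ↔ y ∈ ys) :
    ((Subgroup.closure Y).map (PresentedGroup.mk (coxRelators edges ∪ {r | r ∈ extra}))).index = D.n ∧
    ∃ ψ : (PresentedGroup (coxRelators edges ∪ {r | r ∈ extra}) ⧸
        ((Subgroup.closure Y).map (PresentedGroup.mk (coxRelators edges ∪ {r | r ∈ extra})))) → ℕ,
      Function.Injective ψ ∧
      ∀ o ∈ orbs, ∃ q : PresentedGroup (coxRelators edges ∪ {r | r ∈ extra}) ⧸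
          ((Subgroup.closure Y).map (PresentedGroup.mk (coxRelators edges ∪ {r | r ∈ extra}))),
        ψ '' (MulAction.orbit
          ((Subgroup.closure Y).map (PresentedGroup.mk (coxRelators edges ∪ {r | r ∈ extra}))) q)
          = Set.Ico o.1 (o.1 + o.2.1) := by
  classical
  have P := h.pres
  have hs_sq : ∀ i, sG edges extra gen i * sG edges extra gen i = 1 := fun i => sG_sq P i
  -- the permutations
  have hφ_sq : ∀ i, perm D h.inv i * perm D h.inv i = 1 := by
    intro i
    ext c
    exact sig_invol h.inv i c
  have hφ_act : ∀ (w : List ℕ) (c : ℕ), wprod (perm D h.inv) w.reverse c = act (sig D) w c := by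
    intro w c
    have := act_smul (perm D h.inv) w c
    exact this.symm
  have hA : ∀ w : List ℕ, (∀ l ∈ w, l < D.K) → (∀ c, c < D.n → actP D w c = c) →
      wprod (perm D h.inv) w = 1 := by
    intro w hw hc
    have h1 : wprod (perm D h.inv) w.reverse = 1 := by
      ext c
      rw [hφ_act]
      by_cases hcn : c < D.n
      · rw [← (actP_eq h.inv w hw c hcn).1, hc c hcn]; rfl
      · rw [act_sig_ge D w (by omega)]; rfl
    rw [wprod_reverse _ hφ_sq] at h1
    exact inv_eq_one.1 h1
  have hφ_rel : ∀ w ∈ relWords edges extra gen code K, wprod (perm D h.inv) w = 1 := by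
    intro w hw
    rw [← h.relW_eq] at hw
    apply hA w
    · intro l hl
      rw [h.dK]
      exact h.letters w (by simp [hw]) l hl
    · intro c hc
      have := allRange_spec (h.rel w hw) c (Nat.zero_le _) (by omega)
      exact nbeq_iff.1 this
  obtain ⟨ρ, hρ⟩ := exists_hom P (perm D h.inv) hφ_sq hφ_rel
  have hρ_w : ∀ w : List ℕ, (∀ l ∈ w, l < K) →
      ρ (wprod (sG edges extra gen) w) = wprod (perm D h.inv) w := by
    intro w hw
    induction w with
    | nil => simp [wprod]
    | cons l w ih =>
      rw [wprod_cons, wprod_cons, map_mul, hρ l (hw l List.mem_cons_self),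
        ih (fun l' hl' => hw l' (List.mem_cons_of_mem _ hl'))]
  have hB : ∀ w : List ℕ, (∀ l ∈ w, l < K) → ∀ c, c < D.n →
      ρ ((wprod (sG edges extra gen) w)⁻¹) c = actP D w c := by
    intro w hw c hc
    rw [← wprod_reverse _ hs_sq, hρ_w w.reverse (fun l hl => hw l (List.mem_reverse.1 hl)), hφ_act]
    exact ((actP_eq h.inv w (by rw [h.dK]; exact hw) c hc).1).symm
  -- the subgroup
  set H := (Subgroup.closure Y).map (PresentedGroup.mk (coxRelators edges ∪ {r | r ∈ extra})) with hH
  have hsubH : ∀ w ∈ subW, wprod (sG edges extra gen) w ∈ H := by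
    intro w hw
    rw [h.subW_eq] at hw
    obtain ⟨y, hy, rfl⟩ := List.mem_map.1 hw
    rw [← mk_eq_wprod P]
    exact Subgroup.mem_map_of_mem _ (Subgroup.subset_closure ((hY y).2 hy))
  have hHind : ∀ T : Subgroup (PresentedGroup (coxRelators edges ∪ {r | r ∈ extra})),
      (∀ w ∈ subW, wprod (sG edges extra gen) w ∈ T) → H ≤ T := by
    intro T hT
    rw [hH, Subgroup.map_le_iff_le_comap, Subgroup.closure_le]
    intro y hy
    have := hT (wordOf code y) (by rw [h.subW_eq]; exact List.mem_map_of_mem ((hY y).1 hy))
    rw [← mk_eq_wprod P] at this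
    exact this
  have hlet_sub : ∀ w ∈ subW, ∀ l ∈ w, l < K := fun w hw l hl => h.letters w (by simp [hw]) l hl
  have hH0 : ∀ a ∈ H, ρ a 0 = 0 := by
    have := hHind ((MulAction.stabilizer (Equiv.Perm ℕ) (0 : ℕ)).comap ρ) (by
      intro w hw
      rw [Subgroup.mem_comap, MulAction.mem_stabilizer_iff]
      have h1 : ρ ((wprod (sG edges extra gen) w)⁻¹) 0 = 0 := by
        rw [hB w (hlet_sub w hw) 0 h.dn]
        exact nbeq_iff.1 (h.sub w hw)
      rw [map_inv] at h1
      exact (Equiv.Perm.inv_eq_iff_eq.1 h1).symm)
    intro a ha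
    exact this ha
  -- the map from cosets to points
  let ψ : (PresentedGroup (coxRelators edges ∪ {r | r ∈ extra}) ⧸ H) → ℕ := fun q =>
    Quotient.liftOn' q (fun a => ρ a 0) (by
      intro a b hab
      have hab' : a⁻¹ * b ∈ H := QuotientGroup.leftRel_apply.1 hab
      have := hH0 _ hab'
      rw [map_mul, map_inv, Equiv.Perm.mul_apply, Equiv.Perm.inv_eq_iff_eq] at this
      exact this.symm)
  have hψ_mk : ∀ a : PresentedGroup (coxRelators edges ∪ {r | r ∈ extra}),
      ψ (QuotientGroup.mk a) = ρ a 0 := fun a => rfl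
  have hψ_smul : ∀ (a : PresentedGroup (coxRelators edges ∪ {r | r ∈ extra}))
      (q : PresentedGroup (coxRelators edges ∪ {r | r ∈ extra}) ⧸ H), ψ (a • q) = ρ a (ψ q) := by
    intro a q
    induction q using QuotientGroup.induction_on with
    | H b =>
      show ρ (a * b) 0 = ρ a (ρ b 0)
      rw [map_mul]; rfl
  -- the upper bound
  have hcard : Finite (PresentedGroup (coxRelators edges ∪ {r | r ∈ extra}) ⧸ H) ∧
      Nat.card (PresentedGroup (coxRelators edges ∪ {r | r ∈ extra}) ⧸ H) ≤ D.n := by
    rw [← h.cnt]
    have hact : ∀ (w : List ℕ) (x : PresentedGroup (coxRelators edges ∪ {r | r ∈ extra}) ⧸ H),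
        act (fun l x => sG edges extra gen l • x) w x = (wprod (sG edges extra gen) w)⁻¹ • x := by
      intro w x
      rw [act_smul (sG edges extra gen) w x, wprod_reverse _ hs_sq]
    have hmodel : Model C (fun l (x : PresentedGroup (coxRelators edges ∪ {r | r ∈ extra}) ⧸ H) =>
        sG edges extra gen l • x) (QuotientGroup.mk 1) := by
      refine ⟨?_, h.rev, ?_, ?_⟩
      · intro l x
        show sG edges extra gen l • sG edges extra gen l • x = x
        rw [← mul_smul, hs_sq, one_smul]
      · intro r hr x
        rw [hact, relWords_one P _ (by rw [← h.relW_eq]; exact h.wr r hr), inv_one, one_smul]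
      · intro r
        rw [hact]
        rcases nth_mem ([], []) C.words r with h0 | h0
        · rw [h0]; simp [wprod]
        · rcases h.ws _ h0 with h1 | h1
          · rw [relWords_one P _ (by rw [← h.relW_eq]; exact h1), inv_one, one_smul]
          · have hmem := hsubH _ h1
            have e : (wprod (sG edges extra gen) (nth ([], []) C.words r).1)⁻¹ •
                (QuotientGroup.mk 1 : PresentedGroup (coxRelators edges ∪ {r | r ∈ extra}) ⧸ H) =
                QuotientGroup.mk ((wprod (sG edges extra gen) (nth ([], []) C.words r).1)⁻¹ * 1) := rfl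
            rw [e, QuotientGroup.eq]
            simpa using hmem
    refine card_le hmodel h.rows h.fin h.cM h.live0 ?_
    intro S hx0 hS
    rw [h.cK] at hS
    have key : ∀ a : PresentedGroup (coxRelators edges ∪ {r | r ∈ extra}),
        (∀ x ∈ S, a • x ∈ S) ∧ (∀ x ∈ S, a⁻¹ • x ∈ S) := by
      intro a
      have ha : a ∈ Subgroup.closure (Set.range (PresentedGroup.of :
          α → PresentedGroup (coxRelators edges ∪ {r | r ∈ extra}))) := by
        rw [PresentedGroup.closure_range_of]; trivial
      induction ha using Subgroup.closure_induction with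
      | mem a ha =>
        obtain ⟨x, rfl⟩ := ha
        have e : (PresentedGroup.of x : PresentedGroup (coxRelators edges ∪ {r | r ∈ extra})) =
            sG edges extra gen (code x) := by
          unfold sG; rw [P.gen_code]; rfl
        have e2 : (sG edges extra gen (code x))⁻¹ = sG edges extra gen (code x) :=
          inv_eq_of_mul_eq_one_left (hs_sq _)
        rw [e, e2]
        exact ⟨hS _ (P.code_lt x), hS _ (P.code_lt x)⟩
      | one => simp
      | mul a b _ _ iha ihb =>
        refine ⟨fun x hx => ?_, fun x hx => ?_⟩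
        · rw [mul_smul]; exact iha.1 _ (ihb.1 _ hx)
        · rw [mul_inv_rev, mul_smul]; exact ihb.2 _ (iha.2 _ hx)
      | inv a _ iha => exact ⟨iha.2, by rw [inv_inv]; exact iha.1⟩
    apply Set.eq_univ_of_forall
    intro q
    induction q using QuotientGroup.induction_on with
    | H a =>
      have := (key a).1 _ hx0
      have e : a • (QuotientGroup.mk 1 : PresentedGroup (coxRelators edges ∪ {r | r ∈ extra}) ⧸ H) =
          QuotientGroup.mk a := by
        show (QuotientGroup.mk (a * 1) : PresentedGroup (coxRelators edges ∪ {r | r ∈ extra}) ⧸ H) = _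
        rw [mul_one]
      rw [e] at this
      exact this
  obtain ⟨hfinite, hcardle⟩ := hcard
  -- base points and orbits
  have hlet_orb : ∀ o ∈ orbs, ∀ l ∈ o.2.2, l < K := fun o ho l hl =>
    h.letters o.2.2 (by
      apply List.mem_append_right
      exact List.mem_map_of_mem ho) l hl
  have hbase : ∀ o ∈ orbs, ρ ((wprod (sG edges extra gen) o.2.2)⁻¹) 0 = o.1 := by
    intro o ho
    rw [hB o.2.2 (hlet_orb o ho) 0 h.dn]
    have := h.orb o ho
    unfold orbOK at this
    rw [cond_false_iff] at this
    exact nbeq_iff.1 this.1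
  have hrange : ∀ o ∈ orbs, o.1 + o.2.1 ≤ D.n := (tileB_spec orbs 0 D.n h.tile).1
  have htree : ∀ o ∈ orbs, ∀ c, o.1 ≤ c → c < o.1 + o.2.1 → ∃ a ∈ H, ρ a o.1 = c := by
    intro o ho c
    induction c using Nat.strong_induction_on with
    | _ c ih =>
      intro hc1 hc2
      rcases Nat.eq_or_lt_of_le hc1 with heq | hlt
      · exact ⟨1, H.one_mem, by rw [map_one, ← heq]; rfl⟩
      · have ho' := h.orb o ho
        unfold orbOK at ho'
        rw [cond_false_iff, cond_false_iff] at ho'
        have hpred : Nat.pred o.2.1 = o.2.1 - 1 := rfl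
        have ht := allRange_spec ho'.2.2 c (by omega) (by omega)
        unfold treeOK at ht
        simp only [force_eq] at ht
        rw [cond_false_iff, cond_false_iff, Nat.ble_eq, nblt_iff, nbeq_iff] at ht
        obtain ⟨hp1, hp2, hp3⟩ := ht
        obtain ⟨a, ha, hap⟩ := ih _ hp2 hp1 (by omega)
        rcases nth_mem [] subW (Nat.land (D.ot c) 15) with h0 | h0
        · rw [h0, actP_nil] at hp3; omega
        · have hw := hsubH _ h0
          refine ⟨(wprod (sG edges extra gen) (nth [] subW (Nat.land (D.ot c) 15)))⁻¹ * a,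
            H.mul_mem (H.inv_mem hw) ha, ?_⟩
          rw [map_mul, Equiv.Perm.mul_apply, hap, hB _ (hlet_sub _ h0) _
            (by have := hrange o ho; omega)]
          exact hp3
  have hinvar : ∀ o ∈ orbs, ∀ a ∈ H, ∀ c,
      (o.1 ≤ c ∧ c < o.1 + o.2.1) ↔ (o.1 ≤ ρ a c ∧ ρ a c < o.1 + o.2.1) := by
    intro o ho
    let T : Subgroup (PresentedGroup (coxRelators edges ∪ {r | r ∈ extra})) :=
      { carrier := {a | ∀ c, (o.1 ≤ c ∧ c < o.1 + o.2.1) ↔ (o.1 ≤ ρ a c ∧ ρ a c < o.1 + o.2.1)}
        mul_mem' := by
          intro a b ha hb c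
          rw [map_mul, Equiv.Perm.mul_apply]
          exact (hb c).trans (ha _)
        one_mem' := by
          intro c
          rw [map_one]; rfl
        inv_mem' := by
          intro a ha c
          have := ha (ρ a⁻¹ c)
          rw [map_inv] at this ⊢
          have e : ρ a ((ρ a)⁻¹ c) = c := by simp
          rw [e] at this
          exact this.symm }
    have hT := hHind T (by
      intro w hw
      have hπ : ∀ c, o.1 ≤ c ∧ c < o.1 + o.2.1 →
          o.1 ≤ (ρ (wprod (sG edges extra gen) w))⁻¹ c ∧
            (ρ (wprod (sG edges extra gen) w))⁻¹ c < o.1 + o.2.1 := by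
        intro c hc
        rw [← map_inv, hB w (hlet_sub w hw) c (by have := hrange o ho; omega)]
        have ho' := h.orb o ho
        unfold orbOK at ho'
        rw [cond_false_iff, cond_false_iff] at ho'
        have := allRange_spec (allList_spec ho'.2.1 w hw) c hc.1 hc.2
        exact inR_iff.1 this
      exact perm_iff_of_mapsTo (ρ (wprod (sG edges extra gen) w)) o.1 o.2.1 hπ)
    intro a ha c
    exact hT ha c
  have hsurj : ∀ c, c < D.n →
      ∃ q : PresentedGroup (coxRelators edges ∪ {r | r ∈ extra}) ⧸ H, ψ q = c := by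
    intro c hc
    obtain ⟨o, ho, h1, h2⟩ := (tileB_spec orbs 0 D.n h.tile).2 c (Nat.zero_le _) hc
    obtain ⟨a, ha, hac⟩ := htree o ho c h1 h2
    refine ⟨(a * (wprod (sG edges extra gen) o.2.2)⁻¹) • (QuotientGroup.mk 1 :
      PresentedGroup (coxRelators edges ∪ {r | r ∈ extra}) ⧸ H), ?_⟩
    rw [hψ_smul, hψ_mk, map_one, map_mul, Equiv.Perm.mul_apply]
    show ρ a (ρ ((wprod (sG edges extra gen) o.2.2)⁻¹) 0) = c
    rw [hbase o ho, hac]
  choose! sec hsec using hsurj
  have hsf_inj : Function.Injective (fun i : Fin D.n => sec i) := by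
    intro i j hij
    have := congrArg ψ hij
    simp only at this
    rw [hsec _ i.2, hsec _ j.2] at this
    exact Fin.ext this
  have hsf_bij : Function.Bijective (fun i : Fin D.n => sec i) :=
    hsf_inj.bijective_of_nat_card_le (by simpa using hcardle)
  have hψ_inj : Function.Injective ψ := by
    intro q1 q2 hq
    obtain ⟨i, rfl⟩ := hsf_bij.2 q1
    obtain ⟨j, rfl⟩ := hsf_bij.2 q2
    simp only at hq
    rw [hsec _ i.2, hsec _ j.2] at hq
    rw [Fin.ext hq]
  refine ⟨?_, ψ, hψ_inj, ?_⟩
  · show Nat.card (PresentedGroup (coxRelators edges ∪ {r | r ∈ extra}) ⧸ H) = D.n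
    rw [← Nat.card_eq_of_bijective _ hsf_bij]
    simp
  · intro o ho
    refine ⟨(wprod (sG edges extra gen) o.2.2)⁻¹ • (QuotientGroup.mk 1 :
      PresentedGroup (coxRelators edges ∪ {r | r ∈ extra}) ⧸ H), ?_⟩
    have hψq : ψ ((wprod (sG edges extra gen) o.2.2)⁻¹ • (QuotientGroup.mk 1 :
        PresentedGroup (coxRelators edges ∪ {r | r ∈ extra}) ⧸ H)) = o.1 := by
      rw [hψ_smul, hψ_mk, map_one]
      exact hbase o ho
    have himg : ψ '' (MulAction.orbit H ((wprod (sG edges extra gen) o.2.2)⁻¹ • (QuotientGroup.mk 1 :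
        PresentedGroup (coxRelators edges ∪ {r | r ∈ extra}) ⧸ H))) =
        Set.Ico o.1 (o.1 + o.2.1) := by
      ext c
      constructor
      · rintro ⟨_, ⟨a, rfl⟩, rfl⟩
        have e : ψ (a • ((wprod (sG edges extra gen) o.2.2)⁻¹ • (QuotientGroup.mk 1 :
            PresentedGroup (coxRelators edges ∪ {r | r ∈ extra}) ⧸ H))) = ρ (a : _) o.1 := by
          rw [← hψq]
          have e2 : a • ((wprod (sG edges extra gen) o.2.2)⁻¹ • (QuotientGroup.mk 1 :
              PresentedGroup (coxRelators edges ∪ {r | r ∈ extra}) ⧸ H)) =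
              (a : PresentedGroup (coxRelators edges ∪ {r | r ∈ extra})) •
                ((wprod (sG edges extra gen) o.2.2)⁻¹ • (QuotientGroup.mk 1 :
              PresentedGroup (coxRelators edges ∪ {r | r ∈ extra}) ⧸ H)) := rfl
          rw [e2]
          exact hψ_smul (a : _) _
        rw [e]
        exact (hinvar o ho a a.2 o.1).1 ⟨le_refl _, by have := h.pos o ho; omega⟩
      · intro hc
        obtain ⟨a, ha, hac⟩ := htree o ho c hc.1 hc.2
        refine ⟨(⟨a, ha⟩ : H) • ((wprod (sG edges extra gen) o.2.2)⁻¹ • (QuotientGroup.mk 1 :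
            PresentedGroup (coxRelators edges ∪ {r | r ∈ extra}) ⧸ H)), ⟨⟨a, ha⟩, rfl⟩, ?_⟩
        have e := hψ_smul a ((wprod (sG edges extra gen) o.2.2)⁻¹ • (QuotientGroup.mk 1 :
            PresentedGroup (coxRelators edges ∪ {r | r ∈ extra}) ⧸ H))
        rw [hψq, hac] at e
        exact e
    exact himg

/-- Index and orbit sizes from the checks. -/
theorem CoxIndex.main (h : Checks edges extra gen code K C D relW subW orbs ys)
    (Y : Set (FreeGroup α)) (hY : ∀ y, y ∈ Y ↔ y ∈ ys) :
    ((Subgroup.closure Y).map (PresentedGroup.mk (coxRelators edges ∪ {r | r ∈ extra}))).index = D.n ∧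
    ∀ o ∈ orbs, ∃ q : PresentedGroup (coxRelators edges ∪ {r | r ∈ extra}) ⧸
        ((Subgroup.closure Y).map (PresentedGroup.mk (coxRelators edges ∪ {r | r ∈ extra}))),
      (MulAction.orbit
        ((Subgroup.closure Y).map (PresentedGroup.mk (coxRelators edges ∪ {r | r ∈ extra}))) q).ncard
        = o.2.1 := by
  obtain ⟨hidx, ψ, hψ_inj, horb⟩ := CoxIndex.main' h Y hY
  refine ⟨hidx, fun o ho => ?_⟩
  obtain ⟨q, himg⟩ := horb o ho
  refine ⟨q, ?_⟩
  rw [← Set.ncard_image_of_injective _ hψ_inj, himg, ← Finset.coe_Ico, Set.ncard_coe_finset,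
    Nat.card_Ico]
  omega

/-- two sets with disjoint nonempty interval images are different -/
theorem ne_of_image_Ico {β : Type*} (ψ : β → ℕ) {s t : Set β} {a b c d : ℕ}
    (hs : ψ '' s = Set.Ico a b) (ht : ψ '' t = Set.Ico c d) (hab : a < b) (hbc : b ≤ c) : s ≠ t := by
  intro heq
  have h1 : a ∈ Set.Ico a b := ⟨le_refl _, hab⟩
  rw [← hs, heq, ht] at h1
  have := h1.1
  omega

end Main

end Cfsg.Agent.Lib.helper35
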