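import Cfsg.Agent.Lib.helper35.CosetGroup

/-!
# The permutation representation behind `CoxIndex.main'` (helper35)

`CoxIndex.main2` exports the homomorphism to `Equiv.Perm ℕ`: the subgroup is the stabiliser of `0`,
the group is transitive on `[0, n)`, and the orbits of the subgroup are the intervals of `orbs`.
-/

set_option autoImplicit false

namespace Cfsg.Agent.Lib.helper35

open Cfsg.Spor

section Main2

variable {α : Type} [DecidableEq α]
variable {edges : List (α × ℕ × α)} {extra : List (FreeGroup α)} {gen : ℕ → α}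
  {code : α → ℕ} {K : ℕ} {C : Cert} {D : PermData} {relW subW : List (List ℕ)}
  {orbs : List (ℕ × ℕ × List ℕ)} {ys : List (FreeGroup α)}

theorem CoxIndex.main2 (h : Checks edges extra gen code K C D relW subW orbs ys)
    (Y : Set (FreeGroup α)) (hY : ∀ y, y ∈ Y ↔ y ∈ ys) :
    ∃ ρ : PresentedGroup (coxRelators edges ∪ {r | r ∈ extra}) →* Equiv.Perm ℕ,
      (∀ l, l < K → ∀ c, ρ (sG edges extra gen l) c = sig D l c) ∧
      (∀ a, ρ a 0 = 0 ↔
        a ∈ (Subgroup.closure Y).map (PresentedGroup.mk (coxRelators edges ∪ {r | r ∈ extra}))) ∧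
      (∀ c, c < D.n → ∃ a, ρ a 0 = c) ∧
      (∀ a, ρ a 0 < D.n) ∧
      ((Subgroup.closure Y).map (PresentedGroup.mk (coxRelators edges ∪ {r | r ∈ extra}))).index = D.n ∧
      (∀ o ∈ orbs, ∀ c, o.1 ≤ c → c < o.1 + o.2.1 →
        ∃ a ∈ (Subgroup.closure Y).map (PresentedGroup.mk (coxRelators edges ∪ {r | r ∈ extra})),
          ρ a o.1 = c) ∧
      (∀ o ∈ orbs, ∀ a ∈ (Subgroup.closure Y).map
          (PresentedGroup.mk (coxRelators edges ∪ {r | r ∈ extra})), ∀ c,
        (o.1 ≤ c ∧ c < o.1 + o.2.1) ↔ (o.1 ≤ ρ a c ∧ ρ a c < o.1 + o.2.1)) := by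
  classical
  have P := h.pres
  have hs_sq : ∀ i, sG edges extra gen i * sG edges extra gen i = 1 := fun i => sG_sq P i
  -- the permutations
  have hφ_sq : ∀ i, perm D h.inv i * perm D h.inv i = 1 := by
    intro i
    ext c
    exact sig_invol h.inv i c
  have hφ_act : ∀ (w : List ℕ) (c : ℕ), wprod (perm D h.inv) w.reverse c = act (sig D) w c := by
    intro w c
    have := act_smul (perm D h.inv) w c
    exact this.symm
  have hA : ∀ w : List ℕ, (∀ l ∈ w, l < D.K) → (∀ c, c < D.n → actP D w c = c) →
      wprod (perm D h.inv) w = 1 := by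
    intro w hw hc
    have h1 : wprod (perm D h.inv) w.reverse = 1 := by
      ext c
      rw [hφ_act]
      by_cases hcn : c < D.n
      · rw [← (actP_eq h.inv w hw c hcn).1, hc c hcn]; rfl
      · rw [act_sig_ge D w (by omega)]; rfl
    rw [wprod_reverse _ hφ_sq] at h1
    exact inv_eq_one.1 h1
  have hφ_rel : ∀ w ∈ relWords edges extra gen code K, wprod (perm D h.inv) w = 1 := by
    intro w hw
    rw [← h.relW_eq] at hw
    apply hA w
    · intro l hl
      rw [h.dK]
      exact h.letters w (by simp [hw]) l hl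
    · intro c hc
      have := allRange_spec (h.rel w hw) c (Nat.zero_le _) (by omega)
      exact nbeq_iff.1 this
  obtain ⟨ρ, hρ⟩ := exists_hom P (perm D h.inv) hφ_sq hφ_rel
  have hρ_w : ∀ w : List ℕ, (∀ l ∈ w, l < K) →
      ρ (wprod (sG edges extra gen) w) = wprod (perm D h.inv) w := by
    intro w hw
    induction w with
    | nil => simp [wprod]
    | cons l w ih =>
      rw [wprod_cons, wprod_cons, map_mul, hρ l (hw l List.mem_cons_self),
        ih (fun l' hl' => hw l' (List.mem_cons_of_mem _ hl'))]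
  have hB : ∀ w : List ℕ, (∀ l ∈ w, l < K) → ∀ c, c < D.n →
      ρ ((wprod (sG edges extra gen) w)⁻¹) c = actP D w c := by
    intro w hw c hc
    rw [← wprod_reverse _ hs_sq, hρ_w w.reverse (fun l hl => hw l (List.mem_reverse.1 hl)), hφ_act]
    exact ((actP_eq h.inv w (by rw [h.dK]; exact hw) c hc).1).symm
  -- the subgroup
  set H := (Subgroup.closure Y).map (PresentedGroup.mk (coxRelators edges ∪ {r | r ∈ extra})) with hH
  have hsubH : ∀ w ∈ subW, wprod (sG edges extra gen) w ∈ H := by
    intro w hw
    rw [h.subW_eq] at hw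
    obtain ⟨y, hy, rfl⟩ := List.mem_map.1 hw
    rw [← mk_eq_wprod P]
    exact Subgroup.mem_map_of_mem _ (Subgroup.subset_closure ((hY y).2 hy))
  have hHind : ∀ T : Subgroup (PresentedGroup (coxRelators edges ∪ {r | r ∈ extra})),
      (∀ w ∈ subW, wprod (sG edges extra gen) w ∈ T) → H ≤ T := by
    intro T hT
    rw [hH, Subgroup.map_le_iff_le_comap, Subgroup.closure_le]
    intro y hy
    have := hT (wordOf code y) (by rw [h.subW_eq]; exact List.mem_map_of_mem ((hY y).1 hy))
    rw [← mk_eq_wprod P] at this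
    exact this
  have hlet_sub : ∀ w ∈ subW, ∀ l ∈ w, l < K := fun w hw l hl => h.letters w (by simp [hw]) l hl
  have hH0 : ∀ a ∈ H, ρ a 0 = 0 := by
    have := hHind ((MulAction.stabilizer (Equiv.Perm ℕ) (0 : ℕ)).comap ρ) (by
      intro w hw
      rw [Subgroup.mem_comap, MulAction.mem_stabilizer_iff]
      have h1 : ρ ((wprod (sG edges extra gen) w)⁻¹) 0 = 0 := by
        rw [hB w (hlet_sub w hw) 0 h.dn]
        exact nbeq_iff.1 (h.sub w hw)
      rw [map_inv] at h1
      exact (Equiv.Perm.inv_eq_iff_eq.1 h1).symm)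
    intro a ha
    exact this ha
  -- the map from cosets to points
  let ψ : (PresentedGroup (coxRelators edges ∪ {r | r ∈ extra}) ⧸ H) → ℕ := fun q =>
    Quotient.liftOn' q (fun a => ρ a 0) (by
      intro a b hab
      have hab' : a⁻¹ * b ∈ H := QuotientGroup.leftRel_apply.1 hab
      have := hH0 _ hab'
      rw [map_mul, map_inv, Equiv.Perm.mul_apply, Equiv.Perm.inv_eq_iff_eq] at this
      exact this.symm)
  have hψ_mk : ∀ a : PresentedGroup (coxRelators edges ∪ {r | r ∈ extra}),
      ψ (QuotientGroup.mk a) = ρ a 0 := fun a => rfl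
  have hψ_smul : ∀ (a : PresentedGroup (coxRelators edges ∪ {r | r ∈ extra}))
      (q : PresentedGroup (coxRelators edges ∪ {r | r ∈ extra}) ⧸ H), ψ (a • q) = ρ a (ψ q) := by
    intro a q
    induction q using QuotientGroup.induction_on with
    | H b =>
      show ρ (a * b) 0 = ρ a (ρ b 0)
      rw [map_mul]; rfl
  -- the upper bound
  have hcard : Finite (PresentedGroup (coxRelators edges ∪ {r | r ∈ extra}) ⧸ H) ∧
      Nat.card (PresentedGroup (coxRelators edges ∪ {r | r ∈ extra}) ⧸ H) ≤ D.n := by
    rw [← h.cnt]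
    have hact : ∀ (w : List ℕ) (x : PresentedGroup (coxRelators edges ∪ {r | r ∈ extra}) ⧸ H),
        act (fun l x => sG edges extra gen l • x) w x = (wprod (sG edges extra gen) w)⁻¹ • x := by
      intro w x
      rw [act_smul (sG edges extra gen) w x, wprod_reverse _ hs_sq]
    have hmodel : Model C (fun l (x : PresentedGroup (coxRelators edges ∪ {r | r ∈ extra}) ⧸ H) =>
        sG edges extra gen l • x) (QuotientGroup.mk 1) := by
      refine ⟨?_, h.rev, ?_, ?_⟩
      · intro l x
        show sG edges extra gen l • sG edges extra gen l • x = x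
        rw [← mul_smul, hs_sq, one_smul]
      · intro r hr x
        rw [hact, relWords_one P _ (by rw [← h.relW_eq]; exact h.wr r hr), inv_one, one_smul]
      · intro r
        rw [hact]
        rcases nth_mem ([], []) C.words r with h0 | h0
        · rw [h0]; simp [wprod]
        · rcases h.ws _ h0 with h1 | h1
          · rw [relWords_one P _ (by rw [← h.relW_eq]; exact h1), inv_one, one_smul]
          · have hmem := hsubH _ h1
            have e : (wprod (sG edges extra gen) (nth ([], []) C.words r).1)⁻¹ •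
                (QuotientGroup.mk 1 : PresentedGroup (coxRelators edges ∪ {r | r ∈ extra}) ⧸ H) =
                QuotientGroup.mk ((wprod (sG edges extra gen) (nth ([], []) C.words r).1)⁻¹ * 1) := rfl
            rw [e, QuotientGroup.eq]
            simpa using hmem
    refine card_le hmodel h.rows h.fin h.cM h.live0 ?_
    intro S hx0 hS
    rw [h.cK] at hS
    have key : ∀ a : PresentedGroup (coxRelators edges ∪ {r | r ∈ extra}),
        (∀ x ∈ S, a • x ∈ S) ∧ (∀ x ∈ S, a⁻¹ • x ∈ S) := by
      intro a
      have ha : a ∈ Subgroup.closure (Set.range (PresentedGroup.of :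
          α → PresentedGroup (coxRelators edges ∪ {r | r ∈ extra}))) := by
        rw [PresentedGroup.closure_range_of]; trivial
      induction ha using Subgroup.closure_induction with
      | mem a ha =>
        obtain ⟨x, rfl⟩ := ha
        have e : (PresentedGroup.of x : PresentedGroup (coxRelators edges ∪ {r | r ∈ extra})) =
            sG edges extra gen (code x) := by
          unfold sG; rw [P.gen_code]; rfl
        have e2 : (sG edges extra gen (code x))⁻¹ = sG edges extra gen (code x) :=
          inv_eq_of_mul_eq_one_left (hs_sq _)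
        rw [e, e2]
        exact ⟨hS _ (P.code_lt x), hS _ (P.code_lt x)⟩
      | one => simp
      | mul a b _ _ iha ihb =>
        refine ⟨fun x hx => ?_, fun x hx => ?_⟩
        · rw [mul_smul]; exact iha.1 _ (ihb.1 _ hx)
        · rw [mul_inv_rev, mul_smul]; exact ihb.2 _ (iha.2 _ hx)
      | inv a _ iha => exact ⟨iha.2, by rw [inv_inv]; exact iha.1⟩
    apply Set.eq_univ_of_forall
    intro q
    induction q using QuotientGroup.induction_on with
    | H a =>
      have := (key a).1 _ hx0
      have e : a • (QuotientGroup.mk 1 : PresentedGroup (coxRelators edges ∪ {r | r ∈ extra}) ⧸ H) =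
          QuotientGroup.mk a := by
        show (QuotientGroup.mk (a * 1) : PresentedGroup (coxRelators edges ∪ {r | r ∈ extra}) ⧸ H) = _
        rw [mul_one]
      rw [e] at this
      exact this
  obtain ⟨hfinite, hcardle⟩ := hcard
  -- base points and orbits
  have hlet_orb : ∀ o ∈ orbs, ∀ l ∈ o.2.2, l < K := fun o ho l hl =>
    h.letters o.2.2 (by
      apply List.mem_append_right
      exact List.mem_map_of_mem ho) l hl
  have hbase : ∀ o ∈ orbs, ρ ((wprod (sG edges extra gen) o.2.2)⁻¹) 0 = o.1 := by
    intro o ho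
    rw [hB o.2.2 (hlet_orb o ho) 0 h.dn]
    have := h.orb o ho
    unfold orbOK at this
    rw [cond_false_iff] at this
    exact nbeq_iff.1 this.1
  have hrange : ∀ o ∈ orbs, o.1 + o.2.1 ≤ D.n := (tileB_spec orbs 0 D.n h.tile).1
  have htree : ∀ o ∈ orbs, ∀ c, o.1 ≤ c → c < o.1 + o.2.1 → ∃ a ∈ H, ρ a o.1 = c := by
    intro o ho c
    induction c using Nat.strong_induction_on with
    | _ c ih =>
      intro hc1 hc2
      rcases Nat.eq_or_lt_of_le hc1 with heq | hlt
      · exact ⟨1, H.one_mem, by rw [map_one, ← heq]; rfl⟩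
      · have ho' := h.orb o ho
        unfold orbOK at ho'
        rw [cond_false_iff, cond_false_iff] at ho'
        have hpred : Nat.pred o.2.1 = o.2.1 - 1 := rfl
        have ht := allRange_spec ho'.2.2 c (by omega) (by omega)
        unfold treeOK at ht
        simp only [force_eq] at ht
        rw [cond_false_iff, cond_false_iff, Nat.ble_eq, nblt_iff, nbeq_iff] at ht
        obtain ⟨hp1, hp2, hp3⟩ := ht
        obtain ⟨a, ha, hap⟩ := ih _ hp2 hp1 (by omega)
        rcases nth_mem [] subW (Nat.land (D.ot c) 15) with h0 | h0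
        · rw [h0, actP_nil] at hp3; omega
        · have hw := hsubH _ h0
          refine ⟨(wprod (sG edges extra gen) (nth [] subW (Nat.land (D.ot c) 15)))⁻¹ * a,
            H.mul_mem (H.inv_mem hw) ha, ?_⟩
          rw [map_mul, Equiv.Perm.mul_apply, hap, hB _ (hlet_sub _ h0) _
            (by have := hrange o ho; omega)]
          exact hp3
  have hinvar : ∀ o ∈ orbs, ∀ a ∈ H, ∀ c,
      (o.1 ≤ c ∧ c < o.1 + o.2.1) ↔ (o.1 ≤ ρ a c ∧ ρ a c < o.1 + o.2.1) := by
    intro o ho
    let T : Subgroup (PresentedGroup (coxRelators edges ∪ {r | r ∈ extra})) :=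
      { carrier := {a | ∀ c, (o.1 ≤ c ∧ c < o.1 + o.2.1) ↔ (o.1 ≤ ρ a c ∧ ρ a c < o.1 + o.2.1)}
        mul_mem' := by
          intro a b ha hb c
          rw [map_mul, Equiv.Perm.mul_apply]
          exact (hb c).trans (ha _)
        one_mem' := by
          intro c
          rw [map_one]; rfl
        inv_mem' := by
          intro a ha c
          have := ha (ρ a⁻¹ c)
          rw [map_inv] at this ⊢
          have e : ρ a ((ρ a)⁻¹ c) = c := by simp
          rw [e] at this
          exact this.symm }
    have hT := hHind T (by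
      intro w hw
      have hπ : ∀ c, o.1 ≤ c ∧ c < o.1 + o.2.1 →
          o.1 ≤ (ρ (wprod (sG edges extra gen) w))⁻¹ c ∧
            (ρ (wprod (sG edges extra gen) w))⁻¹ c < o.1 + o.2.1 := by
        intro c hc
        rw [← map_inv, hB w (hlet_sub w hw) c (by have := hrange o ho; omega)]
        have ho' := h.orb o ho
        unfold orbOK at ho'
        rw [cond_false_iff, cond_false_iff] at ho'
        have := allRange_spec (allList_spec ho'.2.1 w hw) c hc.1 hc.2
        exact inR_iff.1 this
      exact perm_iff_of_mapsTo (ρ (wprod (sG edges extra gen) w)) o.1 o.2.1 hπ)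
    intro a ha c
    exact hT ha c
  have hsurj : ∀ c, c < D.n →
      ∃ q : PresentedGroup (coxRelators edges ∪ {r | r ∈ extra}) ⧸ H, ψ q = c := by
    intro c hc
    obtain ⟨o, ho, h1, h2⟩ := (tileB_spec orbs 0 D.n h.tile).2 c (Nat.zero_le _) hc
    obtain ⟨a, ha, hac⟩ := htree o ho c h1 h2
    refine ⟨(a * (wprod (sG edges extra gen) o.2.2)⁻¹) • (QuotientGroup.mk 1 :
      PresentedGroup (coxRelators edges ∪ {r | r ∈ extra}) ⧸ H), ?_⟩
    rw [hψ_smul, hψ_mk, map_one, map_mul, Equiv.Perm.mul_apply]
    show ρ a (ρ ((wprod (sG edges extra gen) o.2.2)⁻¹) 0) = c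
    rw [hbase o ho, hac]
  choose! sec hsec using hsurj
  have hsf_inj : Function.Injective (fun i : Fin D.n => sec i) := by
    intro i j hij
    have := congrArg ψ hij
    simp only at this
    rw [hsec _ i.2, hsec _ j.2] at this
    exact Fin.ext this
  have hsf_bij : Function.Bijective (fun i : Fin D.n => sec i) :=
    hsf_inj.bijective_of_nat_card_le (by simpa using hcardle)
  have hψ_inj : Function.Injective ψ := by
    intro q1 q2 hq
    obtain ⟨i, rfl⟩ := hsf_bij.2 q1
    obtain ⟨j, rfl⟩ := hsf_bij.2 q2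
    simp only at hq
    rw [hsec _ i.2, hsec _ j.2] at hq
    rw [Fin.ext hq]
  refine ⟨ρ, ?_, ?_, ?_, ?_, ?_, htree, hinvar⟩
  · intro l hl c
    rw [hρ l hl]
    rfl
  · intro a
    constructor
    · intro ha
      have h1 : ψ (QuotientGroup.mk a) = ψ (QuotientGroup.mk 1) := by
        rw [hψ_mk, hψ_mk, map_one]
        exact ha
      have h2 := hψ_inj h1
      have h3 : a⁻¹ * 1 ∈ H := QuotientGroup.eq.1 h2
      rw [mul_one] at h3
      have := H.inv_mem h3
      rwa [inv_inv] at this
    · exact hH0 a
  · intro c hc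
    obtain ⟨q, hq⟩ : ∃ q : PresentedGroup (coxRelators edges ∪ {r | r ∈ extra}) ⧸ H, ψ q = c :=
      ⟨sec c, hsec c hc⟩
    induction q using QuotientGroup.induction_on with
    | H a => exact ⟨a, hq⟩
  · intro a
    obtain ⟨i, hi⟩ := hsf_bij.2 (QuotientGroup.mk a : PresentedGroup (coxRelators edges ∪ {r | r ∈ extra}) ⧸ H)
    have h1 : ψ (QuotientGroup.mk a) = i := by
      rw [← hi]
      exact hsec _ i.2
    rw [hψ_mk] at h1
    rw [h1]
    exact i.2
  · show Nat.card (PresentedGroup (coxRelators edges ∪ {r | r ∈ extra}) ⧸ H) = D.n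
    rw [← Nat.card_eq_of_bijective _ hsf_bij]
    simp

end Main2

end Cfsg.Agent.Lib.helper35
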