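import Cfsg.Agent.Lib.helper35.CosetGroup

/-!
# Orders of groups generated by involutions from coset enumeration certificates (helper35)

* `relIndex_le_of_cert`: a certificate for the sub-presentation on the letters `S` over the letters `T`
  bounds the index of `LS φ T` in `LS φ S` from above (inside any group in which the relators hold);
* `le_relIndex_of_otOK`: an orbit tree in a permutation representation bounds it from below;
* `stab_eq_of_orbit`: when the two bounds agree, the stabiliser is the small subgroup.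
-/

set_option autoImplicit false

namespace Cfsg.Agent.Lib.helper35

section IndexCert

variable {Λ : Type*} [Group Λ]

/-- the index bound of a certificate, for a group generated by involutions `ψ l`, `l < C.K` -/
theorem index_le_of_cert (C : Cert) (ψ : ℕ → Λ) (hsq : ∀ l, ψ l * ψ l = 1)
    (hgen : Subgroup.closure {x | ∃ l, l < C.K ∧ x = ψ l} = ⊤)
    (rows : ∀ c, c < C.M → rowOK C c = true) (fin : ∀ c, c < C.M → finOK C c = true)
    (cM : 0 < C.M) (live0 : liveB C 0 = true)
    (rev : ∀ p ∈ C.words, p.2 = p.1.reverse)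
    (hrel : ∀ r, r < C.nrel → wprod ψ (nth ([], []) C.words r).1 = 1)
    (Λ' : Subgroup Λ) (hsub : ∀ r, wprod ψ (nth ([], []) C.words r).1 ∈ Λ') :
    Finite (Λ ⧸ Λ') ∧ Nat.card (Λ ⧸ Λ') ≤ countLive C C.M 0 := by
  have hact : ∀ (w : List ℕ) (x : Λ ⧸ Λ'), act (fun l x => ψ l • x) w x = (wprod ψ w)⁻¹ • x := by
    intro w x
    rw [act_smul ψ w x, wprod_reverse _ hsq]
  have hmodel : Model C (fun l (x : Λ ⧸ Λ') => ψ l • x) (QuotientGroup.mk 1) := by
    refine ⟨?_, rev, ?_, ?_⟩
    · intro l x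
      show ψ l • ψ l • x = x
      rw [← mul_smul, hsq, one_smul]
    · intro r hr x
      rw [hact, hrel r hr, inv_one, one_smul]
    · intro r
      rw [hact]
      have hmem := hsub r
      have e : (wprod ψ (nth ([], []) C.words r).1)⁻¹ • (QuotientGroup.mk 1 : Λ ⧸ Λ') =
          QuotientGroup.mk ((wprod ψ (nth ([], []) C.words r).1)⁻¹ * 1) := rfl
      rw [e, QuotientGroup.eq]
      simpa using hmem
  refine card_le hmodel rows fin cM live0 ?_
  intro S hx0 hS
  have key : ∀ a : Λ, (∀ x ∈ S, a • x ∈ S) ∧ (∀ x ∈ S, a⁻¹ • x ∈ S) := by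
    intro a
    have ha : a ∈ Subgroup.closure {x | ∃ l, l < C.K ∧ x = ψ l} := by rw [hgen]; trivial
    induction ha using Subgroup.closure_induction with
    | mem a ha =>
      obtain ⟨l, hl, rfl⟩ := ha
      have e2 : (ψ l)⁻¹ = ψ l := inv_eq_of_mul_eq_one_left (hsq _)
      rw [e2]
      exact ⟨hS _ hl, hS _ hl⟩
    | one => simp
    | mul a b _ _ iha ihb =>
      refine ⟨fun x hx => ?_, fun x hx => ?_⟩
      · rw [mul_smul]; exact iha.1 _ (ihb.1 _ hx)
      · rw [mul_inv_rev, mul_smul]; exact ihb.2 _ (iha.2 _ hx)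
    | inv a _ iha => exact ⟨iha.2, by rw [inv_inv]; exact iha.1⟩
  apply Set.eq_univ_of_forall
  intro q
  induction q using QuotientGroup.induction_on with
  | H a =>
    have := (key a).1 _ hx0
    have e : a • (QuotientGroup.mk 1 : Λ ⧸ Λ') = QuotientGroup.mk a := by
      show (QuotientGroup.mk (a * 1) : Λ ⧸ Λ') = _
      rw [mul_one]
    rw [e] at this
    exact this

end IndexCert

section Letters

variable {Γ : Type*} [Group Γ]

/-- the subgroup generated by the letters of a list -/
def LS (φ : ℕ → Γ) (S : List ℕ) : Subgroup Γ := Subgroup.closure {x | ∃ l ∈ S, x = φ l}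

theorem LS_mem (φ : ℕ → Γ) {S : List ℕ} {l : ℕ} (h : l ∈ S) : φ l ∈ LS φ S :=
  Subgroup.subset_closure ⟨l, h, rfl⟩

theorem LS_mono (φ : ℕ → Γ) {S T : List ℕ} (h : ∀ l ∈ T, l ∈ S) : LS φ T ≤ LS φ S := by
  apply Subgroup.closure_mono
  rintro x ⟨l, hl, rfl⟩
  exact ⟨l, h l hl, rfl⟩

theorem LS_nil (φ : ℕ → Γ) : LS φ [] = ⊥ := by
  unfold LS
  have : {x : Γ | ∃ l ∈ ([] : List ℕ), x = φ l} = ∅ := by
    ext x; simp
  rw [this, Subgroup.closure_empty]

/-- letters outside `S` are sent to `1` -/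
def restr (φ : ℕ → Γ) (S : List ℕ) (l : ℕ) : Γ := if l ∈ S then φ l else 1

theorem restr_mem (φ : ℕ → Γ) (S : List ℕ) (l : ℕ) : restr φ S l ∈ LS φ S := by
  unfold restr
  split_ifs with h
  · exact LS_mem φ h
  · exact Subgroup.one_mem _

theorem restr_sq (φ : ℕ → Γ) (hsq : ∀ l, φ l * φ l = 1) (S : List ℕ) (l : ℕ) :
    restr φ S l * restr φ S l = 1 := by
  unfold restr
  split_ifs with h
  · exact hsq l
  · exact one_mul 1

theorem wprod_restr (φ : ℕ → Γ) (S : List ℕ) (w : List ℕ) (h : ∀ l ∈ w, l ∈ S) :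
    wprod (restr φ S) w = wprod φ w := by
  induction w with
  | nil => rfl
  | cons l w ih =>
    rw [wprod_cons, wprod_cons, ih (fun l' hl' => h l' (List.mem_cons_of_mem _ hl'))]
    unfold restr
    rw [if_pos (h l List.mem_cons_self)]

/-- a relator word of a sub-presentation: a relator all of whose letters are in `S`,
or a single letter outside `S` -/
def wordRel (relW : List (List ℕ)) (S : List ℕ) (w : List ℕ) : Bool :=
  (decide (w ∈ relW) && w.all (fun l => decide (l ∈ S))) ||
    (match w with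
      | [x] => decide (x ∉ S)
      | _ => false)

/-- a subgroup word: a single letter of `T` that is in `S` -/
def wordSub (S T : List ℕ) (w : List ℕ) : Bool :=
  match w with
    | [t] => decide (t ∈ T) && decide (t ∈ S)
    | _ => false

theorem wprod_of_wordRel (φ : ℕ → Γ) (relW : List (List ℕ)) (hrelW : ∀ w ∈ relW, wprod φ w = 1)
    (S : List ℕ) (w : List ℕ) (h : wordRel relW S w = true) : wprod (restr φ S) w = 1 := by
  unfold wordRel at h
  rcases Bool.or_eq_true_iff.1 h with h1 | h1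
  · rw [Bool.and_eq_true, decide_eq_true_eq, List.all_eq_true] at h1
    rw [wprod_restr φ S w (fun l hl => by simpa using h1.2 l hl)]
    exact hrelW w h1.1
  · match w, h1 with
    | [x], h1 =>
      rw [decide_eq_true_eq] at h1
      rw [wprod_cons, wprod_nil, mul_one]
      unfold restr
      rw [if_neg h1]

theorem wprod_of_wordSub (φ : ℕ → Γ) (S T : List ℕ) (w : List ℕ) (h : wordSub S T w = true) :
    wprod (restr φ S) w ∈ LS φ T := by
  unfold wordSub at h
  match w, h with
  | [t], h =>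
    rw [Bool.and_eq_true, decide_eq_true_eq, decide_eq_true_eq] at h
    rw [wprod_cons, wprod_nil, mul_one]
    unfold restr
    rw [if_pos h.2]
    exact LS_mem φ h.1

/-- Upper bound for the index of `LS φ T` in `LS φ S` from a certificate. -/
theorem relIndex_le_of_cert (φ : ℕ → Γ) (hsq : ∀ l, φ l * φ l = 1)
    (relW : List (List ℕ)) (hrelW : ∀ w ∈ relW, wprod φ w = 1)
    (S T : List ℕ) (C : Cert) (hK : ∀ l ∈ S, l < C.K)
    (rows : ∀ c, c < C.M → rowOK C c = true) (fin : ∀ c, c < C.M → finOK C c = true)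
    (cM : 0 < C.M) (live0 : liveB C 0 = true)
    (rev : ∀ p ∈ C.words, p.2 = p.1.reverse)
    (hwr : ∀ r, r < C.nrel → wordRel relW S (nth ([], []) C.words r).1 = true)
    (hws : ∀ p ∈ C.words, (wordRel relW S p.1 || wordSub S T p.1) = true) :
    (LS φ T).relIndex (LS φ S) ≠ 0 ∧ (LS φ T).relIndex (LS φ S) ≤ countLive C C.M 0 := by
  let ψ : ℕ → ↥(LS φ S) := fun l => ⟨restr φ S l, restr_mem φ S l⟩
  have hψ : ∀ w : List ℕ, ((wprod ψ w : ↥(LS φ S)) : Γ) = wprod (restr φ S) w := by
    intro w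
    induction w with
    | nil => rfl
    | cons l w ih =>
      rw [wprod_cons, wprod_cons, Subgroup.coe_mul, ih]
  have hgen : Subgroup.closure {x : ↥(LS φ S) | ∃ l, l < C.K ∧ x = ψ l} = ⊤ := by
    have h1 : Subgroup.closure (((↑) : ↥(LS φ S) → Γ) ⁻¹' {x : Γ | ∃ l ∈ S, x = φ l}) = ⊤ :=
      Subgroup.closure_closure_coe_preimage (k := {x : Γ | ∃ l ∈ S, x = φ l})
    rw [eq_top_iff, ← h1]
    apply Subgroup.closure_mono
    rintro ⟨x, hx⟩ ⟨l, hl, hxl⟩
    refine ⟨l, hK l hl, ?_⟩
    apply Subtype.ext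
    show x = restr φ S l
    unfold restr
    rw [if_pos hl]
    exact hxl
  have h := index_le_of_cert C ψ (fun l => Subtype.ext (restr_sq φ hsq S l)) hgen rows fin cM live0 rev
    (fun r hr => Subtype.ext (by
      rw [hψ]
      exact wprod_of_wordRel φ relW hrelW S _ (hwr r hr)))
    ((LS φ T).subgroupOf (LS φ S)) (fun r => by
      rw [Subgroup.mem_subgroupOf, hψ]
      rcases nth_mem ([], []) C.words r with h0 | h0
      · rw [h0]
        exact Subgroup.one_mem _
      · rcases Bool.or_eq_true_iff.1 (hws _ h0) with h1 | h1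
        · rw [wprod_of_wordRel φ relW hrelW S _ h1]
          exact Subgroup.one_mem _
        · exact wprod_of_wordSub φ S T _ h1)
  obtain ⟨hfin, hle⟩ := h
  have e : (LS φ T).relIndex (LS φ S) = Nat.card (↥(LS φ S) ⧸ (LS φ T).subgroupOf (LS φ S)) := rfl
  rw [e]
  exact ⟨Nat.card_pos.ne', hle⟩

end Letters

section Orbit

variable {Γ : Type*} [Group Γ]

/-- Lower bound for the index from an orbit. -/
theorem le_relIndex_of_orbit (ρ : Γ →* Equiv.Perm ℕ) (L L' : Subgroup Γ)
    (hfin : L'.relIndex L ≠ 0) (β : ℕ) (hfix : ∀ a ∈ L', ρ a β = β)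
    (O : Finset ℕ) (hO : ∀ c ∈ O, ∃ a ∈ L, ρ a β = c) : O.card ≤ L'.relIndex L := by
  classical
  have hfinite : Finite (↥L ⧸ L'.subgroupOf L) := Nat.finite_of_card_ne_zero hfin
  choose! a ha hac using hO
  let f : O → (↥L ⧸ L'.subgroupOf L) := fun c => QuotientGroup.mk ⟨a c.1, ha c.1 c.2⟩
  have hf : Function.Injective f := by
    intro c d hcd
    have h1 : (⟨a c.1, ha c.1 c.2⟩ : ↥L)⁻¹ * ⟨a d.1, ha d.1 d.2⟩ ∈ L'.subgroupOf L :=
      QuotientGroup.eq.1 hcd
    rw [Subgroup.mem_subgroupOf] at h1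
    have h2 := hfix _ h1
    simp only [Subgroup.coe_mul, Subgroup.coe_inv, map_mul, map_inv, Equiv.Perm.mul_apply] at h2
    rw [hac d.1 d.2, Equiv.Perm.inv_eq_iff_eq, hac c.1 c.2] at h2
    exact Subtype.ext h2.symm
  have := Nat.card_le_card_of_injective f hf
  rw [Nat.card_eq_fintype_card, Fintype.card_coe] at this
  exact this

/-- When the bounds agree the stabiliser of `β` in `L` is `L'`. -/
theorem stab_eq_of_orbit (ρ : Γ →* Equiv.Perm ℕ) (L L' : Subgroup Γ) (hle : L' ≤ L)
    (hfin : L'.relIndex L ≠ 0) (β : ℕ) (hfix : ∀ a ∈ L', ρ a β = β)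
    (O : Finset ℕ) (hO : ∀ c ∈ O, ∃ a ∈ L, ρ a β = c) (hcard : L'.relIndex L ≤ O.card) :
    ∀ g ∈ L, ρ g β = β → g ∈ L' := by
  let St : Subgroup Γ := L ⊓ (MulAction.stabilizer (Equiv.Perm ℕ) β).comap ρ
  have hSt : ∀ g, g ∈ St ↔ g ∈ L ∧ ρ g β = β := by
    intro g
    simp only [St, Subgroup.mem_inf, Subgroup.mem_comap, MulAction.mem_stabilizer_iff]
    rfl
  have h1 : L' ≤ St := fun g hg => (hSt g).2 ⟨hle hg, hfix g hg⟩
  have h2 : St ≤ L := inf_le_left
  have hmul := Subgroup.relIndex_mul_relIndex L' St L h1 h2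
  have hSt0 : St.relIndex L ≠ 0 := by
    intro h0
    rw [h0, mul_zero] at hmul
    exact hfin hmul.symm
  have h3 : O.card ≤ St.relIndex L :=
    le_relIndex_of_orbit ρ L St hSt0 β (fun a ha => ((hSt a).1 ha).2) O hO
  have h4 : L'.relIndex St * St.relIndex L ≤ St.relIndex L := by
    rw [hmul]; exact hcard.trans h3
  have h5 : L'.relIndex St ≤ 1 := by
    by_contra hcon
    have : 2 * St.relIndex L ≤ L'.relIndex St * St.relIndex L :=
      Nat.mul_le_mul_right _ (by omega)
    omega
  have h6 : L'.relIndex St = 1 := by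
    have : L'.relIndex St ≠ 0 := by
      intro h0
      rw [h0, zero_mul] at hmul
      exact hfin hmul.symm
    omega
  have h7 : St ≤ L' := Subgroup.relIndex_eq_one.1 h6
  intro g hg hgβ
  exact h7 ((hSt g).2 ⟨hg, hgβ⟩)

/-- membership in a list of letters, by raw recursion -/
def memL (l : ℕ) (S : List ℕ) : Bool :=
  List.rec (motive := fun _ => Bool) false (fun a _ ih => cond (Nat.beq a l) true ih) S

theorem memL_iff {l : ℕ} {S : List ℕ} : memL l S = true ↔ l ∈ S := by
  induction S with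
  | nil => simp [memL]
  | cons a S ih =>
    have e : memL l (a :: S) = cond (Nat.beq a l) true (memL l S) := rfl
    rw [e, List.mem_cons]
    cases h : Nat.beq a l with
    | true =>
      have := nbeq_iff.1 h
      simp [this]
    | false =>
      have hne : ¬ a = l := fun he => by rw [nbeq_iff.2 he] at h; exact absurd h (by simp)
      rw [cond_false, ih]
      constructor
      · exact Or.inr
      · rintro (h1 | h1)
        · exact absurd h1.symm hne
        · exact h1

/-- orbit tree check at the point `c`: the entry is `0` (not in the orbit) or `16 * (depth + 1) + l`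
where the letter `l ∈ S` moves `c` to a point of smaller depth -/
def otOK (D : PermData) (tt : ℕ → ℕ) (S : List ℕ) (β c : ℕ) : Bool :=
  force (tt c) fun e =>
    nc true (fun _ =>
      cond (Nat.beq c β) true
        (force (Nat.land e 15) fun l =>
          cond (memL l S)
            (force (D.P l c) fun q => force (tt q) fun e' =>
              nc false (fun _ => Nat.blt (Nat.shiftRight e' 4) (Nat.shiftRight e 4)) e')
            false)) e

/-- number of nonzero entries below `m` (plus `acc`) -/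
def countNZ (tt : ℕ → ℕ) : ℕ → ℕ → ℕ :=
  Nat.rec (motive := fun _ => ℕ → ℕ) (fun acc => acc)
    (fun c ih acc => nc (ih acc) (fun _ => force (Nat.succ acc) ih) (tt c))

theorem countNZ_eq (tt : ℕ → ℕ) (m acc : ℕ) :
    countNZ tt m acc = acc + ((Finset.range m).filter (fun c => tt c ≠ 0)).card := by
  induction m generalizing acc with
  | zero => rfl
  | succ m ih =>
    have h : countNZ tt (m + 1) acc =
        nc (countNZ tt m acc) (fun _ => force (Nat.succ acc) (countNZ tt m)) (tt m) := rfl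
    rw [h, Finset.range_add_one, Finset.filter_insert]
    cases ht : tt m with
    | zero => simp [ih]
    | succ t =>
      rw [nc_succ, force_eq, ih, if_pos (by omega), Finset.card_insert_of_notMem (by simp)]
      omega

theorem orbit_of_otOK (ρ : Γ →* Equiv.Perm ℕ) (φ : ℕ → Γ) (D : PermData)
    (hinv : ∀ l, l < D.K → allRange (invOK D l) 0 D.n = true)
    (hρ : ∀ l, l < D.K → ∀ c, ρ (φ l) c = sig D l c)
    (S : List ℕ) (hS : ∀ l ∈ S, l < D.K) (tt : ℕ → ℕ) (β : ℕ)
    (hok : allRange (otOK D tt S β) 0 D.n = true) :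
    ∀ c, c < D.n → tt c ≠ 0 → ∃ a ∈ LS φ S, ρ a β = c := by
  have key : ∀ d c, Nat.shiftRight (tt c) 4 = d → c < D.n → tt c ≠ 0 → ∃ a ∈ LS φ S, ρ a β = c := by
    intro d
    induction d using Nat.strong_induction_on with
    | _ d ih =>
      intro c hd hc hne
      have h := allRange_spec hok c (Nat.zero_le _) (by omega)
      unfold otOK at h
      simp only [force_eq] at h
      obtain ⟨t, ht⟩ := Nat.exists_eq_succ_of_ne_zero hne
      rw [ht, nc_succ] at h
      cases hb : Nat.beq c β with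
      | true =>
        have := nbeq_iff.1 hb
        exact ⟨1, Subgroup.one_mem _, by rw [map_one, this]; rfl⟩
      | false =>
        rw [hb, cond_false, cond_false_iff, memL_iff] at h
        obtain ⟨hl, h2⟩ := h
        have hlK := hS _ hl
        have hP := P_spec hinv hlK hc
        obtain ⟨t', ht'⟩ : ∃ t', tt (D.P (Nat.land (t + 1) 15) c) = t' + 1 := by
          cases hq : tt (D.P (Nat.land (t + 1) 15) c) with
          | zero => rw [hq, nc_zero] at h2; exact absurd h2 (by simp)
          | succ t' => exact ⟨t', rfl⟩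
        rw [ht', nc_succ, nblt_iff] at h2
        obtain ⟨a, ha, hac⟩ := ih _ (by rw [← hd, ht]; exact h2) (D.P (Nat.land (t + 1) 15) c) (by rw [ht'])
          hP.1 (by rw [ht']; omega)
        refine ⟨φ (Nat.land (t + 1) 15) * a, Subgroup.mul_mem _ (LS_mem φ hl) ha, ?_⟩
        rw [map_mul, Equiv.Perm.mul_apply, hac, hρ _ hlK]
        unfold sig
        rw [if_pos ⟨hlK, hP.1⟩]
        exact hP.2
  intro c hc hne
  exact key _ c rfl hc hne

/-- Lower bound for the index of `LS φ T` in `LS φ S` from an orbit tree. -/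
theorem le_relIndex_of_otOK (ρ : Γ →* Equiv.Perm ℕ) (φ : ℕ → Γ) (D : PermData)
    (hinv : ∀ l, l < D.K → allRange (invOK D l) 0 D.n = true)
    (hρ : ∀ l, l < D.K → ∀ c, ρ (φ l) c = sig D l c)
    (S T : List ℕ) (hS : ∀ l ∈ S, l < D.K) (hT : ∀ l ∈ T, l < D.K) (tt : ℕ → ℕ) (β : ℕ)
    (hβ : β < D.n) (hfixT : ∀ t ∈ T, D.P t β = β)
    (hok : allRange (otOK D tt S β) 0 D.n = true)
    (hfin : (LS φ T).relIndex (LS φ S) ≠ 0) :
    countNZ tt D.n 0 ≤ (LS φ T).relIndex (LS φ S) ∧
    (∀ a ∈ LS φ T, ρ a β = β) ∧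
    (∀ c ∈ (Finset.range D.n).filter (fun c => tt c ≠ 0), ∃ a ∈ LS φ S, ρ a β = c) := by
  have hfix : ∀ a ∈ LS φ T, ρ a β = β := by
    intro a ha
    have : LS φ T ≤ (MulAction.stabilizer (Equiv.Perm ℕ) β).comap ρ := by
      unfold LS
      rw [Subgroup.closure_le]
      rintro x ⟨t, ht, rfl⟩
      show ρ (φ t) • β = β
      show ρ (φ t) β = β
      rw [hρ _ (hT t ht)]
      unfold sig
      rw [if_pos ⟨hT t ht, hβ⟩]
      exact hfixT t ht
    exact this ha
  have hO : ∀ c ∈ (Finset.range D.n).filter (fun c => tt c ≠ 0), ∃ a ∈ LS φ S, ρ a β = c := by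
    intro c hc
    rw [Finset.mem_filter, Finset.mem_range] at hc
    exact orbit_of_otOK ρ φ D hinv hρ S hS tt β hok c hc.1 hc.2
  refine ⟨?_, hfix, hO⟩
  rw [countNZ_eq, Nat.zero_add]
  exact le_relIndex_of_orbit ρ (LS φ S) (LS φ T) hfin β hfix _ hO

end Orbit

end Cfsg.Agent.Lib.helper35
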