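import Cfsg.Agent.Lib.helper35.CosetCert

/-!
# Permutation side of a coset enumeration (helper35)

Tables of involutions on `[0, n)`, checks that relator words act trivially, orbit checks.
-/

set_option autoImplicit false

namespace Cfsg.Agent.Lib.helper35

/-- `K` maps `P l` on the points `[0, n)`, and an orbit tree table -/
structure PermData where
  n : ℕ
  K : ℕ
  P : ℕ → ℕ → ℕ
  ot : ℕ → ℕ

/-- action of a word on a point, first letter first, by table lookup -/
def actP (D : PermData) (w : List ℕ) : ℕ → ℕ :=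
  List.rec (motive := fun _ => ℕ → ℕ) (fun c => c) (fun l _ ih c => force (D.P l c) ih) w

theorem actP_nil (D : PermData) (c : ℕ) : actP D [] c = c := rfl
theorem actP_cons (D : PermData) (l : ℕ) (w : List ℕ) (c : ℕ) :
    actP D (l :: w) c = actP D w (D.P l c) := by
  show force (D.P l c) (actP D w) = _
  rw [force_eq]

def invOK (D : PermData) (l c : ℕ) : Bool :=
  cond (Nat.blt (D.P l c) D.n) (Nat.beq (D.P l (D.P l c)) c) false

def relOK (D : PermData) (w : List ℕ) (c : ℕ) : Bool := Nat.beq (actP D w c) c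

def inR (lo len x : ℕ) : Bool := cond (Nat.ble lo x) (Nat.blt x (Nat.add lo len)) false

theorem inR_iff {lo len x : ℕ} : inR lo len x = true ↔ lo ≤ x ∧ x < lo + len := by
  unfold inR
  rw [cond_false_iff, nblt_iff, Nat.ble_eq]
  rfl

def treeOK (D : PermData) (subW : List (List ℕ)) (lo c : ℕ) : Bool :=
  force (D.ot c) fun e => force (Nat.shiftRight e 4) fun p =>
    cond (Nat.ble lo p) (cond (Nat.blt p c)
      (Nat.beq (actP D (nth [] subW (Nat.land e 15)) p) c) false) false

/-- checks for the orbit `[lo, lo+len)` with path `o.2.2` from the point `0` to `lo` -/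
def orbOK (D : PermData) (subW : List (List ℕ)) (o : ℕ × ℕ × List ℕ) : Bool :=
  cond (Nat.beq (actP D o.2.2 0) o.1)
    (cond (allList (fun y => allRange (fun c => inR o.1 o.2.1 (actP D y c)) o.1 o.2.1) subW)
      (allRange (treeOK D subW o.1) (Nat.succ o.1) (Nat.pred o.2.1)) false) false

/-- the orbit ranges tile `[s, e)` -/
def tileB : List (ℕ × ℕ × List ℕ) → ℕ → ℕ → Bool
  | [], s, e => Nat.beq s e
  | o :: os, s, e => Nat.beq o.1 s && tileB os (s + o.2.1) e

theorem tileB_spec : ∀ (orbs : List (ℕ × ℕ × List ℕ)) (s e : ℕ), tileB orbs s e = true →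
    (∀ o ∈ orbs, o.1 + o.2.1 ≤ e) ∧
    (∀ c, s ≤ c → c < e → ∃ o ∈ orbs, o.1 ≤ c ∧ c < o.1 + o.2.1) := by
  intro orbs
  induction orbs with
  | nil =>
    intro s e h
    have h' : s = e := nbeq_iff.1 h
    exact ⟨by simp, fun c h1 h2 => by omega⟩
  | cons o os ih =>
    intro s e h
    have h' : (Nat.beq o.1 s && tileB os (s + o.2.1) e) = true := h
    rw [Bool.and_eq_true, nbeq_iff] at h'
    obtain ⟨h1, h2⟩ := h'
    obtain ⟨ih1, ih2⟩ := ih _ _ h2
    have hle : s + o.2.1 ≤ e := by
      by_contra hcon
      -- the remaining list tiles [s + len, e), all of whose ranges end ≤ e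
      rcases os with _ | ⟨o', os'⟩
      · have : s + o.2.1 = e := nbeq_iff.1 h2
        omega
      · have h3 : (Nat.beq o'.1 (s + o.2.1) && tileB os' (s + o.2.1 + o'.2.1) e) = true := h2
        rw [Bool.and_eq_true, nbeq_iff] at h3
        have := ih1 o' (List.mem_cons_self)
        omega
    constructor
    · intro o' ho'
      rcases List.mem_cons.1 ho' with rfl | ho'
      · omega
      · exact ih1 o' ho'
    · intro c hc1 hc2
      by_cases hc : c < s + o.2.1
      · exact ⟨o, List.mem_cons_self, by omega, by omega⟩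
      · obtain ⟨o', ho', h3⟩ := ih2 c (by omega) hc2
        exact ⟨o', List.mem_cons_of_mem _ ho', h3⟩

/-- the involution of `ℕ` given by table `l` (identity outside `[0, n)` or for `l ≥ K`) -/
def sig (D : PermData) (l c : ℕ) : ℕ := if l < D.K ∧ c < D.n then D.P l c else c

section
variable {D : PermData} (hinv : ∀ l, l < D.K → allRange (invOK D l) 0 D.n = true)
include hinv

theorem P_spec {l c : ℕ} (hl : l < D.K) (hc : c < D.n) : D.P l c < D.n ∧ D.P l (D.P l c) = c := by
  have h := allRange_spec (hinv l hl) c (Nat.zero_le _) (by omega)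
  unfold invOK at h
  rw [cond_false_iff, nblt_iff, nbeq_iff] at h
  exact h

theorem sig_lt (l : ℕ) {c : ℕ} (hc : c < D.n) : sig D l c < D.n := by
  unfold sig
  split_ifs with h
  · exact (P_spec hinv h.1 h.2).1
  · exact hc

theorem sig_invol (l c : ℕ) : sig D l (sig D l c) = c := by
  by_cases h : l < D.K ∧ c < D.n
  · have h1 := P_spec hinv h.1 h.2
    have e : sig D l c = D.P l c := by unfold sig; rw [if_pos h]
    rw [e]
    unfold sig
    rw [if_pos ⟨h.1, h1.1⟩]
    exact h1.2
  · have e : sig D l c = c := by unfold sig; rw [if_neg h]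
    rw [e, e]

theorem actP_eq (w : List ℕ) (hw : ∀ l ∈ w, l < D.K) (c : ℕ) (hc : c < D.n) :
    actP D w c = act (sig D) w c ∧ act (sig D) w c < D.n := by
  induction w generalizing c with
  | nil => exact ⟨rfl, hc⟩
  | cons l w ih =>
    have hl : l < D.K := hw l List.mem_cons_self
    have e : sig D l c = D.P l c := by unfold sig; rw [if_pos ⟨hl, hc⟩]
    rw [actP_cons, act_cons, e]
    exact ih (fun l' hl' => hw l' (List.mem_cons_of_mem _ hl')) _ (P_spec hinv hl hc).1

end

theorem sig_ge (D : PermData) (l : ℕ) {c : ℕ} (hc : D.n ≤ c) : sig D l c = c := by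
  unfold sig
  rw [if_neg (by omega)]

theorem act_sig_ge (D : PermData) (w : List ℕ) {c : ℕ} (hc : D.n ≤ c) : act (sig D) w c = c := by
  induction w with
  | nil => rfl
  | cons l w ih => rw [act_cons, sig_ge D l hc, ih]

/-- the permutation of `ℕ` given by table `l` -/
def perm (D : PermData) (hinv : ∀ l, l < D.K → allRange (invOK D l) 0 D.n = true) (l : ℕ) :
    Equiv.Perm ℕ :=
  Function.Involutive.toPerm (sig D l) (sig_invol hinv l)

theorem perm_apply (D : PermData) (hinv : ∀ l, l < D.K → allRange (invOK D l) 0 D.n = true)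
    (l c : ℕ) : perm D hinv l c = sig D l c := rfl

end Cfsg.Agent.Lib.helper35
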