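import Cfsg.Agent.Lib.helper35.CosetOrd
import Cfsg.Agent.Lib.helper35.CosetGroup2

/-!
# Maximal subgroups, faithful actions and the Iwasawa criterion from permutation data (helper35)
-/

set_option autoImplicit false

namespace Cfsg.Agent.Lib.helper35

/-- all subset sums of a list -/
def sums : List ℕ → List ℕ
  | [] => [0]
  | a :: l => sums l ++ (sums l).map (· + a)

theorem card_filter_tile (p : ℕ → Prop) [DecidablePred p] :
    ∀ (orbs : List (ℕ × ℕ × List ℕ)) (s e : ℕ), tileB orbs s e = true →
    (∀ o ∈ orbs, (∀ c, o.1 ≤ c → c < o.1 + o.2.1 → p c) ∨ (∀ c, o.1 ≤ c → c < o.1 + o.2.1 → ¬ p c)) →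
    ((Finset.Ico s e).filter p).card ∈ sums (orbs.map (fun o => o.2.1)) := by
  intro orbs
  induction orbs with
  | nil =>
    intro s e h _
    have h' : s = e := nbeq_iff.1 h
    subst h'
    simp [sums]
  | cons o os ih =>
    intro s e h hp
    have hspec := tileB_spec (o :: os) s e h
    have h' : (Nat.beq o.1 s && tileB os (s + o.2.1) e) = true := h
    rw [Bool.and_eq_true, nbeq_iff] at h'
    obtain ⟨h1, h2⟩ := h'
    have hle : s + o.2.1 ≤ e := by
      have := hspec.1 o List.mem_cons_self
      omega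
    have ih' := ih (s + o.2.1) e h2 (fun o' ho' => hp o' (List.mem_cons_of_mem _ ho'))
    have hsplit : (Finset.Ico s e).filter p =
        (Finset.Ico s (s + o.2.1)).filter p ∪ (Finset.Ico (s + o.2.1) e).filter p := by
      rw [← Finset.filter_union, Finset.Ico_union_Ico_eq_Ico (by omega) hle]
    have hdisj : Disjoint ((Finset.Ico s (s + o.2.1)).filter p) ((Finset.Ico (s + o.2.1) e).filter p) := by
      apply Finset.disjoint_filter_filter
      exact Finset.Ico_disjoint_Ico_consecutive s (s + o.2.1) e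
    rw [hsplit, Finset.card_union_of_disjoint hdisj]
    show _ ∈ sums (o.2.1 :: os.map (fun o => o.2.1))
    unfold sums
    rw [List.mem_append]
    rcases hp o List.mem_cons_self with hall | hnone
    · right
      have : (Finset.Ico s (s + o.2.1)).filter p = Finset.Ico s (s + o.2.1) := by
        apply Finset.filter_true_of_mem
        intro c hc
        rw [Finset.mem_Ico] at hc
        exact hall c (by omega) (by omega)
      rw [this, Nat.card_Ico, List.mem_map]
      exact ⟨_, ih', by omega⟩
    · left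
      have : (Finset.Ico s (s + o.2.1)).filter p = ∅ := by
        apply Finset.filter_false_of_mem
        intro c hc
        rw [Finset.mem_Ico] at hc
        exact hnone c (by omega) (by omega)
      rw [this, Finset.card_empty, Nat.zero_add]
      exact ih'

/-- A subgroup of index `n` whose orbits on the cosets (realised on `[0, n)`) are the intervals of
`orbs` is maximal if no proper sub-sum of the orbit lengths divides `n`. -/
theorem maximal_of_orbits {G : Type*} [Group G] (H : Subgroup G) (ρ : G →* Equiv.Perm ℕ) (n : ℕ)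
    (orbs : List (ℕ × ℕ × List ℕ))
    (hstab : ∀ a, ρ a 0 = 0 ↔ a ∈ H)
    (hlt : ∀ a, ρ a 0 < n)
    (hidx : H.index = n) (hn : 0 < n)
    (htile : tileB orbs 0 n = true)
    (htree : ∀ o ∈ orbs, ∀ c, o.1 ≤ c → c < o.1 + o.2.1 → ∃ a ∈ H, ρ a o.1 = c)
    (hnum : ∀ s ∈ sums (orbs.map (fun o => o.2.1)), s ∣ n → s ≤ 1 ∨ s = n)
    (L : Subgroup G) (hHL : H ≤ L) : L = H ∨ L = ⊤ := by
  classical
  let p : ℕ → Prop := fun c => ∃ a ∈ L, ρ a 0 = c
  have hp : ∀ o ∈ orbs, (∀ c, o.1 ≤ c → c < o.1 + o.2.1 → p c) ∨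
      (∀ c, o.1 ≤ c → c < o.1 + o.2.1 → ¬ p c) := by
    intro o ho
    by_cases hex : ∃ c, o.1 ≤ c ∧ c < o.1 + o.2.1 ∧ p c
    · left
      obtain ⟨c, hc1, hc2, a, ha, hac⟩ := hex
      intro c' hc1' hc2'
      obtain ⟨h1, hh1, e1⟩ := htree o ho c hc1 hc2
      obtain ⟨h2, hh2, e2⟩ := htree o ho c' hc1' hc2'
      refine ⟨h2 * h1⁻¹ * a, L.mul_mem (L.mul_mem (hHL hh2) (L.inv_mem (hHL hh1))) ha, ?_⟩
      rw [map_mul, map_mul, map_inv, Equiv.Perm.mul_apply, Equiv.Perm.mul_apply, hac, ← e1]
      have e3 : (ρ h1)⁻¹ (ρ h1 o.1) = o.1 := by simp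
      rw [e3, e2]
    · right
      intro c hc1 hc2 hpc
      exact hex ⟨c, hc1, hc2, hpc⟩
  have hcard := card_filter_tile p orbs 0 n htile hp
  have hrel : ((Finset.Ico 0 n).filter p).card = H.relIndex L := by
    let f : (↥L ⧸ H.subgroupOf L) → ℕ := fun q =>
      Quotient.liftOn' q (fun a => ρ (a : G) 0) (by
        intro a b hab
        have hab' : a⁻¹ * b ∈ H.subgroupOf L := QuotientGroup.leftRel_apply.1 hab
        rw [Subgroup.mem_subgroupOf] at hab'
        have h0 := (hstab _).2 hab'
        simp only [Subgroup.coe_mul, Subgroup.coe_inv, map_mul, map_inv, Equiv.Perm.mul_apply] at h0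
        rw [Equiv.Perm.inv_eq_iff_eq] at h0
        exact h0.symm)
    have hf : Function.Injective f := by
      intro q1 q2 hq
      induction q1 using QuotientGroup.induction_on with
      | H a =>
        induction q2 using QuotientGroup.induction_on with
        | H b =>
          have hq' : ρ (a : G) 0 = ρ (b : G) 0 := hq
          apply QuotientGroup.eq.2
          rw [Subgroup.mem_subgroupOf]
          apply (hstab _).1
          simp only [Subgroup.coe_mul, Subgroup.coe_inv, map_mul, map_inv, Equiv.Perm.mul_apply]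
          rw [Equiv.Perm.inv_eq_iff_eq]
          exact hq'.symm
    have himg : f '' Set.univ = ((Finset.Ico 0 n).filter p : Finset ℕ) := by
      ext c
      simp only [Set.image_univ, Set.mem_range, Finset.coe_filter, Finset.mem_Ico, Set.mem_ofPred_eq]
      constructor
      · rintro ⟨q, rfl⟩
        induction q using QuotientGroup.induction_on with
        | H a => exact ⟨⟨Nat.zero_le _, hlt _⟩, a.1, a.2, rfl⟩
      · rintro ⟨-, a, ha, rfl⟩
        exact ⟨QuotientGroup.mk ⟨a, ha⟩, rfl⟩
    have e1 : H.relIndex L = Nat.card (↥L ⧸ H.subgroupOf L) := rfl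
    rw [e1, ← Set.ncard_univ, ← Set.ncard_image_of_injective _ hf, himg, Set.ncard_coe_finset]
  have hmul : H.relIndex L * L.index = n := by rw [Subgroup.relIndex_mul_index hHL, hidx]
  rw [hrel] at hcard
  have hdvd : H.relIndex L ∣ n := ⟨L.index, hmul.symm⟩
  rcases hnum _ hcard hdvd with h1 | h1
  · left
    have h0 : H.relIndex L ≠ 0 := by
      intro h0
      rw [h0, zero_mul] at hmul
      omega
    have h2 : H.relIndex L = 1 := by omega
    exact le_antisymm (Subgroup.relIndex_eq_one.1 h2) hHL
  · right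
    rw [h1] at hmul
    have h2 : L.index = 1 := by
      have : n * L.index = n * 1 := by rw [hmul, mul_one]
      exact Nat.eq_of_mul_eq_mul_left hn this
    exact Subgroup.index_eq_one.1 h2


/-- A normal subgroup whose order is not divisible by the index of a maximal subgroup lies in it. -/
theorem normal_le_of_maximal {G : Type*} [Group G] [Finite G] (H : Subgroup G)
    (hmax : ∀ L : Subgroup G, H ≤ L → L = H ∨ L = ⊤)
    (N : Subgroup G) [hN : N.Normal] (hdvd : ¬ H.index ∣ Nat.card N) : N ≤ H := by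
  rcases hmax (N ⊔ H) le_sup_right with h | h
  · rw [← h]; exact le_sup_left
  · exfalso
    apply hdvd
    have hsurj : ∀ q : G ⧸ H, ∃ n : N, n • (QuotientGroup.mk 1 : G ⧸ H) = q := by
      intro q
      induction q using QuotientGroup.induction_on with
      | H g =>
        have hg : g ∈ N ⊔ H := by rw [h]; trivial
        rw [← SetLike.mem_coe, Subgroup.normal_mul] at hg
        obtain ⟨n, hn, h', hh', rfl⟩ := Set.mem_mul.1 hg
        refine ⟨⟨n, hn⟩, ?_⟩
        show (QuotientGroup.mk (n * 1) : G ⧸ H) = QuotientGroup.mk (n * h')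
        rw [QuotientGroup.eq]
        simpa using hh'
    have horb : MulAction.orbit N (QuotientGroup.mk 1 : G ⧸ H) = Set.univ := by
      apply Set.eq_univ_of_forall
      intro q
      obtain ⟨n, hn⟩ := hsurj q
      exact ⟨n, hn⟩
    have hos := MulAction.index_stabilizer N (QuotientGroup.mk 1 : G ⧸ H)
    rw [horb, Set.ncard_univ] at hos
    have e : Nat.card (G ⧸ H) = H.index := rfl
    rw [e] at hos
    rw [← hos]
    exact Subgroup.index_dvd_card _

theorem mul_eq_both {x y a b : ℕ} (hx : a ≤ x) (hy : b ≤ y) (h : x * y ≤ a * b) (ha : 0 < a)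
    (hb : 0 < b) : x = a ∧ y = b := by
  constructor
  · by_contra hne
    have h1 : a + 1 ≤ x := by omega
    have h2 : (a + 1) * b ≤ x * y := Nat.mul_le_mul h1 hy
    have h3 : (a + 1) * b = a * b + b := by ring
    omega
  · by_contra hne
    have h1 : b + 1 ≤ y := by omega
    have h2 : a * (b + 1) ≤ x * y := Nat.mul_le_mul hx h1
    have h3 : a * (b + 1) = a * b + a := by ring
    omega

section Words2

variable {Γ : Type*} [Group Γ]

theorem wprod_map {Δ : Type*} [Group Δ] (f : Γ →* Δ) (φ : ℕ → Γ) (w : List ℕ) :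
    wprod (fun l => f (φ l)) w = f (wprod φ w) := by
  induction w with
  | nil => simp [wprod]
  | cons l w ih => rw [wprod_cons, wprod_cons, map_mul, ih]

/-- the action of a word in the permutation representation -/
theorem rho_wprod (ρ : Γ →* Equiv.Perm ℕ) (φ : ℕ → Γ) (D : PermData)
    (hρ : ∀ l, l < D.K → ∀ c, ρ (φ l) c = sig D l c)
    (w : List ℕ) (hw : ∀ l ∈ w, l < D.K) (c : ℕ) :
    ρ (wprod φ w.reverse) c = act (sig D) w c := by
  induction w generalizing c with
  | nil => simp [wprod, act_nil]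
  | cons l w ih =>
    rw [List.reverse_cons, wprod_append, map_mul, Equiv.Perm.mul_apply, wprod_cons, wprod_nil,
      mul_one, hρ l (hw l List.mem_cons_self), act_cons]
    exact ih (fun l' hl' => hw l' (List.mem_cons_of_mem _ hl')) _

/-- Two words with the same action represent the same element when the representation is faithful. -/
theorem wprod_eq_of_actP (ρ : Γ →* Equiv.Perm ℕ) (hinj : Function.Injective ρ) (φ : ℕ → Γ)
    (hsq : ∀ l, φ l * φ l = 1) (D : PermData)
    (hinv : ∀ l, l < D.K → allRange (invOK D l) 0 D.n = true)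
    (hρ : ∀ l, l < D.K → ∀ c, ρ (φ l) c = sig D l c)
    (u v : List ℕ) (hu : ∀ l ∈ u, l < D.K) (hv : ∀ l ∈ v, l < D.K)
    (h : allRange (fun c => Nat.beq (actP D u c) (actP D v c)) 0 D.n = true) :
    wprod φ u = wprod φ v := by
  have h1 : wprod φ u.reverse = wprod φ v.reverse := by
    apply hinj
    ext c
    rw [rho_wprod ρ φ D hρ u hu, rho_wprod ρ φ D hρ v hv]
    by_cases hc : c < D.n
    · rw [← (actP_eq hinv u hu c hc).1, ← (actP_eq hinv v hv c hc).1]
      exact nbeq_iff.1 (allRange_spec h c (Nat.zero_le _) (by omega))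
    · rw [act_sig_ge D u (by omega), act_sig_ge D v (by omega)]
  rw [wprod_reverse _ hsq, wprod_reverse _ hsq] at h1
  exact inv_injective h1

/-- a cyclic subgroup whose generator is fixed or inverted by the letters of `T` is normalised
by `LS φ T` -/
theorem zpowers_normalized (φ : ℕ → Γ) (hsq : ∀ l, φ l * φ l = 1) (T : List ℕ) (z : Γ)
    (hx : ∀ x ∈ T, φ x * z * φ x = z ∨ φ x * z * φ x = z⁻¹) :
    ∀ h ∈ LS φ T, ∀ a ∈ Subgroup.zpowers z, h * a * h⁻¹ ∈ Subgroup.zpowers z := by
  have hle : LS φ T ≤ Subgroup.normalizer (Subgroup.zpowers z : Set Γ) := by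
    unfold LS
    rw [Subgroup.closure_le]
    rintro _ ⟨x, hxT, rfl⟩
    have hinv : (φ x)⁻¹ = φ x := inv_eq_of_mul_eq_one_left (hsq x)
    have key : ∀ a ∈ Subgroup.zpowers z, φ x * a * φ x ∈ Subgroup.zpowers z := by
      intro a ha
      obtain ⟨k, rfl⟩ := Subgroup.mem_zpowers_iff.1 ha
      have e : φ x * z ^ k * φ x = (φ x * z * φ x) ^ k := by
        have := (MulAut.conj (φ x)).toMonoidHom.map_zpow z k
        simp only [MulEquiv.coe_toMonoidHom, MulAut.conj_apply, hinv] at this
        exact this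
      rw [e]
      rcases hx x hxT with h1 | h1
      · rw [h1]; exact Subgroup.zpow_mem_zpowers z k
      · rw [h1, inv_zpow]; exact Subgroup.inv_mem _ (Subgroup.zpow_mem_zpowers z k)
    rw [SetLike.mem_coe, Subgroup.mem_normalizer_iff]
    intro a
    rw [hinv]
    constructor
    · intro ha; exact key a ha
    · intro ha
      have := key _ ha
      have e : φ x * (φ x * a * φ x) * φ x = a := by
        calc φ x * (φ x * a * φ x) * φ x = (φ x * φ x) * a * (φ x * φ x) := by group
          _ = a := by rw [hsq, one_mul, mul_one]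
      rwa [e] at this
  intro h hh a ha
  exact (Subgroup.mem_normalizer_iff.1 (hle hh) a).1 ha

end Words2

section Iwasawa

open scoped Pointwise

variable {G : Type*} [Group G]

theorem map_conj_eq_of_normalized (H A : Subgroup G)
    (hAH : ∀ h ∈ H, ∀ a ∈ A, h * a * h⁻¹ ∈ A) (g g' : G) (hgg : g⁻¹ * g' ∈ H) :
    A.map (MulAut.conj g).toMonoidHom = A.map (MulAut.conj g').toMonoidHom := by
  ext x
  simp only [Subgroup.mem_map, MulEquiv.coe_toMonoidHom, MulAut.conj_apply]
  constructor
  · rintro ⟨a, ha, rfl⟩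
    refine ⟨(g⁻¹ * g')⁻¹ * a * (g⁻¹ * g')⁻¹⁻¹, hAH _ (H.inv_mem hgg) a ha, ?_⟩
    group
  · rintro ⟨a, ha, rfl⟩
    refine ⟨(g⁻¹ * g') * a * (g⁻¹ * g')⁻¹, hAH _ hgg a ha, ?_⟩
    group

/-- Iwasawa structure on the cosets of `H` from a commutative subgroup normalised by `H`
whose normal closure is everything -/
def iwasawaOfNormalized (H A : Subgroup G) [hA : IsMulCommutative A]
    (hAH : ∀ h ∈ H, ∀ a ∈ A, h * a * h⁻¹ ∈ A)
    (hgen : Subgroup.normalClosure (A : Set G) = ⊤) : MulAction.IwasawaStructure G (G ⧸ H) where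
  T q := Quotient.liftOn' q (fun g => A.map (MulAut.conj g).toMonoidHom) (by
    intro g g' hgg
    exact map_conj_eq_of_normalized H A hAH g g' (QuotientGroup.leftRel_apply.1 hgg))
  is_comm := by
    intro x
    induction x using QuotientGroup.induction_on with
    | H g =>
      show IsMulCommutative (A.map (MulAut.conj g).toMonoidHom)
      infer_instance
  is_conj := by
    intro g x
    induction x using QuotientGroup.induction_on with
    | H g' =>
      show A.map (MulAut.conj (g * g')).toMonoidHom =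
        MulAut.conj g • A.map (MulAut.conj g').toMonoidHom
      ext y
      rw [Subgroup.mem_pointwise_smul_iff_inv_smul_mem]
      simp only [Subgroup.mem_map, MulEquiv.coe_toMonoidHom, MulAut.conj_apply, MulAut.smul_def,
        MulAut.conj_inv_apply]
      constructor
      · rintro ⟨a, ha, rfl⟩
        exact ⟨a, ha, by group⟩
      · rintro ⟨a, ha, h⟩
        refine ⟨a, ha, ?_⟩
        have : y = g * (g' * a * g'⁻¹) * g⁻¹ := by rw [h]; group
        rw [this]; group
  is_generator := by
    rw [eq_top_iff, ← hgen]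
    unfold Subgroup.normalClosure
    rw [Subgroup.closure_le]
    intro x hx
    obtain ⟨a, ha, hax⟩ := Group.mem_conjugatesOfSet_iff.1 hx
    obtain ⟨c, rfl⟩ := isConj_iff.1 hax
    have hle := le_iSup (fun q : G ⧸ H => Quotient.liftOn' q
      (fun g => A.map (MulAut.conj g).toMonoidHom) (by
        intro g g' hgg
        exact map_conj_eq_of_normalized H A hAH g g' (QuotientGroup.leftRel_apply.1 hgg)))
      (QuotientGroup.mk c)
    apply hle
    show c * a * c⁻¹ ∈ A.map (MulAut.conj c).toMonoidHom
    exact ⟨a, ha, rfl⟩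

/-- The Iwasawa criterion for the action on the cosets of a maximal subgroup with trivial core. -/
theorem simple_of_iwasawa [Nontrivial G] (H A : Subgroup G) [IsMulCommutative A]
    (hmax : ∀ L : Subgroup G, H ≤ L → L = H ∨ L = ⊤) (hne : H ≠ ⊤)
    (hcore : ∀ g : G, (∀ b : G, b * g * b⁻¹ ∈ H) → g = 1)
    (hAH : ∀ h ∈ H, ∀ a ∈ A, h * a * h⁻¹ ∈ A)
    (hgen : Subgroup.normalClosure (A : Set G) = ⊤)
    (hperf : commutator G = ⊤) : IsSimpleGroup G := by
  have hnt : Nontrivial (G ⧸ H) := by
    obtain ⟨g, hg⟩ : ∃ g : G, g ∉ H := by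
      by_contra hcon
      exact hne (eq_top_iff.2 (fun g _ => by
        by_contra hg
        exact hcon ⟨g, hg⟩))
    refine ⟨QuotientGroup.mk g, QuotientGroup.mk 1, ?_⟩
    intro h
    have h1 : g⁻¹ * 1 ∈ H := QuotientGroup.eq.1 h
    rw [mul_one] at h1
    exact hg (by simpa using H.inv_mem h1)
  have hco : IsCoatom (MulAction.stabilizer G ((1 : G) : G ⧸ H)) := by
    rw [MulAction.stabilizer_quotient]
    refine ⟨hne, fun L hL => ?_⟩
    rcases hmax L hL.le with h | h
    · exact absurd h hL.ne'
    · exact h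
  have hprim : MulAction.IsPreprimitive G (G ⧸ H) :=
    (MulAction.isCoatom_stabilizer_iff_preprimitive G ((1 : G) : G ⧸ H)).1 hco
  have hfaith : FaithfulSMul G (G ⧸ H) := by
    refine ⟨fun {g g'} h => ?_⟩
    have hk : g'⁻¹ * g = 1 := by
      apply hcore
      intro b
      have h1 := h (QuotientGroup.mk b⁻¹)
      have h2 : (QuotientGroup.mk (g * b⁻¹) : G ⧸ H) = QuotientGroup.mk (g' * b⁻¹) := h1
      have h3 : (g' * b⁻¹)⁻¹ * (g * b⁻¹) ∈ H := QuotientGroup.eq.1 h2.symm
      have e : (g' * b⁻¹)⁻¹ * (g * b⁻¹) = b * (g'⁻¹ * g) * b⁻¹ := by group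
      rwa [e] at h3
    calc g = g' * (g'⁻¹ * g) := by group
      _ = g' := by rw [hk, mul_one]
  exact MulAction.IwasawaStructure.isSimpleGroup hperf (iwasawaOfNormalized H A hAH hgen) hfaith

end Iwasawa

end Cfsg.Agent.Lib.helper35
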