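import Cfsg.Agent.Lib.helper35.CosetBase

/-!
# Stabiliser chains with words, and maximality by generation (helper35)

* `pstab`, `wtOK`, `level_of_wtOK`, `base_of_card`: a lower bound for the order of a subgroup from
  orbits along a chain of pointwise stabilisers (the elements moving the points are words that fix
  the earlier base points); when the bound is attained, the points form a base.
* `GoodPt`, `maximal_of_good`: a point stabiliser `H` is maximal if, for every orbit of `H`, the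
  subgroup generated by `H` and an element moving `0` into that orbit is everything.
-/

set_option autoImplicit false

namespace Cfsg.Agent.Lib.helper35

section SS

variable {Γ : Type*} [Group Γ]

/-- pointwise stabiliser of a list of points -/
def pstab (ρ : Γ →* Equiv.Perm ℕ) (βs : List ℕ) : Subgroup Γ where
  carrier := {g | ∀ b ∈ βs, ρ g b = b}
  mul_mem' := by
    intro a b ha hb c hc
    rw [map_mul, Equiv.Perm.mul_apply, hb c hc, ha c hc]
  one_mem' := by
    intro c _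
    rw [map_one]
    rfl
  inv_mem' := by
    intro a ha c hc
    rw [map_inv, Equiv.Perm.inv_eq_iff_eq]
    exact (ha c hc).symm

theorem mem_pstab {ρ : Γ →* Equiv.Perm ℕ} {βs : List ℕ} {g : Γ} :
    g ∈ pstab ρ βs ↔ ∀ b ∈ βs, ρ g b = b := Iff.rfl

theorem pstab_nil (ρ : Γ →* Equiv.Perm ℕ) : pstab ρ [] = ⊤ := by
  rw [eq_top_iff]
  intro g _
  exact fun b hb => absurd hb (by simp)

theorem pstab_cons_le (ρ : Γ →* Equiv.Perm ℕ) (β : ℕ) (βs : List ℕ) :
    pstab ρ (β :: βs) ≤ pstab ρ βs :=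
  fun _ hg b hb => hg b (List.mem_cons_of_mem _ hb)

theorem wprod_mem_LS (φ : ℕ → Γ) (S : List ℕ) (w : List ℕ) (h : ∀ l ∈ w, l ∈ S) :
    wprod φ w ∈ LS φ S := by
  induction w with
  | nil => rw [wprod_nil]; exact Subgroup.one_mem _
  | cons l w ih =>
    rw [wprod_cons]
    exact Subgroup.mul_mem _ (LS_mem φ (h l List.mem_cons_self))
      (ih (fun l' hl' => h l' (List.mem_cons_of_mem _ hl')))

theorem wprod_mem_of_letters (φ : ℕ → Γ) (L : Subgroup Γ) (S : List ℕ) (hL : ∀ l ∈ S, φ l ∈ L)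
    (w : List ℕ) (h : ∀ l ∈ w, l ∈ S) : wprod φ w ∈ L := by
  induction w with
  | nil => rw [wprod_nil]; exact Subgroup.one_mem _
  | cons l w ih =>
    rw [wprod_cons]
    exact Subgroup.mul_mem _ (hL l (h l List.mem_cons_self))
      (ih (fun l' hl' => h l' (List.mem_cons_of_mem _ hl')))

/-- if the table moves `c` to `q` along `w` then the element of `w` moves `q` to `c` -/
theorem rho_wprod_move (ρ : Γ →* Equiv.Perm ℕ) (φ : ℕ → Γ) (hsq : ∀ l, φ l * φ l = 1)
    (D : PermData) (hinv : ∀ l, l < D.K → allRange (invOK D l) 0 D.n = true)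
    (hρ : ∀ l, l < D.K → ∀ c, ρ (φ l) c = sig D l c)
    (w : List ℕ) (hw : ∀ l ∈ w, l < D.K) (c q : ℕ) (hc : c < D.n) (h : actP D w c = q) :
    ρ (wprod φ w) q = c := by
  have h1 := rho_wprod ρ φ D hρ w hw c
  rw [← (actP_eq hinv w hw c hc).1, h, wprod_reverse _ hsq, map_inv,
    Equiv.Perm.inv_eq_iff_eq] at h1
  exact h1.symm

/-- word-orbit tree check at the point `c`: the entry is `0` (not in the orbit) or
`256 * (depth + 1) + j` where the word number `j` of `W` moves `c` to a point of smaller depth -/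
def wtOK (D : PermData) (tt : ℕ → ℕ) (W : List (List ℕ)) (β c : ℕ) : Bool :=
  force (tt c) fun e =>
    nc true (fun _ =>
      cond (Nat.beq c β) true
        (force (actP D (nth [] W (Nat.land e 255)) c) fun q => force (tt q) fun e' =>
          nc false (fun _ => Nat.blt (Nat.shiftRight e' 8) (Nat.shiftRight e 8)) e')) e

theorem reach_of_wtOK (ρ : Γ →* Equiv.Perm ℕ) (φ : ℕ → Γ) (hsq : ∀ l, φ l * φ l = 1)
    (D : PermData) (hinv : ∀ l, l < D.K → allRange (invOK D l) 0 D.n = true)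
    (hρ : ∀ l, l < D.K → ∀ c, ρ (φ l) c = sig D l c)
    (L : Subgroup Γ) (βs : List ℕ) (hβs : ∀ b ∈ βs, b < D.n)
    (W : List (List ℕ)) (hWK : ∀ w ∈ W, ∀ l ∈ w, l < D.K) (hWL : ∀ w ∈ W, wprod φ w ∈ L)
    (hWfix : ∀ w ∈ W, ∀ b ∈ βs, actP D w b = b) (tt : ℕ → ℕ) (β : ℕ)
    (hok : allRange (wtOK D tt W β) 0 D.n = true) :
    ∀ c, c < D.n → tt c ≠ 0 → ∃ a ∈ L ⊓ pstab ρ βs, ρ a β = c := by
  have key : ∀ d c, Nat.shiftRight (tt c) 8 = d → c < D.n → tt c ≠ 0 →
      ∃ a ∈ L ⊓ pstab ρ βs, ρ a β = c := by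
    intro d
    induction d using Nat.strong_induction_on with
    | _ d ih =>
      intro c hd hc hne
      have h := allRange_spec hok c (Nat.zero_le _) (by omega)
      unfold wtOK at h
      simp only [force_eq] at h
      obtain ⟨t, ht⟩ := Nat.exists_eq_succ_of_ne_zero hne
      rw [ht, nc_succ] at h
      cases hb : Nat.beq c β with
      | true =>
        have := nbeq_iff.1 hb
        exact ⟨1, Subgroup.one_mem _, by rw [map_one, this]; rfl⟩
      | false =>
        rw [hb, cond_false] at h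
        -- the word
        have hwK : ∀ l ∈ nth [] W (Nat.land (t + 1) 255), l < D.K := by
          rcases nth_mem [] W (Nat.land (t + 1) 255) with h0 | h0
          · rw [h0]; intro l hl; exact absurd hl (by simp)
          · exact hWK _ h0
        have hwL : wprod φ (nth [] W (Nat.land (t + 1) 255)) ∈ L := by
          rcases nth_mem [] W (Nat.land (t + 1) 255) with h0 | h0
          · rw [h0, wprod_nil]; exact Subgroup.one_mem _
          · exact hWL _ h0
        have hwfix : ∀ b ∈ βs, actP D (nth [] W (Nat.land (t + 1) 255)) b = b := by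
          rcases nth_mem [] W (Nat.land (t + 1) 255) with h0 | h0
          · rw [h0]; intro b _; rfl
          · exact hWfix _ h0
        have hq := actP_eq hinv _ hwK c hc
        have hqn : actP D (nth [] W (Nat.land (t + 1) 255)) c < D.n := by rw [hq.1]; exact hq.2
        obtain ⟨t', ht'⟩ : ∃ t', tt (actP D (nth [] W (Nat.land (t + 1) 255)) c) = t' + 1 := by
          cases hq' : tt (actP D (nth [] W (Nat.land (t + 1) 255)) c) with
          | zero => rw [hq', nc_zero] at h; exact absurd h (by simp)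
          | succ t' => exact ⟨t', rfl⟩
        rw [ht', nc_succ, nblt_iff] at h
        obtain ⟨a, ha, hac⟩ := ih _ (by rw [← hd, ht]; exact h)
          (actP D (nth [] W (Nat.land (t + 1) 255)) c) (by rw [ht']) hqn (by rw [ht']; omega)
        refine ⟨wprod φ (nth [] W (Nat.land (t + 1) 255)) * a, Subgroup.mul_mem _ ?_ ha, ?_⟩
        · refine ⟨hwL, ?_⟩
          intro b hb
          exact rho_wprod_move ρ φ hsq D hinv hρ _ hwK b b (hβs b hb) (hwfix b hb)
        · rw [map_mul, Equiv.Perm.mul_apply, hac]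
          exact rho_wprod_move ρ φ hsq D hinv hρ _ hwK c _ hc rfl
  intro c hc hne
  exact key _ c rfl hc hne

/-- One level of a stabiliser chain: the orbit of `β` under words fixing the earlier base points
`βs` bounds the index of the next stabiliser. -/
theorem level_of_wtOK (ρ : Γ →* Equiv.Perm ℕ) (φ : ℕ → Γ) (hsq : ∀ l, φ l * φ l = 1)
    (D : PermData) (hinv : ∀ l, l < D.K → allRange (invOK D l) 0 D.n = true)
    (hρ : ∀ l, l < D.K → ∀ c, ρ (φ l) c = sig D l c)
    (L : Subgroup Γ) (βs : List ℕ) (hβs : ∀ b ∈ βs, b < D.n)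
    (W : List (List ℕ)) (hWK : ∀ w ∈ W, ∀ l ∈ w, l < D.K) (hWL : ∀ w ∈ W, wprod φ w ∈ L)
    (hWfix : ∀ w ∈ W, ∀ b ∈ βs, actP D w b = b) (tt : ℕ → ℕ) (β : ℕ)
    (hok : allRange (wtOK D tt W β) 0 D.n = true) (hfin : Nat.card L ≠ 0) :
    countNZ tt D.n 0 * Nat.card ↥(L ⊓ pstab ρ (β :: βs)) ≤ Nat.card ↥(L ⊓ pstab ρ βs) := by
  have hle : L ⊓ pstab ρ (β :: βs) ≤ L ⊓ pstab ρ βs :=
    inf_le_inf_left L (pstab_cons_le ρ β βs)
  have hfinL : Finite L := Nat.finite_of_card_ne_zero hfin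
  have hfin2 : Finite ↥(L ⊓ pstab ρ βs) :=
    Finite.of_injective (Subgroup.inclusion (inf_le_left : L ⊓ pstab ρ βs ≤ L))
      (Subgroup.inclusion_injective _)
  have hrel : (L ⊓ pstab ρ (β :: βs)).relIndex (L ⊓ pstab ρ βs) ≠ 0 :=
    Subgroup.index_ne_zero_of_finite
  have hO : ∀ c ∈ (Finset.range D.n).filter (fun c => tt c ≠ 0),
      ∃ a ∈ L ⊓ pstab ρ βs, ρ a β = c := by
    intro c hc
    rw [Finset.mem_filter, Finset.mem_range] at hc
    exact reach_of_wtOK ρ φ hsq D hinv hρ L βs hβs W hWK hWL hWfix tt β hok c hc.1 hc.2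
  have h1 := le_relIndex_of_orbit ρ (L ⊓ pstab ρ βs) (L ⊓ pstab ρ (β :: βs)) hrel β
    (fun a ha => ha.2 β List.mem_cons_self) _ hO
  have h2 := Subgroup.relIndex_mul_relIndex ⊥ (L ⊓ pstab ρ (β :: βs)) (L ⊓ pstab ρ βs) bot_le hle
  rw [Subgroup.relIndex_bot_left, Subgroup.relIndex_bot_left] at h2
  rw [countNZ_eq, Nat.zero_add, ← h2, mul_comm]
  exact Nat.mul_le_mul_left _ h1

theorem mul_chain {N c c' m x : ℕ} (h : N * c ≤ x) (h' : m * c' ≤ c) : N * m * c' ≤ x :=
  calc N * m * c' = N * (m * c') := mul_assoc _ _ _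
    _ ≤ N * c := Nat.mul_le_mul_left _ h'
    _ ≤ x := h

theorem chain_start (ρ : Γ →* Equiv.Perm ℕ) (L : Subgroup Γ) :
    1 * Nat.card ↥(L ⊓ pstab ρ []) ≤ Nat.card L := by
  rw [pstab_nil, inf_top_eq, one_mul]

/-- When the product of the orbit lengths along the chain reaches the order, the order is exact
and the base points form a base. -/
theorem base_of_card (ρ : Γ →* Equiv.Perm ℕ) (L : Subgroup Γ) (βs : List ℕ) (N : ℕ) (hN : 0 < N)
    (hfin : Nat.card L ≠ 0) (h1 : N * Nat.card ↥(L ⊓ pstab ρ βs) ≤ Nat.card L)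
    (h2 : Nat.card L ≤ N) :
    Nat.card L = N ∧ ∀ g ∈ L, (∀ b ∈ βs, ρ g b = b) → g = 1 := by
  have hfinL : Finite L := Nat.finite_of_card_ne_zero hfin
  have hfin2 : Finite ↥(L ⊓ pstab ρ βs) :=
    Finite.of_injective (Subgroup.inclusion (inf_le_left : L ⊓ pstab ρ βs ≤ L))
      (Subgroup.inclusion_injective _)
  have hpos : 0 < Nat.card ↥(L ⊓ pstab ρ βs) := Nat.card_pos
  have hc1 : Nat.card ↥(L ⊓ pstab ρ βs) = 1 := by
    by_contra hcon
    have : N * 2 ≤ N * Nat.card ↥(L ⊓ pstab ρ βs) := Nat.mul_le_mul_left _ (by omega)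
    omega
  refine ⟨by rw [hc1, mul_one] at h1; omega, ?_⟩
  intro g hg hfix
  have hbot : L ⊓ pstab ρ βs = ⊥ := Subgroup.card_eq_one.1 hc1
  have : g ∈ L ⊓ pstab ρ βs := ⟨hg, hfix⟩
  rw [hbot] at this
  exact Subgroup.mem_bot.1 this

/-- Two words in a subgroup with a base represent the same element when `v⁻¹ u` fixes the base. -/
theorem wprod_eq_of_base_mem (ρ : Γ →* Equiv.Perm ℕ) (φ : ℕ → Γ) (hsq : ∀ l, φ l * φ l = 1)
    (D : PermData) (hinv : ∀ l, l < D.K → allRange (invOK D l) 0 D.n = true)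
    (hρ : ∀ l, l < D.K → ∀ c, ρ (φ l) c = sig D l c)
    (L : Subgroup Γ) (βs : List ℕ) (hβs : ∀ b ∈ βs, b < D.n)
    (hbase : ∀ g ∈ L, (∀ b ∈ βs, ρ g b = b) → g = 1)
    (u v : List ℕ) (hu : ∀ l ∈ u, l < D.K) (hv : ∀ l ∈ v, l < D.K)
    (huL : wprod φ u ∈ L) (hvL : wprod φ v ∈ L)
    (h : ∀ b ∈ βs, actP D (v ++ u.reverse) b = b) : wprod φ u = wprod φ v := by
  have hw : ∀ l ∈ v ++ u.reverse, l < D.K := by
    intro l hl
    rcases List.mem_append.1 hl with h1 | h1
    · exact hv l h1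
    · exact hu l (List.mem_reverse.1 h1)
  have e : wprod φ (v ++ u.reverse).reverse = wprod φ u * (wprod φ v)⁻¹ := by
    rw [List.reverse_append, List.reverse_reverse, wprod_append, wprod_reverse _ hsq]
  have h1 : wprod φ (v ++ u.reverse).reverse = 1 := by
    apply hbase
    · rw [e]
      exact Subgroup.mul_mem _ huL (Subgroup.inv_mem _ hvL)
    · intro b hb
      rw [rho_wprod ρ φ D hρ _ hw, ← (actP_eq hinv _ hw b (hβs b hb)).1]
      exact h b hb
  rw [e] at h1
  exact mul_inv_eq_one.1 h1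

end SS

section Max

variable {G : Type*} [Group G]

/-- `c` is good if every subgroup containing `H` and an element moving `0` to `c` is everything -/
def GoodPt (H : Subgroup G) (ρ : G →* Equiv.Perm ℕ) (c : ℕ) : Prop :=
  ∀ L : Subgroup G, H ≤ L → (∃ a ∈ L, ρ a 0 = c) → L = ⊤

theorem mem_of_same_image (H : Subgroup G) (ρ : G →* Equiv.Perm ℕ)
    (hstab : ∀ a, ρ a 0 = 0 ↔ a ∈ H) (L : Subgroup G) (hHL : H ≤ L) (a b : G) (ha : a ∈ L)
    (hab : ρ a 0 = ρ b 0) : b ∈ L := by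
  have h1 : a⁻¹ * b ∈ H := by
    apply (hstab _).1
    rw [map_mul, map_inv, Equiv.Perm.mul_apply, ← hab, Equiv.Perm.inv_eq_iff_eq]
  have : b = a * (a⁻¹ * b) := by group
  rw [this]
  exact L.mul_mem ha (hHL h1)

theorem goodPt_of_mem (H : Subgroup G) (ρ : G →* Equiv.Perm ℕ)
    (hstab : ∀ a, ρ a 0 = 0 ↔ a ∈ H) (b : G)
    (hb : ∀ L : Subgroup G, H ≤ L → b ∈ L → L = ⊤) : GoodPt H ρ (ρ b 0) := by
  intro L hHL ⟨a, ha, hab⟩
  exact hb L hHL (mem_of_same_image H ρ hstab L hHL a b ha hab)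

theorem goodPt_of_orbit (H : Subgroup G) (ρ : G →* Equiv.Perm ℕ) (x c : ℕ)
    (h : ∃ h ∈ H, ρ h x = c) (hx : GoodPt H ρ x) : GoodPt H ρ c := by
  intro L hHL ⟨a, ha, hac⟩
  obtain ⟨h, hh, hhx⟩ := h
  refine hx L hHL ⟨h⁻¹ * a, L.mul_mem (L.inv_mem (hHL hh)) ha, ?_⟩
  rw [map_mul, map_inv, Equiv.Perm.mul_apply, hac, Equiv.Perm.inv_eq_iff_eq]
  exact hhx.symm

theorem goodPt_step (H : Subgroup G) (ρ : G →* Equiv.Perm ℕ)
    (hstab : ∀ a, ρ a 0 = 0 ↔ a ∈ H) (g : G) (y : ℕ) (hy : ∃ h ∈ H, ρ h (ρ g 0) = y)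
    (hgood : GoodPt H ρ (ρ g y)) : GoodPt H ρ (ρ g 0) := by
  intro L hHL ⟨a, ha, hag⟩
  have hg : g ∈ L := mem_of_same_image H ρ hstab L hHL a g ha hag
  obtain ⟨h, hh, hhy⟩ := hy
  refine hgood L hHL ⟨g * h * g, L.mul_mem (L.mul_mem hg (hHL hh)) hg, ?_⟩
  rw [map_mul, map_mul, Equiv.Perm.mul_apply, Equiv.Perm.mul_apply, hhy]

/-- A point stabiliser is maximal when the first point of each of its other orbits is good. -/
theorem maximal_of_good (H : Subgroup G) (ρ : G →* Equiv.Perm ℕ) (n : ℕ)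
    (orbs : List (ℕ × ℕ × List ℕ))
    (hstab : ∀ a, ρ a 0 = 0 ↔ a ∈ H)
    (hlt : ∀ a, ρ a 0 < n)
    (htile : tileB orbs 0 n = true)
    (htree : ∀ o ∈ orbs, ∀ c, o.1 ≤ c → c < o.1 + o.2.1 → ∃ a ∈ H, ρ a o.1 = c)
    (hgood : ∀ o ∈ orbs, o.1 ≠ 0 → GoodPt H ρ o.1)
    (L : Subgroup G) (hHL : H ≤ L) : L = H ∨ L = ⊤ := by
  by_cases hLH : L ≤ H
  · exact Or.inl (le_antisymm hLH hHL)
  · right
    obtain ⟨a, ha, haH⟩ := SetLike.not_le_iff_exists.1 hLH
    have hc0 : ρ a 0 ≠ 0 := fun h0 => haH ((hstab a).1 h0)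
    obtain ⟨o, ho, ho1, ho2⟩ := (tileB_spec orbs 0 n htile).2 (ρ a 0) (Nat.zero_le _) (hlt a)
    have hh := htree o ho (ρ a 0) ho1 ho2
    have ho0 : o.1 ≠ 0 := by
      intro h0
      obtain ⟨h, hh1, hh2⟩ := hh
      rw [h0, (hstab h).2 hh1] at hh2
      exact hc0 hh2.symm
    exact goodPt_of_orbit H ρ o.1 (ρ a 0) hh (hgood o ho ho0) L hHL ⟨a, ha, rfl⟩

/-- conjugation by `h` and by `h⁻¹` maps `A` into itself -/
def ConjBoth (A : Subgroup G) (h : G) : Prop :=
  (∀ a ∈ A, h * a * h⁻¹ ∈ A) ∧ (∀ a ∈ A, h⁻¹ * a * h ∈ A)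

/-- a subgroup is normalised by the closure of a set of elements which, together with their
inverses, conjugate it into itself -/
theorem conj_mem_of_closure (A : Subgroup G) (X : Set G) (hX : ∀ x ∈ X, ConjBoth A x) :
    ∀ h ∈ Subgroup.closure X, ∀ a ∈ A, h * a * h⁻¹ ∈ A := by
  have key : ∀ h ∈ Subgroup.closure X, ConjBoth A h := by
    intro h hh
    induction hh using Subgroup.closure_induction with
    | mem x hx => exact hX x hx
    | one => exact ⟨fun a ha => by simpa using ha, fun a ha => by simpa using ha⟩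
    | mul x y _ _ hx hy =>
      refine ⟨fun a ha => ?_, fun a ha => ?_⟩
      · have := hx.1 _ (hy.1 a ha)
        have e : x * y * a * (x * y)⁻¹ = x * (y * a * y⁻¹) * x⁻¹ := by group
        rw [e]; exact this
      · have := hy.2 _ (hx.2 a ha)
        have e : (x * y)⁻¹ * a * (x * y) = y⁻¹ * (x⁻¹ * a * x) * y := by group
        rw [e]; exact this
    | inv x _ hx =>
      refine ⟨fun a ha => ?_, fun a ha => ?_⟩
      · have := hx.2 a ha
        rw [inv_inv]; exact this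
      · have := hx.1 a ha
        rw [inv_inv]; exact this
  intro h hh a ha
  exact (key h hh).1 a ha

/-- conjugation by `x` maps the closure of `S` into itself if it does so on `S` -/
theorem conj_closure_mem (S : Set G) (x : G) (h : ∀ s ∈ S, x * s * x⁻¹ ∈ Subgroup.closure S) :
    ∀ a ∈ Subgroup.closure S, x * a * x⁻¹ ∈ Subgroup.closure S := by
  intro a ha
  induction ha using Subgroup.closure_induction with
  | mem s hs => exact h s hs
  | one => simp
  | mul a b _ _ ha hb =>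
    have e : x * (a * b) * x⁻¹ = (x * a * x⁻¹) * (x * b * x⁻¹) := by group
    rw [e]
    exact Subgroup.mul_mem _ ha hb
  | inv a _ ha =>
    have e : x * a⁻¹ * x⁻¹ = (x * a * x⁻¹)⁻¹ := by group
    rw [e]
    exact Subgroup.inv_mem _ ha

end Max

end Cfsg.Agent.Lib.helper35
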