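import Cfsg.Agent.Lib.helper35.Fi22aCertData

set_option autoImplicit false
set_option maxRecDepth 100000

namespace Cfsg.Agent.Lib.helper35.Fi22a

theorem rows6 : allRange (rowOK C) 1800 300 = true := by decide +kernel
theorem rows7 : allRange (rowOK C) 2100 300 = true := by decide +kernel
theorem rows8 : allRange (rowOK C) 2400 300 = true := by decide +kernel
theorem rows9 : allRange (rowOK C) 2700 300 = true := by decide +kernel
theorem rows10 : allRange (rowOK C) 3000 300 = true := by decide +kernel
theorem rows11 : allRange (rowOK C) 3300 224 = true := by decide +kernel

end Cfsg.Agent.Lib.helper35.Fi22a
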