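import Cfsg.Agent.Lib.helper35.Fi22aPermData

set_option autoImplicit false
set_option maxRecDepth 100000

namespace Cfsg.Agent.Lib.helper35.Fi22a

theorem inv_all : allRange (fun l => allRange (invOK D l) 0 3510) 0 9 = true := by decide +kernel
theorem sub_all : allList (fun y => Nat.beq (actP D y 0) 0) subW = true := by decide +kernel
theorem orb_all : allList (orbOK D subW) orbs = true := by decide +kernel
theorem tile_ok : tileB orbs 0 3510 = true := by decide +kernel
theorem pos_ok : ∀ o ∈ orbs, 0 < o.2.1 := by decide +kernel
theorem letters_ok : ∀ w ∈ relW ++ subW ++ orbs.map (fun o => o.2.2), ∀ l ∈ w, l < 9 := by decide +kernel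

end Cfsg.Agent.Lib.helper35.Fi22a
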