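import Cfsg.Agent.Lib.helper35.CosetOrd
import Cfsg.Agent.Lib.helper35.Fi22aChecks

set_option autoImplicit false
set_option maxRecDepth 100000

namespace Cfsg.Agent.Lib.helper35.Fi22Tid

open Cfsg.Agent.Lib.helper35

/-- the word `(abcdeh)^5` -/
def uw : List ℕ := [0, 1, 2, 3, 4, 7, 0, 1, 2, 3, 4, 7, 0, 1, 2, 3, 4, 7, 0, 1, 2, 3, 4, 7, 0, 1, 2, 3, 4, 7]

theorem tid : allRange (fun c => Nat.beq (actP Fi22a.D (uw ++ 0 :: uw.reverse) c) (actP Fi22a.D [0] c)) 0 3510 = true := by decide +kernel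

end Cfsg.Agent.Lib.helper35.Fi22Tid
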