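import Cfsg.Agent.Lib.helper35.Fi22bCertData

set_option autoImplicit false
set_option maxRecDepth 100000

namespace Cfsg.Agent.Lib.helper35.Fi22b

theorem rows0 : allRange (rowOK C) 0 300 = true := by decide +kernel
theorem rows1 : allRange (rowOK C) 300 300 = true := by decide +kernel
theorem rows2 : allRange (rowOK C) 600 300 = true := by decide +kernel
theorem rows3 : allRange (rowOK C) 900 300 = true := by decide +kernel
theorem rows4 : allRange (rowOK C) 1200 300 = true := by decide +kernel
theorem rows5 : allRange (rowOK C) 1500 300 = true := by decide +kernel
theorem rows6 : allRange (rowOK C) 1800 300 = true := by decide +kernel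
theorem rows7 : allRange (rowOK C) 2100 300 = true := by decide +kernel
theorem rows8 : allRange (rowOK C) 2400 300 = true := by decide +kernel
theorem rows9 : allRange (rowOK C) 2700 300 = true := by decide +kernel
theorem rows10 : allRange (rowOK C) 3000 300 = true := by decide +kernel
theorem rows11 : allRange (rowOK C) 3300 300 = true := by decide +kernel

end Cfsg.Agent.Lib.helper35.Fi22b
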