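import Cfsg.Agent.Lib.helper35.Fi22bCertData

set_option autoImplicit false
set_option maxRecDepth 100000

namespace Cfsg.Agent.Lib.helper35.Fi22b

theorem rows48 : allRange (rowOK C) 14400 300 = true := by decide +kernel
theorem rows49 : allRange (rowOK C) 14700 300 = true := by decide +kernel
theorem rows50 : allRange (rowOK C) 15000 300 = true := by decide +kernel
theorem rows51 : allRange (rowOK C) 15300 300 = true := by decide +kernel
theorem rows52 : allRange (rowOK C) 15600 300 = true := by decide +kernel
theorem rows53 : allRange (rowOK C) 15900 300 = true := by decide +kernel
theorem rows54 : allRange (rowOK C) 16200 300 = true := by decide +kernel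
theorem rows55 : allRange (rowOK C) 16500 300 = true := by decide +kernel
theorem rows56 : allRange (rowOK C) 16800 300 = true := by decide +kernel
theorem rows57 : allRange (rowOK C) 17100 300 = true := by decide +kernel
theorem rows58 : allRange (rowOK C) 17400 300 = true := by decide +kernel
theorem rows59 : allRange (rowOK C) 17700 300 = true := by decide +kernel

end Cfsg.Agent.Lib.helper35.Fi22b
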