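import Cfsg.Agent.Lib.helper35.Fi22bCertData

set_option autoImplicit false
set_option maxRecDepth 100000

namespace Cfsg.Agent.Lib.helper35.Fi22b

theorem rows60 : allRange (rowOK C) 18000 300 = true := by decide +kernel
theorem rows61 : allRange (rowOK C) 18300 300 = true := by decide +kernel
theorem rows62 : allRange (rowOK C) 18600 300 = true := by decide +kernel
theorem rows63 : allRange (rowOK C) 18900 300 = true := by decide +kernel
theorem rows64 : allRange (rowOK C) 19200 300 = true := by decide +kernel
theorem rows65 : allRange (rowOK C) 19500 300 = true := by decide +kernel
theorem rows66 : allRange (rowOK C) 19800 218 = true := by decide +kernel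

end Cfsg.Agent.Lib.helper35.Fi22b
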