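import Cfsg.Agent.Lib.helper35.Fi22bPermData

set_option autoImplicit false
set_option maxRecDepth 100000

namespace Cfsg.Agent.Lib.helper35.Fi22b

theorem rel1 : allList (fun w => allRange (relOK D w) 0 14080) relW1 = true := by decide +kernel

end Cfsg.Agent.Lib.helper35.Fi22b
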