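import Cfsg.Agent.Lib.helper35.Fi22bCertData
import Cfsg.Agent.Lib.helper35.Fi22bCertRows0
import Cfsg.Agent.Lib.helper35.Fi22bCertRows1
import Cfsg.Agent.Lib.helper35.Fi22bCertRows2
import Cfsg.Agent.Lib.helper35.Fi22bCertRows3
import Cfsg.Agent.Lib.helper35.Fi22bCertRows4
import Cfsg.Agent.Lib.helper35.Fi22bCertRows5
import Cfsg.Agent.Lib.helper35.Fi22bPermRel0
import Cfsg.Agent.Lib.helper35.Fi22bPermRel1
import Cfsg.Agent.Lib.helper35.Fi22bPermRel2
import Cfsg.Agent.Lib.helper35.Fi22bPermRel3
import Cfsg.Agent.Lib.helper35.Fi22bPermRel4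
import Cfsg.Agent.Lib.helper35.Fi22bPermRel5
import Cfsg.Agent.Lib.helper35.Fi22bPermRel6
import Cfsg.Agent.Lib.helper35.Fi22bPermRel7
import Cfsg.Agent.Lib.helper35.Fi22bPermRel8
import Cfsg.Agent.Lib.helper35.Fi22bPermOrb

set_option autoImplicit false
set_option maxRecDepth 100000

namespace Cfsg.Agent.Lib.helper35.Fi22b

theorem fin0 : allRange (finOK C) 0 20018 = true := by decide +kernel
theorem cnt0 : countLive C 20018 0 = 14080 := by decide +kernel
theorem rev_ok : ∀ p ∈ C.words, p.2 = p.1.reverse := by decide +kernel
theorem wr_ok : ∀ r, r < C.nrel → (nth ([], []) C.words r).1 ∈ relW := by decide +kernel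
theorem ws_ok : ∀ p ∈ C.words, p.1 ∈ relW ∨ p.1 ∈ subW := by decide +kernel
theorem rows_all : ∀ c, c < C.M → rowOK C c = true := by
  intro c hc
  have hM : C.M = 20018 := rfl
  rcases Nat.lt_or_ge c 300 with h | h
  · exact allRange_spec rows0 c (by omega) (by omega)
  rcases Nat.lt_or_ge c 600 with h | h
  · exact allRange_spec rows1 c (by omega) (by omega)
  rcases Nat.lt_or_ge c 900 with h | h
  · exact allRange_spec rows2 c (by omega) (by omega)
  rcases Nat.lt_or_ge c 1200 with h | h
  · exact allRange_spec rows3 c (by omega) (by omega)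
  rcases Nat.lt_or_ge c 1500 with h | h
  · exact allRange_spec rows4 c (by omega) (by omega)
  rcases Nat.lt_or_ge c 1800 with h | h
  · exact allRange_spec rows5 c (by omega) (by omega)
  rcases Nat.lt_or_ge c 2100 with h | h
  · exact allRange_spec rows6 c (by omega) (by omega)
  rcases Nat.lt_or_ge c 2400 with h | h
  · exact allRange_spec rows7 c (by omega) (by omega)
  rcases Nat.lt_or_ge c 2700 with h | h
  · exact allRange_spec rows8 c (by omega) (by omega)
  rcases Nat.lt_or_ge c 3000 with h | h
  · exact allRange_spec rows9 c (by omega) (by omega)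
  rcases Nat.lt_or_ge c 3300 with h | h
  · exact allRange_spec rows10 c (by omega) (by omega)
  rcases Nat.lt_or_ge c 3600 with h | h
  · exact allRange_spec rows11 c (by omega) (by omega)
  rcases Nat.lt_or_ge c 3900 with h | h
  · exact allRange_spec rows12 c (by omega) (by omega)
  rcases Nat.lt_or_ge c 4200 with h | h
  · exact allRange_spec rows13 c (by omega) (by omega)
  rcases Nat.lt_or_ge c 4500 with h | h
  · exact allRange_spec rows14 c (by omega) (by omega)
  rcases Nat.lt_or_ge c 4800 with h | h
  · exact allRange_spec rows15 c (by omega) (by omega)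
  rcases Nat.lt_or_ge c 5100 with h | h
  · exact allRange_spec rows16 c (by omega) (by omega)
  rcases Nat.lt_or_ge c 5400 with h | h
  · exact allRange_spec rows17 c (by omega) (by omega)
  rcases Nat.lt_or_ge c 5700 with h | h
  · exact allRange_spec rows18 c (by omega) (by omega)
  rcases Nat.lt_or_ge c 6000 with h | h
  · exact allRange_spec rows19 c (by omega) (by omega)
  rcases Nat.lt_or_ge c 6300 with h | h
  · exact allRange_spec rows20 c (by omega) (by omega)
  rcases Nat.lt_or_ge c 6600 with h | h
  · exact allRange_spec rows21 c (by omega) (by omega)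
  rcases Nat.lt_or_ge c 6900 with h | h
  · exact allRange_spec rows22 c (by omega) (by omega)
  rcases Nat.lt_or_ge c 7200 with h | h
  · exact allRange_spec rows23 c (by omega) (by omega)
  rcases Nat.lt_or_ge c 7500 with h | h
  · exact allRange_spec rows24 c (by omega) (by omega)
  rcases Nat.lt_or_ge c 7800 with h | h
  · exact allRange_spec rows25 c (by omega) (by omega)
  rcases Nat.lt_or_ge c 8100 with h | h
  · exact allRange_spec rows26 c (by omega) (by omega)
  rcases Nat.lt_or_ge c 8400 with h | h
  · exact allRange_spec rows27 c (by omega) (by omega)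
  rcases Nat.lt_or_ge c 8700 with h | h
  · exact allRange_spec rows28 c (by omega) (by omega)
  rcases Nat.lt_or_ge c 9000 with h | h
  · exact allRange_spec rows29 c (by omega) (by omega)
  rcases Nat.lt_or_ge c 9300 with h | h
  · exact allRange_spec rows30 c (by omega) (by omega)
  rcases Nat.lt_or_ge c 9600 with h | h
  · exact allRange_spec rows31 c (by omega) (by omega)
  rcases Nat.lt_or_ge c 9900 with h | h
  · exact allRange_spec rows32 c (by omega) (by omega)
  rcases Nat.lt_or_ge c 10200 with h | h
  · exact allRange_spec rows33 c (by omega) (by omega)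
  rcases Nat.lt_or_ge c 10500 with h | h
  · exact allRange_spec rows34 c (by omega) (by omega)
  rcases Nat.lt_or_ge c 10800 with h | h
  · exact allRange_spec rows35 c (by omega) (by omega)
  rcases Nat.lt_or_ge c 11100 with h | h
  · exact allRange_spec rows36 c (by omega) (by omega)
  rcases Nat.lt_or_ge c 11400 with h | h
  · exact allRange_spec rows37 c (by omega) (by omega)
  rcases Nat.lt_or_ge c 11700 with h | h
  · exact allRange_spec rows38 c (by omega) (by omega)
  rcases Nat.lt_or_ge c 12000 with h | h
  · exact allRange_spec rows39 c (by omega) (by omega)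
  rcases Nat.lt_or_ge c 12300 with h | h
  · exact allRange_spec rows40 c (by omega) (by omega)
  rcases Nat.lt_or_ge c 12600 with h | h
  · exact allRange_spec rows41 c (by omega) (by omega)
  rcases Nat.lt_or_ge c 12900 with h | h
  · exact allRange_spec rows42 c (by omega) (by omega)
  rcases Nat.lt_or_ge c 13200 with h | h
  · exact allRange_spec rows43 c (by omega) (by omega)
  rcases Nat.lt_or_ge c 13500 with h | h
  · exact allRange_spec rows44 c (by omega) (by omega)
  rcases Nat.lt_or_ge c 13800 with h | h
  · exact allRange_spec rows45 c (by omega) (by omega)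
  rcases Nat.lt_or_ge c 14100 with h | h
  · exact allRange_spec rows46 c (by omega) (by omega)
  rcases Nat.lt_or_ge c 14400 with h | h
  · exact allRange_spec rows47 c (by omega) (by omega)
  rcases Nat.lt_or_ge c 14700 with h | h
  · exact allRange_spec rows48 c (by omega) (by omega)
  rcases Nat.lt_or_ge c 15000 with h | h
  · exact allRange_spec rows49 c (by omega) (by omega)
  rcases Nat.lt_or_ge c 15300 with h | h
  · exact allRange_spec rows50 c (by omega) (by omega)
  rcases Nat.lt_or_ge c 15600 with h | h
  · exact allRange_spec rows51 c (by omega) (by omega)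
  rcases Nat.lt_or_ge c 15900 with h | h
  · exact allRange_spec rows52 c (by omega) (by omega)
  rcases Nat.lt_or_ge c 16200 with h | h
  · exact allRange_spec rows53 c (by omega) (by omega)
  rcases Nat.lt_or_ge c 16500 with h | h
  · exact allRange_spec rows54 c (by omega) (by omega)
  rcases Nat.lt_or_ge c 16800 with h | h
  · exact allRange_spec rows55 c (by omega) (by omega)
  rcases Nat.lt_or_ge c 17100 with h | h
  · exact allRange_spec rows56 c (by omega) (by omega)
  rcases Nat.lt_or_ge c 17400 with h | h
  · exact allRange_spec rows57 c (by omega) (by omega)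
  rcases Nat.lt_or_ge c 17700 with h | h
  · exact allRange_spec rows58 c (by omega) (by omega)
  rcases Nat.lt_or_ge c 18000 with h | h
  · exact allRange_spec rows59 c (by omega) (by omega)
  rcases Nat.lt_or_ge c 18300 with h | h
  · exact allRange_spec rows60 c (by omega) (by omega)
  rcases Nat.lt_or_ge c 18600 with h | h
  · exact allRange_spec rows61 c (by omega) (by omega)
  rcases Nat.lt_or_ge c 18900 with h | h
  · exact allRange_spec rows62 c (by omega) (by omega)
  rcases Nat.lt_or_ge c 19200 with h | h
  · exact allRange_spec rows63 c (by omega) (by omega)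
  rcases Nat.lt_or_ge c 19500 with h | h
  · exact allRange_spec rows64 c (by omega) (by omega)
  rcases Nat.lt_or_ge c 19800 with h | h
  · exact allRange_spec rows65 c (by omega) (by omega)
  exact allRange_spec rows66 c (by omega) (by omega)

theorem fin_all : ∀ c, c < C.M → finOK C c = true := fun c hc => allRange_spec fin0 c (Nat.zero_le _) (by have hM : C.M = 20018 := rfl; omega)

theorem inv_ok : ∀ l, l < D.K → allRange (invOK D l) 0 D.n = true := fun l hl => allRange_spec inv_all l (Nat.zero_le _) (by have hK : D.K = 9 := rfl; omega)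

theorem rel_ok : ∀ w ∈ relW, allRange (relOK D w) 0 D.n = true := by
  intro w hw
  have hw' : w ∈ relW0 ++ relW1 ++ relW2 ++ relW3 ++ relW4 ++ relW5 ++ relW6 ++ relW7 ++ relW8 := hw
  rcases List.mem_append.1 hw' with hw' | h
  swap
  · exact allList_spec rel8 w h
  rcases List.mem_append.1 hw' with hw' | h
  swap
  · exact allList_spec rel7 w h
  rcases List.mem_append.1 hw' with hw' | h
  swap
  · exact allList_spec rel6 w h
  rcases List.mem_append.1 hw' with hw' | h
  swap
  · exact allList_spec rel5 w h
  rcases List.mem_append.1 hw' with hw' | h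
  swap
  · exact allList_spec rel4 w h
  rcases List.mem_append.1 hw' with hw' | h
  swap
  · exact allList_spec rel3 w h
  rcases List.mem_append.1 hw' with hw' | h
  swap
  · exact allList_spec rel2 w h
  rcases List.mem_append.1 hw' with hw' | h
  swap
  · exact allList_spec rel1 w h
  exact allList_spec rel0 w hw'

theorem sub_ok : ∀ y ∈ subW, Nat.beq (actP D y 0) 0 = true := fun y hy => allList_spec sub_all y hy

theorem orb_ok : ∀ o ∈ orbs, orbOK D subW o = true := fun o ho => allList_spec orb_all o ho

end Cfsg.Agent.Lib.helper35.Fi22b
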