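import Cfsg.Agent.Lib.helper35.Fi23aCertTab0
import Cfsg.Agent.Lib.helper35.Fi23aCertTab1
import Cfsg.Agent.Lib.helper35.Fi23aCertTab2

set_option autoImplicit false
set_option maxRecDepth 100000

namespace Cfsg.Agent.Lib.helper35.Fi23a

def words : List (List ℕ × List ℕ) := [([0, 1, 0, 1, 0, 1], [1, 0, 1, 0, 1, 0]),
  ([0, 2, 0, 2], [2, 0, 2, 0]),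
  ([0, 3, 0, 3], [3, 0, 3, 0]),
  ([0, 4, 0, 4], [4, 0, 4, 0]),
  ([0, 5, 0, 5], [5, 0, 5, 0]),
  ([0, 6, 0, 6], [6, 0, 6, 0]),
  ([0, 7, 0, 7], [7, 0, 7, 0]),
  ([0, 8, 0, 8], [8, 0, 8, 0]),
  ([0, 9, 0, 9], [9, 0, 9, 0]),
  ([1, 2, 1, 2, 1, 2], [2, 1, 2, 1, 2, 1]),
  ([1, 3, 1, 3], [3, 1, 3, 1]),
  ([1, 4, 1, 4], [4, 1, 4, 1]),
  ([1, 5, 1, 5], [5, 1, 5, 1]),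
  ([1, 6, 1, 6], [6, 1, 6, 1]),
  ([1, 7, 1, 7], [7, 1, 7, 1]),
  ([1, 8, 1, 8], [8, 1, 8, 1]),
  ([1, 9, 1, 9], [9, 1, 9, 1]),
  ([2, 3, 2, 3, 2, 3], [3, 2, 3, 2, 3, 2]),
  ([2, 4, 2, 4], [4, 2, 4, 2]),
  ([2, 5, 2, 5], [5, 2, 5, 2]),
  ([2, 6, 2, 6], [6, 2, 6, 2]),
  ([2, 7, 2, 7], [7, 2, 7, 2]),
  ([2, 8, 2, 8], [8, 2, 8, 2]),
  ([2, 9, 2, 9], [9, 2, 9, 2]),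
  ([3, 4, 3, 4, 3, 4], [4, 3, 4, 3, 4, 3]),
  ([3, 5, 3, 5], [5, 3, 5, 3]),
  ([3, 6, 3, 6], [6, 3, 6, 3]),
  ([3, 7, 3, 7], [7, 3, 7, 3]),
  ([3, 8, 3, 8, 3, 8], [8, 3, 8, 3, 8, 3]),
  ([3, 9, 3, 9], [9, 3, 9, 3]),
  ([4, 5, 4, 5, 4, 5], [5, 4, 5, 4, 5, 4]),
  ([4, 6, 4, 6], [6, 4, 6, 4]),
  ([4, 7, 4, 7], [7, 4, 7, 4]),
  ([4, 8, 4, 8], [8, 4, 8, 4]),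
  ([4, 9, 4, 9], [9, 4, 9, 4]),
  ([5, 6, 5, 6, 5, 6], [6, 5, 6, 5, 6, 5]),
  ([5, 7, 5, 7], [7, 5, 7, 5]),
  ([5, 8, 5, 8], [8, 5, 8, 5]),
  ([5, 9, 5, 9], [9, 5, 9, 5]),
  ([6, 7, 6, 7, 6, 7], [7, 6, 7, 6, 7, 6]),
  ([6, 8, 6, 8], [8, 6, 8, 6]),
  ([6, 9, 6, 9], [9, 6, 9, 6]),
  ([7, 8, 7, 8], [8, 7, 8, 7]),
  ([7, 9, 7, 9], [9, 7, 9, 7]),
  ([8, 9, 8, 9, 8, 9], [9, 8, 9, 8, 9, 8]),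
  ([3, 2, 1, 3, 4, 5, 3, 8, 9, 3, 2, 1, 3, 4, 5, 3, 8, 9, 3, 2, 1, 3, 4, 5, 3, 8, 9, 3, 2, 1, 3, 4, 5, 3, 8, 9, 3, 2, 1, 3, 4, 5, 3, 8, 9, 3, 2, 1, 3, 4, 5, 3, 8, 9, 3, 2, 1, 3, 4, 5, 3, 8, 9, 3, 2, 1, 3, 4, 5, 3, 8, 9, 3, 2, 1, 3, 4, 5, 3, 8, 9, 3, 2, 1, 3, 4, 5, 3, 8, 9], [9, 8, 3, 5, 4, 3, 1, 2, 3, 9, 8, 3, 5, 4, 3, 1, 2, 3, 9, 8, 3, 5, 4, 3, 1, 2, 3, 9, 8, 3, 5, 4, 3, 1, 2, 3, 9, 8, 3, 5, 4, 3, 1, 2, 3, 9, 8, 3, 5, 4, 3, 1, 2, 3, 9, 8, 3, 5, 4, 3, 1, 2, 3, 9, 8, 3, 5, 4, 3, 1, 2, 3, 9, 8, 3, 5, 4, 3, 1, 2, 3, 9, 8, 3, 5, 4, 3, 1, 2, 3]),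
  ([0, 1, 2, 3, 4, 5, 8, 0, 1, 2, 3, 4, 5, 8, 0, 1, 2, 3, 4, 5, 8, 0, 1, 2, 3, 4, 5, 8, 0, 1, 2, 3, 4, 5, 8, 0, 1, 2, 3, 4, 5, 8, 0, 1, 2, 3, 4, 5, 8, 0, 1, 2, 3, 4, 5, 8, 0, 1, 2, 3, 4, 5, 8], [8, 5, 4, 3, 2, 1, 0, 8, 5, 4, 3, 2, 1, 0, 8, 5, 4, 3, 2, 1, 0, 8, 5, 4, 3, 2, 1, 0, 8, 5, 4, 3, 2, 1, 0, 8, 5, 4, 3, 2, 1, 0, 8, 5, 4, 3, 2, 1, 0, 8, 5, 4, 3, 2, 1, 0, 8, 5, 4, 3, 2, 1, 0]),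
  ([0], [0]),
  ([1], [1]),
  ([2], [2]),
  ([3], [3]),
  ([4], [4]),
  ([5], [5]),
  ([6], [6]),
  ([8], [8]),
  ([9], [9])]

def C : Cert := ⟨64484, 10, 16, 65535,
  rdlc [TE0, TE1, TE2, TE3, TE4, TE5, TE6, TE7, TE8, TE9] 36 68719476735 9 511,
  rdlc [TJ0, TJ1, TJ2, TJ3, TJ4, TJ5, TJ6, TJ7, TJ8, TJ9] 34 17179869183 9 511,
  rdc EE 36 68719476735 9 511,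
  rdc EJ 34 17179869183 9 511,
  fun c => Nat.shiftRight (rdc DF 20 1048575 9 511 c) 4,
  fun c => Nat.land (rdc DF 20 1048575 9 511 c) 15,
  words, 47, 553077⟩

end Cfsg.Agent.Lib.helper35.Fi23a
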