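import Cfsg.Agent.Lib.helper35.Fi23aCertData

set_option autoImplicit false
set_option maxRecDepth 100000

namespace Cfsg.Agent.Lib.helper35.Fi23a

theorem fin0 : allRange (finOK C) 0 4096 = true := by decide +kernel
theorem fin1 : allRange (finOK C) 4096 4096 = true := by decide +kernel

end Cfsg.Agent.Lib.helper35.Fi23a
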