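import Cfsg.Agent.Lib.helper35.Fi23aCertData

set_option autoImplicit false
set_option maxRecDepth 100000

namespace Cfsg.Agent.Lib.helper35.Fi23a

theorem rows120 : allRange (rowOK C) 36000 300 = true := by decide +kernel
theorem rows121 : allRange (rowOK C) 36300 300 = true := by decide +kernel
theorem rows122 : allRange (rowOK C) 36600 300 = true := by decide +kernel
theorem rows123 : allRange (rowOK C) 36900 300 = true := by decide +kernel
theorem rows124 : allRange (rowOK C) 37200 300 = true := by decide +kernel
theorem rows125 : allRange (rowOK C) 37500 300 = true := by decide +kernel
theorem rows126 : allRange (rowOK C) 37800 300 = true := by decide +kernel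
theorem rows127 : allRange (rowOK C) 38100 300 = true := by decide +kernel
theorem rows128 : allRange (rowOK C) 38400 300 = true := by decide +kernel
theorem rows129 : allRange (rowOK C) 38700 300 = true := by decide +kernel
theorem rows130 : allRange (rowOK C) 39000 300 = true := by decide +kernel
theorem rows131 : allRange (rowOK C) 39300 300 = true := by decide +kernel

end Cfsg.Agent.Lib.helper35.Fi23a
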