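import Cfsg.Agent.Lib.helper35.Fi23aCertData

set_option autoImplicit false
set_option maxRecDepth 100000

namespace Cfsg.Agent.Lib.helper35.Fi23a

theorem rows132 : allRange (rowOK C) 39600 300 = true := by decide +kernel
theorem rows133 : allRange (rowOK C) 39900 300 = true := by decide +kernel
theorem rows134 : allRange (rowOK C) 40200 300 = true := by decide +kernel
theorem rows135 : allRange (rowOK C) 40500 300 = true := by decide +kernel
theorem rows136 : allRange (rowOK C) 40800 300 = true := by decide +kernel
theorem rows137 : allRange (rowOK C) 41100 300 = true := by decide +kernel
theorem rows138 : allRange (rowOK C) 41400 300 = true := by decide +kernel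
theorem rows139 : allRange (rowOK C) 41700 300 = true := by decide +kernel
theorem rows140 : allRange (rowOK C) 42000 300 = true := by decide +kernel
theorem rows141 : allRange (rowOK C) 42300 300 = true := by decide +kernel
theorem rows142 : allRange (rowOK C) 42600 300 = true := by decide +kernel
theorem rows143 : allRange (rowOK C) 42900 300 = true := by decide +kernel

end Cfsg.Agent.Lib.helper35.Fi23a
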