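import Cfsg.Agent.Lib.helper35.Fi23aCertData

set_option autoImplicit false
set_option maxRecDepth 100000

namespace Cfsg.Agent.Lib.helper35.Fi23a

theorem rows144 : allRange (rowOK C) 43200 300 = true := by decide +kernel
theorem rows145 : allRange (rowOK C) 43500 300 = true := by decide +kernel
theorem rows146 : allRange (rowOK C) 43800 300 = true := by decide +kernel
theorem rows147 : allRange (rowOK C) 44100 300 = true := by decide +kernel
theorem rows148 : allRange (rowOK C) 44400 300 = true := by decide +kernel
theorem rows149 : allRange (rowOK C) 44700 300 = true := by decide +kernel
theorem rows150 : allRange (rowOK C) 45000 300 = true := by decide +kernel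
theorem rows151 : allRange (rowOK C) 45300 300 = true := by decide +kernel
theorem rows152 : allRange (rowOK C) 45600 300 = true := by decide +kernel
theorem rows153 : allRange (rowOK C) 45900 300 = true := by decide +kernel
theorem rows154 : allRange (rowOK C) 46200 300 = true := by decide +kernel
theorem rows155 : allRange (rowOK C) 46500 300 = true := by decide +kernel

end Cfsg.Agent.Lib.helper35.Fi23a
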