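import Cfsg.Agent.Lib.helper35.Fi23aCertData

set_option autoImplicit false
set_option maxRecDepth 100000

namespace Cfsg.Agent.Lib.helper35.Fi23a

theorem rows156 : allRange (rowOK C) 46800 300 = true := by decide +kernel
theorem rows157 : allRange (rowOK C) 47100 300 = true := by decide +kernel
theorem rows158 : allRange (rowOK C) 47400 300 = true := by decide +kernel
theorem rows159 : allRange (rowOK C) 47700 300 = true := by decide +kernel
theorem rows160 : allRange (rowOK C) 48000 300 = true := by decide +kernel
theorem rows161 : allRange (rowOK C) 48300 300 = true := by decide +kernel
theorem rows162 : allRange (rowOK C) 48600 300 = true := by decide +kernel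
theorem rows163 : allRange (rowOK C) 48900 300 = true := by decide +kernel
theorem rows164 : allRange (rowOK C) 49200 300 = true := by decide +kernel
theorem rows165 : allRange (rowOK C) 49500 300 = true := by decide +kernel
theorem rows166 : allRange (rowOK C) 49800 300 = true := by decide +kernel
theorem rows167 : allRange (rowOK C) 50100 300 = true := by decide +kernel

end Cfsg.Agent.Lib.helper35.Fi23a
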