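import Cfsg.Agent.Lib.helper35.Fi23aCertData

set_option autoImplicit false
set_option maxRecDepth 100000

namespace Cfsg.Agent.Lib.helper35.Fi23a

theorem rows168 : allRange (rowOK C) 50400 300 = true := by decide +kernel
theorem rows169 : allRange (rowOK C) 50700 300 = true := by decide +kernel
theorem rows170 : allRange (rowOK C) 51000 300 = true := by decide +kernel
theorem rows171 : allRange (rowOK C) 51300 300 = true := by decide +kernel
theorem rows172 : allRange (rowOK C) 51600 300 = true := by decide +kernel
theorem rows173 : allRange (rowOK C) 51900 300 = true := by decide +kernel
theorem rows174 : allRange (rowOK C) 52200 300 = true := by decide +kernel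
theorem rows175 : allRange (rowOK C) 52500 300 = true := by decide +kernel
theorem rows176 : allRange (rowOK C) 52800 300 = true := by decide +kernel
theorem rows177 : allRange (rowOK C) 53100 300 = true := by decide +kernel
theorem rows178 : allRange (rowOK C) 53400 300 = true := by decide +kernel
theorem rows179 : allRange (rowOK C) 53700 300 = true := by decide +kernel

end Cfsg.Agent.Lib.helper35.Fi23a
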