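import Cfsg.Agent.Lib.helper35.Fi23aCertData

set_option autoImplicit false
set_option maxRecDepth 100000

namespace Cfsg.Agent.Lib.helper35.Fi23a

theorem rows180 : allRange (rowOK C) 54000 300 = true := by decide +kernel
theorem rows181 : allRange (rowOK C) 54300 300 = true := by decide +kernel
theorem rows182 : allRange (rowOK C) 54600 300 = true := by decide +kernel
theorem rows183 : allRange (rowOK C) 54900 300 = true := by decide +kernel
theorem rows184 : allRange (rowOK C) 55200 300 = true := by decide +kernel
theorem rows185 : allRange (rowOK C) 55500 300 = true := by decide +kernel
theorem rows186 : allRange (rowOK C) 55800 300 = true := by decide +kernel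
theorem rows187 : allRange (rowOK C) 56100 300 = true := by decide +kernel
theorem rows188 : allRange (rowOK C) 56400 300 = true := by decide +kernel
theorem rows189 : allRange (rowOK C) 56700 300 = true := by decide +kernel
theorem rows190 : allRange (rowOK C) 57000 300 = true := by decide +kernel
theorem rows191 : allRange (rowOK C) 57300 300 = true := by decide +kernel

end Cfsg.Agent.Lib.helper35.Fi23a
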