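import Cfsg.Agent.Lib.helper35.Fi23aCertData

set_option autoImplicit false
set_option maxRecDepth 100000

namespace Cfsg.Agent.Lib.helper35.Fi23a

theorem rows192 : allRange (rowOK C) 57600 300 = true := by decide +kernel
theorem rows193 : allRange (rowOK C) 57900 300 = true := by decide +kernel
theorem rows194 : allRange (rowOK C) 58200 300 = true := by decide +kernel
theorem rows195 : allRange (rowOK C) 58500 300 = true := by decide +kernel
theorem rows196 : allRange (rowOK C) 58800 300 = true := by decide +kernel
theorem rows197 : allRange (rowOK C) 59100 300 = true := by decide +kernel
theorem rows198 : allRange (rowOK C) 59400 300 = true := by decide +kernel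
theorem rows199 : allRange (rowOK C) 59700 300 = true := by decide +kernel
theorem rows200 : allRange (rowOK C) 60000 300 = true := by decide +kernel
theorem rows201 : allRange (rowOK C) 60300 300 = true := by decide +kernel
theorem rows202 : allRange (rowOK C) 60600 300 = true := by decide +kernel
theorem rows203 : allRange (rowOK C) 60900 300 = true := by decide +kernel

end Cfsg.Agent.Lib.helper35.Fi23a
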