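import Cfsg.Agent.Lib.helper35.Fi23aCertData

set_option autoImplicit false
set_option maxRecDepth 100000

namespace Cfsg.Agent.Lib.helper35.Fi23a

theorem rows204 : allRange (rowOK C) 61200 300 = true := by decide +kernel
theorem rows205 : allRange (rowOK C) 61500 300 = true := by decide +kernel
theorem rows206 : allRange (rowOK C) 61800 300 = true := by decide +kernel
theorem rows207 : allRange (rowOK C) 62100 300 = true := by decide +kernel
theorem rows208 : allRange (rowOK C) 62400 300 = true := by decide +kernel
theorem rows209 : allRange (rowOK C) 62700 300 = true := by decide +kernel
theorem rows210 : allRange (rowOK C) 63000 300 = true := by decide +kernel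
theorem rows211 : allRange (rowOK C) 63300 300 = true := by decide +kernel
theorem rows212 : allRange (rowOK C) 63600 300 = true := by decide +kernel
theorem rows213 : allRange (rowOK C) 63900 300 = true := by decide +kernel
theorem rows214 : allRange (rowOK C) 64200 284 = true := by decide +kernel

end Cfsg.Agent.Lib.helper35.Fi23a
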