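import Cfsg.Agent.Lib.helper35.Fi23aCertData

set_option autoImplicit false
set_option maxRecDepth 100000

namespace Cfsg.Agent.Lib.helper35.Fi23a

theorem rows36 : allRange (rowOK C) 10800 300 = true := by decide +kernel
theorem rows37 : allRange (rowOK C) 11100 300 = true := by decide +kernel
theorem rows38 : allRange (rowOK C) 11400 300 = true := by decide +kernel
theorem rows39 : allRange (rowOK C) 11700 300 = true := by decide +kernel
theorem rows40 : allRange (rowOK C) 12000 300 = true := by decide +kernel
theorem rows41 : allRange (rowOK C) 12300 300 = true := by decide +kernel
theorem rows42 : allRange (rowOK C) 12600 300 = true := by decide +kernel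
theorem rows43 : allRange (rowOK C) 12900 300 = true := by decide +kernel
theorem rows44 : allRange (rowOK C) 13200 300 = true := by decide +kernel
theorem rows45 : allRange (rowOK C) 13500 300 = true := by decide +kernel
theorem rows46 : allRange (rowOK C) 13800 300 = true := by decide +kernel
theorem rows47 : allRange (rowOK C) 14100 300 = true := by decide +kernel

end Cfsg.Agent.Lib.helper35.Fi23a
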