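import Cfsg.Agent.Lib.helper35.Fi23aCertData

set_option autoImplicit false
set_option maxRecDepth 100000

namespace Cfsg.Agent.Lib.helper35.Fi23a

theorem rows96 : allRange (rowOK C) 28800 300 = true := by decide +kernel
theorem rows97 : allRange (rowOK C) 29100 300 = true := by decide +kernel
theorem rows98 : allRange (rowOK C) 29400 300 = true := by decide +kernel
theorem rows99 : allRange (rowOK C) 29700 300 = true := by decide +kernel
theorem rows100 : allRange (rowOK C) 30000 300 = true := by decide +kernel
theorem rows101 : allRange (rowOK C) 30300 300 = true := by decide +kernel
theorem rows102 : allRange (rowOK C) 30600 300 = true := by decide +kernel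
theorem rows103 : allRange (rowOK C) 30900 300 = true := by decide +kernel
theorem rows104 : allRange (rowOK C) 31200 300 = true := by decide +kernel
theorem rows105 : allRange (rowOK C) 31500 300 = true := by decide +kernel
theorem rows106 : allRange (rowOK C) 31800 300 = true := by decide +kernel
theorem rows107 : allRange (rowOK C) 32100 300 = true := by decide +kernel

end Cfsg.Agent.Lib.helper35.Fi23a
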