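import Cfsg.Agent.Lib.helper35.Fi23aCertData

set_option autoImplicit false
set_option maxRecDepth 100000

namespace Cfsg.Agent.Lib.helper35.Fi23a

theorem rows108 : allRange (rowOK C) 32400 300 = true := by decide +kernel
theorem rows109 : allRange (rowOK C) 32700 300 = true := by decide +kernel
theorem rows110 : allRange (rowOK C) 33000 300 = true := by decide +kernel
theorem rows111 : allRange (rowOK C) 33300 300 = true := by decide +kernel
theorem rows112 : allRange (rowOK C) 33600 300 = true := by decide +kernel
theorem rows113 : allRange (rowOK C) 33900 300 = true := by decide +kernel
theorem rows114 : allRange (rowOK C) 34200 300 = true := by decide +kernel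
theorem rows115 : allRange (rowOK C) 34500 300 = true := by decide +kernel
theorem rows116 : allRange (rowOK C) 34800 300 = true := by decide +kernel
theorem rows117 : allRange (rowOK C) 35100 300 = true := by decide +kernel
theorem rows118 : allRange (rowOK C) 35400 300 = true := by decide +kernel
theorem rows119 : allRange (rowOK C) 35700 300 = true := by decide +kernel

end Cfsg.Agent.Lib.helper35.Fi23a
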