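import Cfsg.Agent.Lib.helper35.Fi23aPermData

set_option autoImplicit false
set_option maxRecDepth 100000

namespace Cfsg.Agent.Lib.helper35.Fi23a

theorem inv0 : allRange (invOK D 0) 0 31671 = true := by decide +kernel
theorem inv1 : allRange (invOK D 1) 0 31671 = true := by decide +kernel
theorem inv2 : allRange (invOK D 2) 0 31671 = true := by decide +kernel
theorem inv3 : allRange (invOK D 3) 0 31671 = true := by decide +kernel
theorem inv4 : allRange (invOK D 4) 0 31671 = true := by decide +kernel
theorem inv5 : allRange (invOK D 5) 0 31671 = true := by decide +kernel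
theorem inv6 : allRange (invOK D 6) 0 31671 = true := by decide +kernel
theorem inv7 : allRange (invOK D 7) 0 31671 = true := by decide +kernel
theorem inv8 : allRange (invOK D 8) 0 31671 = true := by decide +kernel
theorem inv9 : allRange (invOK D 9) 0 31671 = true := by decide +kernel
theorem sub_all : allList (fun y => Nat.beq (actP D y 0) 0) subW = true := by decide +kernel
theorem orb0 : orbOK D subW (nth (0, 0, []) orbs 0) = true := by decide +kernel
theorem orb1 : orbOK D subW (nth (0, 0, []) orbs 1) = true := by decide +kernel
theorem orb2 : orbOK D subW (nth (0, 0, []) orbs 2) = true := by decide +kernel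
theorem tile_ok : tileB orbs 0 31671 = true := by decide +kernel
theorem pos_ok : ∀ o ∈ orbs, 0 < o.2.1 := by decide +kernel
theorem letters_ok : ∀ w ∈ relW ++ subW ++ orbs.map (fun o => o.2.2), ∀ l ∈ w, l < 10 := by decide +kernel

end Cfsg.Agent.Lib.helper35.Fi23a
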