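import Cfsg.Agent.Lib.helper35.Fi23aPermData

set_option autoImplicit false
set_option maxRecDepth 100000

namespace Cfsg.Agent.Lib.helper35.Fi23a

theorem rel0_0 : allList (fun w => allRange (relOK D w) 0 4096) relW0 = true := by decide +kernel
theorem rel0_1 : allList (fun w => allRange (relOK D w) 4096 4096) relW0 = true := by decide +kernel
theorem rel0_2 : allList (fun w => allRange (relOK D w) 8192 4096) relW0 = true := by decide +kernel
theorem rel0_3 : allList (fun w => allRange (relOK D w) 12288 4096) relW0 = true := by decide +kernel
theorem rel0_4 : allList (fun w => allRange (relOK D w) 16384 4096) relW0 = true := by decide +kernel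
theorem rel0_5 : allList (fun w => allRange (relOK D w) 20480 4096) relW0 = true := by decide +kernel
theorem rel0_6 : allList (fun w => allRange (relOK D w) 24576 4096) relW0 = true := by decide +kernel
theorem rel0_7 : allList (fun w => allRange (relOK D w) 28672 2999) relW0 = true := by decide +kernel
theorem rel1_0 : allList (fun w => allRange (relOK D w) 0 4096) relW1 = true := by decide +kernel
theorem rel1_1 : allList (fun w => allRange (relOK D w) 4096 4096) relW1 = true := by decide +kernel
theorem rel1_2 : allList (fun w => allRange (relOK D w) 8192 4096) relW1 = true := by decide +kernel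

end Cfsg.Agent.Lib.helper35.Fi23a
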