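import Cfsg.Agent.Lib.helper35.Fi23aPermData

set_option autoImplicit false
set_option maxRecDepth 100000

namespace Cfsg.Agent.Lib.helper35.Fi23a

theorem rel24_2 : allList (fun w => allRange (relOK D w) 8192 4096) relW24 = true := by decide +kernel
theorem rel24_3 : allList (fun w => allRange (relOK D w) 12288 4096) relW24 = true := by decide +kernel
theorem rel24_4 : allList (fun w => allRange (relOK D w) 16384 4096) relW24 = true := by decide +kernel
theorem rel24_5 : allList (fun w => allRange (relOK D w) 20480 4096) relW24 = true := by decide +kernel
theorem rel24_6 : allList (fun w => allRange (relOK D w) 24576 4096) relW24 = true := by decide +kernel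
theorem rel24_7 : allList (fun w => allRange (relOK D w) 28672 2999) relW24 = true := by decide +kernel
theorem rel25_0 : allList (fun w => allRange (relOK D w) 0 4096) relW25 = true := by decide +kernel
theorem rel25_1 : allList (fun w => allRange (relOK D w) 4096 4096) relW25 = true := by decide +kernel
theorem rel25_2 : allList (fun w => allRange (relOK D w) 8192 4096) relW25 = true := by decide +kernel
theorem rel25_3 : allList (fun w => allRange (relOK D w) 12288 4096) relW25 = true := by decide +kernel
theorem rel25_4 : allList (fun w => allRange (relOK D w) 16384 4096) relW25 = true := by decide +kernel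
theorem rel25_5 : allList (fun w => allRange (relOK D w) 20480 4096) relW25 = true := by decide +kernel

end Cfsg.Agent.Lib.helper35.Fi23a
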