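import Cfsg.Agent.Lib.helper35.CosetExtra
import Cfsg.Agent.Lib.helper35.Fi23aCertData
import Cfsg.Agent.Lib.helper35.Fi23aCertRows0
import Cfsg.Agent.Lib.helper35.Fi23aCertRows1
import Cfsg.Agent.Lib.helper35.Fi23aCertRows2
import Cfsg.Agent.Lib.helper35.Fi23aCertRows3
import Cfsg.Agent.Lib.helper35.Fi23aCertRows4
import Cfsg.Agent.Lib.helper35.Fi23aCertRows5
import Cfsg.Agent.Lib.helper35.Fi23aCertRows6
import Cfsg.Agent.Lib.helper35.Fi23aCertRows7
import Cfsg.Agent.Lib.helper35.Fi23aCertRows8
import Cfsg.Agent.Lib.helper35.Fi23aCertRows9
import Cfsg.Agent.Lib.helper35.Fi23aCertRows10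
import Cfsg.Agent.Lib.helper35.Fi23aCertRows11
import Cfsg.Agent.Lib.helper35.Fi23aCertRows12
import Cfsg.Agent.Lib.helper35.Fi23aCertRows13
import Cfsg.Agent.Lib.helper35.Fi23aCertRows14
import Cfsg.Agent.Lib.helper35.Fi23aCertRows15
import Cfsg.Agent.Lib.helper35.Fi23aCertRows16
import Cfsg.Agent.Lib.helper35.Fi23aCertRows17
import Cfsg.Agent.Lib.helper35.Fi23aCertFin0
import Cfsg.Agent.Lib.helper35.Fi23aCertFin1
import Cfsg.Agent.Lib.helper35.Fi23aCertFin2
import Cfsg.Agent.Lib.helper35.Fi23aCertFin3
import Cfsg.Agent.Lib.helper35.Fi23aCertFin4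
import Cfsg.Agent.Lib.helper35.Fi23aCertFin5
import Cfsg.Agent.Lib.helper35.Fi23aCertFin6
import Cfsg.Agent.Lib.helper35.Fi23aCertFin7
import Cfsg.Agent.Lib.helper35.Fi23aPermRel0
import Cfsg.Agent.Lib.helper35.Fi23aPermRel1
import Cfsg.Agent.Lib.helper35.Fi23aPermRel2
import Cfsg.Agent.Lib.helper35.Fi23aPermRel3
import Cfsg.Agent.Lib.helper35.Fi23aPermRel4
import Cfsg.Agent.Lib.helper35.Fi23aPermRel5
import Cfsg.Agent.Lib.helper35.Fi23aPermRel6
import Cfsg.Agent.Lib.helper35.Fi23aPermRel7
import Cfsg.Agent.Lib.helper35.Fi23aPermRel8
import Cfsg.Agent.Lib.helper35.Fi23aPermRel9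
import Cfsg.Agent.Lib.helper35.Fi23aPermRel10
import Cfsg.Agent.Lib.helper35.Fi23aPermRel11
import Cfsg.Agent.Lib.helper35.Fi23aPermRel12
import Cfsg.Agent.Lib.helper35.Fi23aPermRel13
import Cfsg.Agent.Lib.helper35.Fi23aPermRel14
import Cfsg.Agent.Lib.helper35.Fi23aPermRel15
import Cfsg.Agent.Lib.helper35.Fi23aPermRel16
import Cfsg.Agent.Lib.helper35.Fi23aPermRel17
import Cfsg.Agent.Lib.helper35.Fi23aPermRel18
import Cfsg.Agent.Lib.helper35.Fi23aPermRel19
import Cfsg.Agent.Lib.helper35.Fi23aPermRel20
import Cfsg.Agent.Lib.helper35.Fi23aPermRel21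
import Cfsg.Agent.Lib.helper35.Fi23aPermRel22
import Cfsg.Agent.Lib.helper35.Fi23aPermRel23
import Cfsg.Agent.Lib.helper35.Fi23aPermRel24
import Cfsg.Agent.Lib.helper35.Fi23aPermRel25
import Cfsg.Agent.Lib.helper35.Fi23aPermRel26
import Cfsg.Agent.Lib.helper35.Fi23aPermRel27
import Cfsg.Agent.Lib.helper35.Fi23aPermRel28
import Cfsg.Agent.Lib.helper35.Fi23aPermRel29
import Cfsg.Agent.Lib.helper35.Fi23aPermRel30
import Cfsg.Agent.Lib.helper35.Fi23aPermRel31
import Cfsg.Agent.Lib.helper35.Fi23aPermRel32
import Cfsg.Agent.Lib.helper35.Fi23aPermRel33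
import Cfsg.Agent.Lib.helper35.Fi23aPermRel34
import Cfsg.Agent.Lib.helper35.Fi23aPermRel35
import Cfsg.Agent.Lib.helper35.Fi23aPermRel36
import Cfsg.Agent.Lib.helper35.Fi23aPermRel37
import Cfsg.Agent.Lib.helper35.Fi23aPermRel38
import Cfsg.Agent.Lib.helper35.Fi23aPermRel39
import Cfsg.Agent.Lib.helper35.Fi23aPermRel40
import Cfsg.Agent.Lib.helper35.Fi23aPermRel41
import Cfsg.Agent.Lib.helper35.Fi23aPermRel42
import Cfsg.Agent.Lib.helper35.Fi23aPermRel43
import Cfsg.Agent.Lib.helper35.Fi23aPermRel44
import Cfsg.Agent.Lib.helper35.Fi23aPermRel45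
import Cfsg.Agent.Lib.helper35.Fi23aPermRel46
import Cfsg.Agent.Lib.helper35.Fi23aPermRel47
import Cfsg.Agent.Lib.helper35.Fi23aPermOrb

set_option autoImplicit false
set_option maxRecDepth 100000

namespace Cfsg.Agent.Lib.helper35.Fi23a

theorem cnt0 : countLive C 64484 0 = 31671 := by decide +kernel
theorem rev_ok : ∀ p ∈ C.words, p.2 = p.1.reverse := by decide +kernel
theorem wr_ok : ∀ r, r < C.nrel → (nth ([], []) C.words r).1 ∈ relW := by decide +kernel
theorem ws_ok : ∀ p ∈ C.words, p.1 ∈ relW ∨ p.1 ∈ subW := by decide +kernel
theorem rows_all : ∀ c, c < C.M → rowOK C c = true := by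
  intro c hc
  have hM : C.M = 64484 := rfl
  rcases Nat.lt_or_ge c 300 with h | h
  · exact allRange_spec rows0 c (by omega) (by omega)
  rcases Nat.lt_or_ge c 600 with h | h
  · exact allRange_spec rows1 c (by omega) (by omega)
  rcases Nat.lt_or_ge c 900 with h | h
  · exact allRange_spec rows2 c (by omega) (by omega)
  rcases Nat.lt_or_ge c 1200 with h | h
  · exact allRange_spec rows3 c (by omega) (by omega)
  rcases Nat.lt_or_ge c 1500 with h | h
  · exact allRange_spec rows4 c (by omega) (by omega)
  rcases Nat.lt_or_ge c 1800 with h | h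
  · exact allRange_spec rows5 c (by omega) (by omega)
  rcases Nat.lt_or_ge c 2100 with h | h
  · exact allRange_spec rows6 c (by omega) (by omega)
  rcases Nat.lt_or_ge c 2400 with h | h
  · exact allRange_spec rows7 c (by omega) (by omega)
  rcases Nat.lt_or_ge c 2700 with h | h
  · exact allRange_spec rows8 c (by omega) (by omega)
  rcases Nat.lt_or_ge c 3000 with h | h
  · exact allRange_spec rows9 c (by omega) (by omega)
  rcases Nat.lt_or_ge c 3300 with h | h
  · exact allRange_spec rows10 c (by omega) (by omega)
  rcases Nat.lt_or_ge c 3600 with h | h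
  · exact allRange_spec rows11 c (by omega) (by omega)
  rcases Nat.lt_or_ge c 3900 with h | h
  · exact allRange_spec rows12 c (by omega) (by omega)
  rcases Nat.lt_or_ge c 4200 with h | h
  · exact allRange_spec rows13 c (by omega) (by omega)
  rcases Nat.lt_or_ge c 4500 with h | h
  · exact allRange_spec rows14 c (by omega) (by omega)
  rcases Nat.lt_or_ge c 4800 with h | h
  · exact allRange_spec rows15 c (by omega) (by omega)
  rcases Nat.lt_or_ge c 5100 with h | h
  · exact allRange_spec rows16 c (by omega) (by omega)
  rcases Nat.lt_or_ge c 5400 with h | h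
  · exact allRange_spec rows17 c (by omega) (by omega)
  rcases Nat.lt_or_ge c 5700 with h | h
  · exact allRange_spec rows18 c (by omega) (by omega)
  rcases Nat.lt_or_ge c 6000 with h | h
  · exact allRange_spec rows19 c (by omega) (by omega)
  rcases Nat.lt_or_ge c 6300 with h | h
  · exact allRange_spec rows20 c (by omega) (by omega)
  rcases Nat.lt_or_ge c 6600 with h | h
  · exact allRange_spec rows21 c (by omega) (by omega)
  rcases Nat.lt_or_ge c 6900 with h | h
  · exact allRange_spec rows22 c (by omega) (by omega)
  rcases Nat.lt_or_ge c 7200 with h | h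
  · exact allRange_spec rows23 c (by omega) (by omega)
  rcases Nat.lt_or_ge c 7500 with h | h
  · exact allRange_spec rows24 c (by omega) (by omega)
  rcases Nat.lt_or_ge c 7800 with h | h
  · exact allRange_spec rows25 c (by omega) (by omega)
  rcases Nat.lt_or_ge c 8100 with h | h
  · exact allRange_spec rows26 c (by omega) (by omega)
  rcases Nat.lt_or_ge c 8400 with h | h
  · exact allRange_spec rows27 c (by omega) (by omega)
  rcases Nat.lt_or_ge c 8700 with h | h
  · exact allRange_spec rows28 c (by omega) (by omega)
  rcases Nat.lt_or_ge c 9000 with h | h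
  · exact allRange_spec rows29 c (by omega) (by omega)
  rcases Nat.lt_or_ge c 9300 with h | h
  · exact allRange_spec rows30 c (by omega) (by omega)
  rcases Nat.lt_or_ge c 9600 with h | h
  · exact allRange_spec rows31 c (by omega) (by omega)
  rcases Nat.lt_or_ge c 9900 with h | h
  · exact allRange_spec rows32 c (by omega) (by omega)
  rcases Nat.lt_or_ge c 10200 with h | h
  · exact allRange_spec rows33 c (by omega) (by omega)
  rcases Nat.lt_or_ge c 10500 with h | h
  · exact allRange_spec rows34 c (by omega) (by omega)
  rcases Nat.lt_or_ge c 10800 with h | h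
  · exact allRange_spec rows35 c (by omega) (by omega)
  rcases Nat.lt_or_ge c 11100 with h | h
  · exact allRange_spec rows36 c (by omega) (by omega)
  rcases Nat.lt_or_ge c 11400 with h | h
  · exact allRange_spec rows37 c (by omega) (by omega)
  rcases Nat.lt_or_ge c 11700 with h | h
  · exact allRange_spec rows38 c (by omega) (by omega)
  rcases Nat.lt_or_ge c 12000 with h | h
  · exact allRange_spec rows39 c (by omega) (by omega)
  rcases Nat.lt_or_ge c 12300 with h | h
  · exact allRange_spec rows40 c (by omega) (by omega)
  rcases Nat.lt_or_ge c 12600 with h | h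
  · exact allRange_spec rows41 c (by omega) (by omega)
  rcases Nat.lt_or_ge c 12900 with h | h
  · exact allRange_spec rows42 c (by omega) (by omega)
  rcases Nat.lt_or_ge c 13200 with h | h
  · exact allRange_spec rows43 c (by omega) (by omega)
  rcases Nat.lt_or_ge c 13500 with h | h
  · exact allRange_spec rows44 c (by omega) (by omega)
  rcases Nat.lt_or_ge c 13800 with h | h
  · exact allRange_spec rows45 c (by omega) (by omega)
  rcases Nat.lt_or_ge c 14100 with h | h
  · exact allRange_spec rows46 c (by omega) (by omega)
  rcases Nat.lt_or_ge c 14400 with h | h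
  · exact allRange_spec rows47 c (by omega) (by omega)
  rcases Nat.lt_or_ge c 14700 with h | h
  · exact allRange_spec rows48 c (by omega) (by omega)
  rcases Nat.lt_or_ge c 15000 with h | h
  · exact allRange_spec rows49 c (by omega) (by omega)
  rcases Nat.lt_or_ge c 15300 with h | h
  · exact allRange_spec rows50 c (by omega) (by omega)
  rcases Nat.lt_or_ge c 15600 with h | h
  · exact allRange_spec rows51 c (by omega) (by omega)
  rcases Nat.lt_or_ge c 15900 with h | h
  · exact allRange_spec rows52 c (by omega) (by omega)
  rcases Nat.lt_or_ge c 16200 with h | h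
  · exact allRange_spec rows53 c (by omega) (by omega)
  rcases Nat.lt_or_ge c 16500 with h | h
  · exact allRange_spec rows54 c (by omega) (by omega)
  rcases Nat.lt_or_ge c 16800 with h | h
  · exact allRange_spec rows55 c (by omega) (by omega)
  rcases Nat.lt_or_ge c 17100 with h | h
  · exact allRange_spec rows56 c (by omega) (by omega)
  rcases Nat.lt_or_ge c 17400 with h | h
  · exact allRange_spec rows57 c (by omega) (by omega)
  rcases Nat.lt_or_ge c 17700 with h | h
  · exact allRange_spec rows58 c (by omega) (by omega)
  rcases Nat.lt_or_ge c 18000 with h | h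
  · exact allRange_spec rows59 c (by omega) (by omega)
  rcases Nat.lt_or_ge c 18300 with h | h
  · exact allRange_spec rows60 c (by omega) (by omega)
  rcases Nat.lt_or_ge c 18600 with h | h
  · exact allRange_spec rows61 c (by omega) (by omega)
  rcases Nat.lt_or_ge c 18900 with h | h
  · exact allRange_spec rows62 c (by omega) (by omega)
  rcases Nat.lt_or_ge c 19200 with h | h
  · exact allRange_spec rows63 c (by omega) (by omega)
  rcases Nat.lt_or_ge c 19500 with h | h
  · exact allRange_spec rows64 c (by omega) (by omega)
  rcases Nat.lt_or_ge c 19800 with h | h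
  · exact allRange_spec rows65 c (by omega) (by omega)
  rcases Nat.lt_or_ge c 20100 with h | h
  · exact allRange_spec rows66 c (by omega) (by omega)
  rcases Nat.lt_or_ge c 20400 with h | h
  · exact allRange_spec rows67 c (by omega) (by omega)
  rcases Nat.lt_or_ge c 20700 with h | h
  · exact allRange_spec rows68 c (by omega) (by omega)
  rcases Nat.lt_or_ge c 21000 with h | h
  · exact allRange_spec rows69 c (by omega) (by omega)
  rcases Nat.lt_or_ge c 21300 with h | h
  · exact allRange_spec rows70 c (by omega) (by omega)
  rcases Nat.lt_or_ge c 21600 with h | h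
  · exact allRange_spec rows71 c (by omega) (by omega)
  rcases Nat.lt_or_ge c 21900 with h | h
  · exact allRange_spec rows72 c (by omega) (by omega)
  rcases Nat.lt_or_ge c 22200 with h | h
  · exact allRange_spec rows73 c (by omega) (by omega)
  rcases Nat.lt_or_ge c 22500 with h | h
  · exact allRange_spec rows74 c (by omega) (by omega)
  rcases Nat.lt_or_ge c 22800 with h | h
  · exact allRange_spec rows75 c (by omega) (by omega)
  rcases Nat.lt_or_ge c 23100 with h | h
  · exact allRange_spec rows76 c (by omega) (by omega)
  rcases Nat.lt_or_ge c 23400 with h | h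
  · exact allRange_spec rows77 c (by omega) (by omega)
  rcases Nat.lt_or_ge c 23700 with h | h
  · exact allRange_spec rows78 c (by omega) (by omega)
  rcases Nat.lt_or_ge c 24000 with h | h
  · exact allRange_spec rows79 c (by omega) (by omega)
  rcases Nat.lt_or_ge c 24300 with h | h
  · exact allRange_spec rows80 c (by omega) (by omega)
  rcases Nat.lt_or_ge c 24600 with h | h
  · exact allRange_spec rows81 c (by omega) (by omega)
  rcases Nat.lt_or_ge c 24900 with h | h
  · exact allRange_spec rows82 c (by omega) (by omega)
  rcases Nat.lt_or_ge c 25200 with h | h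
  · exact allRange_spec rows83 c (by omega) (by omega)
  rcases Nat.lt_or_ge c 25500 with h | h
  · exact allRange_spec rows84 c (by omega) (by omega)
  rcases Nat.lt_or_ge c 25800 with h | h
  · exact allRange_spec rows85 c (by omega) (by omega)
  rcases Nat.lt_or_ge c 26100 with h | h
  · exact allRange_spec rows86 c (by omega) (by omega)
  rcases Nat.lt_or_ge c 26400 with h | h
  · exact allRange_spec rows87 c (by omega) (by omega)
  rcases Nat.lt_or_ge c 26700 with h | h
  · exact allRange_spec rows88 c (by omega) (by omega)
  rcases Nat.lt_or_ge c 27000 with h | h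
  · exact allRange_spec rows89 c (by omega) (by omega)
  rcases Nat.lt_or_ge c 27300 with h | h
  · exact allRange_spec rows90 c (by omega) (by omega)
  rcases Nat.lt_or_ge c 27600 with h | h
  · exact allRange_spec rows91 c (by omega) (by omega)
  rcases Nat.lt_or_ge c 27900 with h | h
  · exact allRange_spec rows92 c (by omega) (by omega)
  rcases Nat.lt_or_ge c 28200 with h | h
  · exact allRange_spec rows93 c (by omega) (by omega)
  rcases Nat.lt_or_ge c 28500 with h | h
  · exact allRange_spec rows94 c (by omega) (by omega)
  rcases Nat.lt_or_ge c 28800 with h | h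
  · exact allRange_spec rows95 c (by omega) (by omega)
  rcases Nat.lt_or_ge c 29100 with h | h
  · exact allRange_spec rows96 c (by omega) (by omega)
  rcases Nat.lt_or_ge c 29400 with h | h
  · exact allRange_spec rows97 c (by omega) (by omega)
  rcases Nat.lt_or_ge c 29700 with h | h
  · exact allRange_spec rows98 c (by omega) (by omega)
  rcases Nat.lt_or_ge c 30000 with h | h
  · exact allRange_spec rows99 c (by omega) (by omega)
  rcases Nat.lt_or_ge c 30300 with h | h
  · exact allRange_spec rows100 c (by omega) (by omega)
  rcases Nat.lt_or_ge c 30600 with h | h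
  · exact allRange_spec rows101 c (by omega) (by omega)
  rcases Nat.lt_or_ge c 30900 with h | h
  · exact allRange_spec rows102 c (by omega) (by omega)
  rcases Nat.lt_or_ge c 31200 with h | h
  · exact allRange_spec rows103 c (by omega) (by omega)
  rcases Nat.lt_or_ge c 31500 with h | h
  · exact allRange_spec rows104 c (by omega) (by omega)
  rcases Nat.lt_or_ge c 31800 with h | h
  · exact allRange_spec rows105 c (by omega) (by omega)
  rcases Nat.lt_or_ge c 32100 with h | h
  · exact allRange_spec rows106 c (by omega) (by omega)
  rcases Nat.lt_or_ge c 32400 with h | h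
  · exact allRange_spec rows107 c (by omega) (by omega)
  rcases Nat.lt_or_ge c 32700 with h | h
  · exact allRange_spec rows108 c (by omega) (by omega)
  rcases Nat.lt_or_ge c 33000 with h | h
  · exact allRange_spec rows109 c (by omega) (by omega)
  rcases Nat.lt_or_ge c 33300 with h | h
  · exact allRange_spec rows110 c (by omega) (by omega)
  rcases Nat.lt_or_ge c 33600 with h | h
  · exact allRange_spec rows111 c (by omega) (by omega)
  rcases Nat.lt_or_ge c 33900 with h | h
  · exact allRange_spec rows112 c (by omega) (by omega)
  rcases Nat.lt_or_ge c 34200 with h | h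
  · exact allRange_spec rows113 c (by omega) (by omega)
  rcases Nat.lt_or_ge c 34500 with h | h
  · exact allRange_spec rows114 c (by omega) (by omega)
  rcases Nat.lt_or_ge c 34800 with h | h
  · exact allRange_spec rows115 c (by omega) (by omega)
  rcases Nat.lt_or_ge c 35100 with h | h
  · exact allRange_spec rows116 c (by omega) (by omega)
  rcases Nat.lt_or_ge c 35400 with h | h
  · exact allRange_spec rows117 c (by omega) (by omega)
  rcases Nat.lt_or_ge c 35700 with h | h
  · exact allRange_spec rows118 c (by omega) (by omega)
  rcases Nat.lt_or_ge c 36000 with h | h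
  · exact allRange_spec rows119 c (by omega) (by omega)
  rcases Nat.lt_or_ge c 36300 with h | h
  · exact allRange_spec rows120 c (by omega) (by omega)
  rcases Nat.lt_or_ge c 36600 with h | h
  · exact allRange_spec rows121 c (by omega) (by omega)
  rcases Nat.lt_or_ge c 36900 with h | h
  · exact allRange_spec rows122 c (by omega) (by omega)
  rcases Nat.lt_or_ge c 37200 with h | h
  · exact allRange_spec rows123 c (by omega) (by omega)
  rcases Nat.lt_or_ge c 37500 with h | h
  · exact allRange_spec rows124 c (by omega) (by omega)
  rcases Nat.lt_or_ge c 37800 with h | h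
  · exact allRange_spec rows125 c (by omega) (by omega)
  rcases Nat.lt_or_ge c 38100 with h | h
  · exact allRange_spec rows126 c (by omega) (by omega)
  rcases Nat.lt_or_ge c 38400 with h | h
  · exact allRange_spec rows127 c (by omega) (by omega)
  rcases Nat.lt_or_ge c 38700 with h | h
  · exact allRange_spec rows128 c (by omega) (by omega)
  rcases Nat.lt_or_ge c 39000 with h | h
  · exact allRange_spec rows129 c (by omega) (by omega)
  rcases Nat.lt_or_ge c 39300 with h | h
  · exact allRange_spec rows130 c (by omega) (by omega)
  rcases Nat.lt_or_ge c 39600 with h | h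
  · exact allRange_spec rows131 c (by omega) (by omega)
  rcases Nat.lt_or_ge c 39900 with h | h
  · exact allRange_spec rows132 c (by omega) (by omega)
  rcases Nat.lt_or_ge c 40200 with h | h
  · exact allRange_spec rows133 c (by omega) (by omega)
  rcases Nat.lt_or_ge c 40500 with h | h
  · exact allRange_spec rows134 c (by omega) (by omega)
  rcases Nat.lt_or_ge c 40800 with h | h
  · exact allRange_spec rows135 c (by omega) (by omega)
  rcases Nat.lt_or_ge c 41100 with h | h
  · exact allRange_spec rows136 c (by omega) (by omega)
  rcases Nat.lt_or_ge c 41400 with h | h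
  · exact allRange_spec rows137 c (by omega) (by omega)
  rcases Nat.lt_or_ge c 41700 with h | h
  · exact allRange_spec rows138 c (by omega) (by omega)
  rcases Nat.lt_or_ge c 42000 with h | h
  · exact allRange_spec rows139 c (by omega) (by omega)
  rcases Nat.lt_or_ge c 42300 with h | h
  · exact allRange_spec rows140 c (by omega) (by omega)
  rcases Nat.lt_or_ge c 42600 with h | h
  · exact allRange_spec rows141 c (by omega) (by omega)
  rcases Nat.lt_or_ge c 42900 with h | h
  · exact allRange_spec rows142 c (by omega) (by omega)
  rcases Nat.lt_or_ge c 43200 with h | h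
  · exact allRange_spec rows143 c (by omega) (by omega)
  rcases Nat.lt_or_ge c 43500 with h | h
  · exact allRange_spec rows144 c (by omega) (by omega)
  rcases Nat.lt_or_ge c 43800 with h | h
  · exact allRange_spec rows145 c (by omega) (by omega)
  rcases Nat.lt_or_ge c 44100 with h | h
  · exact allRange_spec rows146 c (by omega) (by omega)
  rcases Nat.lt_or_ge c 44400 with h | h
  · exact allRange_spec rows147 c (by omega) (by omega)
  rcases Nat.lt_or_ge c 44700 with h | h
  · exact allRange_spec rows148 c (by omega) (by omega)
  rcases Nat.lt_or_ge c 45000 with h | h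
  · exact allRange_spec rows149 c (by omega) (by omega)
  rcases Nat.lt_or_ge c 45300 with h | h
  · exact allRange_spec rows150 c (by omega) (by omega)
  rcases Nat.lt_or_ge c 45600 with h | h
  · exact allRange_spec rows151 c (by omega) (by omega)
  rcases Nat.lt_or_ge c 45900 with h | h
  · exact allRange_spec rows152 c (by omega) (by omega)
  rcases Nat.lt_or_ge c 46200 with h | h
  · exact allRange_spec rows153 c (by omega) (by omega)
  rcases Nat.lt_or_ge c 46500 with h | h
  · exact allRange_spec rows154 c (by omega) (by omega)
  rcases Nat.lt_or_ge c 46800 with h | h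
  · exact allRange_spec rows155 c (by omega) (by omega)
  rcases Nat.lt_or_ge c 47100 with h | h
  · exact allRange_spec rows156 c (by omega) (by omega)
  rcases Nat.lt_or_ge c 47400 with h | h
  · exact allRange_spec rows157 c (by omega) (by omega)
  rcases Nat.lt_or_ge c 47700 with h | h
  · exact allRange_spec rows158 c (by omega) (by omega)
  rcases Nat.lt_or_ge c 48000 with h | h
  · exact allRange_spec rows159 c (by omega) (by omega)
  rcases Nat.lt_or_ge c 48300 with h | h
  · exact allRange_spec rows160 c (by omega) (by omega)
  rcases Nat.lt_or_ge c 48600 with h | h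
  · exact allRange_spec rows161 c (by omega) (by omega)
  rcases Nat.lt_or_ge c 48900 with h | h
  · exact allRange_spec rows162 c (by omega) (by omega)
  rcases Nat.lt_or_ge c 49200 with h | h
  · exact allRange_spec rows163 c (by omega) (by omega)
  rcases Nat.lt_or_ge c 49500 with h | h
  · exact allRange_spec rows164 c (by omega) (by omega)
  rcases Nat.lt_or_ge c 49800 with h | h
  · exact allRange_spec rows165 c (by omega) (by omega)
  rcases Nat.lt_or_ge c 50100 with h | h
  · exact allRange_spec rows166 c (by omega) (by omega)
  rcases Nat.lt_or_ge c 50400 with h | h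
  · exact allRange_spec rows167 c (by omega) (by omega)
  rcases Nat.lt_or_ge c 50700 with h | h
  · exact allRange_spec rows168 c (by omega) (by omega)
  rcases Nat.lt_or_ge c 51000 with h | h
  · exact allRange_spec rows169 c (by omega) (by omega)
  rcases Nat.lt_or_ge c 51300 with h | h
  · exact allRange_spec rows170 c (by omega) (by omega)
  rcases Nat.lt_or_ge c 51600 with h | h
  · exact allRange_spec rows171 c (by omega) (by omega)
  rcases Nat.lt_or_ge c 51900 with h | h
  · exact allRange_spec rows172 c (by omega) (by omega)
  rcases Nat.lt_or_ge c 52200 with h | h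
  · exact allRange_spec rows173 c (by omega) (by omega)
  rcases Nat.lt_or_ge c 52500 with h | h
  · exact allRange_spec rows174 c (by omega) (by omega)
  rcases Nat.lt_or_ge c 52800 with h | h
  · exact allRange_spec rows175 c (by omega) (by omega)
  rcases Nat.lt_or_ge c 53100 with h | h
  · exact allRange_spec rows176 c (by omega) (by omega)
  rcases Nat.lt_or_ge c 53400 with h | h
  · exact allRange_spec rows177 c (by omega) (by omega)
  rcases Nat.lt_or_ge c 53700 with h | h
  · exact allRange_spec rows178 c (by omega) (by omega)
  rcases Nat.lt_or_ge c 54000 with h | h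
  · exact allRange_spec rows179 c (by omega) (by omega)
  rcases Nat.lt_or_ge c 54300 with h | h
  · exact allRange_spec rows180 c (by omega) (by omega)
  rcases Nat.lt_or_ge c 54600 with h | h
  · exact allRange_spec rows181 c (by omega) (by omega)
  rcases Nat.lt_or_ge c 54900 with h | h
  · exact allRange_spec rows182 c (by omega) (by omega)
  rcases Nat.lt_or_ge c 55200 with h | h
  · exact allRange_spec rows183 c (by omega) (by omega)
  rcases Nat.lt_or_ge c 55500 with h | h
  · exact allRange_spec rows184 c (by omega) (by omega)
  rcases Nat.lt_or_ge c 55800 with h | h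
  · exact allRange_spec rows185 c (by omega) (by omega)
  rcases Nat.lt_or_ge c 56100 with h | h
  · exact allRange_spec rows186 c (by omega) (by omega)
  rcases Nat.lt_or_ge c 56400 with h | h
  · exact allRange_spec rows187 c (by omega) (by omega)
  rcases Nat.lt_or_ge c 56700 with h | h
  · exact allRange_spec rows188 c (by omega) (by omega)
  rcases Nat.lt_or_ge c 57000 with h | h
  · exact allRange_spec rows189 c (by omega) (by omega)
  rcases Nat.lt_or_ge c 57300 with h | h
  · exact allRange_spec rows190 c (by omega) (by omega)
  rcases Nat.lt_or_ge c 57600 with h | h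
  · exact allRange_spec rows191 c (by omega) (by omega)
  rcases Nat.lt_or_ge c 57900 with h | h
  · exact allRange_spec rows192 c (by omega) (by omega)
  rcases Nat.lt_or_ge c 58200 with h | h
  · exact allRange_spec rows193 c (by omega) (by omega)
  rcases Nat.lt_or_ge c 58500 with h | h
  · exact allRange_spec rows194 c (by omega) (by omega)
  rcases Nat.lt_or_ge c 58800 with h | h
  · exact allRange_spec rows195 c (by omega) (by omega)
  rcases Nat.lt_or_ge c 59100 with h | h
  · exact allRange_spec rows196 c (by omega) (by omega)
  rcases Nat.lt_or_ge c 59400 with h | h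
  · exact allRange_spec rows197 c (by omega) (by omega)
  rcases Nat.lt_or_ge c 59700 with h | h
  · exact allRange_spec rows198 c (by omega) (by omega)
  rcases Nat.lt_or_ge c 60000 with h | h
  · exact allRange_spec rows199 c (by omega) (by omega)
  rcases Nat.lt_or_ge c 60300 with h | h
  · exact allRange_spec rows200 c (by omega) (by omega)
  rcases Nat.lt_or_ge c 60600 with h | h
  · exact allRange_spec rows201 c (by omega) (by omega)
  rcases Nat.lt_or_ge c 60900 with h | h
  · exact allRange_spec rows202 c (by omega) (by omega)
  rcases Nat.lt_or_ge c 61200 with h | h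
  · exact allRange_spec rows203 c (by omega) (by omega)
  rcases Nat.lt_or_ge c 61500 with h | h
  · exact allRange_spec rows204 c (by omega) (by omega)
  rcases Nat.lt_or_ge c 61800 with h | h
  · exact allRange_spec rows205 c (by omega) (by omega)
  rcases Nat.lt_or_ge c 62100 with h | h
  · exact allRange_spec rows206 c (by omega) (by omega)
  rcases Nat.lt_or_ge c 62400 with h | h
  · exact allRange_spec rows207 c (by omega) (by omega)
  rcases Nat.lt_or_ge c 62700 with h | h
  · exact allRange_spec rows208 c (by omega) (by omega)
  rcases Nat.lt_or_ge c 63000 with h | h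
  · exact allRange_spec rows209 c (by omega) (by omega)
  rcases Nat.lt_or_ge c 63300 with h | h
  · exact allRange_spec rows210 c (by omega) (by omega)
  rcases Nat.lt_or_ge c 63600 with h | h
  · exact allRange_spec rows211 c (by omega) (by omega)
  rcases Nat.lt_or_ge c 63900 with h | h
  · exact allRange_spec rows212 c (by omega) (by omega)
  rcases Nat.lt_or_ge c 64200 with h | h
  · exact allRange_spec rows213 c (by omega) (by omega)
  exact allRange_spec rows214 c (by omega) (by omega)

theorem fin_all : ∀ c, c < C.M → finOK C c = true := by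
  intro c hc
  have hM : C.M = 64484 := rfl
  rcases Nat.lt_or_ge c 4096 with h | h
  · exact allRange_spec fin0 c (by omega) (by omega)
  rcases Nat.lt_or_ge c 8192 with h | h
  · exact allRange_spec fin1 c (by omega) (by omega)
  rcases Nat.lt_or_ge c 12288 with h | h
  · exact allRange_spec fin2 c (by omega) (by omega)
  rcases Nat.lt_or_ge c 16384 with h | h
  · exact allRange_spec fin3 c (by omega) (by omega)
  rcases Nat.lt_or_ge c 20480 with h | h
  · exact allRange_spec fin4 c (by omega) (by omega)
  rcases Nat.lt_or_ge c 24576 with h | h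
  · exact allRange_spec fin5 c (by omega) (by omega)
  rcases Nat.lt_or_ge c 28672 with h | h
  · exact allRange_spec fin6 c (by omega) (by omega)
  rcases Nat.lt_or_ge c 32768 with h | h
  · exact allRange_spec fin7 c (by omega) (by omega)
  rcases Nat.lt_or_ge c 36864 with h | h
  · exact allRange_spec fin8 c (by omega) (by omega)
  rcases Nat.lt_or_ge c 40960 with h | h
  · exact allRange_spec fin9 c (by omega) (by omega)
  rcases Nat.lt_or_ge c 45056 with h | h
  · exact allRange_spec fin10 c (by omega) (by omega)
  rcases Nat.lt_or_ge c 49152 with h | h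
  · exact allRange_spec fin11 c (by omega) (by omega)
  rcases Nat.lt_or_ge c 53248 with h | h
  · exact allRange_spec fin12 c (by omega) (by omega)
  rcases Nat.lt_or_ge c 57344 with h | h
  · exact allRange_spec fin13 c (by omega) (by omega)
  rcases Nat.lt_or_ge c 61440 with h | h
  · exact allRange_spec fin14 c (by omega) (by omega)
  exact allRange_spec fin15 c (by omega) (by omega)

theorem inv_ok : ∀ l, l < D.K → allRange (invOK D l) 0 D.n = true := by
  intro l hl
  have hK : D.K = 10 := rfl
  rw [hK] at hl
  interval_cases l
  · exact inv0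
  · exact inv1
  · exact inv2
  · exact inv3
  · exact inv4
  · exact inv5
  · exact inv6
  · exact inv7
  · exact inv8
  · exact inv9

theorem relg0 : ∀ w ∈ relW0, allRange (relOK D w) 0 D.n = true := by
  intro w hw
  apply allRange_of_forall
  intro c hc1 hc2
  have hn : D.n = 31671 := rfl
  rcases Nat.lt_or_ge c 4096 with h | h
  · exact allRange_spec (allList_spec rel0_0 w hw) c (by omega) (by omega)
  rcases Nat.lt_or_ge c 8192 with h | h
  · exact allRange_spec (allList_spec rel0_1 w hw) c (by omega) (by omega)
  rcases Nat.lt_or_ge c 12288 with h | h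
  · exact allRange_spec (allList_spec rel0_2 w hw) c (by omega) (by omega)
  rcases Nat.lt_or_ge c 16384 with h | h
  · exact allRange_spec (allList_spec rel0_3 w hw) c (by omega) (by omega)
  rcases Nat.lt_or_ge c 20480 with h | h
  · exact allRange_spec (allList_spec rel0_4 w hw) c (by omega) (by omega)
  rcases Nat.lt_or_ge c 24576 with h | h
  · exact allRange_spec (allList_spec rel0_5 w hw) c (by omega) (by omega)
  rcases Nat.lt_or_ge c 28672 with h | h
  · exact allRange_spec (allList_spec rel0_6 w hw) c (by omega) (by omega)
  exact allRange_spec (allList_spec rel0_7 w hw) c (by omega) (by omega)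

theorem relg1 : ∀ w ∈ relW1, allRange (relOK D w) 0 D.n = true := by
  intro w hw
  apply allRange_of_forall
  intro c hc1 hc2
  have hn : D.n = 31671 := rfl
  rcases Nat.lt_or_ge c 4096 with h | h
  · exact allRange_spec (allList_spec rel1_0 w hw) c (by omega) (by omega)
  rcases Nat.lt_or_ge c 8192 with h | h
  · exact allRange_spec (allList_spec rel1_1 w hw) c (by omega) (by omega)
  rcases Nat.lt_or_ge c 12288 with h | h
  · exact allRange_spec (allList_spec rel1_2 w hw) c (by omega) (by omega)
  rcases Nat.lt_or_ge c 16384 with h | h
  · exact allRange_spec (allList_spec rel1_3 w hw) c (by omega) (by omega)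
  rcases Nat.lt_or_ge c 20480 with h | h
  · exact allRange_spec (allList_spec rel1_4 w hw) c (by omega) (by omega)
  rcases Nat.lt_or_ge c 24576 with h | h
  · exact allRange_spec (allList_spec rel1_5 w hw) c (by omega) (by omega)
  rcases Nat.lt_or_ge c 28672 with h | h
  · exact allRange_spec (allList_spec rel1_6 w hw) c (by omega) (by omega)
  exact allRange_spec (allList_spec rel1_7 w hw) c (by omega) (by omega)

theorem relg2 : ∀ w ∈ relW2, allRange (relOK D w) 0 D.n = true := by
  intro w hw
  apply allRange_of_forall
  intro c hc1 hc2
  have hn : D.n = 31671 := rfl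
  rcases Nat.lt_or_ge c 4096 with h | h
  · exact allRange_spec (allList_spec rel2_0 w hw) c (by omega) (by omega)
  rcases Nat.lt_or_ge c 8192 with h | h
  · exact allRange_spec (allList_spec rel2_1 w hw) c (by omega) (by omega)
  rcases Nat.lt_or_ge c 12288 with h | h
  · exact allRange_spec (allList_spec rel2_2 w hw) c (by omega) (by omega)
  rcases Nat.lt_or_ge c 16384 with h | h
  · exact allRange_spec (allList_spec rel2_3 w hw) c (by omega) (by omega)
  rcases Nat.lt_or_ge c 20480 with h | h
  · exact allRange_spec (allList_spec rel2_4 w hw) c (by omega) (by omega)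
  rcases Nat.lt_or_ge c 24576 with h | h
  · exact allRange_spec (allList_spec rel2_5 w hw) c (by omega) (by omega)
  rcases Nat.lt_or_ge c 28672 with h | h
  · exact allRange_spec (allList_spec rel2_6 w hw) c (by omega) (by omega)
  exact allRange_spec (allList_spec rel2_7 w hw) c (by omega) (by omega)

theorem relg3 : ∀ w ∈ relW3, allRange (relOK D w) 0 D.n = true := by
  intro w hw
  apply allRange_of_forall
  intro c hc1 hc2
  have hn : D.n = 31671 := rfl
  rcases Nat.lt_or_ge c 4096 with h | h
  · exact allRange_spec (allList_spec rel3_0 w hw) c (by omega) (by omega)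
  rcases Nat.lt_or_ge c 8192 with h | h
  · exact allRange_spec (allList_spec rel3_1 w hw) c (by omega) (by omega)
  rcases Nat.lt_or_ge c 12288 with h | h
  · exact allRange_spec (allList_spec rel3_2 w hw) c (by omega) (by omega)
  rcases Nat.lt_or_ge c 16384 with h | h
  · exact allRange_spec (allList_spec rel3_3 w hw) c (by omega) (by omega)
  rcases Nat.lt_or_ge c 20480 with h | h
  · exact allRange_spec (allList_spec rel3_4 w hw) c (by omega) (by omega)
  rcases Nat.lt_or_ge c 24576 with h | h
  · exact allRange_spec (allList_spec rel3_5 w hw) c (by omega) (by omega)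
  rcases Nat.lt_or_ge c 28672 with h | h
  · exact allRange_spec (allList_spec rel3_6 w hw) c (by omega) (by omega)
  exact allRange_spec (allList_spec rel3_7 w hw) c (by omega) (by omega)

theorem relg4 : ∀ w ∈ relW4, allRange (relOK D w) 0 D.n = true := by
  intro w hw
  apply allRange_of_forall
  intro c hc1 hc2
  have hn : D.n = 31671 := rfl
  rcases Nat.lt_or_ge c 4096 with h | h
  · exact allRange_spec (allList_spec rel4_0 w hw) c (by omega) (by omega)
  rcases Nat.lt_or_ge c 8192 with h | h
  · exact allRange_spec (allList_spec rel4_1 w hw) c (by omega) (by omega)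
  rcases Nat.lt_or_ge c 12288 with h | h
  · exact allRange_spec (allList_spec rel4_2 w hw) c (by omega) (by omega)
  rcases Nat.lt_or_ge c 16384 with h | h
  · exact allRange_spec (allList_spec rel4_3 w hw) c (by omega) (by omega)
  rcases Nat.lt_or_ge c 20480 with h | h
  · exact allRange_spec (allList_spec rel4_4 w hw) c (by omega) (by omega)
  rcases Nat.lt_or_ge c 24576 with h | h
  · exact allRange_spec (allList_spec rel4_5 w hw) c (by omega) (by omega)
  rcases Nat.lt_or_ge c 28672 with h | h
  · exact allRange_spec (allList_spec rel4_6 w hw) c (by omega) (by omega)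
  exact allRange_spec (allList_spec rel4_7 w hw) c (by omega) (by omega)

theorem relg5 : ∀ w ∈ relW5, allRange (relOK D w) 0 D.n = true := by
  intro w hw
  apply allRange_of_forall
  intro c hc1 hc2
  have hn : D.n = 31671 := rfl
  rcases Nat.lt_or_ge c 4096 with h | h
  · exact allRange_spec (allList_spec rel5_0 w hw) c (by omega) (by omega)
  rcases Nat.lt_or_ge c 8192 with h | h
  · exact allRange_spec (allList_spec rel5_1 w hw) c (by omega) (by omega)
  rcases Nat.lt_or_ge c 12288 with h | h
  · exact allRange_spec (allList_spec rel5_2 w hw) c (by omega) (by omega)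
  rcases Nat.lt_or_ge c 16384 with h | h
  · exact allRange_spec (allList_spec rel5_3 w hw) c (by omega) (by omega)
  rcases Nat.lt_or_ge c 20480 with h | h
  · exact allRange_spec (allList_spec rel5_4 w hw) c (by omega) (by omega)
  rcases Nat.lt_or_ge c 24576 with h | h
  · exact allRange_spec (allList_spec rel5_5 w hw) c (by omega) (by omega)
  rcases Nat.lt_or_ge c 28672 with h | h
  · exact allRange_spec (allList_spec rel5_6 w hw) c (by omega) (by omega)
  exact allRange_spec (allList_spec rel5_7 w hw) c (by omega) (by omega)

theorem relg6 : ∀ w ∈ relW6, allRange (relOK D w) 0 D.n = true := by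
  intro w hw
  apply allRange_of_forall
  intro c hc1 hc2
  have hn : D.n = 31671 := rfl
  rcases Nat.lt_or_ge c 4096 with h | h
  · exact allRange_spec (allList_spec rel6_0 w hw) c (by omega) (by omega)
  rcases Nat.lt_or_ge c 8192 with h | h
  · exact allRange_spec (allList_spec rel6_1 w hw) c (by omega) (by omega)
  rcases Nat.lt_or_ge c 12288 with h | h
  · exact allRange_spec (allList_spec rel6_2 w hw) c (by omega) (by omega)
  rcases Nat.lt_or_ge c 16384 with h | h
  · exact allRange_spec (allList_spec rel6_3 w hw) c (by omega) (by omega)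
  rcases Nat.lt_or_ge c 20480 with h | h
  · exact allRange_spec (allList_spec rel6_4 w hw) c (by omega) (by omega)
  rcases Nat.lt_or_ge c 24576 with h | h
  · exact allRange_spec (allList_spec rel6_5 w hw) c (by omega) (by omega)
  rcases Nat.lt_or_ge c 28672 with h | h
  · exact allRange_spec (allList_spec rel6_6 w hw) c (by omega) (by omega)
  exact allRange_spec (allList_spec rel6_7 w hw) c (by omega) (by omega)

theorem relg7 : ∀ w ∈ relW7, allRange (relOK D w) 0 D.n = true := by
  intro w hw
  apply allRange_of_forall
  intro c hc1 hc2
  have hn : D.n = 31671 := rfl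
  rcases Nat.lt_or_ge c 4096 with h | h
  · exact allRange_spec (allList_spec rel7_0 w hw) c (by omega) (by omega)
  rcases Nat.lt_or_ge c 8192 with h | h
  · exact allRange_spec (allList_spec rel7_1 w hw) c (by omega) (by omega)
  rcases Nat.lt_or_ge c 12288 with h | h
  · exact allRange_spec (allList_spec rel7_2 w hw) c (by omega) (by omega)
  rcases Nat.lt_or_ge c 16384 with h | h
  · exact allRange_spec (allList_spec rel7_3 w hw) c (by omega) (by omega)
  rcases Nat.lt_or_ge c 20480 with h | h
  · exact allRange_spec (allList_spec rel7_4 w hw) c (by omega) (by omega)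
  rcases Nat.lt_or_ge c 24576 with h | h
  · exact allRange_spec (allList_spec rel7_5 w hw) c (by omega) (by omega)
  rcases Nat.lt_or_ge c 28672 with h | h
  · exact allRange_spec (allList_spec rel7_6 w hw) c (by omega) (by omega)
  exact allRange_spec (allList_spec rel7_7 w hw) c (by omega) (by omega)

theorem relg8 : ∀ w ∈ relW8, allRange (relOK D w) 0 D.n = true := by
  intro w hw
  apply allRange_of_forall
  intro c hc1 hc2
  have hn : D.n = 31671 := rfl
  rcases Nat.lt_or_ge c 4096 with h | h
  · exact allRange_spec (allList_spec rel8_0 w hw) c (by omega) (by omega)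
  rcases Nat.lt_or_ge c 8192 with h | h
  · exact allRange_spec (allList_spec rel8_1 w hw) c (by omega) (by omega)
  rcases Nat.lt_or_ge c 12288 with h | h
  · exact allRange_spec (allList_spec rel8_2 w hw) c (by omega) (by omega)
  rcases Nat.lt_or_ge c 16384 with h | h
  · exact allRange_spec (allList_spec rel8_3 w hw) c (by omega) (by omega)
  rcases Nat.lt_or_ge c 20480 with h | h
  · exact allRange_spec (allList_spec rel8_4 w hw) c (by omega) (by omega)
  rcases Nat.lt_or_ge c 24576 with h | h
  · exact allRange_spec (allList_spec rel8_5 w hw) c (by omega) (by omega)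
  rcases Nat.lt_or_ge c 28672 with h | h
  · exact allRange_spec (allList_spec rel8_6 w hw) c (by omega) (by omega)
  exact allRange_spec (allList_spec rel8_7 w hw) c (by omega) (by omega)

theorem relg9 : ∀ w ∈ relW9, allRange (relOK D w) 0 D.n = true := by
  intro w hw
  apply allRange_of_forall
  intro c hc1 hc2
  have hn : D.n = 31671 := rfl
  rcases Nat.lt_or_ge c 4096 with h | h
  · exact allRange_spec (allList_spec rel9_0 w hw) c (by omega) (by omega)
  rcases Nat.lt_or_ge c 8192 with h | h
  · exact allRange_spec (allList_spec rel9_1 w hw) c (by omega) (by omega)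
  rcases Nat.lt_or_ge c 12288 with h | h
  · exact allRange_spec (allList_spec rel9_2 w hw) c (by omega) (by omega)
  rcases Nat.lt_or_ge c 16384 with h | h
  · exact allRange_spec (allList_spec rel9_3 w hw) c (by omega) (by omega)
  rcases Nat.lt_or_ge c 20480 with h | h
  · exact allRange_spec (allList_spec rel9_4 w hw) c (by omega) (by omega)
  rcases Nat.lt_or_ge c 24576 with h | h
  · exact allRange_spec (allList_spec rel9_5 w hw) c (by omega) (by omega)
  rcases Nat.lt_or_ge c 28672 with h | h
  · exact allRange_spec (allList_spec rel9_6 w hw) c (by omega) (by omega)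
  exact allRange_spec (allList_spec rel9_7 w hw) c (by omega) (by omega)

theorem relg10 : ∀ w ∈ relW10, allRange (relOK D w) 0 D.n = true := by
  intro w hw
  apply allRange_of_forall
  intro c hc1 hc2
  have hn : D.n = 31671 := rfl
  rcases Nat.lt_or_ge c 4096 with h | h
  · exact allRange_spec (allList_spec rel10_0 w hw) c (by omega) (by omega)
  rcases Nat.lt_or_ge c 8192 with h | h
  · exact allRange_spec (allList_spec rel10_1 w hw) c (by omega) (by omega)
  rcases Nat.lt_or_ge c 12288 with h | h
  · exact allRange_spec (allList_spec rel10_2 w hw) c (by omega) (by omega)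
  rcases Nat.lt_or_ge c 16384 with h | h
  · exact allRange_spec (allList_spec rel10_3 w hw) c (by omega) (by omega)
  rcases Nat.lt_or_ge c 20480 with h | h
  · exact allRange_spec (allList_spec rel10_4 w hw) c (by omega) (by omega)
  rcases Nat.lt_or_ge c 24576 with h | h
  · exact allRange_spec (allList_spec rel10_5 w hw) c (by omega) (by omega)
  rcases Nat.lt_or_ge c 28672 with h | h
  · exact allRange_spec (allList_spec rel10_6 w hw) c (by omega) (by omega)
  exact allRange_spec (allList_spec rel10_7 w hw) c (by omega) (by omega)

theorem relg11 : ∀ w ∈ relW11, allRange (relOK D w) 0 D.n = true := by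
  intro w hw
  apply allRange_of_forall
  intro c hc1 hc2
  have hn : D.n = 31671 := rfl
  rcases Nat.lt_or_ge c 4096 with h | h
  · exact allRange_spec (allList_spec rel11_0 w hw) c (by omega) (by omega)
  rcases Nat.lt_or_ge c 8192 with h | h
  · exact allRange_spec (allList_spec rel11_1 w hw) c (by omega) (by omega)
  rcases Nat.lt_or_ge c 12288 with h | h
  · exact allRange_spec (allList_spec rel11_2 w hw) c (by omega) (by omega)
  rcases Nat.lt_or_ge c 16384 with h | h
  · exact allRange_spec (allList_spec rel11_3 w hw) c (by omega) (by omega)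
  rcases Nat.lt_or_ge c 20480 with h | h
  · exact allRange_spec (allList_spec rel11_4 w hw) c (by omega) (by omega)
  rcases Nat.lt_or_ge c 24576 with h | h
  · exact allRange_spec (allList_spec rel11_5 w hw) c (by omega) (by omega)
  rcases Nat.lt_or_ge c 28672 with h | h
  · exact allRange_spec (allList_spec rel11_6 w hw) c (by omega) (by omega)
  exact allRange_spec (allList_spec rel11_7 w hw) c (by omega) (by omega)

theorem relg12 : ∀ w ∈ relW12, allRange (relOK D w) 0 D.n = true := by
  intro w hw
  apply allRange_of_forall
  intro c hc1 hc2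
  have hn : D.n = 31671 := rfl
  rcases Nat.lt_or_ge c 4096 with h | h
  · exact allRange_spec (allList_spec rel12_0 w hw) c (by omega) (by omega)
  rcases Nat.lt_or_ge c 8192 with h | h
  · exact allRange_spec (allList_spec rel12_1 w hw) c (by omega) (by omega)
  rcases Nat.lt_or_ge c 12288 with h | h
  · exact allRange_spec (allList_spec rel12_2 w hw) c (by omega) (by omega)
  rcases Nat.lt_or_ge c 16384 with h | h
  · exact allRange_spec (allList_spec rel12_3 w hw) c (by omega) (by omega)
  rcases Nat.lt_or_ge c 20480 with h | h
  · exact allRange_spec (allList_spec rel12_4 w hw) c (by omega) (by omega)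
  rcases Nat.lt_or_ge c 24576 with h | h
  · exact allRange_spec (allList_spec rel12_5 w hw) c (by omega) (by omega)
  rcases Nat.lt_or_ge c 28672 with h | h
  · exact allRange_spec (allList_spec rel12_6 w hw) c (by omega) (by omega)
  exact allRange_spec (allList_spec rel12_7 w hw) c (by omega) (by omega)

theorem relg13 : ∀ w ∈ relW13, allRange (relOK D w) 0 D.n = true := by
  intro w hw
  apply allRange_of_forall
  intro c hc1 hc2
  have hn : D.n = 31671 := rfl
  rcases Nat.lt_or_ge c 4096 with h | h
  · exact allRange_spec (allList_spec rel13_0 w hw) c (by omega) (by omega)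
  rcases Nat.lt_or_ge c 8192 with h | h
  · exact allRange_spec (allList_spec rel13_1 w hw) c (by omega) (by omega)
  rcases Nat.lt_or_ge c 12288 with h | h
  · exact allRange_spec (allList_spec rel13_2 w hw) c (by omega) (by omega)
  rcases Nat.lt_or_ge c 16384 with h | h
  · exact allRange_spec (allList_spec rel13_3 w hw) c (by omega) (by omega)
  rcases Nat.lt_or_ge c 20480 with h | h
  · exact allRange_spec (allList_spec rel13_4 w hw) c (by omega) (by omega)
  rcases Nat.lt_or_ge c 24576 with h | h
  · exact allRange_spec (allList_spec rel13_5 w hw) c (by omega) (by omega)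
  rcases Nat.lt_or_ge c 28672 with h | h
  · exact allRange_spec (allList_spec rel13_6 w hw) c (by omega) (by omega)
  exact allRange_spec (allList_spec rel13_7 w hw) c (by omega) (by omega)

theorem relg14 : ∀ w ∈ relW14, allRange (relOK D w) 0 D.n = true := by
  intro w hw
  apply allRange_of_forall
  intro c hc1 hc2
  have hn : D.n = 31671 := rfl
  rcases Nat.lt_or_ge c 4096 with h | h
  · exact allRange_spec (allList_spec rel14_0 w hw) c (by omega) (by omega)
  rcases Nat.lt_or_ge c 8192 with h | h
  · exact allRange_spec (allList_spec rel14_1 w hw) c (by omega) (by omega)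
  rcases Nat.lt_or_ge c 12288 with h | h
  · exact allRange_spec (allList_spec rel14_2 w hw) c (by omega) (by omega)
  rcases Nat.lt_or_ge c 16384 with h | h
  · exact allRange_spec (allList_spec rel14_3 w hw) c (by omega) (by omega)
  rcases Nat.lt_or_ge c 20480 with h | h
  · exact allRange_spec (allList_spec rel14_4 w hw) c (by omega) (by omega)
  rcases Nat.lt_or_ge c 24576 with h | h
  · exact allRange_spec (allList_spec rel14_5 w hw) c (by omega) (by omega)
  rcases Nat.lt_or_ge c 28672 with h | h
  · exact allRange_spec (allList_spec rel14_6 w hw) c (by omega) (by omega)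
  exact allRange_spec (allList_spec rel14_7 w hw) c (by omega) (by omega)

theorem relg15 : ∀ w ∈ relW15, allRange (relOK D w) 0 D.n = true := by
  intro w hw
  apply allRange_of_forall
  intro c hc1 hc2
  have hn : D.n = 31671 := rfl
  rcases Nat.lt_or_ge c 4096 with h | h
  · exact allRange_spec (allList_spec rel15_0 w hw) c (by omega) (by omega)
  rcases Nat.lt_or_ge c 8192 with h | h
  · exact allRange_spec (allList_spec rel15_1 w hw) c (by omega) (by omega)
  rcases Nat.lt_or_ge c 12288 with h | h
  · exact allRange_spec (allList_spec rel15_2 w hw) c (by omega) (by omega)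
  rcases Nat.lt_or_ge c 16384 with h | h
  · exact allRange_spec (allList_spec rel15_3 w hw) c (by omega) (by omega)
  rcases Nat.lt_or_ge c 20480 with h | h
  · exact allRange_spec (allList_spec rel15_4 w hw) c (by omega) (by omega)
  rcases Nat.lt_or_ge c 24576 with h | h
  · exact allRange_spec (allList_spec rel15_5 w hw) c (by omega) (by omega)
  rcases Nat.lt_or_ge c 28672 with h | h
  · exact allRange_spec (allList_spec rel15_6 w hw) c (by omega) (by omega)
  exact allRange_spec (allList_spec rel15_7 w hw) c (by omega) (by omega)

theorem relg16 : ∀ w ∈ relW16, allRange (relOK D w) 0 D.n = true := by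
  intro w hw
  apply allRange_of_forall
  intro c hc1 hc2
  have hn : D.n = 31671 := rfl
  rcases Nat.lt_or_ge c 4096 with h | h
  · exact allRange_spec (allList_spec rel16_0 w hw) c (by omega) (by omega)
  rcases Nat.lt_or_ge c 8192 with h | h
  · exact allRange_spec (allList_spec rel16_1 w hw) c (by omega) (by omega)
  rcases Nat.lt_or_ge c 12288 with h | h
  · exact allRange_spec (allList_spec rel16_2 w hw) c (by omega) (by omega)
  rcases Nat.lt_or_ge c 16384 with h | h
  · exact allRange_spec (allList_spec rel16_3 w hw) c (by omega) (by omega)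
  rcases Nat.lt_or_ge c 20480 with h | h
  · exact allRange_spec (allList_spec rel16_4 w hw) c (by omega) (by omega)
  rcases Nat.lt_or_ge c 24576 with h | h
  · exact allRange_spec (allList_spec rel16_5 w hw) c (by omega) (by omega)
  rcases Nat.lt_or_ge c 28672 with h | h
  · exact allRange_spec (allList_spec rel16_6 w hw) c (by omega) (by omega)
  exact allRange_spec (allList_spec rel16_7 w hw) c (by omega) (by omega)

theorem relg17 : ∀ w ∈ relW17, allRange (relOK D w) 0 D.n = true := by
  intro w hw
  apply allRange_of_forall
  intro c hc1 hc2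
  have hn : D.n = 31671 := rfl
  rcases Nat.lt_or_ge c 4096 with h | h
  · exact allRange_spec (allList_spec rel17_0 w hw) c (by omega) (by omega)
  rcases Nat.lt_or_ge c 8192 with h | h
  · exact allRange_spec (allList_spec rel17_1 w hw) c (by omega) (by omega)
  rcases Nat.lt_or_ge c 12288 with h | h
  · exact allRange_spec (allList_spec rel17_2 w hw) c (by omega) (by omega)
  rcases Nat.lt_or_ge c 16384 with h | h
  · exact allRange_spec (allList_spec rel17_3 w hw) c (by omega) (by omega)
  rcases Nat.lt_or_ge c 20480 with h | h
  · exact allRange_spec (allList_spec rel17_4 w hw) c (by omega) (by omega)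
  rcases Nat.lt_or_ge c 24576 with h | h
  · exact allRange_spec (allList_spec rel17_5 w hw) c (by omega) (by omega)
  rcases Nat.lt_or_ge c 28672 with h | h
  · exact allRange_spec (allList_spec rel17_6 w hw) c (by omega) (by omega)
  exact allRange_spec (allList_spec rel17_7 w hw) c (by omega) (by omega)

theorem relg18 : ∀ w ∈ relW18, allRange (relOK D w) 0 D.n = true := by
  intro w hw
  apply allRange_of_forall
  intro c hc1 hc2
  have hn : D.n = 31671 := rfl
  rcases Nat.lt_or_ge c 4096 with h | h
  · exact allRange_spec (allList_spec rel18_0 w hw) c (by omega) (by omega)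
  rcases Nat.lt_or_ge c 8192 with h | h
  · exact allRange_spec (allList_spec rel18_1 w hw) c (by omega) (by omega)
  rcases Nat.lt_or_ge c 12288 with h | h
  · exact allRange_spec (allList_spec rel18_2 w hw) c (by omega) (by omega)
  rcases Nat.lt_or_ge c 16384 with h | h
  · exact allRange_spec (allList_spec rel18_3 w hw) c (by omega) (by omega)
  rcases Nat.lt_or_ge c 20480 with h | h
  · exact allRange_spec (allList_spec rel18_4 w hw) c (by omega) (by omega)
  rcases Nat.lt_or_ge c 24576 with h | h
  · exact allRange_spec (allList_spec rel18_5 w hw) c (by omega) (by omega)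
  rcases Nat.lt_or_ge c 28672 with h | h
  · exact allRange_spec (allList_spec rel18_6 w hw) c (by omega) (by omega)
  exact allRange_spec (allList_spec rel18_7 w hw) c (by omega) (by omega)

theorem relg19 : ∀ w ∈ relW19, allRange (relOK D w) 0 D.n = true := by
  intro w hw
  apply allRange_of_forall
  intro c hc1 hc2
  have hn : D.n = 31671 := rfl
  rcases Nat.lt_or_ge c 4096 with h | h
  · exact allRange_spec (allList_spec rel19_0 w hw) c (by omega) (by omega)
  rcases Nat.lt_or_ge c 8192 with h | h
  · exact allRange_spec (allList_spec rel19_1 w hw) c (by omega) (by omega)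
  rcases Nat.lt_or_ge c 12288 with h | h
  · exact allRange_spec (allList_spec rel19_2 w hw) c (by omega) (by omega)
  rcases Nat.lt_or_ge c 16384 with h | h
  · exact allRange_spec (allList_spec rel19_3 w hw) c (by omega) (by omega)
  rcases Nat.lt_or_ge c 20480 with h | h
  · exact allRange_spec (allList_spec rel19_4 w hw) c (by omega) (by omega)
  rcases Nat.lt_or_ge c 24576 with h | h
  · exact allRange_spec (allList_spec rel19_5 w hw) c (by omega) (by omega)
  rcases Nat.lt_or_ge c 28672 with h | h
  · exact allRange_spec (allList_spec rel19_6 w hw) c (by omega) (by omega)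
  exact allRange_spec (allList_spec rel19_7 w hw) c (by omega) (by omega)

theorem relg20 : ∀ w ∈ relW20, allRange (relOK D w) 0 D.n = true := by
  intro w hw
  apply allRange_of_forall
  intro c hc1 hc2
  have hn : D.n = 31671 := rfl
  rcases Nat.lt_or_ge c 4096 with h | h
  · exact allRange_spec (allList_spec rel20_0 w hw) c (by omega) (by omega)
  rcases Nat.lt_or_ge c 8192 with h | h
  · exact allRange_spec (allList_spec rel20_1 w hw) c (by omega) (by omega)
  rcases Nat.lt_or_ge c 12288 with h | h
  · exact allRange_spec (allList_spec rel20_2 w hw) c (by omega) (by omega)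
  rcases Nat.lt_or_ge c 16384 with h | h
  · exact allRange_spec (allList_spec rel20_3 w hw) c (by omega) (by omega)
  rcases Nat.lt_or_ge c 20480 with h | h
  · exact allRange_spec (allList_spec rel20_4 w hw) c (by omega) (by omega)
  rcases Nat.lt_or_ge c 24576 with h | h
  · exact allRange_spec (allList_spec rel20_5 w hw) c (by omega) (by omega)
  rcases Nat.lt_or_ge c 28672 with h | h
  · exact allRange_spec (allList_spec rel20_6 w hw) c (by omega) (by omega)
  exact allRange_spec (allList_spec rel20_7 w hw) c (by omega) (by omega)

theorem relg21 : ∀ w ∈ relW21, allRange (relOK D w) 0 D.n = true := by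
  intro w hw
  apply allRange_of_forall
  intro c hc1 hc2
  have hn : D.n = 31671 := rfl
  rcases Nat.lt_or_ge c 4096 with h | h
  · exact allRange_spec (allList_spec rel21_0 w hw) c (by omega) (by omega)
  rcases Nat.lt_or_ge c 8192 with h | h
  · exact allRange_spec (allList_spec rel21_1 w hw) c (by omega) (by omega)
  rcases Nat.lt_or_ge c 12288 with h | h
  · exact allRange_spec (allList_spec rel21_2 w hw) c (by omega) (by omega)
  rcases Nat.lt_or_ge c 16384 with h | h
  · exact allRange_spec (allList_spec rel21_3 w hw) c (by omega) (by omega)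
  rcases Nat.lt_or_ge c 20480 with h | h
  · exact allRange_spec (allList_spec rel21_4 w hw) c (by omega) (by omega)
  rcases Nat.lt_or_ge c 24576 with h | h
  · exact allRange_spec (allList_spec rel21_5 w hw) c (by omega) (by omega)
  rcases Nat.lt_or_ge c 28672 with h | h
  · exact allRange_spec (allList_spec rel21_6 w hw) c (by omega) (by omega)
  exact allRange_spec (allList_spec rel21_7 w hw) c (by omega) (by omega)

theorem relg22 : ∀ w ∈ relW22, allRange (relOK D w) 0 D.n = true := by
  intro w hw
  apply allRange_of_forall
  intro c hc1 hc2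
  have hn : D.n = 31671 := rfl
  rcases Nat.lt_or_ge c 4096 with h | h
  · exact allRange_spec (allList_spec rel22_0 w hw) c (by omega) (by omega)
  rcases Nat.lt_or_ge c 8192 with h | h
  · exact allRange_spec (allList_spec rel22_1 w hw) c (by omega) (by omega)
  rcases Nat.lt_or_ge c 12288 with h | h
  · exact allRange_spec (allList_spec rel22_2 w hw) c (by omega) (by omega)
  rcases Nat.lt_or_ge c 16384 with h | h
  · exact allRange_spec (allList_spec rel22_3 w hw) c (by omega) (by omega)
  rcases Nat.lt_or_ge c 20480 with h | h
  · exact allRange_spec (allList_spec rel22_4 w hw) c (by omega) (by omega)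
  rcases Nat.lt_or_ge c 24576 with h | h
  · exact allRange_spec (allList_spec rel22_5 w hw) c (by omega) (by omega)
  rcases Nat.lt_or_ge c 28672 with h | h
  · exact allRange_spec (allList_spec rel22_6 w hw) c (by omega) (by omega)
  exact allRange_spec (allList_spec rel22_7 w hw) c (by omega) (by omega)

theorem relg23 : ∀ w ∈ relW23, allRange (relOK D w) 0 D.n = true := by
  intro w hw
  apply allRange_of_forall
  intro c hc1 hc2
  have hn : D.n = 31671 := rfl
  rcases Nat.lt_or_ge c 4096 with h | h
  · exact allRange_spec (allList_spec rel23_0 w hw) c (by omega) (by omega)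
  rcases Nat.lt_or_ge c 8192 with h | h
  · exact allRange_spec (allList_spec rel23_1 w hw) c (by omega) (by omega)
  rcases Nat.lt_or_ge c 12288 with h | h
  · exact allRange_spec (allList_spec rel23_2 w hw) c (by omega) (by omega)
  rcases Nat.lt_or_ge c 16384 with h | h
  · exact allRange_spec (allList_spec rel23_3 w hw) c (by omega) (by omega)
  rcases Nat.lt_or_ge c 20480 with h | h
  · exact allRange_spec (allList_spec rel23_4 w hw) c (by omega) (by omega)
  rcases Nat.lt_or_ge c 24576 with h | h
  · exact allRange_spec (allList_spec rel23_5 w hw) c (by omega) (by omega)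
  rcases Nat.lt_or_ge c 28672 with h | h
  · exact allRange_spec (allList_spec rel23_6 w hw) c (by omega) (by omega)
  exact allRange_spec (allList_spec rel23_7 w hw) c (by omega) (by omega)

theorem relg24 : ∀ w ∈ relW24, allRange (relOK D w) 0 D.n = true := by
  intro w hw
  apply allRange_of_forall
  intro c hc1 hc2
  have hn : D.n = 31671 := rfl
  rcases Nat.lt_or_ge c 4096 with h | h
  · exact allRange_spec (allList_spec rel24_0 w hw) c (by omega) (by omega)
  rcases Nat.lt_or_ge c 8192 with h | h
  · exact allRange_spec (allList_spec rel24_1 w hw) c (by omega) (by omega)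
  rcases Nat.lt_or_ge c 12288 with h | h
  · exact allRange_spec (allList_spec rel24_2 w hw) c (by omega) (by omega)
  rcases Nat.lt_or_ge c 16384 with h | h
  · exact allRange_spec (allList_spec rel24_3 w hw) c (by omega) (by omega)
  rcases Nat.lt_or_ge c 20480 with h | h
  · exact allRange_spec (allList_spec rel24_4 w hw) c (by omega) (by omega)
  rcases Nat.lt_or_ge c 24576 with h | h
  · exact allRange_spec (allList_spec rel24_5 w hw) c (by omega) (by omega)
  rcases Nat.lt_or_ge c 28672 with h | h
  · exact allRange_spec (allList_spec rel24_6 w hw) c (by omega) (by omega)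
  exact allRange_spec (allList_spec rel24_7 w hw) c (by omega) (by omega)

theorem relg25 : ∀ w ∈ relW25, allRange (relOK D w) 0 D.n = true := by
  intro w hw
  apply allRange_of_forall
  intro c hc1 hc2
  have hn : D.n = 31671 := rfl
  rcases Nat.lt_or_ge c 4096 with h | h
  · exact allRange_spec (allList_spec rel25_0 w hw) c (by omega) (by omega)
  rcases Nat.lt_or_ge c 8192 with h | h
  · exact allRange_spec (allList_spec rel25_1 w hw) c (by omega) (by omega)
  rcases Nat.lt_or_ge c 12288 with h | h
  · exact allRange_spec (allList_spec rel25_2 w hw) c (by omega) (by omega)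
  rcases Nat.lt_or_ge c 16384 with h | h
  · exact allRange_spec (allList_spec rel25_3 w hw) c (by omega) (by omega)
  rcases Nat.lt_or_ge c 20480 with h | h
  · exact allRange_spec (allList_spec rel25_4 w hw) c (by omega) (by omega)
  rcases Nat.lt_or_ge c 24576 with h | h
  · exact allRange_spec (allList_spec rel25_5 w hw) c (by omega) (by omega)
  rcases Nat.lt_or_ge c 28672 with h | h
  · exact allRange_spec (allList_spec rel25_6 w hw) c (by omega) (by omega)
  exact allRange_spec (allList_spec rel25_7 w hw) c (by omega) (by omega)

theorem relg26 : ∀ w ∈ relW26, allRange (relOK D w) 0 D.n = true := by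
  intro w hw
  apply allRange_of_forall
  intro c hc1 hc2
  have hn : D.n = 31671 := rfl
  rcases Nat.lt_or_ge c 4096 with h | h
  · exact allRange_spec (allList_spec rel26_0 w hw) c (by omega) (by omega)
  rcases Nat.lt_or_ge c 8192 with h | h
  · exact allRange_spec (allList_spec rel26_1 w hw) c (by omega) (by omega)
  rcases Nat.lt_or_ge c 12288 with h | h
  · exact allRange_spec (allList_spec rel26_2 w hw) c (by omega) (by omega)
  rcases Nat.lt_or_ge c 16384 with h | h
  · exact allRange_spec (allList_spec rel26_3 w hw) c (by omega) (by omega)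
  rcases Nat.lt_or_ge c 20480 with h | h
  · exact allRange_spec (allList_spec rel26_4 w hw) c (by omega) (by omega)
  rcases Nat.lt_or_ge c 24576 with h | h
  · exact allRange_spec (allList_spec rel26_5 w hw) c (by omega) (by omega)
  rcases Nat.lt_or_ge c 28672 with h | h
  · exact allRange_spec (allList_spec rel26_6 w hw) c (by omega) (by omega)
  exact allRange_spec (allList_spec rel26_7 w hw) c (by omega) (by omega)

theorem relg27 : ∀ w ∈ relW27, allRange (relOK D w) 0 D.n = true := by
  intro w hw
  apply allRange_of_forall
  intro c hc1 hc2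
  have hn : D.n = 31671 := rfl
  rcases Nat.lt_or_ge c 4096 with h | h
  · exact allRange_spec (allList_spec rel27_0 w hw) c (by omega) (by omega)
  rcases Nat.lt_or_ge c 8192 with h | h
  · exact allRange_spec (allList_spec rel27_1 w hw) c (by omega) (by omega)
  rcases Nat.lt_or_ge c 12288 with h | h
  · exact allRange_spec (allList_spec rel27_2 w hw) c (by omega) (by omega)
  rcases Nat.lt_or_ge c 16384 with h | h
  · exact allRange_spec (allList_spec rel27_3 w hw) c (by omega) (by omega)
  rcases Nat.lt_or_ge c 20480 with h | h
  · exact allRange_spec (allList_spec rel27_4 w hw) c (by omega) (by omega)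
  rcases Nat.lt_or_ge c 24576 with h | h
  · exact allRange_spec (allList_spec rel27_5 w hw) c (by omega) (by omega)
  rcases Nat.lt_or_ge c 28672 with h | h
  · exact allRange_spec (allList_spec rel27_6 w hw) c (by omega) (by omega)
  exact allRange_spec (allList_spec rel27_7 w hw) c (by omega) (by omega)

theorem relg28 : ∀ w ∈ relW28, allRange (relOK D w) 0 D.n = true := by
  intro w hw
  apply allRange_of_forall
  intro c hc1 hc2
  have hn : D.n = 31671 := rfl
  rcases Nat.lt_or_ge c 4096 with h | h
  · exact allRange_spec (allList_spec rel28_0 w hw) c (by omega) (by omega)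
  rcases Nat.lt_or_ge c 8192 with h | h
  · exact allRange_spec (allList_spec rel28_1 w hw) c (by omega) (by omega)
  rcases Nat.lt_or_ge c 12288 with h | h
  · exact allRange_spec (allList_spec rel28_2 w hw) c (by omega) (by omega)
  rcases Nat.lt_or_ge c 16384 with h | h
  · exact allRange_spec (allList_spec rel28_3 w hw) c (by omega) (by omega)
  rcases Nat.lt_or_ge c 20480 with h | h
  · exact allRange_spec (allList_spec rel28_4 w hw) c (by omega) (by omega)
  rcases Nat.lt_or_ge c 24576 with h | h
  · exact allRange_spec (allList_spec rel28_5 w hw) c (by omega) (by omega)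
  rcases Nat.lt_or_ge c 28672 with h | h
  · exact allRange_spec (allList_spec rel28_6 w hw) c (by omega) (by omega)
  exact allRange_spec (allList_spec rel28_7 w hw) c (by omega) (by omega)

theorem relg29 : ∀ w ∈ relW29, allRange (relOK D w) 0 D.n = true := by
  intro w hw
  apply allRange_of_forall
  intro c hc1 hc2
  have hn : D.n = 31671 := rfl
  rcases Nat.lt_or_ge c 4096 with h | h
  · exact allRange_spec (allList_spec rel29_0 w hw) c (by omega) (by omega)
  rcases Nat.lt_or_ge c 8192 with h | h
  · exact allRange_spec (allList_spec rel29_1 w hw) c (by omega) (by omega)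
  rcases Nat.lt_or_ge c 12288 with h | h
  · exact allRange_spec (allList_spec rel29_2 w hw) c (by omega) (by omega)
  rcases Nat.lt_or_ge c 16384 with h | h
  · exact allRange_spec (allList_spec rel29_3 w hw) c (by omega) (by omega)
  rcases Nat.lt_or_ge c 20480 with h | h
  · exact allRange_spec (allList_spec rel29_4 w hw) c (by omega) (by omega)
  rcases Nat.lt_or_ge c 24576 with h | h
  · exact allRange_spec (allList_spec rel29_5 w hw) c (by omega) (by omega)
  rcases Nat.lt_or_ge c 28672 with h | h
  · exact allRange_spec (allList_spec rel29_6 w hw) c (by omega) (by omega)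
  exact allRange_spec (allList_spec rel29_7 w hw) c (by omega) (by omega)

theorem relg30 : ∀ w ∈ relW30, allRange (relOK D w) 0 D.n = true := by
  intro w hw
  apply allRange_of_forall
  intro c hc1 hc2
  have hn : D.n = 31671 := rfl
  rcases Nat.lt_or_ge c 4096 with h | h
  · exact allRange_spec (allList_spec rel30_0 w hw) c (by omega) (by omega)
  rcases Nat.lt_or_ge c 8192 with h | h
  · exact allRange_spec (allList_spec rel30_1 w hw) c (by omega) (by omega)
  rcases Nat.lt_or_ge c 12288 with h | h
  · exact allRange_spec (allList_spec rel30_2 w hw) c (by omega) (by omega)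
  rcases Nat.lt_or_ge c 16384 with h | h
  · exact allRange_spec (allList_spec rel30_3 w hw) c (by omega) (by omega)
  rcases Nat.lt_or_ge c 20480 with h | h
  · exact allRange_spec (allList_spec rel30_4 w hw) c (by omega) (by omega)
  rcases Nat.lt_or_ge c 24576 with h | h
  · exact allRange_spec (allList_spec rel30_5 w hw) c (by omega) (by omega)
  rcases Nat.lt_or_ge c 28672 with h | h
  · exact allRange_spec (allList_spec rel30_6 w hw) c (by omega) (by omega)
  exact allRange_spec (allList_spec rel30_7 w hw) c (by omega) (by omega)

theorem relg31 : ∀ w ∈ relW31, allRange (relOK D w) 0 D.n = true := by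
  intro w hw
  apply allRange_of_forall
  intro c hc1 hc2
  have hn : D.n = 31671 := rfl
  rcases Nat.lt_or_ge c 4096 with h | h
  · exact allRange_spec (allList_spec rel31_0 w hw) c (by omega) (by omega)
  rcases Nat.lt_or_ge c 8192 with h | h
  · exact allRange_spec (allList_spec rel31_1 w hw) c (by omega) (by omega)
  rcases Nat.lt_or_ge c 12288 with h | h
  · exact allRange_spec (allList_spec rel31_2 w hw) c (by omega) (by omega)
  rcases Nat.lt_or_ge c 16384 with h | h
  · exact allRange_spec (allList_spec rel31_3 w hw) c (by omega) (by omega)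
  rcases Nat.lt_or_ge c 20480 with h | h
  · exact allRange_spec (allList_spec rel31_4 w hw) c (by omega) (by omega)
  rcases Nat.lt_or_ge c 24576 with h | h
  · exact allRange_spec (allList_spec rel31_5 w hw) c (by omega) (by omega)
  rcases Nat.lt_or_ge c 28672 with h | h
  · exact allRange_spec (allList_spec rel31_6 w hw) c (by omega) (by omega)
  exact allRange_spec (allList_spec rel31_7 w hw) c (by omega) (by omega)

theorem relg32 : ∀ w ∈ relW32, allRange (relOK D w) 0 D.n = true := by
  intro w hw
  apply allRange_of_forall
  intro c hc1 hc2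
  have hn : D.n = 31671 := rfl
  rcases Nat.lt_or_ge c 4096 with h | h
  · exact allRange_spec (allList_spec rel32_0 w hw) c (by omega) (by omega)
  rcases Nat.lt_or_ge c 8192 with h | h
  · exact allRange_spec (allList_spec rel32_1 w hw) c (by omega) (by omega)
  rcases Nat.lt_or_ge c 12288 with h | h
  · exact allRange_spec (allList_spec rel32_2 w hw) c (by omega) (by omega)
  rcases Nat.lt_or_ge c 16384 with h | h
  · exact allRange_spec (allList_spec rel32_3 w hw) c (by omega) (by omega)
  rcases Nat.lt_or_ge c 20480 with h | h
  · exact allRange_spec (allList_spec rel32_4 w hw) c (by omega) (by omega)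
  rcases Nat.lt_or_ge c 24576 with h | h
  · exact allRange_spec (allList_spec rel32_5 w hw) c (by omega) (by omega)
  rcases Nat.lt_or_ge c 28672 with h | h
  · exact allRange_spec (allList_spec rel32_6 w hw) c (by omega) (by omega)
  exact allRange_spec (allList_spec rel32_7 w hw) c (by omega) (by omega)

theorem relg33 : ∀ w ∈ relW33, allRange (relOK D w) 0 D.n = true := by
  intro w hw
  apply allRange_of_forall
  intro c hc1 hc2
  have hn : D.n = 31671 := rfl
  rcases Nat.lt_or_ge c 4096 with h | h
  · exact allRange_spec (allList_spec rel33_0 w hw) c (by omega) (by omega)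
  rcases Nat.lt_or_ge c 8192 with h | h
  · exact allRange_spec (allList_spec rel33_1 w hw) c (by omega) (by omega)
  rcases Nat.lt_or_ge c 12288 with h | h
  · exact allRange_spec (allList_spec rel33_2 w hw) c (by omega) (by omega)
  rcases Nat.lt_or_ge c 16384 with h | h
  · exact allRange_spec (allList_spec rel33_3 w hw) c (by omega) (by omega)
  rcases Nat.lt_or_ge c 20480 with h | h
  · exact allRange_spec (allList_spec rel33_4 w hw) c (by omega) (by omega)
  rcases Nat.lt_or_ge c 24576 with h | h
  · exact allRange_spec (allList_spec rel33_5 w hw) c (by omega) (by omega)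
  rcases Nat.lt_or_ge c 28672 with h | h
  · exact allRange_spec (allList_spec rel33_6 w hw) c (by omega) (by omega)
  exact allRange_spec (allList_spec rel33_7 w hw) c (by omega) (by omega)

theorem relg34 : ∀ w ∈ relW34, allRange (relOK D w) 0 D.n = true := by
  intro w hw
  apply allRange_of_forall
  intro c hc1 hc2
  have hn : D.n = 31671 := rfl
  rcases Nat.lt_or_ge c 4096 with h | h
  · exact allRange_spec (allList_spec rel34_0 w hw) c (by omega) (by omega)
  rcases Nat.lt_or_ge c 8192 with h | h
  · exact allRange_spec (allList_spec rel34_1 w hw) c (by omega) (by omega)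
  rcases Nat.lt_or_ge c 12288 with h | h
  · exact allRange_spec (allList_spec rel34_2 w hw) c (by omega) (by omega)
  rcases Nat.lt_or_ge c 16384 with h | h
  · exact allRange_spec (allList_spec rel34_3 w hw) c (by omega) (by omega)
  rcases Nat.lt_or_ge c 20480 with h | h
  · exact allRange_spec (allList_spec rel34_4 w hw) c (by omega) (by omega)
  rcases Nat.lt_or_ge c 24576 with h | h
  · exact allRange_spec (allList_spec rel34_5 w hw) c (by omega) (by omega)
  rcases Nat.lt_or_ge c 28672 with h | h
  · exact allRange_spec (allList_spec rel34_6 w hw) c (by omega) (by omega)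
  exact allRange_spec (allList_spec rel34_7 w hw) c (by omega) (by omega)

theorem relg35 : ∀ w ∈ relW35, allRange (relOK D w) 0 D.n = true := by
  intro w hw
  apply allRange_of_forall
  intro c hc1 hc2
  have hn : D.n = 31671 := rfl
  rcases Nat.lt_or_ge c 4096 with h | h
  · exact allRange_spec (allList_spec rel35_0 w hw) c (by omega) (by omega)
  rcases Nat.lt_or_ge c 8192 with h | h
  · exact allRange_spec (allList_spec rel35_1 w hw) c (by omega) (by omega)
  rcases Nat.lt_or_ge c 12288 with h | h
  · exact allRange_spec (allList_spec rel35_2 w hw) c (by omega) (by omega)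
  rcases Nat.lt_or_ge c 16384 with h | h
  · exact allRange_spec (allList_spec rel35_3 w hw) c (by omega) (by omega)
  rcases Nat.lt_or_ge c 20480 with h | h
  · exact allRange_spec (allList_spec rel35_4 w hw) c (by omega) (by omega)
  rcases Nat.lt_or_ge c 24576 with h | h
  · exact allRange_spec (allList_spec rel35_5 w hw) c (by omega) (by omega)
  rcases Nat.lt_or_ge c 28672 with h | h
  · exact allRange_spec (allList_spec rel35_6 w hw) c (by omega) (by omega)
  exact allRange_spec (allList_spec rel35_7 w hw) c (by omega) (by omega)

theorem relg36 : ∀ w ∈ relW36, allRange (relOK D w) 0 D.n = true := by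
  intro w hw
  apply allRange_of_forall
  intro c hc1 hc2
  have hn : D.n = 31671 := rfl
  rcases Nat.lt_or_ge c 4096 with h | h
  · exact allRange_spec (allList_spec rel36_0 w hw) c (by omega) (by omega)
  rcases Nat.lt_or_ge c 8192 with h | h
  · exact allRange_spec (allList_spec rel36_1 w hw) c (by omega) (by omega)
  rcases Nat.lt_or_ge c 12288 with h | h
  · exact allRange_spec (allList_spec rel36_2 w hw) c (by omega) (by omega)
  rcases Nat.lt_or_ge c 16384 with h | h
  · exact allRange_spec (allList_spec rel36_3 w hw) c (by omega) (by omega)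
  rcases Nat.lt_or_ge c 20480 with h | h
  · exact allRange_spec (allList_spec rel36_4 w hw) c (by omega) (by omega)
  rcases Nat.lt_or_ge c 24576 with h | h
  · exact allRange_spec (allList_spec rel36_5 w hw) c (by omega) (by omega)
  rcases Nat.lt_or_ge c 28672 with h | h
  · exact allRange_spec (allList_spec rel36_6 w hw) c (by omega) (by omega)
  exact allRange_spec (allList_spec rel36_7 w hw) c (by omega) (by omega)

theorem relg37 : ∀ w ∈ relW37, allRange (relOK D w) 0 D.n = true := by
  intro w hw
  apply allRange_of_forall
  intro c hc1 hc2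
  have hn : D.n = 31671 := rfl
  rcases Nat.lt_or_ge c 4096 with h | h
  · exact allRange_spec (allList_spec rel37_0 w hw) c (by omega) (by omega)
  rcases Nat.lt_or_ge c 8192 with h | h
  · exact allRange_spec (allList_spec rel37_1 w hw) c (by omega) (by omega)
  rcases Nat.lt_or_ge c 12288 with h | h
  · exact allRange_spec (allList_spec rel37_2 w hw) c (by omega) (by omega)
  rcases Nat.lt_or_ge c 16384 with h | h
  · exact allRange_spec (allList_spec rel37_3 w hw) c (by omega) (by omega)
  rcases Nat.lt_or_ge c 20480 with h | h
  · exact allRange_spec (allList_spec rel37_4 w hw) c (by omega) (by omega)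
  rcases Nat.lt_or_ge c 24576 with h | h
  · exact allRange_spec (allList_spec rel37_5 w hw) c (by omega) (by omega)
  rcases Nat.lt_or_ge c 28672 with h | h
  · exact allRange_spec (allList_spec rel37_6 w hw) c (by omega) (by omega)
  exact allRange_spec (allList_spec rel37_7 w hw) c (by omega) (by omega)

theorem relg38 : ∀ w ∈ relW38, allRange (relOK D w) 0 D.n = true := by
  intro w hw
  apply allRange_of_forall
  intro c hc1 hc2
  have hn : D.n = 31671 := rfl
  rcases Nat.lt_or_ge c 4096 with h | h
  · exact allRange_spec (allList_spec rel38_0 w hw) c (by omega) (by omega)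
  rcases Nat.lt_or_ge c 8192 with h | h
  · exact allRange_spec (allList_spec rel38_1 w hw) c (by omega) (by omega)
  rcases Nat.lt_or_ge c 12288 with h | h
  · exact allRange_spec (allList_spec rel38_2 w hw) c (by omega) (by omega)
  rcases Nat.lt_or_ge c 16384 with h | h
  · exact allRange_spec (allList_spec rel38_3 w hw) c (by omega) (by omega)
  rcases Nat.lt_or_ge c 20480 with h | h
  · exact allRange_spec (allList_spec rel38_4 w hw) c (by omega) (by omega)
  rcases Nat.lt_or_ge c 24576 with h | h
  · exact allRange_spec (allList_spec rel38_5 w hw) c (by omega) (by omega)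
  rcases Nat.lt_or_ge c 28672 with h | h
  · exact allRange_spec (allList_spec rel38_6 w hw) c (by omega) (by omega)
  exact allRange_spec (allList_spec rel38_7 w hw) c (by omega) (by omega)

theorem relg39 : ∀ w ∈ relW39, allRange (relOK D w) 0 D.n = true := by
  intro w hw
  apply allRange_of_forall
  intro c hc1 hc2
  have hn : D.n = 31671 := rfl
  rcases Nat.lt_or_ge c 4096 with h | h
  · exact allRange_spec (allList_spec rel39_0 w hw) c (by omega) (by omega)
  rcases Nat.lt_or_ge c 8192 with h | h
  · exact allRange_spec (allList_spec rel39_1 w hw) c (by omega) (by omega)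
  rcases Nat.lt_or_ge c 12288 with h | h
  · exact allRange_spec (allList_spec rel39_2 w hw) c (by omega) (by omega)
  rcases Nat.lt_or_ge c 16384 with h | h
  · exact allRange_spec (allList_spec rel39_3 w hw) c (by omega) (by omega)
  rcases Nat.lt_or_ge c 20480 with h | h
  · exact allRange_spec (allList_spec rel39_4 w hw) c (by omega) (by omega)
  rcases Nat.lt_or_ge c 24576 with h | h
  · exact allRange_spec (allList_spec rel39_5 w hw) c (by omega) (by omega)
  rcases Nat.lt_or_ge c 28672 with h | h
  · exact allRange_spec (allList_spec rel39_6 w hw) c (by omega) (by omega)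
  exact allRange_spec (allList_spec rel39_7 w hw) c (by omega) (by omega)

theorem relg40 : ∀ w ∈ relW40, allRange (relOK D w) 0 D.n = true := by
  intro w hw
  apply allRange_of_forall
  intro c hc1 hc2
  have hn : D.n = 31671 := rfl
  rcases Nat.lt_or_ge c 4096 with h | h
  · exact allRange_spec (allList_spec rel40_0 w hw) c (by omega) (by omega)
  rcases Nat.lt_or_ge c 8192 with h | h
  · exact allRange_spec (allList_spec rel40_1 w hw) c (by omega) (by omega)
  rcases Nat.lt_or_ge c 12288 with h | h
  · exact allRange_spec (allList_spec rel40_2 w hw) c (by omega) (by omega)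
  rcases Nat.lt_or_ge c 16384 with h | h
  · exact allRange_spec (allList_spec rel40_3 w hw) c (by omega) (by omega)
  rcases Nat.lt_or_ge c 20480 with h | h
  · exact allRange_spec (allList_spec rel40_4 w hw) c (by omega) (by omega)
  rcases Nat.lt_or_ge c 24576 with h | h
  · exact allRange_spec (allList_spec rel40_5 w hw) c (by omega) (by omega)
  rcases Nat.lt_or_ge c 28672 with h | h
  · exact allRange_spec (allList_spec rel40_6 w hw) c (by omega) (by omega)
  exact allRange_spec (allList_spec rel40_7 w hw) c (by omega) (by omega)

theorem relg41 : ∀ w ∈ relW41, allRange (relOK D w) 0 D.n = true := by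
  intro w hw
  apply allRange_of_forall
  intro c hc1 hc2
  have hn : D.n = 31671 := rfl
  rcases Nat.lt_or_ge c 4096 with h | h
  · exact allRange_spec (allList_spec rel41_0 w hw) c (by omega) (by omega)
  rcases Nat.lt_or_ge c 8192 with h | h
  · exact allRange_spec (allList_spec rel41_1 w hw) c (by omega) (by omega)
  rcases Nat.lt_or_ge c 12288 with h | h
  · exact allRange_spec (allList_spec rel41_2 w hw) c (by omega) (by omega)
  rcases Nat.lt_or_ge c 16384 with h | h
  · exact allRange_spec (allList_spec rel41_3 w hw) c (by omega) (by omega)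
  rcases Nat.lt_or_ge c 20480 with h | h
  · exact allRange_spec (allList_spec rel41_4 w hw) c (by omega) (by omega)
  rcases Nat.lt_or_ge c 24576 with h | h
  · exact allRange_spec (allList_spec rel41_5 w hw) c (by omega) (by omega)
  rcases Nat.lt_or_ge c 28672 with h | h
  · exact allRange_spec (allList_spec rel41_6 w hw) c (by omega) (by omega)
  exact allRange_spec (allList_spec rel41_7 w hw) c (by omega) (by omega)

theorem relg42 : ∀ w ∈ relW42, allRange (relOK D w) 0 D.n = true := by
  intro w hw
  apply allRange_of_forall
  intro c hc1 hc2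
  have hn : D.n = 31671 := rfl
  rcases Nat.lt_or_ge c 4096 with h | h
  · exact allRange_spec (allList_spec rel42_0 w hw) c (by omega) (by omega)
  rcases Nat.lt_or_ge c 8192 with h | h
  · exact allRange_spec (allList_spec rel42_1 w hw) c (by omega) (by omega)
  rcases Nat.lt_or_ge c 12288 with h | h
  · exact allRange_spec (allList_spec rel42_2 w hw) c (by omega) (by omega)
  rcases Nat.lt_or_ge c 16384 with h | h
  · exact allRange_spec (allList_spec rel42_3 w hw) c (by omega) (by omega)
  rcases Nat.lt_or_ge c 20480 with h | h
  · exact allRange_spec (allList_spec rel42_4 w hw) c (by omega) (by omega)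
  rcases Nat.lt_or_ge c 24576 with h | h
  · exact allRange_spec (allList_spec rel42_5 w hw) c (by omega) (by omega)
  rcases Nat.lt_or_ge c 28672 with h | h
  · exact allRange_spec (allList_spec rel42_6 w hw) c (by omega) (by omega)
  exact allRange_spec (allList_spec rel42_7 w hw) c (by omega) (by omega)

theorem relg43 : ∀ w ∈ relW43, allRange (relOK D w) 0 D.n = true := by
  intro w hw
  apply allRange_of_forall
  intro c hc1 hc2
  have hn : D.n = 31671 := rfl
  rcases Nat.lt_or_ge c 4096 with h | h
  · exact allRange_spec (allList_spec rel43_0 w hw) c (by omega) (by omega)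
  rcases Nat.lt_or_ge c 8192 with h | h
  · exact allRange_spec (allList_spec rel43_1 w hw) c (by omega) (by omega)
  rcases Nat.lt_or_ge c 12288 with h | h
  · exact allRange_spec (allList_spec rel43_2 w hw) c (by omega) (by omega)
  rcases Nat.lt_or_ge c 16384 with h | h
  · exact allRange_spec (allList_spec rel43_3 w hw) c (by omega) (by omega)
  rcases Nat.lt_or_ge c 20480 with h | h
  · exact allRange_spec (allList_spec rel43_4 w hw) c (by omega) (by omega)
  rcases Nat.lt_or_ge c 24576 with h | h
  · exact allRange_spec (allList_spec rel43_5 w hw) c (by omega) (by omega)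
  rcases Nat.lt_or_ge c 28672 with h | h
  · exact allRange_spec (allList_spec rel43_6 w hw) c (by omega) (by omega)
  exact allRange_spec (allList_spec rel43_7 w hw) c (by omega) (by omega)

theorem relg44 : ∀ w ∈ relW44, allRange (relOK D w) 0 D.n = true := by
  intro w hw
  apply allRange_of_forall
  intro c hc1 hc2
  have hn : D.n = 31671 := rfl
  rcases Nat.lt_or_ge c 4096 with h | h
  · exact allRange_spec (allList_spec rel44_0 w hw) c (by omega) (by omega)
  rcases Nat.lt_or_ge c 8192 with h | h
  · exact allRange_spec (allList_spec rel44_1 w hw) c (by omega) (by omega)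
  rcases Nat.lt_or_ge c 12288 with h | h
  · exact allRange_spec (allList_spec rel44_2 w hw) c (by omega) (by omega)
  rcases Nat.lt_or_ge c 16384 with h | h
  · exact allRange_spec (allList_spec rel44_3 w hw) c (by omega) (by omega)
  rcases Nat.lt_or_ge c 20480 with h | h
  · exact allRange_spec (allList_spec rel44_4 w hw) c (by omega) (by omega)
  rcases Nat.lt_or_ge c 24576 with h | h
  · exact allRange_spec (allList_spec rel44_5 w hw) c (by omega) (by omega)
  rcases Nat.lt_or_ge c 28672 with h | h
  · exact allRange_spec (allList_spec rel44_6 w hw) c (by omega) (by omega)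
  exact allRange_spec (allList_spec rel44_7 w hw) c (by omega) (by omega)

theorem relg45 : ∀ w ∈ relW45, allRange (relOK D w) 0 D.n = true := by
  intro w hw
  apply allRange_of_forall
  intro c hc1 hc2
  have hn : D.n = 31671 := rfl
  rcases Nat.lt_or_ge c 2666 with h | h
  · exact allRange_spec (allList_spec rel45_0 w hw) c (by omega) (by omega)
  rcases Nat.lt_or_ge c 5332 with h | h
  · exact allRange_spec (allList_spec rel45_1 w hw) c (by omega) (by omega)
  rcases Nat.lt_or_ge c 7998 with h | h
  · exact allRange_spec (allList_spec rel45_2 w hw) c (by omega) (by omega)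
  rcases Nat.lt_or_ge c 10664 with h | h
  · exact allRange_spec (allList_spec rel45_3 w hw) c (by omega) (by omega)
  rcases Nat.lt_or_ge c 13330 with h | h
  · exact allRange_spec (allList_spec rel45_4 w hw) c (by omega) (by omega)
  rcases Nat.lt_or_ge c 15996 with h | h
  · exact allRange_spec (allList_spec rel45_5 w hw) c (by omega) (by omega)
  rcases Nat.lt_or_ge c 18662 with h | h
  · exact allRange_spec (allList_spec rel45_6 w hw) c (by omega) (by omega)
  rcases Nat.lt_or_ge c 21328 with h | h
  · exact allRange_spec (allList_spec rel45_7 w hw) c (by omega) (by omega)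
  rcases Nat.lt_or_ge c 23994 with h | h
  · exact allRange_spec (allList_spec rel45_8 w hw) c (by omega) (by omega)
  rcases Nat.lt_or_ge c 26660 with h | h
  · exact allRange_spec (allList_spec rel45_9 w hw) c (by omega) (by omega)
  rcases Nat.lt_or_ge c 29326 with h | h
  · exact allRange_spec (allList_spec rel45_10 w hw) c (by omega) (by omega)
  exact allRange_spec (allList_spec rel45_11 w hw) c (by omega) (by omega)

theorem relg46 : ∀ w ∈ relW46, allRange (relOK D w) 0 D.n = true := by
  intro w hw
  apply allRange_of_forall
  intro c hc1 hc2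
  have hn : D.n = 31671 := rfl
  rcases Nat.lt_or_ge c 3809 with h | h
  · exact allRange_spec (allList_spec rel46_0 w hw) c (by omega) (by omega)
  rcases Nat.lt_or_ge c 7618 with h | h
  · exact allRange_spec (allList_spec rel46_1 w hw) c (by omega) (by omega)
  rcases Nat.lt_or_ge c 11427 with h | h
  · exact allRange_spec (allList_spec rel46_2 w hw) c (by omega) (by omega)
  rcases Nat.lt_or_ge c 15236 with h | h
  · exact allRange_spec (allList_spec rel46_3 w hw) c (by omega) (by omega)
  rcases Nat.lt_or_ge c 19045 with h | h
  · exact allRange_spec (allList_spec rel46_4 w hw) c (by omega) (by omega)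
  rcases Nat.lt_or_ge c 22854 with h | h
  · exact allRange_spec (allList_spec rel46_5 w hw) c (by omega) (by omega)
  rcases Nat.lt_or_ge c 26663 with h | h
  · exact allRange_spec (allList_spec rel46_6 w hw) c (by omega) (by omega)
  rcases Nat.lt_or_ge c 30472 with h | h
  · exact allRange_spec (allList_spec rel46_7 w hw) c (by omega) (by omega)
  exact allRange_spec (allList_spec rel46_8 w hw) c (by omega) (by omega)

theorem rel_ok : ∀ w ∈ relW, allRange (relOK D w) 0 D.n = true := by
  intro w hw
  have hw' : w ∈ relW0 ++ relW1 ++ relW2 ++ relW3 ++ relW4 ++ relW5 ++ relW6 ++ relW7 ++ relW8 ++ relW9 ++ relW10 ++ relW11 ++ relW12 ++ relW13 ++ relW14 ++ relW15 ++ relW16 ++ relW17 ++ relW18 ++ relW19 ++ relW20 ++ relW21 ++ relW22 ++ relW23 ++ relW24 ++ relW25 ++ relW26 ++ relW27 ++ relW28 ++ relW29 ++ relW30 ++ relW31 ++ relW32 ++ relW33 ++ relW34 ++ relW35 ++ relW36 ++ relW37 ++ relW38 ++ relW39 ++ relW40 ++ relW41 ++ relW42 ++ relW43 ++ relW44 ++ relW45 ++ relW46 := hw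
  rcases List.mem_append.1 hw' with hw' | h
  swap
  · exact relg46 w h
  rcases List.mem_append.1 hw' with hw' | h
  swap
  · exact relg45 w h
  rcases List.mem_append.1 hw' with hw' | h
  swap
  · exact relg44 w h
  rcases List.mem_append.1 hw' with hw' | h
  swap
  · exact relg43 w h
  rcases List.mem_append.1 hw' with hw' | h
  swap
  · exact relg42 w h
  rcases List.mem_append.1 hw' with hw' | h
  swap
  · exact relg41 w h
  rcases List.mem_append.1 hw' with hw' | h
  swap
  · exact relg40 w h
  rcases List.mem_append.1 hw' with hw' | h
  swap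
  · exact relg39 w h
  rcases List.mem_append.1 hw' with hw' | h
  swap
  · exact relg38 w h
  rcases List.mem_append.1 hw' with hw' | h
  swap
  · exact relg37 w h
  rcases List.mem_append.1 hw' with hw' | h
  swap
  · exact relg36 w h
  rcases List.mem_append.1 hw' with hw' | h
  swap
  · exact relg35 w h
  rcases List.mem_append.1 hw' with hw' | h
  swap
  · exact relg34 w h
  rcases List.mem_append.1 hw' with hw' | h
  swap
  · exact relg33 w h
  rcases List.mem_append.1 hw' with hw' | h
  swap
  · exact relg32 w h
  rcases List.mem_append.1 hw' with hw' | h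
  swap
  · exact relg31 w h
  rcases List.mem_append.1 hw' with hw' | h
  swap
  · exact relg30 w h
  rcases List.mem_append.1 hw' with hw' | h
  swap
  · exact relg29 w h
  rcases List.mem_append.1 hw' with hw' | h
  swap
  · exact relg28 w h
  rcases List.mem_append.1 hw' with hw' | h
  swap
  · exact relg27 w h
  rcases List.mem_append.1 hw' with hw' | h
  swap
  · exact relg26 w h
  rcases List.mem_append.1 hw' with hw' | h
  swap
  · exact relg25 w h
  rcases List.mem_append.1 hw' with hw' | h
  swap
  · exact relg24 w h
  rcases List.mem_append.1 hw' with hw' | h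
  swap
  · exact relg23 w h
  rcases List.mem_append.1 hw' with hw' | h
  swap
  · exact relg22 w h
  rcases List.mem_append.1 hw' with hw' | h
  swap
  · exact relg21 w h
  rcases List.mem_append.1 hw' with hw' | h
  swap
  · exact relg20 w h
  rcases List.mem_append.1 hw' with hw' | h
  swap
  · exact relg19 w h
  rcases List.mem_append.1 hw' with hw' | h
  swap
  · exact relg18 w h
  rcases List.mem_append.1 hw' with hw' | h
  swap
  · exact relg17 w h
  rcases List.mem_append.1 hw' with hw' | h
  swap
  · exact relg16 w h
  rcases List.mem_append.1 hw' with hw' | h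
  swap
  · exact relg15 w h
  rcases List.mem_append.1 hw' with hw' | h
  swap
  · exact relg14 w h
  rcases List.mem_append.1 hw' with hw' | h
  swap
  · exact relg13 w h
  rcases List.mem_append.1 hw' with hw' | h
  swap
  · exact relg12 w h
  rcases List.mem_append.1 hw' with hw' | h
  swap
  · exact relg11 w h
  rcases List.mem_append.1 hw' with hw' | h
  swap
  · exact relg10 w h
  rcases List.mem_append.1 hw' with hw' | h
  swap
  · exact relg9 w h
  rcases List.mem_append.1 hw' with hw' | h
  swap
  · exact relg8 w h
  rcases List.mem_append.1 hw' with hw' | h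
  swap
  · exact relg7 w h
  rcases List.mem_append.1 hw' with hw' | h
  swap
  · exact relg6 w h
  rcases List.mem_append.1 hw' with hw' | h
  swap
  · exact relg5 w h
  rcases List.mem_append.1 hw' with hw' | h
  swap
  · exact relg4 w h
  rcases List.mem_append.1 hw' with hw' | h
  swap
  · exact relg3 w h
  rcases List.mem_append.1 hw' with hw' | h
  swap
  · exact relg2 w h
  rcases List.mem_append.1 hw' with hw' | h
  swap
  · exact relg1 w h
  exact relg0 w hw'

theorem sub_ok : ∀ y ∈ subW, Nat.beq (actP D y 0) 0 = true := fun y hy => allList_spec sub_all y hy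

theorem orb_ok : ∀ o ∈ orbs, orbOK D subW o = true := by
  intro o ho
  obtain ⟨i, hi, rfl⟩ := exists_nth_of_mem (0, 0, []) orbs o ho
  have hlen : orbs.length = 3 := rfl
  rw [hlen] at hi
  interval_cases i
  · exact orb0
  · exact orb1
  · exact orb2

end Cfsg.Agent.Lib.helper35.Fi23a
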