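import Cfsg.Agent.Lib.helper35.G2D

/-!
Root elements of the Chevalley group of type `G₂` act on the 1365 points as words in the
generators `a, …, f` (part 1).
-/

set_option autoImplicit false
set_option maxRecDepth 100000

namespace Cfsg.Agent.Lib.helper35.G2T

open Cfsg.Agent.Lib.helper35 Cfsg.Agent.Lib.helper35.SpF Cfsg.Agent.Lib.helper35.G2F
  Cfsg.Agent.Lib.helper35.G2O

theorem eqvB45 : allRange (eqvB 45) 1 1365 = true := by decide +kernel

theorem eqvB1 : allRange (eqvB 1) 1 1365 = true := by decide +kernel


end Cfsg.Agent.Lib.helper35.G2T
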