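import Cfsg.Agent.Lib.helper35.G2B0
import Cfsg.Agent.Lib.helper35.G2B1
import Cfsg.Agent.Lib.helper35.G2B2

/-!
Root elements of the Chevalley group of type `G₂` act on the 1365 points as words in the
generators `a, …, f`: all cases.
-/

set_option autoImplicit false
set_option maxRecDepth 100000

namespace Cfsg.Agent.Lib.helper35.G2T

open Cfsg.Agent.Lib.helper35 Cfsg.Agent.Lib.helper35.SpF Cfsg.Agent.Lib.helper35.G2F
  Cfsg.Agent.Lib.helper35.G2O

theorem root_chk : ∀ k ∈ dirL, allRange (eqvB k) 1 1365 = true := by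
  intro k hk
  simp only [dirL, List.mem_cons, List.not_mem_nil, or_false] at hk
  rcases hk with rfl | rfl | rfl | rfl | rfl | rfl
  exacts [eqvB45, eqvB1, eqvB46, eqvB13, eqvB33, eqvB14]

end Cfsg.Agent.Lib.helper35.G2T
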