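import Cfsg.Prelude.Def_ChevG2
import Cfsg.Agent.Lib.helper35.SpF4
import Cfsg.Agent.Lib.helper35.CosetCert

/-!
The Chevalley group of type `G₂` over the field with four elements, as a group of matrices of
size fourteen: its generators as sparse matrices, and the elements fixing fourteen coordinate
lines.
-/

set_option autoImplicit false
set_option maxRecDepth 100000

namespace Cfsg.Agent.Lib.helper35.G2F

open Cfsg.Agent.Lib.helper35 Cfsg.Agent.Lib.helper35.SpF Matrix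

/-- the index set -/
abbrev I14 : Type := Fin 2 ⊕ Fin 12

/-- vectors -/
abbrev W14 : Type := I14 → F4

/-- vectors as tuples -/
abbrev V14 : Type := F4 × F4 × F4 × F4 × F4 × F4 × F4 × F4 × F4 × F4 × F4 × F4 × F4 × F4

/-- matrices as tuples of rows -/
abbrev M14 : Type := V14 × V14 × V14 × V14 × V14 × V14 × V14 × V14 × V14 × V14 × V14 × V14 ×
  V14 × V14

/-- the vector of a tuple -/
def toW (x : V14) : W14 :=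
  Sum.elim ![x.1, x.2.1]
    ![x.2.2.1,
      x.2.2.2.1,
      x.2.2.2.2.1,
      x.2.2.2.2.2.1,
      x.2.2.2.2.2.2.1,
      x.2.2.2.2.2.2.2.1,
      x.2.2.2.2.2.2.2.2.1,
      x.2.2.2.2.2.2.2.2.2.1,
      x.2.2.2.2.2.2.2.2.2.2.1,
      x.2.2.2.2.2.2.2.2.2.2.2.1,
      x.2.2.2.2.2.2.2.2.2.2.2.2.1,
      x.2.2.2.2.2.2.2.2.2.2.2.2.2]

/-- the tuple of a vector -/
def ofW (u : W14) : V14 :=
  (u (Sum.inl 0),
    u (Sum.inl 1),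
    u (Sum.inr 0),
    u (Sum.inr 1),
    u (Sum.inr 2),
    u (Sum.inr 3),
    u (Sum.inr 4),
    u (Sum.inr 5),
    u (Sum.inr 6),
    u (Sum.inr 7),
    u (Sum.inr 8),
    u (Sum.inr 9),
    u (Sum.inr 10),
    u (Sum.inr 11))

theorem toW_ofW (u : W14) : toW (ofW u) = u := by
  funext j
  rcases j with j | j <;> fin_cases j <;> rfl

theorem ofW_toW (x : V14) : ofW (toW x) = x := rfl

theorem toW_injective : Function.Injective toW := fun x y h => by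
  rw [← ofW_toW x, ← ofW_toW y, h]

/-- the sum of two tuples -/
def add14 (x y : V14) : V14 :=
  (x.1 + y.1,
    x.2.1 + y.2.1,
    x.2.2.1 + y.2.2.1,
    x.2.2.2.1 + y.2.2.2.1,
    x.2.2.2.2.1 + y.2.2.2.2.1,
    x.2.2.2.2.2.1 + y.2.2.2.2.2.1,
    x.2.2.2.2.2.2.1 + y.2.2.2.2.2.2.1,
    x.2.2.2.2.2.2.2.1 + y.2.2.2.2.2.2.2.1,
    x.2.2.2.2.2.2.2.2.1 + y.2.2.2.2.2.2.2.2.1,
    x.2.2.2.2.2.2.2.2.2.1 + y.2.2.2.2.2.2.2.2.2.1,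
    x.2.2.2.2.2.2.2.2.2.2.1 + y.2.2.2.2.2.2.2.2.2.2.1,
    x.2.2.2.2.2.2.2.2.2.2.2.1 + y.2.2.2.2.2.2.2.2.2.2.2.1,
    x.2.2.2.2.2.2.2.2.2.2.2.2.1 + y.2.2.2.2.2.2.2.2.2.2.2.2.1,
    x.2.2.2.2.2.2.2.2.2.2.2.2.2 + y.2.2.2.2.2.2.2.2.2.2.2.2.2)

/-- a multiple of a tuple -/
def smul14 (c : F4) (x : V14) : V14 :=
  (c * x.1,
    c * x.2.1,
    c * x.2.2.1,
    c * x.2.2.2.1,
    c * x.2.2.2.2.1,
    c * x.2.2.2.2.2.1,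
    c * x.2.2.2.2.2.2.1,
    c * x.2.2.2.2.2.2.2.1,
    c * x.2.2.2.2.2.2.2.2.1,
    c * x.2.2.2.2.2.2.2.2.2.1,
    c * x.2.2.2.2.2.2.2.2.2.2.1,
    c * x.2.2.2.2.2.2.2.2.2.2.2.1,
    c * x.2.2.2.2.2.2.2.2.2.2.2.2.1,
    c * x.2.2.2.2.2.2.2.2.2.2.2.2.2)

/-- the zero tuple -/
def zero14 : V14 := (0, 0, 0, 0, 0, 0, 0, 0, 0, 0, 0, 0, 0, 0)

theorem toW_add14 (x y : V14) : toW (add14 x y) = toW x + toW y := by
  funext j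
  rcases j with j | j <;> fin_cases j <;> rfl

theorem toW_smul14 (c : F4) (x : V14) : toW (smul14 c x) = c • toW x := by
  funext j
  rcases j with j | j <;> fin_cases j <;> rfl

theorem toW_zero14 : toW zero14 = 0 := by
  funext j
  rcases j with j | j <;> fin_cases j <;> rfl

/-- equality of two elements of the field, as a boolean -/
def beq4 : F4 → F4 → Bool
  | F4.o, F4.o => true
  | F4.i, F4.i => true
  | F4.w, F4.w => true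
  | F4.v, F4.v => true
  | _, _ => false

theorem beq4_spec {a b : F4} (h : beq4 a b = true) : a = b := by
  cases a <;> cases b <;> first | rfl | exact absurd h (by decide)

theorem beq4_self (a : F4) : beq4 a a = true := by cases a <;> rfl

/-- equality of two tuples, as a boolean -/
def eq14 (x y : V14) : Bool :=
  beq4 x.1 y.1 &&
    beq4 x.2.1 y.2.1 &&
    beq4 x.2.2.1 y.2.2.1 &&
    beq4 x.2.2.2.1 y.2.2.2.1 &&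
    beq4 x.2.2.2.2.1 y.2.2.2.2.1 &&
    beq4 x.2.2.2.2.2.1 y.2.2.2.2.2.1 &&
    beq4 x.2.2.2.2.2.2.1 y.2.2.2.2.2.2.1 &&
    beq4 x.2.2.2.2.2.2.2.1 y.2.2.2.2.2.2.2.1 &&
    beq4 x.2.2.2.2.2.2.2.2.1 y.2.2.2.2.2.2.2.2.1 &&
    beq4 x.2.2.2.2.2.2.2.2.2.1 y.2.2.2.2.2.2.2.2.2.1 &&
    beq4 x.2.2.2.2.2.2.2.2.2.2.1 y.2.2.2.2.2.2.2.2.2.2.1 &&
    beq4 x.2.2.2.2.2.2.2.2.2.2.2.1 y.2.2.2.2.2.2.2.2.2.2.2.1 &&
    beq4 x.2.2.2.2.2.2.2.2.2.2.2.2.1 y.2.2.2.2.2.2.2.2.2.2.2.2.1 &&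
    beq4 x.2.2.2.2.2.2.2.2.2.2.2.2.2 y.2.2.2.2.2.2.2.2.2.2.2.2.2

theorem eq14_spec {x y : V14} (h : eq14 x y = true) : x = y := by
  unfold eq14 at h
  simp only [Bool.and_eq_true] at h
  obtain ⟨⟨⟨⟨⟨⟨⟨⟨⟨⟨⟨⟨⟨h0, h1⟩, h2⟩, h3⟩, h4⟩, h5⟩, h6⟩, h7⟩, h8⟩, h9⟩, h10⟩, h11⟩, h12⟩, h13⟩ := h
  obtain ⟨x0, x1, x2, x3, x4, x5, x6, x7, x8, x9, x10, x11, x12, x13⟩ := x
  obtain ⟨y0, y1, y2, y3, y4, y5, y6, y7, y8, y9, y10, y11, y12, y13⟩ := y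
  simp only at h0 h1 h2 h3 h4 h5 h6 h7 h8 h9 h10 h11 h12 h13
  rw [beq4_spec h0, beq4_spec h1, beq4_spec h2, beq4_spec h3, beq4_spec h4, beq4_spec h5, beq4_spec h6, beq4_spec h7, beq4_spec h8, beq4_spec h9, beq4_spec h10, beq4_spec h11, beq4_spec h12, beq4_spec h13]

theorem eq14_self (x : V14) : eq14 x x = true := by
  unfold eq14
  simp only [beq4_self, Bool.and_self]

/-- the coordinate `j` of a tuple -/
def nthc (j : ℕ) (x : V14) : F4 :=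
  match j with
  | 0 => x.1
  | 1 => x.2.1
  | 2 => x.2.2.1
  | 3 => x.2.2.2.1
  | 4 => x.2.2.2.2.1
  | 5 => x.2.2.2.2.2.1
  | 6 => x.2.2.2.2.2.2.1
  | 7 => x.2.2.2.2.2.2.2.1
  | 8 => x.2.2.2.2.2.2.2.2.1
  | 9 => x.2.2.2.2.2.2.2.2.2.1
  | 10 => x.2.2.2.2.2.2.2.2.2.2.1
  | 11 => x.2.2.2.2.2.2.2.2.2.2.2.1
  | 12 => x.2.2.2.2.2.2.2.2.2.2.2.2.1
  | _ => x.2.2.2.2.2.2.2.2.2.2.2.2.2

/-- the tuple with `1` at the coordinate `j` -/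
def unit14 (j : ℕ) : V14 :=
  match j with
  | 0 => (1, 0, 0, 0, 0, 0, 0, 0, 0, 0, 0, 0, 0, 0)
  | 1 => (0, 1, 0, 0, 0, 0, 0, 0, 0, 0, 0, 0, 0, 0)
  | 2 => (0, 0, 1, 0, 0, 0, 0, 0, 0, 0, 0, 0, 0, 0)
  | 3 => (0, 0, 0, 1, 0, 0, 0, 0, 0, 0, 0, 0, 0, 0)
  | 4 => (0, 0, 0, 0, 1, 0, 0, 0, 0, 0, 0, 0, 0, 0)
  | 5 => (0, 0, 0, 0, 0, 1, 0, 0, 0, 0, 0, 0, 0, 0)
  | 6 => (0, 0, 0, 0, 0, 0, 1, 0, 0, 0, 0, 0, 0, 0)
  | 7 => (0, 0, 0, 0, 0, 0, 0, 1, 0, 0, 0, 0, 0, 0)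
  | 8 => (0, 0, 0, 0, 0, 0, 0, 0, 1, 0, 0, 0, 0, 0)
  | 9 => (0, 0, 0, 0, 0, 0, 0, 0, 0, 1, 0, 0, 0, 0)
  | 10 => (0, 0, 0, 0, 0, 0, 0, 0, 0, 0, 1, 0, 0, 0)
  | 11 => (0, 0, 0, 0, 0, 0, 0, 0, 0, 0, 0, 1, 0, 0)
  | 12 => (0, 0, 0, 0, 0, 0, 0, 0, 0, 0, 0, 0, 1, 0)
  | _ => (0, 0, 0, 0, 0, 0, 0, 0, 0, 0, 0, 0, 0, 1)

/-- the product of a row and a column -/
def dot14 (r x : V14) : F4 :=
  r.1 * x.1 +
    r.2.1 * x.2.1 +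
    r.2.2.1 * x.2.2.1 +
    r.2.2.2.1 * x.2.2.2.1 +
    r.2.2.2.2.1 * x.2.2.2.2.1 +
    r.2.2.2.2.2.1 * x.2.2.2.2.2.1 +
    r.2.2.2.2.2.2.1 * x.2.2.2.2.2.2.1 +
    r.2.2.2.2.2.2.2.1 * x.2.2.2.2.2.2.2.1 +
    r.2.2.2.2.2.2.2.2.1 * x.2.2.2.2.2.2.2.2.1 +
    r.2.2.2.2.2.2.2.2.2.1 * x.2.2.2.2.2.2.2.2.2.1 +
    r.2.2.2.2.2.2.2.2.2.2.1 * x.2.2.2.2.2.2.2.2.2.2.1 +
    r.2.2.2.2.2.2.2.2.2.2.2.1 * x.2.2.2.2.2.2.2.2.2.2.2.1 +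
    r.2.2.2.2.2.2.2.2.2.2.2.2.1 * x.2.2.2.2.2.2.2.2.2.2.2.2.1 +
    r.2.2.2.2.2.2.2.2.2.2.2.2.2 * x.2.2.2.2.2.2.2.2.2.2.2.2.2

theorem dot14_add (a b x : V14) : dot14 (add14 a b) x = dot14 a x + dot14 b x := by
  simp only [dot14, add14]
  ring

theorem dot14_zero (x : V14) : dot14 zero14 x = 0 := by
  simp [dot14, zero14]

theorem dot14_smul_unit (c : F4) (j : ℕ) (x : V14) :
    dot14 (smul14 c (unit14 j)) x = c * nthc j x := by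
  rcases j with _ | _ | _ | _ | _ | _ | _ | _ | _ | _ | _ | _ | _ | _ <;>
    simp [dot14, smul14, unit14, nthc]

/-- a sparse row: coefficients and their columns -/
abbrev Row : Type := List (F4 × ℕ)

/-- the product of a sparse row and a column -/
def dotS (row : Row) (x : V14) : F4 := row.foldr (fun e acc => e.1 * nthc e.2 x + acc) 0

/-- the tuple of a sparse row -/
def drow (row : Row) : V14 := row.foldr (fun e acc => add14 (smul14 e.1 (unit14 e.2)) acc) zero14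

theorem dot14_drow (row : Row) (x : V14) : dot14 (drow row) x = dotS row x := by
  induction row with
  | nil => exact dot14_zero x
  | cons e row ih =>
    show dot14 (add14 (smul14 e.1 (unit14 e.2)) (drow row)) x = e.1 * nthc e.2 x + dotS row x
    rw [dot14_add, dot14_smul_unit, ih]

/-- the product of a matrix and a column -/
def mv (m : M14) (x : V14) : V14 :=
  (dot14 m.1 x,
    dot14 m.2.1 x,
    dot14 m.2.2.1 x,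
    dot14 m.2.2.2.1 x,
    dot14 m.2.2.2.2.1 x,
    dot14 m.2.2.2.2.2.1 x,
    dot14 m.2.2.2.2.2.2.1 x,
    dot14 m.2.2.2.2.2.2.2.1 x,
    dot14 m.2.2.2.2.2.2.2.2.1 x,
    dot14 m.2.2.2.2.2.2.2.2.2.1 x,
    dot14 m.2.2.2.2.2.2.2.2.2.2.1 x,
    dot14 m.2.2.2.2.2.2.2.2.2.2.2.1 x,
    dot14 m.2.2.2.2.2.2.2.2.2.2.2.2.1 x,
    dot14 m.2.2.2.2.2.2.2.2.2.2.2.2.2 x)

/-- the product of a sparse matrix and a column -/
def mvS (S : ℕ → Row) (x : V14) : V14 :=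
  (dotS (S 0) x,
    dotS (S 1) x,
    dotS (S 2) x,
    dotS (S 3) x,
    dotS (S 4) x,
    dotS (S 5) x,
    dotS (S 6) x,
    dotS (S 7) x,
    dotS (S 8) x,
    dotS (S 9) x,
    dotS (S 10) x,
    dotS (S 11) x,
    dotS (S 12) x,
    dotS (S 13) x)

/-- the matrix of a sparse matrix, as a tuple of rows -/
def dens (S : ℕ → Row) : M14 :=
  (drow (S 0),
    drow (S 1),
    drow (S 2),
    drow (S 3),
    drow (S 4),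
    drow (S 5),
    drow (S 6),
    drow (S 7),
    drow (S 8),
    drow (S 9),
    drow (S 10),
    drow (S 11),
    drow (S 12),
    drow (S 13))

theorem mv_dens (S : ℕ → Row) (x : V14) : mv (dens S) x = mvS S x := by
  simp only [mv, dens, mvS, dot14_drow]

/-- the matrix of a tuple of rows -/
def toMat (m : M14) : Matrix I14 I14 F4 :=
  Matrix.of (Sum.elim ![toW m.1, toW m.2.1]
    ![toW m.2.2.1,
      toW m.2.2.2.1,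
      toW m.2.2.2.2.1,
      toW m.2.2.2.2.2.1,
      toW m.2.2.2.2.2.2.1,
      toW m.2.2.2.2.2.2.2.1,
      toW m.2.2.2.2.2.2.2.2.1,
      toW m.2.2.2.2.2.2.2.2.2.1,
      toW m.2.2.2.2.2.2.2.2.2.2.1,
      toW m.2.2.2.2.2.2.2.2.2.2.2.1,
      toW m.2.2.2.2.2.2.2.2.2.2.2.2.1,
      toW m.2.2.2.2.2.2.2.2.2.2.2.2.2])

theorem sum12 (f : Fin 12 → F4) : ∑ i, f i =
    f 0 + f 1 + f 2 + f 3 + f 4 + f 5 + f 6 + f 7 + f 8 + f 9 + f 10 + f 11 := by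
  simp only [Fin.sum_univ_succ, Fin.sum_univ_zero, add_zero, add_assoc]
  rfl

theorem dot_eq (u w : W14) : u ⬝ᵥ w = dot14 (ofW u) (ofW w) := by
  unfold dotProduct
  rw [Fintype.sum_sum_type, Fin.sum_univ_two, sum12]
  simp only [dot14, ofW, add_assoc]

set_option maxHeartbeats 2000000 in
theorem toMat_mulVec (m : M14) (x : V14) : toMat m *ᵥ toW x = toW (mv m x) := by
  funext j
  show (fun i => toMat m j i) ⬝ᵥ toW x = toW (mv m x) j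
  rw [dot_eq]
  rcases j with j | j <;> fin_cases j <;> simp [toMat, toW, ofW, mv]

/-- the matrix of a sparse matrix -/
def toMatS (S : ℕ → Row) : Matrix I14 I14 F4 := toMat (dens S)

theorem toMatS_mulVec (S : ℕ → Row) (x : V14) : toMatS S *ᵥ toW x = toW (mvS S x) := by
  unfold toMatS
  rw [toMat_mulVec, mv_dens]

/-- the number of an element of the field -/
def n4 : F4 → ℕ
  | F4.o => 0
  | F4.i => 1
  | F4.w => 2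
  | F4.v => 3

/-- an element of the field from a number -/
def f4 : ℕ → F4
  | 0 => F4.o
  | 1 => F4.i
  | 2 => F4.w
  | _ => F4.v

/-- the first tuple is a nonzero multiple of the second -/
def pe14 (y x : V14) : Bool := eq14 y x || eq14 y (smul14 F4.w x) || eq14 y (smul14 F4.v x)

theorem pe14_spec {y x : V14} (h : pe14 y x = true) : ∃ μ : F4, μ ≠ 0 ∧ toW y = μ • toW x := by
  unfold pe14 at h
  simp only [Bool.or_eq_true] at h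
  rcases h with (h | h) | h
  · exact ⟨1, by decide, by rw [eq14_spec h, one_smul]⟩
  · exact ⟨F4.w, by decide, by rw [eq14_spec h, toW_smul14]⟩
  · exact ⟨F4.v, by decide, by rw [eq14_spec h, toW_smul14]⟩

/-- the action of invertible matrices on vectors -/
instance actW : MulAction (GL I14 F4) W14 where
  smul A x := (A : Matrix I14 I14 F4) *ᵥ x
  one_smul x := by
    show ((1 : GL I14 F4) : Matrix I14 I14 F4) *ᵥ x = x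
    simp
  mul_smul A B x := by
    show ((A * B : GL I14 F4) : Matrix I14 I14 F4) *ᵥ x =
      (A : Matrix I14 I14 F4) *ᵥ ((B : Matrix I14 I14 F4) *ᵥ x)
    simp [Matrix.mulVec_mulVec]

theorem smul_def (A : GL I14 F4) (x : W14) : A • x = (A : Matrix I14 I14 F4) *ᵥ x := rfl

theorem smul_add' (A : GL I14 F4) (x y : W14) : A • (x + y) = A • x + A • y :=
  Matrix.mulVec_add _ _ _

theorem smul_smul' (A : GL I14 F4) (c : F4) (x : W14) : A • (c • x) = c • (A • x) :=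
  Matrix.mulVec_smul _ _ _

theorem smul_zero' (A : GL I14 F4) : A • (0 : W14) = 0 := Matrix.mulVec_zero _

/-- a matrix multiplying the coordinate vectors by `μ` is `μ` times the identity -/
theorem mat_eq_smul_one (A : Matrix I14 I14 F4) (μ : F4)
    (h : ∀ j : I14, A *ᵥ Pi.single j 1 = μ • (Pi.single j 1 : W14)) :
    A = μ • (1 : Matrix I14 I14 F4) := by
  ext k j
  have h1 := congrFun (h j) k
  rw [Matrix.mulVec_single_one] at h1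
  rw [show A k j = A.col j k from rfl, h1]
  simp [Matrix.one_apply, Pi.single_apply]

theorem mat_eq_one (A : Matrix I14 I14 F4)
    (h : ∀ j : I14, A *ᵥ Pi.single j 1 = (Pi.single j 1 : W14)) : A = 1 := by
  have h1 := mat_eq_smul_one A 1 (fun j => by rw [h j, one_smul])
  rw [h1, one_smul]

/-- the root element of the root `0` with parameter `0`, as a sparse matrix -/
def XS0 : ℕ → Row
  | 0 => [(F4.i, 0)]
  | 1 => [(F4.i, 1)]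
  | 2 => [(F4.i, 2)]
  | 3 => [(F4.i, 3)]
  | 4 => [(F4.i, 4)]
  | 5 => [(F4.i, 5)]
  | 6 => [(F4.i, 6)]
  | 7 => [(F4.i, 7)]
  | 8 => [(F4.i, 8)]
  | 9 => [(F4.i, 9)]
  | 10 => [(F4.i, 10)]
  | 11 => [(F4.i, 11)]
  | 12 => [(F4.i, 12)]
  | _ => [(F4.i, 13)]

/-- the root element of the root `0` with parameter `1`, as a sparse matrix -/
def XS1 : ℕ → Row
  | 0 => [(F4.i, 0), (F4.i, 13)]
  | 1 => [(F4.i, 1)]
  | 2 => [(F4.i, 1), (F4.i, 2), (F4.i, 13)]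
  | 3 => [(F4.i, 3), (F4.i, 8)]
  | 4 => [(F4.i, 4), (F4.i, 10)]
  | 5 => [(F4.i, 5), (F4.i, 11)]
  | 6 => [(F4.i, 6)]
  | 7 => [(F4.i, 7), (F4.i, 12)]
  | 8 => [(F4.i, 8)]
  | 9 => [(F4.i, 9)]
  | 10 => [(F4.i, 10)]
  | 11 => [(F4.i, 11)]
  | 12 => [(F4.i, 12)]
  | _ => [(F4.i, 13)]

/-- the root element of the root `0` with parameter `2`, as a sparse matrix -/
def XS2 : ℕ → Row
  | 0 => [(F4.i, 0), (F4.w, 13)]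
  | 1 => [(F4.i, 1)]
  | 2 => [(F4.w, 1), (F4.i, 2), (F4.v, 13)]
  | 3 => [(F4.i, 3), (F4.w, 8)]
  | 4 => [(F4.i, 4), (F4.w, 10)]
  | 5 => [(F4.i, 5), (F4.w, 11)]
  | 6 => [(F4.i, 6)]
  | 7 => [(F4.i, 7), (F4.w, 12)]
  | 8 => [(F4.i, 8)]
  | 9 => [(F4.i, 9)]
  | 10 => [(F4.i, 10)]
  | 11 => [(F4.i, 11)]
  | 12 => [(F4.i, 12)]
  | _ => [(F4.i, 13)]

/-- the root element of the root `0` with parameter `3`, as a sparse matrix -/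
def XS3 : ℕ → Row
  | 0 => [(F4.i, 0), (F4.v, 13)]
  | 1 => [(F4.i, 1)]
  | 2 => [(F4.v, 1), (F4.i, 2), (F4.w, 13)]
  | 3 => [(F4.i, 3), (F4.v, 8)]
  | 4 => [(F4.i, 4), (F4.v, 10)]
  | 5 => [(F4.i, 5), (F4.v, 11)]
  | 6 => [(F4.i, 6)]
  | 7 => [(F4.i, 7), (F4.v, 12)]
  | 8 => [(F4.i, 8)]
  | 9 => [(F4.i, 9)]
  | 10 => [(F4.i, 10)]
  | 11 => [(F4.i, 11)]
  | 12 => [(F4.i, 12)]
  | _ => [(F4.i, 13)]

/-- the root element of the root `1` with parameter `0`, as a sparse matrix -/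
def XS4 : ℕ → Row
  | 0 => [(F4.i, 0)]
  | 1 => [(F4.i, 1)]
  | 2 => [(F4.i, 2)]
  | 3 => [(F4.i, 3)]
  | 4 => [(F4.i, 4)]
  | 5 => [(F4.i, 5)]
  | 6 => [(F4.i, 6)]
  | 7 => [(F4.i, 7)]
  | 8 => [(F4.i, 8)]
  | 9 => [(F4.i, 9)]
  | 10 => [(F4.i, 10)]
  | 11 => [(F4.i, 11)]
  | 12 => [(F4.i, 12)]
  | _ => [(F4.i, 13)]

/-- the root element of the root `1` with parameter `1`, as a sparse matrix -/
def XS5 : ℕ → Row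
  | 0 => [(F4.i, 0), (F4.i, 12)]
  | 1 => [(F4.i, 1), (F4.i, 12)]
  | 2 => [(F4.i, 2), (F4.i, 7)]
  | 3 => [(F4.i, 0), (F4.i, 1), (F4.i, 3), (F4.i, 12)]
  | 4 => [(F4.i, 4), (F4.i, 9)]
  | 5 => [(F4.i, 5)]
  | 6 => [(F4.i, 6), (F4.i, 11)]
  | 7 => [(F4.i, 7)]
  | 8 => [(F4.i, 8), (F4.i, 13)]
  | 9 => [(F4.i, 9)]
  | 10 => [(F4.i, 10)]
  | 11 => [(F4.i, 11)]
  | 12 => [(F4.i, 12)]
  | _ => [(F4.i, 13)]

/-- the root element of the root `1` with parameter `2`, as a sparse matrix -/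
def XS6 : ℕ → Row
  | 0 => [(F4.i, 0), (F4.w, 12)]
  | 1 => [(F4.i, 1), (F4.w, 12)]
  | 2 => [(F4.i, 2), (F4.w, 7)]
  | 3 => [(F4.w, 0), (F4.w, 1), (F4.i, 3), (F4.v, 12)]
  | 4 => [(F4.i, 4), (F4.w, 9)]
  | 5 => [(F4.i, 5)]
  | 6 => [(F4.i, 6), (F4.w, 11)]
  | 7 => [(F4.i, 7)]
  | 8 => [(F4.i, 8), (F4.w, 13)]
  | 9 => [(F4.i, 9)]
  | 10 => [(F4.i, 10)]
  | 11 => [(F4.i, 11)]
  | 12 => [(F4.i, 12)]
  | _ => [(F4.i, 13)]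

/-- the root element of the root `1` with parameter `3`, as a sparse matrix -/
def XS7 : ℕ → Row
  | 0 => [(F4.i, 0), (F4.v, 12)]
  | 1 => [(F4.i, 1), (F4.v, 12)]
  | 2 => [(F4.i, 2), (F4.v, 7)]
  | 3 => [(F4.v, 0), (F4.v, 1), (F4.i, 3), (F4.w, 12)]
  | 4 => [(F4.i, 4), (F4.v, 9)]
  | 5 => [(F4.i, 5)]
  | 6 => [(F4.i, 6), (F4.v, 11)]
  | 7 => [(F4.i, 7)]
  | 8 => [(F4.i, 8), (F4.v, 13)]
  | 9 => [(F4.i, 9)]
  | 10 => [(F4.i, 10)]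
  | 11 => [(F4.i, 11)]
  | 12 => [(F4.i, 12)]
  | _ => [(F4.i, 13)]

/-- the root element of the root `2` with parameter `0`, as a sparse matrix -/
def XS8 : ℕ → Row
  | 0 => [(F4.i, 0)]
  | 1 => [(F4.i, 1)]
  | 2 => [(F4.i, 2)]
  | 3 => [(F4.i, 3)]
  | 4 => [(F4.i, 4)]
  | 5 => [(F4.i, 5)]
  | 6 => [(F4.i, 6)]
  | 7 => [(F4.i, 7)]
  | 8 => [(F4.i, 8)]
  | 9 => [(F4.i, 9)]
  | 10 => [(F4.i, 10)]
  | 11 => [(F4.i, 11)]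
  | 12 => [(F4.i, 12)]
  | _ => [(F4.i, 13)]

/-- the root element of the root `2` with parameter `1`, as a sparse matrix -/
def XS9 : ℕ → Row
  | 0 => [(F4.i, 0)]
  | 1 => [(F4.i, 1), (F4.i, 11)]
  | 2 => [(F4.i, 2), (F4.i, 5), (F4.i, 9), (F4.i, 12)]
  | 3 => [(F4.i, 3), (F4.i, 6), (F4.i, 10), (F4.i, 13)]
  | 4 => [(F4.i, 0), (F4.i, 4), (F4.i, 11)]
  | 5 => [(F4.i, 5), (F4.i, 12)]
  | 6 => [(F4.i, 6), (F4.i, 13)]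
  | 7 => [(F4.i, 7)]
  | 8 => [(F4.i, 8)]
  | 9 => [(F4.i, 9), (F4.i, 12)]
  | 10 => [(F4.i, 10), (F4.i, 13)]
  | 11 => [(F4.i, 11)]
  | 12 => [(F4.i, 12)]
  | _ => [(F4.i, 13)]

/-- the root element of the root `2` with parameter `2`, as a sparse matrix -/
def XS10 : ℕ → Row
  | 0 => [(F4.i, 0)]
  | 1 => [(F4.i, 1), (F4.w, 11)]
  | 2 => [(F4.i, 2), (F4.w, 5), (F4.v, 9), (F4.i, 12)]
  | 3 => [(F4.i, 3), (F4.w, 6), (F4.v, 10), (F4.i, 13)]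
  | 4 => [(F4.w, 0), (F4.i, 4), (F4.v, 11)]
  | 5 => [(F4.i, 5), (F4.v, 12)]
  | 6 => [(F4.i, 6), (F4.v, 13)]
  | 7 => [(F4.i, 7)]
  | 8 => [(F4.i, 8)]
  | 9 => [(F4.i, 9), (F4.w, 12)]
  | 10 => [(F4.i, 10), (F4.w, 13)]
  | 11 => [(F4.i, 11)]
  | 12 => [(F4.i, 12)]
  | _ => [(F4.i, 13)]

/-- the root element of the root `2` with parameter `3`, as a sparse matrix -/
def XS11 : ℕ → Row
  | 0 => [(F4.i, 0)]
  | 1 => [(F4.i, 1), (F4.v, 11)]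
  | 2 => [(F4.i, 2), (F4.v, 5), (F4.w, 9), (F4.i, 12)]
  | 3 => [(F4.i, 3), (F4.v, 6), (F4.w, 10), (F4.i, 13)]
  | 4 => [(F4.v, 0), (F4.i, 4), (F4.w, 11)]
  | 5 => [(F4.i, 5), (F4.w, 12)]
  | 6 => [(F4.i, 6), (F4.w, 13)]
  | 7 => [(F4.i, 7)]
  | 8 => [(F4.i, 8)]
  | 9 => [(F4.i, 9), (F4.v, 12)]
  | 10 => [(F4.i, 10), (F4.v, 13)]
  | 11 => [(F4.i, 11)]
  | 12 => [(F4.i, 12)]
  | _ => [(F4.i, 13)]

/-- the root element of the root `3` with parameter `0`, as a sparse matrix -/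
def XS12 : ℕ → Row
  | 0 => [(F4.i, 0)]
  | 1 => [(F4.i, 1)]
  | 2 => [(F4.i, 2)]
  | 3 => [(F4.i, 3)]
  | 4 => [(F4.i, 4)]
  | 5 => [(F4.i, 5)]
  | 6 => [(F4.i, 6)]
  | 7 => [(F4.i, 7)]
  | 8 => [(F4.i, 8)]
  | 9 => [(F4.i, 9)]
  | 10 => [(F4.i, 10)]
  | 11 => [(F4.i, 11)]
  | 12 => [(F4.i, 12)]
  | _ => [(F4.i, 13)]

/-- the root element of the root `3` with parameter `1`, as a sparse matrix -/
def XS13 : ℕ → Row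
  | 0 => [(F4.i, 0), (F4.i, 10)]
  | 1 => [(F4.i, 1), (F4.i, 10)]
  | 2 => [(F4.i, 2), (F4.i, 4), (F4.i, 6), (F4.i, 8)]
  | 3 => [(F4.i, 3)]
  | 4 => [(F4.i, 4), (F4.i, 8)]
  | 5 => [(F4.i, 0), (F4.i, 1), (F4.i, 5), (F4.i, 10)]
  | 6 => [(F4.i, 6), (F4.i, 8)]
  | 7 => [(F4.i, 7), (F4.i, 9), (F4.i, 11), (F4.i, 13)]
  | 8 => [(F4.i, 8)]
  | 9 => [(F4.i, 9), (F4.i, 13)]
  | 10 => [(F4.i, 10)]
  | 11 => [(F4.i, 11), (F4.i, 13)]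
  | 12 => [(F4.i, 12)]
  | _ => [(F4.i, 13)]

/-- the root element of the root `3` with parameter `2`, as a sparse matrix -/
def XS14 : ℕ → Row
  | 0 => [(F4.i, 0), (F4.w, 10)]
  | 1 => [(F4.i, 1), (F4.w, 10)]
  | 2 => [(F4.i, 2), (F4.w, 4), (F4.v, 6), (F4.i, 8)]
  | 3 => [(F4.i, 3)]
  | 4 => [(F4.i, 4), (F4.v, 8)]
  | 5 => [(F4.w, 0), (F4.w, 1), (F4.i, 5), (F4.v, 10)]
  | 6 => [(F4.i, 6), (F4.w, 8)]
  | 7 => [(F4.i, 7), (F4.w, 9), (F4.v, 11), (F4.i, 13)]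
  | 8 => [(F4.i, 8)]
  | 9 => [(F4.i, 9), (F4.v, 13)]
  | 10 => [(F4.i, 10)]
  | 11 => [(F4.i, 11), (F4.w, 13)]
  | 12 => [(F4.i, 12)]
  | _ => [(F4.i, 13)]

/-- the root element of the root `3` with parameter `3`, as a sparse matrix -/
def XS15 : ℕ → Row
  | 0 => [(F4.i, 0), (F4.v, 10)]
  | 1 => [(F4.i, 1), (F4.v, 10)]
  | 2 => [(F4.i, 2), (F4.v, 4), (F4.w, 6), (F4.i, 8)]
  | 3 => [(F4.i, 3)]
  | 4 => [(F4.i, 4), (F4.w, 8)]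
  | 5 => [(F4.v, 0), (F4.v, 1), (F4.i, 5), (F4.w, 10)]
  | 6 => [(F4.i, 6), (F4.v, 8)]
  | 7 => [(F4.i, 7), (F4.v, 9), (F4.w, 11), (F4.i, 13)]
  | 8 => [(F4.i, 8)]
  | 9 => [(F4.i, 9), (F4.w, 13)]
  | 10 => [(F4.i, 10)]
  | 11 => [(F4.i, 11), (F4.v, 13)]
  | 12 => [(F4.i, 12)]
  | _ => [(F4.i, 13)]

/-- the root element of the root `4` with parameter `0`, as a sparse matrix -/
def XS16 : ℕ → Row
  | 0 => [(F4.i, 0)]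
  | 1 => [(F4.i, 1)]
  | 2 => [(F4.i, 2)]
  | 3 => [(F4.i, 3)]
  | 4 => [(F4.i, 4)]
  | 5 => [(F4.i, 5)]
  | 6 => [(F4.i, 6)]
  | 7 => [(F4.i, 7)]
  | 8 => [(F4.i, 8)]
  | 9 => [(F4.i, 9)]
  | 10 => [(F4.i, 10)]
  | 11 => [(F4.i, 11)]
  | 12 => [(F4.i, 12)]
  | _ => [(F4.i, 13)]

/-- the root element of the root `4` with parameter `1`, as a sparse matrix -/
def XS17 : ℕ → Row
  | 0 => [(F4.i, 0), (F4.i, 9)]
  | 1 => [(F4.i, 1)]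
  | 2 => [(F4.i, 2)]
  | 3 => [(F4.i, 3), (F4.i, 4), (F4.i, 5), (F4.i, 7)]
  | 4 => [(F4.i, 4), (F4.i, 7)]
  | 5 => [(F4.i, 5), (F4.i, 7)]
  | 6 => [(F4.i, 1), (F4.i, 6), (F4.i, 9)]
  | 7 => [(F4.i, 7)]
  | 8 => [(F4.i, 8), (F4.i, 10), (F4.i, 11), (F4.i, 12)]
  | 9 => [(F4.i, 9)]
  | 10 => [(F4.i, 10), (F4.i, 12)]
  | 11 => [(F4.i, 11), (F4.i, 12)]
  | 12 => [(F4.i, 12)]
  | _ => [(F4.i, 13)]

/-- the root element of the root `4` with parameter `2`, as a sparse matrix -/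
def XS18 : ℕ → Row
  | 0 => [(F4.i, 0), (F4.w, 9)]
  | 1 => [(F4.i, 1)]
  | 2 => [(F4.i, 2)]
  | 3 => [(F4.i, 3), (F4.w, 4), (F4.v, 5), (F4.i, 7)]
  | 4 => [(F4.i, 4), (F4.v, 7)]
  | 5 => [(F4.i, 5), (F4.w, 7)]
  | 6 => [(F4.w, 1), (F4.i, 6), (F4.v, 9)]
  | 7 => [(F4.i, 7)]
  | 8 => [(F4.i, 8), (F4.w, 10), (F4.v, 11), (F4.i, 12)]
  | 9 => [(F4.i, 9)]
  | 10 => [(F4.i, 10), (F4.v, 12)]
  | 11 => [(F4.i, 11), (F4.w, 12)]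
  | 12 => [(F4.i, 12)]
  | _ => [(F4.i, 13)]

/-- the root element of the root `4` with parameter `3`, as a sparse matrix -/
def XS19 : ℕ → Row
  | 0 => [(F4.i, 0), (F4.v, 9)]
  | 1 => [(F4.i, 1)]
  | 2 => [(F4.i, 2)]
  | 3 => [(F4.i, 3), (F4.v, 4), (F4.w, 5), (F4.i, 7)]
  | 4 => [(F4.i, 4), (F4.w, 7)]
  | 5 => [(F4.i, 5), (F4.v, 7)]
  | 6 => [(F4.v, 1), (F4.i, 6), (F4.w, 9)]
  | 7 => [(F4.i, 7)]
  | 8 => [(F4.i, 8), (F4.v, 10), (F4.w, 11), (F4.i, 12)]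
  | 9 => [(F4.i, 9)]
  | 10 => [(F4.i, 10), (F4.w, 12)]
  | 11 => [(F4.i, 11), (F4.v, 12)]
  | 12 => [(F4.i, 12)]
  | _ => [(F4.i, 13)]

/-- the root element of the root `5` with parameter `0`, as a sparse matrix -/
def XS20 : ℕ → Row
  | 0 => [(F4.i, 0)]
  | 1 => [(F4.i, 1)]
  | 2 => [(F4.i, 2)]
  | 3 => [(F4.i, 3)]
  | 4 => [(F4.i, 4)]
  | 5 => [(F4.i, 5)]
  | 6 => [(F4.i, 6)]
  | 7 => [(F4.i, 7)]
  | 8 => [(F4.i, 8)]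
  | 9 => [(F4.i, 9)]
  | 10 => [(F4.i, 10)]
  | 11 => [(F4.i, 11)]
  | 12 => [(F4.i, 12)]
  | _ => [(F4.i, 13)]

/-- the root element of the root `5` with parameter `1`, as a sparse matrix -/
def XS21 : ℕ → Row
  | 0 => [(F4.i, 0)]
  | 1 => [(F4.i, 1), (F4.i, 8)]
  | 2 => [(F4.i, 2), (F4.i, 3)]
  | 3 => [(F4.i, 3)]
  | 4 => [(F4.i, 4)]
  | 5 => [(F4.i, 5), (F4.i, 6)]
  | 6 => [(F4.i, 6)]
  | 7 => [(F4.i, 0), (F4.i, 7), (F4.i, 8)]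
  | 8 => [(F4.i, 8)]
  | 9 => [(F4.i, 9), (F4.i, 10)]
  | 10 => [(F4.i, 10)]
  | 11 => [(F4.i, 11)]
  | 12 => [(F4.i, 12), (F4.i, 13)]
  | _ => [(F4.i, 13)]

/-- the root element of the root `5` with parameter `2`, as a sparse matrix -/
def XS22 : ℕ → Row
  | 0 => [(F4.i, 0)]
  | 1 => [(F4.i, 1), (F4.w, 8)]
  | 2 => [(F4.i, 2), (F4.w, 3)]
  | 3 => [(F4.i, 3)]
  | 4 => [(F4.i, 4)]
  | 5 => [(F4.i, 5), (F4.w, 6)]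
  | 6 => [(F4.i, 6)]
  | 7 => [(F4.w, 0), (F4.i, 7), (F4.v, 8)]
  | 8 => [(F4.i, 8)]
  | 9 => [(F4.i, 9), (F4.w, 10)]
  | 10 => [(F4.i, 10)]
  | 11 => [(F4.i, 11)]
  | 12 => [(F4.i, 12), (F4.w, 13)]
  | _ => [(F4.i, 13)]

/-- the root element of the root `5` with parameter `3`, as a sparse matrix -/
def XS23 : ℕ → Row
  | 0 => [(F4.i, 0)]
  | 1 => [(F4.i, 1), (F4.v, 8)]
  | 2 => [(F4.i, 2), (F4.v, 3)]
  | 3 => [(F4.i, 3)]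
  | 4 => [(F4.i, 4)]
  | 5 => [(F4.i, 5), (F4.v, 6)]
  | 6 => [(F4.i, 6)]
  | 7 => [(F4.v, 0), (F4.i, 7), (F4.w, 8)]
  | 8 => [(F4.i, 8)]
  | 9 => [(F4.i, 9), (F4.v, 10)]
  | 10 => [(F4.i, 10)]
  | 11 => [(F4.i, 11)]
  | 12 => [(F4.i, 12), (F4.v, 13)]
  | _ => [(F4.i, 13)]

/-- the root element of the root `6` with parameter `0`, as a sparse matrix -/
def XS24 : ℕ → Row
  | 0 => [(F4.i, 0)]
  | 1 => [(F4.i, 1)]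
  | 2 => [(F4.i, 2)]
  | 3 => [(F4.i, 3)]
  | 4 => [(F4.i, 4)]
  | 5 => [(F4.i, 5)]
  | 6 => [(F4.i, 6)]
  | 7 => [(F4.i, 7)]
  | 8 => [(F4.i, 8)]
  | 9 => [(F4.i, 9)]
  | 10 => [(F4.i, 10)]
  | 11 => [(F4.i, 11)]
  | 12 => [(F4.i, 12)]
  | _ => [(F4.i, 13)]

/-- the root element of the root `6` with parameter `1`, as a sparse matrix -/
def XS25 : ℕ → Row
  | 0 => [(F4.i, 0)]
  | 1 => [(F4.i, 1), (F4.i, 7)]
  | 2 => [(F4.i, 2)]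
  | 3 => [(F4.i, 2), (F4.i, 3)]
  | 4 => [(F4.i, 4)]
  | 5 => [(F4.i, 5)]
  | 6 => [(F4.i, 5), (F4.i, 6)]
  | 7 => [(F4.i, 7)]
  | 8 => [(F4.i, 0), (F4.i, 7), (F4.i, 8)]
  | 9 => [(F4.i, 9)]
  | 10 => [(F4.i, 9), (F4.i, 10)]
  | 11 => [(F4.i, 11)]
  | 12 => [(F4.i, 12)]
  | _ => [(F4.i, 12), (F4.i, 13)]

/-- the root element of the root `6` with parameter `2`, as a sparse matrix -/
def XS26 : ℕ → Row
  | 0 => [(F4.i, 0)]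
  | 1 => [(F4.i, 1), (F4.w, 7)]
  | 2 => [(F4.i, 2)]
  | 3 => [(F4.w, 2), (F4.i, 3)]
  | 4 => [(F4.i, 4)]
  | 5 => [(F4.i, 5)]
  | 6 => [(F4.w, 5), (F4.i, 6)]
  | 7 => [(F4.i, 7)]
  | 8 => [(F4.w, 0), (F4.v, 7), (F4.i, 8)]
  | 9 => [(F4.i, 9)]
  | 10 => [(F4.w, 9), (F4.i, 10)]
  | 11 => [(F4.i, 11)]
  | 12 => [(F4.i, 12)]
  | _ => [(F4.w, 12), (F4.i, 13)]

/-- the root element of the root `6` with parameter `3`, as a sparse matrix -/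
def XS27 : ℕ → Row
  | 0 => [(F4.i, 0)]
  | 1 => [(F4.i, 1), (F4.v, 7)]
  | 2 => [(F4.i, 2)]
  | 3 => [(F4.v, 2), (F4.i, 3)]
  | 4 => [(F4.i, 4)]
  | 5 => [(F4.i, 5)]
  | 6 => [(F4.v, 5), (F4.i, 6)]
  | 7 => [(F4.i, 7)]
  | 8 => [(F4.v, 0), (F4.w, 7), (F4.i, 8)]
  | 9 => [(F4.i, 9)]
  | 10 => [(F4.v, 9), (F4.i, 10)]
  | 11 => [(F4.i, 11)]
  | 12 => [(F4.i, 12)]
  | _ => [(F4.v, 12), (F4.i, 13)]

/-- the root element of the root `7` with parameter `0`, as a sparse matrix -/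
def XS28 : ℕ → Row
  | 0 => [(F4.i, 0)]
  | 1 => [(F4.i, 1)]
  | 2 => [(F4.i, 2)]
  | 3 => [(F4.i, 3)]
  | 4 => [(F4.i, 4)]
  | 5 => [(F4.i, 5)]
  | 6 => [(F4.i, 6)]
  | 7 => [(F4.i, 7)]
  | 8 => [(F4.i, 8)]
  | 9 => [(F4.i, 9)]
  | 10 => [(F4.i, 10)]
  | 11 => [(F4.i, 11)]
  | 12 => [(F4.i, 12)]
  | _ => [(F4.i, 13)]

/-- the root element of the root `7` with parameter `1`, as a sparse matrix -/
def XS29 : ℕ → Row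
  | 0 => [(F4.i, 0), (F4.i, 6)]
  | 1 => [(F4.i, 1)]
  | 2 => [(F4.i, 2)]
  | 3 => [(F4.i, 3)]
  | 4 => [(F4.i, 3), (F4.i, 4)]
  | 5 => [(F4.i, 3), (F4.i, 5)]
  | 6 => [(F4.i, 6)]
  | 7 => [(F4.i, 3), (F4.i, 4), (F4.i, 5), (F4.i, 7)]
  | 8 => [(F4.i, 8)]
  | 9 => [(F4.i, 1), (F4.i, 6), (F4.i, 9)]
  | 10 => [(F4.i, 8), (F4.i, 10)]
  | 11 => [(F4.i, 8), (F4.i, 11)]
  | 12 => [(F4.i, 8), (F4.i, 10), (F4.i, 11), (F4.i, 12)]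
  | _ => [(F4.i, 13)]

/-- the root element of the root `7` with parameter `2`, as a sparse matrix -/
def XS30 : ℕ → Row
  | 0 => [(F4.i, 0), (F4.w, 6)]
  | 1 => [(F4.i, 1)]
  | 2 => [(F4.i, 2)]
  | 3 => [(F4.i, 3)]
  | 4 => [(F4.w, 3), (F4.i, 4)]
  | 5 => [(F4.v, 3), (F4.i, 5)]
  | 6 => [(F4.i, 6)]
  | 7 => [(F4.i, 3), (F4.v, 4), (F4.w, 5), (F4.i, 7)]
  | 8 => [(F4.i, 8)]
  | 9 => [(F4.w, 1), (F4.v, 6), (F4.i, 9)]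
  | 10 => [(F4.w, 8), (F4.i, 10)]
  | 11 => [(F4.v, 8), (F4.i, 11)]
  | 12 => [(F4.i, 8), (F4.v, 10), (F4.w, 11), (F4.i, 12)]
  | _ => [(F4.i, 13)]

/-- the root element of the root `7` with parameter `3`, as a sparse matrix -/
def XS31 : ℕ → Row
  | 0 => [(F4.i, 0), (F4.v, 6)]
  | 1 => [(F4.i, 1)]
  | 2 => [(F4.i, 2)]
  | 3 => [(F4.i, 3)]
  | 4 => [(F4.v, 3), (F4.i, 4)]
  | 5 => [(F4.w, 3), (F4.i, 5)]
  | 6 => [(F4.i, 6)]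
  | 7 => [(F4.i, 3), (F4.w, 4), (F4.v, 5), (F4.i, 7)]
  | 8 => [(F4.i, 8)]
  | 9 => [(F4.v, 1), (F4.w, 6), (F4.i, 9)]
  | 10 => [(F4.v, 8), (F4.i, 10)]
  | 11 => [(F4.w, 8), (F4.i, 11)]
  | 12 => [(F4.i, 8), (F4.w, 10), (F4.v, 11), (F4.i, 12)]
  | _ => [(F4.i, 13)]

/-- the root element of the root `8` with parameter `0`, as a sparse matrix -/
def XS32 : ℕ → Row
  | 0 => [(F4.i, 0)]
  | 1 => [(F4.i, 1)]
  | 2 => [(F4.i, 2)]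
  | 3 => [(F4.i, 3)]
  | 4 => [(F4.i, 4)]
  | 5 => [(F4.i, 5)]
  | 6 => [(F4.i, 6)]
  | 7 => [(F4.i, 7)]
  | 8 => [(F4.i, 8)]
  | 9 => [(F4.i, 9)]
  | 10 => [(F4.i, 10)]
  | 11 => [(F4.i, 11)]
  | 12 => [(F4.i, 12)]
  | _ => [(F4.i, 13)]

/-- the root element of the root `8` with parameter `1`, as a sparse matrix -/
def XS33 : ℕ → Row
  | 0 => [(F4.i, 0), (F4.i, 5)]
  | 1 => [(F4.i, 1), (F4.i, 5)]
  | 2 => [(F4.i, 2)]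
  | 3 => [(F4.i, 3)]
  | 4 => [(F4.i, 2), (F4.i, 4)]
  | 5 => [(F4.i, 5)]
  | 6 => [(F4.i, 2), (F4.i, 6)]
  | 7 => [(F4.i, 7)]
  | 8 => [(F4.i, 2), (F4.i, 4), (F4.i, 6), (F4.i, 8)]
  | 9 => [(F4.i, 7), (F4.i, 9)]
  | 10 => [(F4.i, 0), (F4.i, 1), (F4.i, 5), (F4.i, 10)]
  | 11 => [(F4.i, 7), (F4.i, 11)]
  | 12 => [(F4.i, 12)]
  | _ => [(F4.i, 7), (F4.i, 9), (F4.i, 11), (F4.i, 13)]

/-- the root element of the root `8` with parameter `2`, as a sparse matrix -/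
def XS34 : ℕ → Row
  | 0 => [(F4.i, 0), (F4.w, 5)]
  | 1 => [(F4.i, 1), (F4.w, 5)]
  | 2 => [(F4.i, 2)]
  | 3 => [(F4.i, 3)]
  | 4 => [(F4.w, 2), (F4.i, 4)]
  | 5 => [(F4.i, 5)]
  | 6 => [(F4.v, 2), (F4.i, 6)]
  | 7 => [(F4.i, 7)]
  | 8 => [(F4.i, 2), (F4.v, 4), (F4.w, 6), (F4.i, 8)]
  | 9 => [(F4.w, 7), (F4.i, 9)]
  | 10 => [(F4.w, 0), (F4.w, 1), (F4.v, 5), (F4.i, 10)]
  | 11 => [(F4.v, 7), (F4.i, 11)]
  | 12 => [(F4.i, 12)]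
  | _ => [(F4.i, 7), (F4.v, 9), (F4.w, 11), (F4.i, 13)]

/-- the root element of the root `8` with parameter `3`, as a sparse matrix -/
def XS35 : ℕ → Row
  | 0 => [(F4.i, 0), (F4.v, 5)]
  | 1 => [(F4.i, 1), (F4.v, 5)]
  | 2 => [(F4.i, 2)]
  | 3 => [(F4.i, 3)]
  | 4 => [(F4.v, 2), (F4.i, 4)]
  | 5 => [(F4.i, 5)]
  | 6 => [(F4.w, 2), (F4.i, 6)]
  | 7 => [(F4.i, 7)]
  | 8 => [(F4.i, 2), (F4.w, 4), (F4.v, 6), (F4.i, 8)]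
  | 9 => [(F4.v, 7), (F4.i, 9)]
  | 10 => [(F4.v, 0), (F4.v, 1), (F4.w, 5), (F4.i, 10)]
  | 11 => [(F4.w, 7), (F4.i, 11)]
  | 12 => [(F4.i, 12)]
  | _ => [(F4.i, 7), (F4.w, 9), (F4.v, 11), (F4.i, 13)]

/-- the root element of the root `9` with parameter `0`, as a sparse matrix -/
def XS36 : ℕ → Row
  | 0 => [(F4.i, 0)]
  | 1 => [(F4.i, 1)]
  | 2 => [(F4.i, 2)]
  | 3 => [(F4.i, 3)]
  | 4 => [(F4.i, 4)]
  | 5 => [(F4.i, 5)]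
  | 6 => [(F4.i, 6)]
  | 7 => [(F4.i, 7)]
  | 8 => [(F4.i, 8)]
  | 9 => [(F4.i, 9)]
  | 10 => [(F4.i, 10)]
  | 11 => [(F4.i, 11)]
  | 12 => [(F4.i, 12)]
  | _ => [(F4.i, 13)]

/-- the root element of the root `9` with parameter `1`, as a sparse matrix -/
def XS37 : ℕ → Row
  | 0 => [(F4.i, 0)]
  | 1 => [(F4.i, 1), (F4.i, 4)]
  | 2 => [(F4.i, 2)]
  | 3 => [(F4.i, 3)]
  | 4 => [(F4.i, 4)]
  | 5 => [(F4.i, 2), (F4.i, 5)]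
  | 6 => [(F4.i, 3), (F4.i, 6)]
  | 7 => [(F4.i, 7)]
  | 8 => [(F4.i, 8)]
  | 9 => [(F4.i, 2), (F4.i, 9)]
  | 10 => [(F4.i, 3), (F4.i, 10)]
  | 11 => [(F4.i, 0), (F4.i, 4), (F4.i, 11)]
  | 12 => [(F4.i, 2), (F4.i, 5), (F4.i, 9), (F4.i, 12)]
  | _ => [(F4.i, 3), (F4.i, 6), (F4.i, 10), (F4.i, 13)]

/-- the root element of the root `9` with parameter `2`, as a sparse matrix -/
def XS38 : ℕ → Row
  | 0 => [(F4.i, 0)]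
  | 1 => [(F4.i, 1), (F4.w, 4)]
  | 2 => [(F4.i, 2)]
  | 3 => [(F4.i, 3)]
  | 4 => [(F4.i, 4)]
  | 5 => [(F4.w, 2), (F4.i, 5)]
  | 6 => [(F4.w, 3), (F4.i, 6)]
  | 7 => [(F4.i, 7)]
  | 8 => [(F4.i, 8)]
  | 9 => [(F4.v, 2), (F4.i, 9)]
  | 10 => [(F4.v, 3), (F4.i, 10)]
  | 11 => [(F4.w, 0), (F4.v, 4), (F4.i, 11)]
  | 12 => [(F4.i, 2), (F4.v, 5), (F4.w, 9), (F4.i, 12)]
  | _ => [(F4.i, 3), (F4.v, 6), (F4.w, 10), (F4.i, 13)]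

/-- the root element of the root `9` with parameter `3`, as a sparse matrix -/
def XS39 : ℕ → Row
  | 0 => [(F4.i, 0)]
  | 1 => [(F4.i, 1), (F4.v, 4)]
  | 2 => [(F4.i, 2)]
  | 3 => [(F4.i, 3)]
  | 4 => [(F4.i, 4)]
  | 5 => [(F4.v, 2), (F4.i, 5)]
  | 6 => [(F4.v, 3), (F4.i, 6)]
  | 7 => [(F4.i, 7)]
  | 8 => [(F4.i, 8)]
  | 9 => [(F4.w, 2), (F4.i, 9)]
  | 10 => [(F4.w, 3), (F4.i, 10)]
  | 11 => [(F4.v, 0), (F4.w, 4), (F4.i, 11)]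
  | 12 => [(F4.i, 2), (F4.w, 5), (F4.v, 9), (F4.i, 12)]
  | _ => [(F4.i, 3), (F4.w, 6), (F4.v, 10), (F4.i, 13)]

/-- the root element of the root `10` with parameter `0`, as a sparse matrix -/
def XS40 : ℕ → Row
  | 0 => [(F4.i, 0)]
  | 1 => [(F4.i, 1)]
  | 2 => [(F4.i, 2)]
  | 3 => [(F4.i, 3)]
  | 4 => [(F4.i, 4)]
  | 5 => [(F4.i, 5)]
  | 6 => [(F4.i, 6)]
  | 7 => [(F4.i, 7)]
  | 8 => [(F4.i, 8)]
  | 9 => [(F4.i, 9)]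
  | 10 => [(F4.i, 10)]
  | 11 => [(F4.i, 11)]
  | 12 => [(F4.i, 12)]
  | _ => [(F4.i, 13)]

/-- the root element of the root `10` with parameter `1`, as a sparse matrix -/
def XS41 : ℕ → Row
  | 0 => [(F4.i, 0), (F4.i, 3)]
  | 1 => [(F4.i, 1), (F4.i, 3)]
  | 2 => [(F4.i, 2)]
  | 3 => [(F4.i, 3)]
  | 4 => [(F4.i, 4)]
  | 5 => [(F4.i, 5)]
  | 6 => [(F4.i, 6)]
  | 7 => [(F4.i, 2), (F4.i, 7)]
  | 8 => [(F4.i, 8)]
  | 9 => [(F4.i, 4), (F4.i, 9)]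
  | 10 => [(F4.i, 10)]
  | 11 => [(F4.i, 6), (F4.i, 11)]
  | 12 => [(F4.i, 0), (F4.i, 1), (F4.i, 3), (F4.i, 12)]
  | _ => [(F4.i, 8), (F4.i, 13)]

/-- the root element of the root `10` with parameter `2`, as a sparse matrix -/
def XS42 : ℕ → Row
  | 0 => [(F4.i, 0), (F4.w, 3)]
  | 1 => [(F4.i, 1), (F4.w, 3)]
  | 2 => [(F4.i, 2)]
  | 3 => [(F4.i, 3)]
  | 4 => [(F4.i, 4)]
  | 5 => [(F4.i, 5)]
  | 6 => [(F4.i, 6)]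
  | 7 => [(F4.w, 2), (F4.i, 7)]
  | 8 => [(F4.i, 8)]
  | 9 => [(F4.w, 4), (F4.i, 9)]
  | 10 => [(F4.i, 10)]
  | 11 => [(F4.w, 6), (F4.i, 11)]
  | 12 => [(F4.w, 0), (F4.w, 1), (F4.v, 3), (F4.i, 12)]
  | _ => [(F4.w, 8), (F4.i, 13)]

/-- the root element of the root `10` with parameter `3`, as a sparse matrix -/
def XS43 : ℕ → Row
  | 0 => [(F4.i, 0), (F4.v, 3)]
  | 1 => [(F4.i, 1), (F4.v, 3)]
  | 2 => [(F4.i, 2)]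
  | 3 => [(F4.i, 3)]
  | 4 => [(F4.i, 4)]
  | 5 => [(F4.i, 5)]
  | 6 => [(F4.i, 6)]
  | 7 => [(F4.v, 2), (F4.i, 7)]
  | 8 => [(F4.i, 8)]
  | 9 => [(F4.v, 4), (F4.i, 9)]
  | 10 => [(F4.i, 10)]
  | 11 => [(F4.v, 6), (F4.i, 11)]
  | 12 => [(F4.v, 0), (F4.v, 1), (F4.w, 3), (F4.i, 12)]
  | _ => [(F4.v, 8), (F4.i, 13)]

/-- the root element of the root `11` with parameter `0`, as a sparse matrix -/
def XS44 : ℕ → Row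
  | 0 => [(F4.i, 0)]
  | 1 => [(F4.i, 1)]
  | 2 => [(F4.i, 2)]
  | 3 => [(F4.i, 3)]
  | 4 => [(F4.i, 4)]
  | 5 => [(F4.i, 5)]
  | 6 => [(F4.i, 6)]
  | 7 => [(F4.i, 7)]
  | 8 => [(F4.i, 8)]
  | 9 => [(F4.i, 9)]
  | 10 => [(F4.i, 10)]
  | 11 => [(F4.i, 11)]
  | 12 => [(F4.i, 12)]
  | _ => [(F4.i, 13)]

/-- the root element of the root `11` with parameter `1`, as a sparse matrix -/
def XS45 : ℕ → Row
  | 0 => [(F4.i, 0), (F4.i, 2)]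
  | 1 => [(F4.i, 1)]
  | 2 => [(F4.i, 2)]
  | 3 => [(F4.i, 3)]
  | 4 => [(F4.i, 4)]
  | 5 => [(F4.i, 5)]
  | 6 => [(F4.i, 6)]
  | 7 => [(F4.i, 7)]
  | 8 => [(F4.i, 3), (F4.i, 8)]
  | 9 => [(F4.i, 9)]
  | 10 => [(F4.i, 4), (F4.i, 10)]
  | 11 => [(F4.i, 5), (F4.i, 11)]
  | 12 => [(F4.i, 7), (F4.i, 12)]
  | _ => [(F4.i, 1), (F4.i, 2), (F4.i, 13)]

/-- the root element of the root `11` with parameter `2`, as a sparse matrix -/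
def XS46 : ℕ → Row
  | 0 => [(F4.i, 0), (F4.w, 2)]
  | 1 => [(F4.i, 1)]
  | 2 => [(F4.i, 2)]
  | 3 => [(F4.i, 3)]
  | 4 => [(F4.i, 4)]
  | 5 => [(F4.i, 5)]
  | 6 => [(F4.i, 6)]
  | 7 => [(F4.i, 7)]
  | 8 => [(F4.w, 3), (F4.i, 8)]
  | 9 => [(F4.i, 9)]
  | 10 => [(F4.w, 4), (F4.i, 10)]
  | 11 => [(F4.w, 5), (F4.i, 11)]
  | 12 => [(F4.w, 7), (F4.i, 12)]
  | _ => [(F4.w, 1), (F4.v, 2), (F4.i, 13)]

/-- the root element of the root `11` with parameter `3`, as a sparse matrix -/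
def XS47 : ℕ → Row
  | 0 => [(F4.i, 0), (F4.v, 2)]
  | 1 => [(F4.i, 1)]
  | 2 => [(F4.i, 2)]
  | 3 => [(F4.i, 3)]
  | 4 => [(F4.i, 4)]
  | 5 => [(F4.i, 5)]
  | 6 => [(F4.i, 6)]
  | 7 => [(F4.i, 7)]
  | 8 => [(F4.v, 3), (F4.i, 8)]
  | 9 => [(F4.i, 9)]
  | 10 => [(F4.v, 4), (F4.i, 10)]
  | 11 => [(F4.v, 5), (F4.i, 11)]
  | 12 => [(F4.v, 7), (F4.i, 12)]
  | _ => [(F4.v, 1), (F4.w, 2), (F4.i, 13)]

/-- the root elements as sparse matrices, by the number `4 r + t` -/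
def XS : ℕ → ℕ → Row
  | 0 => XS0
  | 1 => XS1
  | 2 => XS2
  | 3 => XS3
  | 4 => XS4
  | 5 => XS5
  | 6 => XS6
  | 7 => XS7
  | 8 => XS8
  | 9 => XS9
  | 10 => XS10
  | 11 => XS11
  | 12 => XS12
  | 13 => XS13
  | 14 => XS14
  | 15 => XS15
  | 16 => XS16
  | 17 => XS17
  | 18 => XS18
  | 19 => XS19
  | 20 => XS20
  | 21 => XS21
  | 22 => XS22
  | 23 => XS23
  | 24 => XS24
  | 25 => XS25
  | 26 => XS26
  | 27 => XS27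
  | 28 => XS28
  | 29 => XS29
  | 30 => XS30
  | 31 => XS31
  | 32 => XS32
  | 33 => XS33
  | 34 => XS34
  | 35 => XS35
  | 36 => XS36
  | 37 => XS37
  | 38 => XS38
  | 39 => XS39
  | 40 => XS40
  | 41 => XS41
  | 42 => XS42
  | 43 => XS43
  | 44 => XS44
  | 45 => XS45
  | 46 => XS46
  | _ => XS47

/-- an entry of a matrix -/
def ent (A : Matrix I14 I14 F4) (a b : I14) : F4 := A a b

theorem xMat_eq : ∀ (r : Fin 12) (t : F4) (a b : I14),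
    ent (Cfsg.Lie.chevG2.xMat F4 r t) a b = ent (toMatS (XS (4 * r.val + n4 t))) a b := by
  decide +kernel

theorem xsq_chk : ∀ k, k < 48 → ∀ j : I14,
    eq14 (mvS (XS k) (mvS (XS k) (ofW (Pi.single j 1)))) (ofW (Pi.single j 1)) = true := by
  decide +kernel

end Cfsg.Agent.Lib.helper35.G2F
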