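import Cfsg.Agent.Lib.helper35.G2F

/-!
The Chevalley group of type `G₂` over the field with four elements: its generators as invertible
matrices, and the elements multiplying all coordinate vectors by the same scalar.
-/

set_option autoImplicit false
set_option maxRecDepth 100000

namespace Cfsg.Agent.Lib.helper35.G2F

open Cfsg.Agent.Lib.helper35 Cfsg.Agent.Lib.helper35.SpF Matrix

theorem xMat_eq' (r : Fin 12) (t : F4) :
    Cfsg.Lie.chevG2.xMat F4 r t = toMatS (XS (4 * r.val + n4 t)) := by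
  ext a b
  exact xMat_eq r t a b

theorem code_lt (r : Fin 12) (t : F4) : 4 * r.val + n4 t < 48 := by
  have h1 := r.isLt
  have h2 : n4 t < 4 := by cases t <;> decide
  omega

theorem xsq (r : Fin 12) (t : F4) :
    toMatS (XS (4 * r.val + n4 t)) * toMatS (XS (4 * r.val + n4 t)) = 1 := by
  apply mat_eq_one
  intro j
  rw [← Matrix.mulVec_mulVec]
  have e : (Pi.single j 1 : W14) = toW (ofW (Pi.single j 1)) := (toW_ofW _).symm
  rw [e, toMatS_mulVec, toMatS_mulVec]
  exact congrArg toW (eq14_spec (xsq_chk _ (code_lt r t) j))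

/-- the root elements as invertible matrices -/
def xg (r : Fin 12) (t : F4) : GL I14 F4 :=
  ⟨toMatS (XS (4 * r.val + n4 t)), toMatS (XS (4 * r.val + n4 t)), xsq r t, xsq r t⟩

theorem xg_smul (r : Fin 12) (t : F4) (x : V14) :
    xg r t • toW x = toW (mvS (XS (4 * r.val + n4 t)) x) :=
  toMatS_mulVec _ x

/-- the Chevalley group of type `G₂` over the field with four elements -/
abbrev G2 : Subgroup (GL I14 F4) := Cfsg.Lie.chevG2.group F4

theorem xg_mem (r : Fin 12) (t : F4) : xg r t ∈ G2 :=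
  Subgroup.subset_closure ⟨r, t, (xMat_eq' r t).symm⟩

theorem gen_cases (g : GL I14 F4)
    (h : ∃ (r : Fin 12) (t : F4), (g : Matrix I14 I14 F4) = Cfsg.Lie.chevG2.xMat F4 r t) :
    ∃ (r : Fin 12) (t : F4), g = xg r t := by
  obtain ⟨r, t, e⟩ := h
  exact ⟨r, t, Units.ext (e.trans (xMat_eq' r t))⟩

theorem G2_le (T : Subgroup (GL I14 F4)) (h : ∀ (r : Fin 12) (t : F4), xg r t ∈ T) : G2 ≤ T := by
  have key : ∀ g : GL I14 F4, (∃ (r : Fin 12) (t : F4),
      (g : Matrix I14 I14 F4) = Cfsg.Lie.chevG2.xMat F4 r t) → g ∈ T := by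
    intro g hg
    obtain ⟨r, t, e⟩ := gen_cases g hg
    rw [e]
    exact h r t
  exact (Subgroup.closure_le T).2 key

theorem F4_sq_one : ∀ a : F4, a * a = 1 → a = 1 := by decide

theorem F4_pow14 : ∀ a : F4, a ^ 14 = 1 → a = 1 := by decide

theorem det_xg (r : Fin 12) (t : F4) : (toMatS (XS (4 * r.val + n4 t))).det = 1 := by
  apply F4_sq_one
  rw [← Matrix.det_mul, xsq, Matrix.det_one]

theorem xg_val (r : Fin 12) (t : F4) :
    ((xg r t : GL I14 F4) : Matrix I14 I14 F4) = toMatS (XS (4 * r.val + n4 t)) := rfl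

theorem det_G2 (g : GL I14 F4) (hg : g ∈ G2) : (g : Matrix I14 I14 F4).det = 1 := by
  have hle : G2 ≤ (Matrix.GeneralLinearGroup.det (n := I14) (R := F4)).ker := by
    apply G2_le
    intro r t
    rw [MonoidHom.mem_ker]
    apply Units.ext
    rw [Matrix.GeneralLinearGroup.val_det_apply, xg_val, Units.val_one]
    exact det_xg r t
  have h1 := MonoidHom.mem_ker.1 (hle hg)
  have h2 := congrArg Units.val h1
  rw [Matrix.GeneralLinearGroup.val_det_apply, Units.val_one] at h2
  exact h2

/-- an element of the group multiplying the coordinate vectors by `μ` is the identity -/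
theorem eq_one_of_scalar (E : GL I14 F4) (hE : E ∈ G2) (μ : F4)
    (h : ∀ j : I14, E • (Pi.single j 1 : W14) = μ • (Pi.single j 1 : W14)) : E = 1 := by
  have h1 : (E : Matrix I14 I14 F4) = μ • (1 : Matrix I14 I14 F4) := mat_eq_smul_one _ μ h
  have h2 := det_G2 E hE
  rw [h1, Matrix.det_smul, Matrix.det_one, mul_one] at h2
  have h3 : μ = 1 := F4_pow14 μ (by simpa using h2)
  apply Units.ext
  rw [h1, h3, one_smul]
  rfl

end Cfsg.Agent.Lib.helper35.G2F
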