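import Cfsg.Agent.Lib.helper35.CosetOrd
import Cfsg.Agent.Lib.helper35.CosetPrim

/-!
Orbits of a subgroup generated by words, certified by a tree, and the subgroup of a subgroup
fixing a point.
-/

set_option autoImplicit false
set_option maxRecDepth 100000

namespace Cfsg.Agent.Lib.helper35.G2O

open Cfsg.Agent.Lib.helper35

variable {Γ : Type*} [Group Γ]

/-- orbit tree check at the point `c`: the entry is `0` (not in the orbit) or
`64 * (depth + 1) + i` where the word `i` moves `c` to a point of smaller depth -/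
def otW (D : PermData) (gens : List (List ℕ)) (tt : ℕ → ℕ) (β c : ℕ) : Bool :=
  force (tt c) fun e =>
    nc true (fun _ =>
      cond (Nat.beq c β) true
        (force (actP D (nth [] gens (Nat.land e 63)) c) fun q => force (tt q) fun e' =>
          nc false (fun _ => Nat.blt (Nat.shiftRight e' 6) (Nat.shiftRight e 6)) e')) e

theorem orbit_of_otW (ρ : Γ →* Equiv.Perm ℕ) (φ : ℕ → Γ) (D : PermData)
    (hinv : ∀ l, l < D.K → allRange (invOK D l) 0 D.n = true)
    (hρ : ∀ l, l < D.K → ∀ c, ρ (φ l) c = sig D l c)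
    (Lg : Subgroup Γ) (gens : List (List ℕ)) (hK : ∀ w ∈ gens, ∀ l ∈ w, l < D.K)
    (hL : ∀ w ∈ gens, wprod φ w.reverse ∈ Lg) (tt : ℕ → ℕ) (β : ℕ)
    (hok : allRange (otW D gens tt β) 0 D.n = true) :
    ∀ c, c < D.n → tt c ≠ 0 → ∃ a ∈ Lg, ρ a β = c := by
  have hwK : ∀ i, ∀ l ∈ nth [] gens i, l < D.K := by
    intro i
    rcases nth_mem [] gens i with h0 | h0
    · rw [h0]
      intro l hl
      exact absurd hl List.not_mem_nil
    · exact hK _ h0
  have hwL : ∀ i, wprod φ (nth [] gens i).reverse ∈ Lg := by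
    intro i
    rcases nth_mem [] gens i with h0 | h0
    · rw [h0, List.reverse_nil, wprod_nil]
      exact Subgroup.one_mem _
    · exact hL _ h0
  have key : ∀ d c, Nat.shiftRight (tt c) 6 = d → c < D.n → tt c ≠ 0 → ∃ a ∈ Lg, ρ a β = c := by
    intro d
    induction d using Nat.strong_induction_on with
    | _ d ih =>
      intro c hd hc hne
      have h := allRange_spec hok c (Nat.zero_le _) (by omega)
      unfold otW at h
      simp only [force_eq] at h
      obtain ⟨t, ht⟩ := Nat.exists_eq_succ_of_ne_zero hne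
      rw [ht, nc_succ] at h
      cases hb : Nat.beq c β with
      | true =>
        have := nbeq_iff.1 hb
        exact ⟨1, Subgroup.one_mem _, by rw [map_one, this]; rfl⟩
      | false =>
        rw [hb, cond_false] at h
        have hq := actP_eq hinv (nth [] gens (Nat.land (t + 1) 63)) (hwK _) c hc
        obtain ⟨t', ht'⟩ : ∃ t', tt (actP D (nth [] gens (Nat.land (t + 1) 63)) c) = t' + 1 := by
          cases hq' : tt (actP D (nth [] gens (Nat.land (t + 1) 63)) c) with
          | zero => rw [hq', nc_zero] at h; exact absurd h (by simp)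
          | succ t' => exact ⟨t', rfl⟩
        rw [ht', nc_succ, nblt_iff] at h
        have hqlt : actP D (nth [] gens (Nat.land (t + 1) 63)) c < D.n := by
          rw [hq.1]
          exact hq.2
        obtain ⟨a, ha, hac⟩ := ih _ (by rw [← hd, ht]; exact h)
          (actP D (nth [] gens (Nat.land (t + 1) 63)) c) (by rw [ht']) hqlt (by rw [ht']; omega)
        refine ⟨(wprod φ (nth [] gens (Nat.land (t + 1) 63)).reverse)⁻¹ * a,
          Subgroup.mul_mem _ (Subgroup.inv_mem _ (hwL _)) ha, ?_⟩
        rw [map_mul, Equiv.Perm.mul_apply, hac, map_inv, Equiv.Perm.inv_eq_iff_eq,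
          rho_wprod ρ φ D hρ _ (hwK _), hq.1]
  intro c hc hne
  exact key _ c rfl hc hne

/-- the elements of a subgroup fixing a point -/
def stabS (ρ : Γ →* Equiv.Perm ℕ) (L : Subgroup Γ) (β : ℕ) : Subgroup Γ :=
  L ⊓ (MulAction.stabilizer (Equiv.Perm ℕ) β).comap ρ

theorem mem_stabS (ρ : Γ →* Equiv.Perm ℕ) (L : Subgroup Γ) (β : ℕ) (g : Γ) :
    g ∈ stabS ρ L β ↔ g ∈ L ∧ ρ g β = β := by
  simp only [stabS, Subgroup.mem_inf, Subgroup.mem_comap, MulAction.mem_stabilizer_iff]
  rfl

theorem stabS_le (ρ : Γ →* Equiv.Perm ℕ) (L : Subgroup Γ) (β : ℕ) : stabS ρ L β ≤ L := inf_le_left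

/-- the order of a subgroup is at least the size of an orbit times the order of the subgroup
fixing the point -/
theorem card_stabS_le (ρ : Γ →* Equiv.Perm ℕ) (L : Subgroup Γ) [Finite L] (β : ℕ) (O : Finset ℕ)
    (hO : ∀ c ∈ O, ∃ a ∈ L, ρ a β = c) :
    O.card * Nat.card (stabS ρ L β) ≤ Nat.card L := by
  have hle := stabS_le ρ L β
  have hfin : (stabS ρ L β).relIndex L ≠ 0 := by
    have : Finite (↥L ⧸ (stabS ρ L β).subgroupOf L) := inferInstance
    exact Subgroup.index_ne_zero_of_finite
  have h1 := le_relIndex_of_orbit ρ L (stabS ρ L β) hfin β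
    (fun a ha => ((mem_stabS ρ L β a).1 ha).2) O hO
  have h2 := Subgroup.relIndex_mul_relIndex ⊥ (stabS ρ L β) L bot_le hle
  rw [Subgroup.relIndex_bot_left, Subgroup.relIndex_bot_left] at h2
  rw [← h2, mul_comm]
  exact Nat.mul_le_mul_left _ h1

end Cfsg.Agent.Lib.helper35.G2O
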