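import Cfsg.Agent.Lib.helper35.CosetOrd
import Cfsg.Agent.Lib.helper35.HeaPermData

set_option autoImplicit false
set_option maxRecDepth 100000

namespace Cfsg.Agent.Lib.helper35.HeV3

open Cfsg.Agent.Lib.helper35

def TE0_0 : ℕ := nat_lit 0x600030000000000010001
def TE0 : List ℕ := [TE0_0]
def TE1_0 : ℕ := nat_lit 0x700030000000000020001
def TE1 : List ℕ := [TE1_0]
def TE2_0 : ℕ := nat_lit 0xe0003000000000000000000000000000e00070003000100030002
def TE2 : List ℕ := [TE2_0]
def TE3_0 : ℕ := nat_lit 0x500010000000000050003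
def TE3 : List ℕ := [TE3_0]
def TE4_0 : ℕ := nat_lit 0x10000300000000000000000000000000080001001000080000000000080004
def TE4 : List ℕ := [TE4_0]
def TE5_0 : ℕ := nat_lit 0x120003000000000000000000000000000a0001000000000012000900000000000a0005
def TE5 : List ℕ := [TE5_0]
def TE6_0 : ℕ := nat_lit 0x140003000000000000000000000000000c000100000000000000000014000a00000000000c0006
def TE6 : List ℕ := [TE6_0]
def TJ0_0 : ℕ := nat_lit 0x800050000000000000001d
def TJ0 : List ℕ := [TJ0_0]
def TJ1_0 : ℕ := nat_lit 0x8000900000000000000021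
def TJ1 : List ℕ := [TJ1_0]
def TJ2_0 : ℕ := nat_lit 0x18000000000000000000000000000000001800000001000000004
def TJ2 : List ℕ := [TJ2_0]
def TJ3_0 : ℕ := nat_lit 0x800000000000000008
def TJ3 : List ℕ := [TJ3_0]
def TJ4_0 : ℕ := nat_lit 0x7000000000000000000000000000000000300000001c0000000000000000c
def TJ4 : List ℕ := [TJ4_0]
def TJ5_0 : ℕ := nat_lit 0x2000000000000000000000000000000000100000000000000002000000000000000010
def TJ5 : List ℕ := [TJ5_0]
def TJ6_0 : ℕ := nat_lit 0x900000000000000000000000000000000050000000000000000000000002400000000000000014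
def TJ6 : List ℕ := [TJ6_0]
def EE_0 : ℕ := nat_lit 0x1500030013000300110003000f0003000d0001000b000100090001000000000004000100000000
def EE : List ℕ := [EE_0]
def EJ_0 : ℕ := nat_lit 0x900064002000150007000440018000d000500064001000150003000440000000000010003400000000
def EJ : List ℕ := [EJ_0]
def DF_0 : ℕ := nat_lit 0x26000250002400022000060000500004000030000200000
def DF : List ℕ := [DF_0]
def words : List (List ℕ × List ℕ) := [([0, 1, 0, 1, 0, 1, 0, 1], [1, 0, 1, 0, 1, 0, 1, 0]),
  ([0, 3, 0, 3], [3, 0, 3, 0]),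
  ([1, 3, 1, 3], [3, 1, 3, 1]),
  ([2], [2]),
  ([4], [4]),
  ([5], [5]),
  ([6], [6]),
  ([0], [0]),
  ([1], [1])]

def C : Cert := ⟨10, 7, 16, 65535,
  rdlc [TE0, TE1, TE2, TE3, TE4, TE5, TE6] 32 4294967295 11 2047,
  rdlc [TJ0, TJ1, TJ2, TJ3, TJ4, TJ5, TJ6] 34 17179869183 11 2047,
  rdc EE 32 4294967295 11 2047,
  rdc EJ 34 17179869183 11 2047,
  fun c => Nat.shiftRight (rdc DF 20 1048575 11 2047 c) 4,
  fun c => Nat.land (rdc DF 20 1048575 11 2047 c) 15,
  words, 7, 22⟩

theorem rows0 : allRange (rowOK C) 0 10 = true := by decide +kernel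
theorem fin0 : allRange (finOK C) 0 10 = true := by decide +kernel
theorem cnt0 : countLive C 10 0 = 2 := by decide +kernel
theorem rev_ok : ∀ p ∈ C.words, p.2 = p.1.reverse := by decide +kernel
def S : List ℕ := [0, 1, 3]
def T : List ℕ := [0, 1]
theorem wr_ok : ∀ r, r < C.nrel → wordRel (Hea.relW) S (nth ([], []) C.words r).1 = true := by decide +kernel
theorem ws_ok : ∀ p ∈ C.words, (wordRel (Hea.relW) S p.1 || wordSub S T p.1) = true := by decide +kernel
theorem rows_all : ∀ c, c < C.M → rowOK C c = true := by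
  intro c hc
  have hM : C.M = 10 := rfl
  exact allRange_spec rows0 c (by omega) (by omega)

theorem fin_all : ∀ c, c < C.M → finOK C c = true := fun c hc => allRange_spec fin0 c (Nat.zero_le _) (by have hM : C.M = 10 := rfl; omega)

/-- the index bound of this certificate, in any group in which the relators hold -/
theorem bound {Γ : Type*} [Group Γ] (φ : ℕ → Γ) (hsq : ∀ l, φ l * φ l = 1)
    (hrelW : ∀ w ∈ (Hea.relW), wprod φ w = 1) :
    (LS φ T).relIndex (LS φ S) ≠ 0 ∧ (LS φ T).relIndex (LS φ S) ≤ 2 := by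
  have h := relIndex_le_of_cert φ hsq _ hrelW S T C (by decide) rows_all fin_all (by decide)
    (by decide +kernel) rev_ok wr_ok ws_ok
  rw [show countLive C C.M 0 = 2 from cnt0] at h
  exact h


end Cfsg.Agent.Lib.helper35.HeV3
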