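import Cfsg.Agent.Lib.helper35.HeaPermData

set_option autoImplicit false
set_option maxRecDepth 100000

namespace Cfsg.Agent.Lib.helper35.HeW

open Cfsg.Agent.Lib.helper35

/-- the word `(cde)^5`, trivial in the group -/
def wX : List ℕ := [2, 3, 4, 2, 3, 4, 2, 3, 4, 2, 3, 4, 2, 3, 4]

/-- the relators together with `(cde)^5` -/
def relX : List (List ℕ) := wX :: Hea.relW

/-- the relators of the quotient by the normal closure of `a` -/
def relQ : List (List ℕ) := [0] :: Hea.relW

end Cfsg.Agent.Lib.helper35.HeW
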