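import Cfsg.Agent.Lib.helper35.HeaCertData

set_option autoImplicit false
set_option maxRecDepth 100000

namespace Cfsg.Agent.Lib.helper35.Hea

theorem rows12 : allRange (rowOK C) 3600 300 = true := by decide +kernel
theorem rows13 : allRange (rowOK C) 3900 300 = true := by decide +kernel
theorem rows14 : allRange (rowOK C) 4200 300 = true := by decide +kernel
theorem rows15 : allRange (rowOK C) 4500 300 = true := by decide +kernel
theorem rows16 : allRange (rowOK C) 4800 300 = true := by decide +kernel
theorem rows17 : allRange (rowOK C) 5100 300 = true := by decide +kernel

end Cfsg.Agent.Lib.helper35.Hea
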