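import Cfsg.Agent.Lib.helper35.HeaCertData

set_option autoImplicit false
set_option maxRecDepth 100000

namespace Cfsg.Agent.Lib.helper35.Hea

theorem rows24 : allRange (rowOK C) 7200 300 = true := by decide +kernel
theorem rows25 : allRange (rowOK C) 7500 300 = true := by decide +kernel
theorem rows26 : allRange (rowOK C) 7800 300 = true := by decide +kernel
theorem rows27 : allRange (rowOK C) 8100 300 = true := by decide +kernel
theorem rows28 : allRange (rowOK C) 8400 300 = true := by decide +kernel
theorem rows29 : allRange (rowOK C) 8700 300 = true := by decide +kernel

end Cfsg.Agent.Lib.helper35.Hea
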