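import Cfsg.Agent.Lib.helper35.HecCertTab0

set_option autoImplicit false
set_option maxRecDepth 100000

namespace Cfsg.Agent.Lib.helper35.Hec

def words : List (List ℕ × List ℕ) := [([0, 1, 0, 1, 0, 1, 0, 1], [1, 0, 1, 0, 1, 0, 1, 0]),
  ([0, 2, 0, 2], [2, 0, 2, 0]),
  ([0, 3, 0, 3], [3, 0, 3, 0]),
  ([0, 4, 0, 4], [4, 0, 4, 0]),
  ([0, 5, 0, 5], [5, 0, 5, 0]),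
  ([0, 6, 0, 6], [6, 0, 6, 0]),
  ([1, 2, 1, 2, 1, 2], [2, 1, 2, 1, 2, 1]),
  ([1, 3, 1, 3], [3, 1, 3, 1]),
  ([1, 4, 1, 4], [4, 1, 4, 1]),
  ([1, 5, 1, 5], [5, 1, 5, 1]),
  ([1, 6, 1, 6], [6, 1, 6, 1]),
  ([2, 3, 2, 3, 2, 3, 2, 3, 2, 3, 2, 3, 2, 3, 2, 3, 2, 3, 2, 3], [3, 2, 3, 2, 3, 2, 3, 2, 3, 2, 3, 2, 3, 2, 3, 2, 3, 2, 3, 2]),
  ([2, 4, 2, 4], [4, 2, 4, 2]),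
  ([2, 5, 2, 5], [5, 2, 5, 2]),
  ([2, 6, 2, 6], [6, 2, 6, 2]),
  ([3, 4, 3, 4, 3, 4], [4, 3, 4, 3, 4, 3]),
  ([3, 5, 3, 5, 3, 5], [5, 3, 5, 3, 5, 3]),
  ([3, 6, 3, 6, 3, 6], [6, 3, 6, 3, 6, 3]),
  ([4, 5, 4, 5], [5, 4, 5, 4]),
  ([4, 6, 4, 6], [6, 4, 6, 4]),
  ([5, 6, 5, 6, 5, 6, 5, 6], [6, 5, 6, 5, 6, 5, 6, 5]),
  ([4, 6, 5, 6, 5], [5, 6, 5, 6, 4]),
  ([4, 2, 1, 0, 2, 1, 0, 2, 1, 0], [0, 1, 2, 0, 1, 2, 0, 1, 2, 4]),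
  ([0, 3, 2, 3, 2, 3, 2, 3, 2, 3, 2], [2, 3, 2, 3, 2, 3, 2, 3, 2, 3, 0]),
  ([2, 3, 5, 6, 2, 3, 5, 6, 2, 3, 5, 6, 2, 3, 5, 6], [6, 5, 3, 2, 6, 5, 3, 2, 6, 5, 3, 2, 6, 5, 3, 2]),
  ([0], [0]),
  ([2], [2]),
  ([3], [3]),
  ([4], [4]),
  ([5], [5]),
  ([6], [6]),
  ([1, 0, 1], [1, 0, 1]),
  ([1, 2, 3, 4, 5, 3, 2, 1, 3, 2, 3, 2, 1, 4, 3, 2, 3, 4, 5, 3, 2, 1], [1, 2, 3, 5, 4, 3, 2, 3, 4, 1, 2, 3, 2, 3, 1, 2, 3, 5, 4, 3, 2, 1])]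

def C : Cert := ⟨8477, 7, 16, 65535,
  rdlc [TE0, TE1, TE2, TE3, TE4, TE5, TE6] 32 4294967295 11 2047,
  rdlc [TJ0, TJ1, TJ2, TJ3, TJ4, TJ5, TJ6] 34 17179869183 11 2047,
  rdc EE 32 4294967295 11 2047,
  rdc EJ 34 17179869183 11 2047,
  fun c => Nat.shiftRight (rdc DF 20 1048575 11 2047 c) 4,
  fun c => Nat.land (rdc DF 20 1048575 11 2047 c) 15,
  words, 25, 50426⟩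

end Cfsg.Agent.Lib.helper35.Hec
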