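import Cfsg.Agent.Lib.helper35.HecCertData

set_option autoImplicit false
set_option maxRecDepth 100000

namespace Cfsg.Agent.Lib.helper35.Hec

theorem rows6 : allRange (rowOK C) 1500 250 = true := by decide +kernel
theorem rows7 : allRange (rowOK C) 1750 250 = true := by decide +kernel
theorem rows8 : allRange (rowOK C) 2000 250 = true := by decide +kernel
theorem rows9 : allRange (rowOK C) 2250 250 = true := by decide +kernel
theorem rows10 : allRange (rowOK C) 2500 250 = true := by decide +kernel
theorem rows11 : allRange (rowOK C) 2750 250 = true := by decide +kernel

end Cfsg.Agent.Lib.helper35.Hec
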