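import Cfsg.Agent.Lib.helper35.HecCertData

set_option autoImplicit false
set_option maxRecDepth 100000

namespace Cfsg.Agent.Lib.helper35.Hec

theorem rows18 : allRange (rowOK C) 4500 250 = true := by decide +kernel
theorem rows19 : allRange (rowOK C) 4750 250 = true := by decide +kernel
theorem rows20 : allRange (rowOK C) 5000 250 = true := by decide +kernel
theorem rows21 : allRange (rowOK C) 5250 250 = true := by decide +kernel
theorem rows22 : allRange (rowOK C) 5500 250 = true := by decide +kernel
theorem rows23 : allRange (rowOK C) 5750 250 = true := by decide +kernel

end Cfsg.Agent.Lib.helper35.Hec
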