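import Cfsg.Agent.Lib.helper35.HecCertData

set_option autoImplicit false
set_option maxRecDepth 100000

namespace Cfsg.Agent.Lib.helper35.Hec

theorem rows24 : allRange (rowOK C) 6000 250 = true := by decide +kernel
theorem rows25 : allRange (rowOK C) 6250 250 = true := by decide +kernel
theorem rows26 : allRange (rowOK C) 6500 250 = true := by decide +kernel
theorem rows27 : allRange (rowOK C) 6750 250 = true := by decide +kernel
theorem rows28 : allRange (rowOK C) 7000 250 = true := by decide +kernel
theorem rows29 : allRange (rowOK C) 7250 250 = true := by decide +kernel

end Cfsg.Agent.Lib.helper35.Hec
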