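import Cfsg.Agent.Lib.helper35.HecCertData

set_option autoImplicit false
set_option maxRecDepth 100000

namespace Cfsg.Agent.Lib.helper35.Hec

theorem rows30 : allRange (rowOK C) 7500 250 = true := by decide +kernel
theorem rows31 : allRange (rowOK C) 7750 250 = true := by decide +kernel
theorem rows32 : allRange (rowOK C) 8000 250 = true := by decide +kernel
theorem rows33 : allRange (rowOK C) 8250 227 = true := by decide +kernel

end Cfsg.Agent.Lib.helper35.Hec
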