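import Cfsg.Agent.Lib.helper35.HecCertData
import Cfsg.Agent.Lib.helper35.HecCertRows0
import Cfsg.Agent.Lib.helper35.HecCertRows1
import Cfsg.Agent.Lib.helper35.HecCertRows2
import Cfsg.Agent.Lib.helper35.HecCertRows3
import Cfsg.Agent.Lib.helper35.HecCertRows4
import Cfsg.Agent.Lib.helper35.HecCertRows5
import Cfsg.Agent.Lib.helper35.HecPermRel0
import Cfsg.Agent.Lib.helper35.HecPermRel1
import Cfsg.Agent.Lib.helper35.HecPermRel2
import Cfsg.Agent.Lib.helper35.HecPermRel3
import Cfsg.Agent.Lib.helper35.HecPermOrb

set_option autoImplicit false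
set_option maxRecDepth 100000

namespace Cfsg.Agent.Lib.helper35.Hec

theorem fin0 : allRange (finOK C) 0 8477 = true := by decide +kernel
theorem cnt0 : countLive C 8477 0 = 8330 := by decide +kernel
theorem rev_ok : ∀ p ∈ C.words, p.2 = p.1.reverse := by decide +kernel
theorem wr_ok : ∀ r, r < C.nrel → (nth ([], []) C.words r).1 ∈ relW := by decide +kernel
theorem ws_ok : ∀ p ∈ C.words, p.1 ∈ relW ∨ p.1 ∈ subW := by decide +kernel
theorem rows_all : ∀ c, c < C.M → rowOK C c = true := by
  intro c hc
  have hM : C.M = 8477 := rfl
  rcases Nat.lt_or_ge c 250 with h | h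
  · exact allRange_spec rows0 c (by omega) (by omega)
  rcases Nat.lt_or_ge c 500 with h | h
  · exact allRange_spec rows1 c (by omega) (by omega)
  rcases Nat.lt_or_ge c 750 with h | h
  · exact allRange_spec rows2 c (by omega) (by omega)
  rcases Nat.lt_or_ge c 1000 with h | h
  · exact allRange_spec rows3 c (by omega) (by omega)
  rcases Nat.lt_or_ge c 1250 with h | h
  · exact allRange_spec rows4 c (by omega) (by omega)
  rcases Nat.lt_or_ge c 1500 with h | h
  · exact allRange_spec rows5 c (by omega) (by omega)
  rcases Nat.lt_or_ge c 1750 with h | h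
  · exact allRange_spec rows6 c (by omega) (by omega)
  rcases Nat.lt_or_ge c 2000 with h | h
  · exact allRange_spec rows7 c (by omega) (by omega)
  rcases Nat.lt_or_ge c 2250 with h | h
  · exact allRange_spec rows8 c (by omega) (by omega)
  rcases Nat.lt_or_ge c 2500 with h | h
  · exact allRange_spec rows9 c (by omega) (by omega)
  rcases Nat.lt_or_ge c 2750 with h | h
  · exact allRange_spec rows10 c (by omega) (by omega)
  rcases Nat.lt_or_ge c 3000 with h | h
  · exact allRange_spec rows11 c (by omega) (by omega)
  rcases Nat.lt_or_ge c 3250 with h | h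
  · exact allRange_spec rows12 c (by omega) (by omega)
  rcases Nat.lt_or_ge c 3500 with h | h
  · exact allRange_spec rows13 c (by omega) (by omega)
  rcases Nat.lt_or_ge c 3750 with h | h
  · exact allRange_spec rows14 c (by omega) (by omega)
  rcases Nat.lt_or_ge c 4000 with h | h
  · exact allRange_spec rows15 c (by omega) (by omega)
  rcases Nat.lt_or_ge c 4250 with h | h
  · exact allRange_spec rows16 c (by omega) (by omega)
  rcases Nat.lt_or_ge c 4500 with h | h
  · exact allRange_spec rows17 c (by omega) (by omega)
  rcases Nat.lt_or_ge c 4750 with h | h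
  · exact allRange_spec rows18 c (by omega) (by omega)
  rcases Nat.lt_or_ge c 5000 with h | h
  · exact allRange_spec rows19 c (by omega) (by omega)
  rcases Nat.lt_or_ge c 5250 with h | h
  · exact allRange_spec rows20 c (by omega) (by omega)
  rcases Nat.lt_or_ge c 5500 with h | h
  · exact allRange_spec rows21 c (by omega) (by omega)
  rcases Nat.lt_or_ge c 5750 with h | h
  · exact allRange_spec rows22 c (by omega) (by omega)
  rcases Nat.lt_or_ge c 6000 with h | h
  · exact allRange_spec rows23 c (by omega) (by omega)
  rcases Nat.lt_or_ge c 6250 with h | h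
  · exact allRange_spec rows24 c (by omega) (by omega)
  rcases Nat.lt_or_ge c 6500 with h | h
  · exact allRange_spec rows25 c (by omega) (by omega)
  rcases Nat.lt_or_ge c 6750 with h | h
  · exact allRange_spec rows26 c (by omega) (by omega)
  rcases Nat.lt_or_ge c 7000 with h | h
  · exact allRange_spec rows27 c (by omega) (by omega)
  rcases Nat.lt_or_ge c 7250 with h | h
  · exact allRange_spec rows28 c (by omega) (by omega)
  rcases Nat.lt_or_ge c 7500 with h | h
  · exact allRange_spec rows29 c (by omega) (by omega)
  rcases Nat.lt_or_ge c 7750 with h | h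
  · exact allRange_spec rows30 c (by omega) (by omega)
  rcases Nat.lt_or_ge c 8000 with h | h
  · exact allRange_spec rows31 c (by omega) (by omega)
  rcases Nat.lt_or_ge c 8250 with h | h
  · exact allRange_spec rows32 c (by omega) (by omega)
  exact allRange_spec rows33 c (by omega) (by omega)

theorem fin_all : ∀ c, c < C.M → finOK C c = true := fun c hc => allRange_spec fin0 c (Nat.zero_le _) (by have hM : C.M = 8477 := rfl; omega)

theorem inv_ok : ∀ l, l < D.K → allRange (invOK D l) 0 D.n = true := fun l hl => allRange_spec inv_all l (Nat.zero_le _) (by have hK : D.K = 7 := rfl; omega)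

theorem rel_ok : ∀ w ∈ relW, allRange (relOK D w) 0 D.n = true := by
  intro w hw
  have hw' : w ∈ relW0 ++ relW1 ++ relW2 ++ relW3 := hw
  rcases List.mem_append.1 hw' with hw' | h
  swap
  · exact allList_spec rel3 w h
  rcases List.mem_append.1 hw' with hw' | h
  swap
  · exact allList_spec rel2 w h
  rcases List.mem_append.1 hw' with hw' | h
  swap
  · exact allList_spec rel1 w h
  exact allList_spec rel0 w hw'

theorem sub_ok : ∀ y ∈ subW, Nat.beq (actP D y 0) 0 = true := fun y hy => allList_spec sub_all y hy

theorem orb_ok : ∀ o ∈ orbs, orbOK D subW o = true := fun o ho => allList_spec orb_all o ho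

end Cfsg.Agent.Lib.helper35.Hec
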