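import Cfsg.Prelude.Def_Classical
import Cfsg.Agent.Lib.helper35.SpF4

/-!
The isometry group of the quadratic form `x₀² + x₁y₁ + x₂y₂ + x₃y₃` over the field with three
elements: reflections, the bound `18341406720` for its order, and the elements fixing all points
of norm `2`.
-/

set_option autoImplicit false
set_option maxRecDepth 100000

namespace Cfsg.Agent.Lib.helper35.O7F

open Cfsg.Agent.Lib.helper35 Matrix

/-- the index set -/
abbrev I7 : Type := Unit ⊕ (Fin 3 ⊕ Fin 3)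

/-- the field with three elements -/
abbrev F3 : Type := ZMod 3

/-- vectors -/
abbrev W7 : Type := I7 → F3

/-- vectors as septuples `(x₀, x₁, x₂, x₃, y₁, y₂, y₃)` -/
abbrev V7 : Type := F3 × F3 × F3 × F3 × F3 × F3 × F3

/-- the vector of a septuple -/
def toW7 (x : V7) : W7 :=
  Sum.elim (fun _ => x.1)
    (Sum.elim ![x.2.1, x.2.2.1, x.2.2.2.1] ![x.2.2.2.2.1, x.2.2.2.2.2.1, x.2.2.2.2.2.2])

/-- the septuple of a vector -/
def ofW7 (u : W7) : V7 :=
  (u (Sum.inl ()), u (Sum.inr (Sum.inl 0)), u (Sum.inr (Sum.inl 1)), u (Sum.inr (Sum.inl 2)),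
    u (Sum.inr (Sum.inr 0)), u (Sum.inr (Sum.inr 1)), u (Sum.inr (Sum.inr 2)))

theorem toW7_ofW7 (u : W7) : toW7 (ofW7 u) = u := by
  funext j
  rcases j with j | j | j
  · rfl
  · fin_cases j <;> rfl
  · fin_cases j <;> rfl

theorem ofW7_toW7 (x : V7) : ofW7 (toW7 x) = x := rfl

theorem toW7_injective : Function.Injective toW7 := fun x y h => by
  rw [← ofW7_toW7 x, ← ofW7_toW7 y, h]

/-- the sum of two septuples -/
def add7 (x y : V7) : V7 :=
  (x.1 + y.1, x.2.1 + y.2.1, x.2.2.1 + y.2.2.1, x.2.2.2.1 + y.2.2.2.1,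
    x.2.2.2.2.1 + y.2.2.2.2.1, x.2.2.2.2.2.1 + y.2.2.2.2.2.1, x.2.2.2.2.2.2 + y.2.2.2.2.2.2)

/-- a multiple of a septuple -/
def smul7 (c : F3) (x : V7) : V7 :=
  (c * x.1, c * x.2.1, c * x.2.2.1, c * x.2.2.2.1, c * x.2.2.2.2.1, c * x.2.2.2.2.2.1,
    c * x.2.2.2.2.2.2)

/-- the zero septuple -/
def zero7 : V7 := (0, 0, 0, 0, 0, 0, 0)

/-- equality of septuples, as a boolean -/
def eq7 (x y : V7) : Bool :=
  decide (x.1 = y.1) && decide (x.2.1 = y.2.1) && decide (x.2.2.1 = y.2.2.1) &&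
    decide (x.2.2.2.1 = y.2.2.2.1) && decide (x.2.2.2.2.1 = y.2.2.2.2.1) &&
    decide (x.2.2.2.2.2.1 = y.2.2.2.2.2.1) && decide (x.2.2.2.2.2.2 = y.2.2.2.2.2.2)

theorem eq7_spec {x y : V7} (h : eq7 x y = true) : x = y := by
  unfold eq7 at h
  simp only [Bool.and_eq_true, decide_eq_true_eq] at h
  obtain ⟨⟨⟨⟨⟨⟨h1, h2⟩, h3⟩, h4⟩, h5⟩, h6⟩, h7⟩ := h
  obtain ⟨x1, x2, x3, x4, x5, x6, x7⟩ := x
  obtain ⟨y1, y2, y3, y4, y5, y6, y7⟩ := y
  simp only at h1 h2 h3 h4 h5 h6 h7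
  rw [h1, h2, h3, h4, h5, h6, h7]

theorem eq7_self (x : V7) : eq7 x x = true := by
  unfold eq7
  simp

theorem toW7_add7 (x y : V7) : toW7 (add7 x y) = toW7 x + toW7 y := by
  funext j
  rcases j with j | j | j
  · rfl
  · fin_cases j <;> rfl
  · fin_cases j <;> rfl

theorem toW7_smul7 (c : F3) (x : V7) : toW7 (smul7 c x) = c • toW7 x := by
  funext j
  rcases j with j | j | j
  · rfl
  · fin_cases j <;> rfl
  · fin_cases j <;> rfl

theorem toW7_zero7 : toW7 zero7 = 0 := by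
  funext j
  rcases j with j | j | j
  · rfl
  · fin_cases j <;> rfl
  · fin_cases j <;> rfl

theorem ofW7_add (u v : W7) : ofW7 (u + v) = add7 (ofW7 u) (ofW7 v) := rfl

/-- the quadratic form on septuples -/
def q7 (x : V7) : F3 :=
  x.1 ^ 2 + x.2.1 * x.2.2.2.2.1 + x.2.2.1 * x.2.2.2.2.2.1 + x.2.2.2.1 * x.2.2.2.2.2.2

/-- the polar form on septuples -/
def b7 (x y : V7) : F3 :=
  2 * x.1 * y.1 + x.2.1 * y.2.2.2.2.1 + x.2.2.2.2.1 * y.2.1 + x.2.2.1 * y.2.2.2.2.2.1 +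
    x.2.2.2.2.2.1 * y.2.2.1 + x.2.2.2.1 * y.2.2.2.2.2.2 + x.2.2.2.2.2.2 * y.2.2.2.1

/-- the quadratic form -/
abbrev Q7 (u : W7) : F3 := Cfsg.quadFormOdd 3 (ZMod 3) u

theorem Q7_eq (u : W7) : Q7 u = q7 (ofW7 u) := by
  simp [Cfsg.quadFormOdd, Fin.sum_univ_three, q7, ofW7, add_assoc]

theorem q7_add (x y : V7) : q7 (add7 x y) = q7 x + q7 y + b7 x y := by
  simp only [q7, b7, add7]
  ring

theorem q7_smul (c : F3) (x : V7) : q7 (smul7 c x) = c ^ 2 * q7 x := by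
  simp only [q7, smul7]
  ring

theorem b7_smul_right (c : F3) (x y : V7) : b7 x (smul7 c y) = c * b7 x y := by
  simp only [b7, smul7]
  ring

theorem three_eq : (3 : F3) = 0 := by decide

/-- the isometry group -/
abbrev O7 : Subgroup (Matrix.GeneralLinearGroup I7 F3) :=
  Cfsg.isometryGroup (ZMod 3) (Cfsg.quadFormOdd 3 (ZMod 3))

instance actW7 : MulAction O7 W7 where
  smul A x := (A.1 : Matrix I7 I7 F3) *ᵥ x
  one_smul x := by
    show ((1 : O7).1 : Matrix I7 I7 F3) *ᵥ x = x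
    simp
  mul_smul A B x := by
    show ((A * B).1 : Matrix I7 I7 F3) *ᵥ x =
      (A.1 : Matrix I7 I7 F3) *ᵥ ((B.1 : Matrix I7 I7 F3) *ᵥ x)
    simp [Matrix.mulVec_mulVec]

theorem smul_def7 (A : O7) (x : W7) : A • x = (A.1 : Matrix I7 I7 F3) *ᵥ x := rfl

theorem smul_add7 (A : O7) (x y : W7) : A • (x + y) = A • x + A • y := Matrix.mulVec_add _ _ _

theorem smul_smul7 (A : O7) (c : F3) (x : W7) : A • (c • x) = c • (A • x) :=
  Matrix.mulVec_smul _ _ _

theorem smul_zero7 (A : O7) : A • (0 : W7) = 0 := Matrix.mulVec_zero _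

theorem q7_act (A : O7) (x : W7) : q7 (ofW7 (A • x)) = q7 (ofW7 x) := by
  rw [← Q7_eq, ← Q7_eq]
  exact A.2 x x

theorem b7_act (A : O7) (x y : W7) : b7 (ofW7 (A • x)) (ofW7 (A • y)) = b7 (ofW7 x) (ofW7 y) := by
  have h := q7_act A (x + y)
  rw [smul_add7, ofW7_add, ofW7_add, q7_add, q7_add, q7_act, q7_act] at h
  exact add_left_cancel h

/-- the reflection of a vector of norm `2`, on septuples -/
def r7 (v x : V7) : V7 := add7 x (smul7 (b7 x v) v)

theorem q7_r7 (v : V7) (hv : q7 v = 2) (x : V7) : q7 (r7 v x) = q7 x := by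
  unfold r7
  rw [q7_add, q7_smul, b7_smul_right, hv]
  linear_combination (b7 x v) ^ 2 * three_eq

/-- the septuple of the linear form `x ↦ b7 x v` -/
def j7 (v : V7) : V7 :=
  (2 * v.1, v.2.2.2.2.1, v.2.2.2.2.2.1, v.2.2.2.2.2.2, v.2.1, v.2.2.1, v.2.2.2.1)

theorem j7_dot (v : V7) (x : W7) : toW7 (j7 v) ⬝ᵥ x = b7 (ofW7 x) v := by
  simp [dotProduct, Fin.sum_univ_three, toW7, j7, b7, ofW7]
  ring

/-- the matrix of the reflection of a vector of norm `2` -/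
def rmat (v : V7) : Matrix I7 I7 F3 := 1 + Matrix.vecMulVec (toW7 v) (toW7 (j7 v))

theorem rmat_mulVec (v : V7) (x : W7) : rmat v *ᵥ x = toW7 (r7 v (ofW7 x)) := by
  unfold rmat r7
  rw [Matrix.add_mulVec, Matrix.one_mulVec, Matrix.vecMulVec_mulVec, toW7_add7, toW7_smul7,
    toW7_ofW7, j7_dot]
  congr 1
  funext i
  simp only [MulOpposite.smul_eq_mul_unop, MulOpposite.unop_op, Pi.smul_apply, smul_eq_mul]
  rw [mul_comm]

theorem rmat_det (v : V7) (hv : q7 v = 2) : (rmat v).det ≠ 0 := by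
  unfold rmat
  rw [Matrix.vecMulVec_eq (ι := Unit), Matrix.det_one_add_replicateCol_mul_replicateRow,
    j7_dot, ofW7_toW7]
  have h : b7 v v = 2 * q7 v := by
    simp only [b7, q7]
    ring
  rw [h, hv]
  decide

/-- the reflection of a vector of norm `2`, in the isometry group -/
def rO (v : V7) (hv : q7 v = 2) : O7 :=
  ⟨Matrix.GeneralLinearGroup.mkOfDetNeZero (rmat v) (rmat_det v hv), fun x _ => by
    show Q7 (rmat v *ᵥ x) = Q7 x
    rw [rmat_mulVec, Q7_eq, Q7_eq, ofW7_toW7, q7_r7 v hv]⟩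

theorem rO_smul (v : V7) (hv : q7 v = 2) (x : V7) : rO v hv • toW7 x = toW7 (r7 v x) := by
  show rmat v *ᵥ toW7 x = toW7 (r7 v x)
  rw [rmat_mulVec, ofW7_toW7]

/-- minus the identity, in the isometry group -/
def negO : O7 :=
  ⟨-1, fun x _ => by
    show Q7 ((-1 : Matrix I7 I7 F3) *ᵥ x) = Q7 x
    rw [Matrix.neg_mulVec, Matrix.one_mulVec, Q7_eq, Q7_eq]
    simp only [q7, ofW7, Pi.neg_apply]
    ring⟩

theorem negO_smul (x : W7) : negO • x = (2 : F3) • x := by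
  show (-1 : Matrix I7 I7 F3) *ᵥ x = (2 : F3) • x
  rw [Matrix.neg_mulVec, Matrix.one_mulVec]
  funext j
  show -(x j) = 2 * x j
  have h := three_eq
  linear_combination (-(x j)) * h

/-- the determinant, on the isometry group -/
def detO : O7 →* F3ˣ := Matrix.GeneralLinearGroup.det.comp O7.subtype

theorem detO_negO : detO negO ≠ 1 := by
  intro h
  have h1 : ((detO negO : F3ˣ) : F3) = 1 := by rw [h]; rfl
  have h2 : ((detO negO : F3ˣ) : F3) = (-1 : Matrix I7 I7 F3).det := rfl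
  rw [h2, Matrix.det_neg, Matrix.det_one] at h1
  revert h1
  decide

theorem negO_not_mem : negO ∉ commutator O7 := by
  intro h
  have h1 := Abelianization.commutator_subset_ker detO h
  exact detO_negO (MonoidHom.mem_ker.1 h1)

/-! ### The order -/

/-- seven pairwise orthogonal vectors of norm `2` -/
def r1 : V7 := (0, 1, 0, 0, 2, 0, 0)
/-- second vector -/
def r2 : V7 := (0, 0, 1, 0, 0, 2, 0)
/-- third vector -/
def r3 : V7 := (0, 0, 0, 1, 0, 0, 2)
/-- fourth vector -/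
def r4 : V7 := (1, 1, 0, 0, 1, 0, 0)
/-- fifth vector -/
def r5 : V7 := (1, 2, 0, 0, 2, 0, 0)
/-- sixth vector -/
def r6 : V7 := (0, 0, 1, 1, 0, 1, 1)
/-- seventh vector -/
def r7v : V7 := (0, 0, 1, 2, 0, 1, 2)

/-- the possible images of the first vector -/
def T1 : Finset V7 := Finset.univ.filter fun u => q7 u = 2
/-- the possible images of the second vector -/
def T2 : Finset V7 := Finset.univ.filter fun u => q7 u = 2 ∧ b7 r1 u = 0
/-- the possible images of the third vector -/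
def T3 : Finset V7 := Finset.univ.filter fun u => q7 u = 2 ∧ b7 r1 u = 0 ∧ b7 r2 u = 0
/-- the possible images of the fourth vector -/
def T4 : Finset V7 :=
  Finset.univ.filter fun u => q7 u = 2 ∧ b7 r1 u = 0 ∧ b7 r2 u = 0 ∧ b7 r3 u = 0
/-- the possible images of the fifth vector -/
def T5 : Finset V7 :=
  Finset.univ.filter fun u => q7 u = 2 ∧ b7 r1 u = 0 ∧ b7 r2 u = 0 ∧ b7 r3 u = 0 ∧ b7 r4 u = 0
/-- the possible images of the sixth vector -/
def T6 : Finset V7 := Finset.univ.filter fun u =>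
  q7 u = 2 ∧ b7 r1 u = 0 ∧ b7 r2 u = 0 ∧ b7 r3 u = 0 ∧ b7 r4 u = 0 ∧ b7 r5 u = 0
/-- the possible images of the seventh vector -/
def T7 : Finset V7 := Finset.univ.filter fun u =>
  q7 u = 2 ∧ b7 r1 u = 0 ∧ b7 r2 u = 0 ∧ b7 r3 u = 0 ∧ b7 r4 u = 0 ∧ b7 r5 u = 0 ∧ b7 r6 u = 0

theorem cT1 : T1.card = 702 := by decide +kernel
theorem cT2 : T2.card = 252 := by decide +kernel
theorem cT3 : T3.card = 90 := by decide +kernel
theorem cT4 : T4.card = 24 := by decide +kernel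
theorem cT5 : T5.card = 6 := by decide +kernel
theorem cT6 : T6.card = 4 := by decide +kernel
theorem cT7 : T7.card = 2 := by decide +kernel

/-- the norms and the products of the seven vectors -/
theorem gram : (q7 r1 = 2 ∧ q7 r2 = 2 ∧ q7 r3 = 2 ∧ q7 r4 = 2 ∧ q7 r5 = 2 ∧ q7 r6 = 2 ∧
    q7 r7v = 2) ∧
    (b7 r1 r2 = 0 ∧ b7 r1 r3 = 0 ∧ b7 r1 r4 = 0 ∧ b7 r1 r5 = 0 ∧ b7 r1 r6 = 0 ∧ b7 r1 r7v = 0) ∧
    (b7 r2 r3 = 0 ∧ b7 r2 r4 = 0 ∧ b7 r2 r5 = 0 ∧ b7 r2 r6 = 0 ∧ b7 r2 r7v = 0) ∧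
    (b7 r3 r4 = 0 ∧ b7 r3 r5 = 0 ∧ b7 r3 r6 = 0 ∧ b7 r3 r7v = 0) ∧
    (b7 r4 r5 = 0 ∧ b7 r4 r6 = 0 ∧ b7 r4 r7v = 0) ∧
    (b7 r5 r6 = 0 ∧ b7 r5 r7v = 0) ∧ b7 r6 r7v = 0 := by decide +kernel

/-- one step of the count, with the images given as septuples -/
theorem step (H : Subgroup O7) (x : W7) (T : Finset V7) (n : ℕ) (hn : T.card = n)
    (hT : ∀ A ∈ H, ofW7 (A • x) ∈ T) :
    Nat.card H ≤ n * Nat.card ↥(H ⊓ MulAction.stabilizer O7 x) := by
  classical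
  have h := SpF.card_le_orbit H x (T.image toW7)
    (fun A hA => Finset.mem_image.2 ⟨ofW7 (A • x), hT A hA, toW7_ofW7 _⟩)
  refine le_trans h (Nat.mul_le_mul_right _ ?_)
  rw [← hn]
  exact Finset.card_image_le

/-- the stabiliser of the first vector -/
def K1 : Subgroup O7 := ⊤ ⊓ MulAction.stabilizer O7 (toW7 r1)
/-- the stabiliser of the first two vectors -/
def K2 : Subgroup O7 := K1 ⊓ MulAction.stabilizer O7 (toW7 r2)
/-- the stabiliser of the first three vectors -/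
def K3 : Subgroup O7 := K2 ⊓ MulAction.stabilizer O7 (toW7 r3)
/-- the stabiliser of the first four vectors -/
def K4 : Subgroup O7 := K3 ⊓ MulAction.stabilizer O7 (toW7 r4)
/-- the stabiliser of the first five vectors -/
def K5 : Subgroup O7 := K4 ⊓ MulAction.stabilizer O7 (toW7 r5)
/-- the stabiliser of the first six vectors -/
def K6 : Subgroup O7 := K5 ⊓ MulAction.stabilizer O7 (toW7 r6)
/-- the stabiliser of the seven vectors -/
def K7 : Subgroup O7 := K6 ⊓ MulAction.stabilizer O7 (toW7 r7v)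

theorem mem_K1 {A : O7} (h : A ∈ K1) : A • toW7 r1 = toW7 r1 := MulAction.mem_stabilizer_iff.1 h.2
theorem mem_K2 {A : O7} (h : A ∈ K2) : A • toW7 r2 = toW7 r2 := MulAction.mem_stabilizer_iff.1 h.2
theorem mem_K3 {A : O7} (h : A ∈ K3) : A • toW7 r3 = toW7 r3 := MulAction.mem_stabilizer_iff.1 h.2
theorem mem_K4 {A : O7} (h : A ∈ K4) : A • toW7 r4 = toW7 r4 := MulAction.mem_stabilizer_iff.1 h.2
theorem mem_K5 {A : O7} (h : A ∈ K5) : A • toW7 r5 = toW7 r5 := MulAction.mem_stabilizer_iff.1 h.2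
theorem mem_K6 {A : O7} (h : A ∈ K6) : A • toW7 r6 = toW7 r6 := MulAction.mem_stabilizer_iff.1 h.2
theorem mem_K7 {A : O7} (h : A ∈ K7) : A • toW7 r7v = toW7 r7v :=
  MulAction.mem_stabilizer_iff.1 h.2

/-- the norm of an image -/
theorem qim (A : O7) (x : V7) : q7 (ofW7 (A • toW7 x)) = q7 x := q7_act A (toW7 x)

/-- the product of a fixed vector and an image -/
theorem bim (A : O7) (x y : V7) (h : A • toW7 x = toW7 x) :
    b7 x (ofW7 (A • toW7 y)) = b7 x y := by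
  have h1 := b7_act A (toW7 x) (toW7 y)
  rw [h] at h1
  exact h1

theorem comb0 : ∀ x : V7, eq7 x (add7 (smul7 (b7 x r1) r1) (add7 (smul7 (b7 x r2) r2)
    (add7 (smul7 (b7 x r3) r3) (add7 (smul7 (b7 x r4) r4) (add7 (smul7 (b7 x r5) r5)
      (add7 (smul7 (b7 x r6) r6) (smul7 (b7 x r7v) r7v))))))) = true := by decide +kernel

/-- every septuple is a combination of the seven vectors -/
theorem comb (x : V7) : x = add7 (smul7 (b7 x r1) r1) (add7 (smul7 (b7 x r2) r2)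
    (add7 (smul7 (b7 x r3) r3) (add7 (smul7 (b7 x r4) r4) (add7 (smul7 (b7 x r5) r5)
      (add7 (smul7 (b7 x r6) r6) (smul7 (b7 x r7v) r7v)))))) := eq7_spec (comb0 x)

/-- an isometry fixing the seven vectors is the identity -/
theorem eq_one_of_fix (A : O7) (h1 : A • toW7 r1 = toW7 r1) (h2 : A • toW7 r2 = toW7 r2)
    (h3 : A • toW7 r3 = toW7 r3) (h4 : A • toW7 r4 = toW7 r4) (h5 : A • toW7 r5 = toW7 r5)
    (h6 : A • toW7 r6 = toW7 r6) (h7 : A • toW7 r7v = toW7 r7v) : A = 1 := by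
  have hall : ∀ x : W7, A • x = x := by
    intro x
    have hx := congrArg toW7 (comb (ofW7 x))
    rw [toW7_ofW7] at hx
    simp only [toW7_add7, toW7_smul7] at hx
    rw [hx]
    simp only [smul_add7, smul_smul7, h1, h2, h3, h4, h5, h6, h7]
  apply Subtype.ext
  apply Units.ext
  show (A.1 : Matrix I7 I7 F3) = 1
  ext k j
  have h := congrFun (hall (Pi.single j 1)) k
  rw [smul_def7, Matrix.mulVec_single_one] at h
  rw [show ((A.1 : Matrix I7 I7 F3) k j) = (A.1 : Matrix I7 I7 F3).col j k from rfl, h]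
  simp [Matrix.one_apply, Pi.single_apply]

theorem K7_eq_bot : K7 = ⊥ := by
  rw [eq_bot_iff]
  intro A hA
  rw [Subgroup.mem_bot]
  exact eq_one_of_fix A (mem_K1 hA.1.1.1.1.1.1) (mem_K2 hA.1.1.1.1.1) (mem_K3 hA.1.1.1.1)
    (mem_K4 hA.1.1.1) (mem_K5 hA.1.1) (mem_K6 hA.1) (mem_K7 hA)

/-- the order of the isometry group is at most `18341406720` -/
theorem card_O7_le : Nat.card O7 ≤ 18341406720 := by
  obtain ⟨⟨q1, q2, q3, q4, q5, q6, q7'⟩, ⟨b12, b13, b14, b15, b16, b17⟩, ⟨b23, b24, b25, b26, b27⟩,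
    ⟨b34, b35, b36, b37⟩, ⟨b45, b46, b47⟩, ⟨b56, b57⟩, b67⟩ := gram
  have s1 : Nat.card (⊤ : Subgroup O7) ≤ 702 * Nat.card K1 :=
    step ⊤ (toW7 r1) T1 702 cT1 (fun A _ =>
      Finset.mem_filter.2 ⟨Finset.mem_univ _, (qim A r1).trans q1⟩)
  have s2 : Nat.card K1 ≤ 252 * Nat.card K2 :=
    step K1 (toW7 r2) T2 252 cT2 (fun A hA =>
      Finset.mem_filter.2 ⟨Finset.mem_univ _, (qim A r2).trans q2,
        (bim A r1 r2 (mem_K1 hA)).trans b12⟩)
  have s3 : Nat.card K2 ≤ 90 * Nat.card K3 :=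
    step K2 (toW7 r3) T3 90 cT3 (fun A hA =>
      Finset.mem_filter.2 ⟨Finset.mem_univ _, (qim A r3).trans q3,
        (bim A r1 r3 (mem_K1 hA.1)).trans b13, (bim A r2 r3 (mem_K2 hA)).trans b23⟩)
  have s4 : Nat.card K3 ≤ 24 * Nat.card K4 :=
    step K3 (toW7 r4) T4 24 cT4 (fun A hA =>
      Finset.mem_filter.2 ⟨Finset.mem_univ _, (qim A r4).trans q4,
        (bim A r1 r4 (mem_K1 hA.1.1)).trans b14, (bim A r2 r4 (mem_K2 hA.1)).trans b24,
        (bim A r3 r4 (mem_K3 hA)).trans b34⟩)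
  have s5 : Nat.card K4 ≤ 6 * Nat.card K5 :=
    step K4 (toW7 r5) T5 6 cT5 (fun A hA =>
      Finset.mem_filter.2 ⟨Finset.mem_univ _, (qim A r5).trans q5,
        (bim A r1 r5 (mem_K1 hA.1.1.1)).trans b15, (bim A r2 r5 (mem_K2 hA.1.1)).trans b25,
        (bim A r3 r5 (mem_K3 hA.1)).trans b35, (bim A r4 r5 (mem_K4 hA)).trans b45⟩)
  have s6 : Nat.card K5 ≤ 4 * Nat.card K6 :=
    step K5 (toW7 r6) T6 4 cT6 (fun A hA =>
      Finset.mem_filter.2 ⟨Finset.mem_univ _, (qim A r6).trans q6,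
        (bim A r1 r6 (mem_K1 hA.1.1.1.1)).trans b16, (bim A r2 r6 (mem_K2 hA.1.1.1)).trans b26,
        (bim A r3 r6 (mem_K3 hA.1.1)).trans b36, (bim A r4 r6 (mem_K4 hA.1)).trans b46,
        (bim A r5 r6 (mem_K5 hA)).trans b56⟩)
  have s7 : Nat.card K6 ≤ 2 * Nat.card K7 :=
    step K6 (toW7 r7v) T7 2 cT7 (fun A hA =>
      Finset.mem_filter.2 ⟨Finset.mem_univ _, (qim A r7v).trans q7',
        (bim A r1 r7v (mem_K1 hA.1.1.1.1.1)).trans b17,
        (bim A r2 r7v (mem_K2 hA.1.1.1.1)).trans b27, (bim A r3 r7v (mem_K3 hA.1.1.1)).trans b37,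
        (bim A r4 r7v (mem_K4 hA.1.1)).trans b47, (bim A r5 r7v (mem_K5 hA.1)).trans b57,
        (bim A r6 r7v (mem_K6 hA)).trans b67⟩)
  have s8 : Nat.card K7 = 1 := by rw [K7_eq_bot, Subgroup.card_bot]
  rw [Subgroup.card_top] at s1
  rw [s8] at s7
  omega

/-! ### The isometries fixing all points of norm `2` -/

/-- two further vectors of norm `2` -/
def w1 : V7 := (1, 2, 1, 1, 0, 2, 2)
/-- second further vector -/
def w2 : V7 := (2, 0, 2, 0, 0, 2, 0)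

theorem link10 : ∀ a b c d e : F3, eq7 (add7 (add7 (smul7 a r1) (smul7 b r2))
    (add7 (smul7 c r3) (smul7 d r4))) (smul7 e w1) = true → a = e ∧ b = e ∧ c = e ∧ d = e := by
  decide +kernel

theorem link1 (a b c d e : F3) (h : add7 (add7 (smul7 a r1) (smul7 b r2))
    (add7 (smul7 c r3) (smul7 d r4)) = smul7 e w1) : a = e ∧ b = e ∧ c = e ∧ d = e :=
  link10 a b c d e (by rw [h]; exact eq7_self _)

theorem link20 : ∀ a b c d e : F3, eq7 (add7 (add7 (smul7 a r4) (smul7 b r5))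
    (add7 (smul7 c r6) (smul7 d r7v))) (smul7 e w2) = true → a = e ∧ b = e ∧ c = e ∧ d = e := by
  decide +kernel

theorem link2 (a b c d e : F3) (h : add7 (add7 (smul7 a r4) (smul7 b r5))
    (add7 (smul7 c r6) (smul7 d r7v)) = smul7 e w2) : a = e ∧ b = e ∧ c = e ∧ d = e :=
  link20 a b c d e (by rw [h]; exact eq7_self _)

theorem w_eq : w1 = add7 (add7 r1 r2) (add7 r3 r4) ∧ w2 = add7 (add7 r4 r5) (add7 r6 r7v) :=
  ⟨eq7_spec (by decide +kernel), eq7_spec (by decide +kernel)⟩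

theorem F3_cases : ∀ μ : F3, μ ≠ 0 → μ = 1 ∨ μ = 2 := by decide

theorem negO_mul_self : negO * negO = 1 := by
  apply Subtype.ext
  apply Units.ext
  show (-1 : Matrix I7 I7 F3) * (-1) = 1
  simp

/-- an isometry mapping each of nine vectors of norm `2` to a multiple of itself is `±1` -/
theorem scalar_of_fix (E : O7)
    (h : ∀ k ∈ [r1, r2, r3, r4, r5, r6, r7v, w1, w2], ∃ μ : F3, μ ≠ 0 ∧
      E • toW7 k = μ • toW7 k) : E = 1 ∨ E = negO := by
  obtain ⟨μ1, -, e1⟩ := h r1 (by simp)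
  obtain ⟨μ2, -, e2⟩ := h r2 (by simp)
  obtain ⟨μ3, -, e3⟩ := h r3 (by simp)
  obtain ⟨μ4, hμ4, e4⟩ := h r4 (by simp)
  obtain ⟨μ5, -, e5⟩ := h r5 (by simp)
  obtain ⟨μ6, -, e6⟩ := h r6 (by simp)
  obtain ⟨μ7, -, e7⟩ := h r7v (by simp)
  obtain ⟨ν1, -, f1⟩ := h w1 (by simp)
  obtain ⟨ν2, -, f2⟩ := h w2 (by simp)
  have l1 : add7 (add7 (smul7 μ1 r1) (smul7 μ2 r2)) (add7 (smul7 μ3 r3) (smul7 μ4 r4)) =
      smul7 ν1 w1 := by
    apply toW7_injective
    rw [toW7_smul7, ← f1, w_eq.1]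
    simp only [toW7_add7, toW7_smul7, smul_add7, e1, e2, e3, e4]
  have l2 : add7 (add7 (smul7 μ4 r4) (smul7 μ5 r5)) (add7 (smul7 μ6 r6) (smul7 μ7 r7v)) =
      smul7 ν2 w2 := by
    apply toW7_injective
    rw [toW7_smul7, ← f2, w_eq.2]
    simp only [toW7_add7, toW7_smul7, smul_add7, e4, e5, e6, e7]
  obtain ⟨a1, a2, a3, a4⟩ := link1 _ _ _ _ _ l1
  obtain ⟨c4, c5, c6, c7⟩ := link2 _ _ _ _ _ l2
  have m1 : μ1 = μ4 := a1.trans a4.symm
  have m2 : μ2 = μ4 := a2.trans a4.symm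
  have m3 : μ3 = μ4 := a3.trans a4.symm
  have m5 : μ5 = μ4 := c5.trans c4.symm
  have m6 : μ6 = μ4 := c6.trans c4.symm
  have m7 : μ7 = μ4 := c7.trans c4.symm
  rw [m1] at e1
  rw [m2] at e2
  rw [m3] at e3
  rw [m5] at e5
  rw [m6] at e6
  rw [m7] at e7
  rcases F3_cases μ4 hμ4 with h1 | h2
  · left
    rw [h1, one_smul] at e1 e2 e3 e4 e5 e6 e7
    exact eq_one_of_fix E e1 e2 e3 e4 e5 e6 e7
  · right
    rw [h2] at e1 e2 e3 e4 e5 e6 e7
    have key : ∀ x : W7, E • x = (2 : F3) • x → (negO * E) • x = x := by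
      intro x hx
      rw [mul_smul, hx, negO_smul, smul_smul]
      have : (2 : F3) * 2 = 1 := by decide
      rw [this, one_smul]
    have h3 := eq_one_of_fix (negO * E) (key _ e1) (key _ e2) (key _ e3) (key _ e4) (key _ e5)
      (key _ e6) (key _ e7)
    calc E = (negO * negO) * E := by rw [negO_mul_self, one_mul]
      _ = negO * (negO * E) := mul_assoc _ _ _
      _ = negO := by rw [h3, mul_one]

/-- the first septuple is `±` the second -/
def pe7 (y x : V7) : Bool := eq7 y x || eq7 y (smul7 2 x)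

theorem pe7_spec {y x : V7} (h : pe7 y x = true) : ∃ μ : F3, μ ≠ 0 ∧ toW7 y = μ • toW7 x := by
  unfold pe7 at h
  simp only [Bool.or_eq_true] at h
  rcases h with h | h
  · exact ⟨1, by decide, by rw [eq7_spec h, one_smul]⟩
  · exact ⟨2, by decide, by rw [eq7_spec h, toW7_smul7]⟩

end Cfsg.Agent.Lib.helper35.O7F
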