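import Cfsg.Agent.Lib.helper35.CosetCert

/-!
Checks over a range of points, split into blocks (to bound the memory of the kernel).
-/

set_option autoImplicit false
set_option maxRecDepth 100000
set_option Elab.async false

namespace Cfsg.Agent.Lib.helper35.Ona

open Cfsg.Agent.Lib.helper35

theorem allRange_intro (f : ℕ → Bool) (lo n : ℕ) (h : ∀ c, lo ≤ c → c < lo + n → f c = true) :
    allRange f lo n = true := by
  induction n with
  | zero => rfl
  | succ n ih =>
    rw [allRange_succ, h (lo + n) (by omega) (by omega), ih (fun c h1 h2 => h c h1 (by omega))]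
    rfl

theorem allRange_blocks (f : ℕ → Bool) (B K r : ℕ) (hB : 0 < B)
    (h : ∀ k, k < K → allRange f (k * B) B = true) (ht : allRange f (K * B) r = true) :
    ∀ c, c < K * B + r → f c = true := by
  intro c hc
  by_cases h1 : c < K * B
  · have hk : c / B < K := Nat.div_lt_of_lt_mul (by rw [Nat.mul_comm]; exact h1)
    exact allRange_spec (h (c / B) hk) c (Nat.div_mul_le_self c B) (Nat.lt_div_mul_add hB)
  · exact allRange_spec ht c (by omega) (by omega)

end Cfsg.Agent.Lib.helper35.Ona
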