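import Cfsg.Agent.Lib.helper35.OnData
import Cfsg.Agent.Lib.helper35.OnBlk

/-!
The tables of `a, …, f` are involutions and the tables of `g` and its inverse are inverse to each other.
-/

set_option autoImplicit false
set_option maxRecDepth 100000
set_option Elab.async false

namespace Cfsg.Agent.Lib.helper35.Ona

open Cfsg.Agent.Lib.helper35

theorem inv0_b0 : allRange (invOK D 0) (0 * 2048) 2048 = true := by decide +kernel
theorem inv0_b1 : allRange (invOK D 0) (1 * 2048) 2048 = true := by decide +kernel
theorem inv0_b2 : allRange (invOK D 0) (2 * 2048) 2048 = true := by decide +kernel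
theorem inv0_b3 : allRange (invOK D 0) (3 * 2048) 2048 = true := by decide +kernel
theorem inv0_b4 : allRange (invOK D 0) (4 * 2048) 2048 = true := by decide +kernel
theorem inv0_b5 : allRange (invOK D 0) (5 * 2048) 2048 = true := by decide +kernel
theorem inv0_b6 : allRange (invOK D 0) (6 * 2048) 2048 = true := by decide +kernel
theorem inv0_b7 : allRange (invOK D 0) (7 * 2048) 2048 = true := by decide +kernel
theorem inv0_b8 : allRange (invOK D 0) (8 * 2048) 2048 = true := by decide +kernel
theorem inv0_b9 : allRange (invOK D 0) (9 * 2048) 2048 = true := by decide +kernel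
theorem inv0_b10 : allRange (invOK D 0) (10 * 2048) 2048 = true := by decide +kernel
theorem inv0_b11 : allRange (invOK D 0) (11 * 2048) 2048 = true := by decide +kernel
theorem inv0_b12 : allRange (invOK D 0) (12 * 2048) 2048 = true := by decide +kernel
theorem inv0_b13 : allRange (invOK D 0) (13 * 2048) 2048 = true := by decide +kernel
theorem inv0_b14 : allRange (invOK D 0) (14 * 2048) 2048 = true := by decide +kernel
theorem inv0_b15 : allRange (invOK D 0) (15 * 2048) 2048 = true := by decide +kernel
theorem inv0_b16 : allRange (invOK D 0) (16 * 2048) 2048 = true := by decide +kernel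
theorem inv0_b17 : allRange (invOK D 0) (17 * 2048) 2048 = true := by decide +kernel
theorem inv0_b18 : allRange (invOK D 0) (18 * 2048) 2048 = true := by decide +kernel
theorem inv0_b19 : allRange (invOK D 0) (19 * 2048) 2048 = true := by decide +kernel
theorem inv0_b20 : allRange (invOK D 0) (20 * 2048) 2048 = true := by decide +kernel
theorem inv0_b21 : allRange (invOK D 0) (21 * 2048) 2048 = true := by decide +kernel
theorem inv0_b22 : allRange (invOK D 0) (22 * 2048) 2048 = true := by decide +kernel
theorem inv0_b23 : allRange (invOK D 0) (23 * 2048) 2048 = true := by decide +kernel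
theorem inv0_b24 : allRange (invOK D 0) (24 * 2048) 2048 = true := by decide +kernel
theorem inv0_b25 : allRange (invOK D 0) (25 * 2048) 2048 = true := by decide +kernel
theorem inv0_b26 : allRange (invOK D 0) (26 * 2048) 2048 = true := by decide +kernel
theorem inv0_b27 : allRange (invOK D 0) (27 * 2048) 2048 = true := by decide +kernel
theorem inv0_b28 : allRange (invOK D 0) (28 * 2048) 2048 = true := by decide +kernel
theorem inv0_b29 : allRange (invOK D 0) (29 * 2048) 2048 = true := by decide +kernel
theorem inv0_b30 : allRange (invOK D 0) (30 * 2048) 2048 = true := by decide +kernel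
theorem inv0_b31 : allRange (invOK D 0) (31 * 2048) 2048 = true := by decide +kernel
theorem inv0_b32 : allRange (invOK D 0) (32 * 2048) 2048 = true := by decide +kernel
theorem inv0_b33 : allRange (invOK D 0) (33 * 2048) 2048 = true := by decide +kernel
theorem inv0_b34 : allRange (invOK D 0) (34 * 2048) 2048 = true := by decide +kernel
theorem inv0_b35 : allRange (invOK D 0) (35 * 2048) 2048 = true := by decide +kernel
theorem inv0_b36 : allRange (invOK D 0) (36 * 2048) 2048 = true := by decide +kernel
theorem inv0_b37 : allRange (invOK D 0) (37 * 2048) 2048 = true := by decide +kernel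
theorem inv0_b38 : allRange (invOK D 0) (38 * 2048) 2048 = true := by decide +kernel
theorem inv0_b39 : allRange (invOK D 0) (39 * 2048) 2048 = true := by decide +kernel
theorem inv0_b40 : allRange (invOK D 0) (40 * 2048) 2048 = true := by decide +kernel
theorem inv0_b41 : allRange (invOK D 0) (41 * 2048) 2048 = true := by decide +kernel
theorem inv0_b42 : allRange (invOK D 0) (42 * 2048) 2048 = true := by decide +kernel
theorem inv0_b43 : allRange (invOK D 0) (43 * 2048) 2048 = true := by decide +kernel
theorem inv0_b44 : allRange (invOK D 0) (44 * 2048) 2048 = true := by decide +kernel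
theorem inv0_b45 : allRange (invOK D 0) (45 * 2048) 2048 = true := by decide +kernel
theorem inv0_b46 : allRange (invOK D 0) (46 * 2048) 2048 = true := by decide +kernel
theorem inv0_b47 : allRange (invOK D 0) (47 * 2048) 2048 = true := by decide +kernel
theorem inv0_b48 : allRange (invOK D 0) (48 * 2048) 2048 = true := by decide +kernel
theorem inv0_b49 : allRange (invOK D 0) (49 * 2048) 2048 = true := by decide +kernel
theorem inv0_b50 : allRange (invOK D 0) (50 * 2048) 2048 = true := by decide +kernel
theorem inv0_b51 : allRange (invOK D 0) (51 * 2048) 2048 = true := by decide +kernel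
theorem inv0_b52 : allRange (invOK D 0) (52 * 2048) 2048 = true := by decide +kernel
theorem inv0_b53 : allRange (invOK D 0) (53 * 2048) 2048 = true := by decide +kernel
theorem inv0_b54 : allRange (invOK D 0) (54 * 2048) 2048 = true := by decide +kernel
theorem inv0_b55 : allRange (invOK D 0) (55 * 2048) 2048 = true := by decide +kernel
theorem inv0_b56 : allRange (invOK D 0) (56 * 2048) 2048 = true := by decide +kernel
theorem inv0_b57 : allRange (invOK D 0) (57 * 2048) 2048 = true := by decide +kernel
theorem inv0_b58 : allRange (invOK D 0) (58 * 2048) 2048 = true := by decide +kernel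
theorem inv0_t : allRange (invOK D 0) (59 * 2048) 1928 = true := by decide +kernel
theorem inv0_all : ∀ c, c < 122760 → (invOK D 0) c = true := by
  intro c hc
  refine allRange_blocks _ 2048 59 1928 (by norm_num) ?_ inv0_t c hc
  intro k hk
  interval_cases k
  exacts [inv0_b0, inv0_b1, inv0_b2, inv0_b3, inv0_b4, inv0_b5, inv0_b6, inv0_b7, inv0_b8, inv0_b9, inv0_b10, inv0_b11, inv0_b12, inv0_b13, inv0_b14, inv0_b15, inv0_b16, inv0_b17, inv0_b18, inv0_b19, inv0_b20, inv0_b21, inv0_b22, inv0_b23, inv0_b24, inv0_b25, inv0_b26, inv0_b27, inv0_b28, inv0_b29, inv0_b30, inv0_b31, inv0_b32, inv0_b33, inv0_b34, inv0_b35, inv0_b36, inv0_b37, inv0_b38, inv0_b39, inv0_b40, inv0_b41, inv0_b42, inv0_b43, inv0_b44, inv0_b45, inv0_b46, inv0_b47, inv0_b48, inv0_b49, inv0_b50, inv0_b51, inv0_b52, inv0_b53, inv0_b54, inv0_b55, inv0_b56, inv0_b57, inv0_b58]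

theorem inv0 : allRange (invOK D 0) 0 122760 = true :=
  allRange_intro _ _ _ (fun c _ hc => inv0_all c (by omega))

theorem inv1_b0 : allRange (invOK D 1) (0 * 2048) 2048 = true := by decide +kernel
theorem inv1_b1 : allRange (invOK D 1) (1 * 2048) 2048 = true := by decide +kernel
theorem inv1_b2 : allRange (invOK D 1) (2 * 2048) 2048 = true := by decide +kernel
theorem inv1_b3 : allRange (invOK D 1) (3 * 2048) 2048 = true := by decide +kernel
theorem inv1_b4 : allRange (invOK D 1) (4 * 2048) 2048 = true := by decide +kernel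
theorem inv1_b5 : allRange (invOK D 1) (5 * 2048) 2048 = true := by decide +kernel
theorem inv1_b6 : allRange (invOK D 1) (6 * 2048) 2048 = true := by decide +kernel
theorem inv1_b7 : allRange (invOK D 1) (7 * 2048) 2048 = true := by decide +kernel
theorem inv1_b8 : allRange (invOK D 1) (8 * 2048) 2048 = true := by decide +kernel
theorem inv1_b9 : allRange (invOK D 1) (9 * 2048) 2048 = true := by decide +kernel
theorem inv1_b10 : allRange (invOK D 1) (10 * 2048) 2048 = true := by decide +kernel
theorem inv1_b11 : allRange (invOK D 1) (11 * 2048) 2048 = true := by decide +kernel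
theorem inv1_b12 : allRange (invOK D 1) (12 * 2048) 2048 = true := by decide +kernel
theorem inv1_b13 : allRange (invOK D 1) (13 * 2048) 2048 = true := by decide +kernel
theorem inv1_b14 : allRange (invOK D 1) (14 * 2048) 2048 = true := by decide +kernel
theorem inv1_b15 : allRange (invOK D 1) (15 * 2048) 2048 = true := by decide +kernel
theorem inv1_b16 : allRange (invOK D 1) (16 * 2048) 2048 = true := by decide +kernel
theorem inv1_b17 : allRange (invOK D 1) (17 * 2048) 2048 = true := by decide +kernel
theorem inv1_b18 : allRange (invOK D 1) (18 * 2048) 2048 = true := by decide +kernel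
theorem inv1_b19 : allRange (invOK D 1) (19 * 2048) 2048 = true := by decide +kernel
theorem inv1_b20 : allRange (invOK D 1) (20 * 2048) 2048 = true := by decide +kernel
theorem inv1_b21 : allRange (invOK D 1) (21 * 2048) 2048 = true := by decide +kernel
theorem inv1_b22 : allRange (invOK D 1) (22 * 2048) 2048 = true := by decide +kernel
theorem inv1_b23 : allRange (invOK D 1) (23 * 2048) 2048 = true := by decide +kernel
theorem inv1_b24 : allRange (invOK D 1) (24 * 2048) 2048 = true := by decide +kernel
theorem inv1_b25 : allRange (invOK D 1) (25 * 2048) 2048 = true := by decide +kernel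
theorem inv1_b26 : allRange (invOK D 1) (26 * 2048) 2048 = true := by decide +kernel
theorem inv1_b27 : allRange (invOK D 1) (27 * 2048) 2048 = true := by decide +kernel
theorem inv1_b28 : allRange (invOK D 1) (28 * 2048) 2048 = true := by decide +kernel
theorem inv1_b29 : allRange (invOK D 1) (29 * 2048) 2048 = true := by decide +kernel
theorem inv1_b30 : allRange (invOK D 1) (30 * 2048) 2048 = true := by decide +kernel
theorem inv1_b31 : allRange (invOK D 1) (31 * 2048) 2048 = true := by decide +kernel
theorem inv1_b32 : allRange (invOK D 1) (32 * 2048) 2048 = true := by decide +kernel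
theorem inv1_b33 : allRange (invOK D 1) (33 * 2048) 2048 = true := by decide +kernel
theorem inv1_b34 : allRange (invOK D 1) (34 * 2048) 2048 = true := by decide +kernel
theorem inv1_b35 : allRange (invOK D 1) (35 * 2048) 2048 = true := by decide +kernel
theorem inv1_b36 : allRange (invOK D 1) (36 * 2048) 2048 = true := by decide +kernel
theorem inv1_b37 : allRange (invOK D 1) (37 * 2048) 2048 = true := by decide +kernel
theorem inv1_b38 : allRange (invOK D 1) (38 * 2048) 2048 = true := by decide +kernel
theorem inv1_b39 : allRange (invOK D 1) (39 * 2048) 2048 = true := by decide +kernel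
theorem inv1_b40 : allRange (invOK D 1) (40 * 2048) 2048 = true := by decide +kernel
theorem inv1_b41 : allRange (invOK D 1) (41 * 2048) 2048 = true := by decide +kernel
theorem inv1_b42 : allRange (invOK D 1) (42 * 2048) 2048 = true := by decide +kernel
theorem inv1_b43 : allRange (invOK D 1) (43 * 2048) 2048 = true := by decide +kernel
theorem inv1_b44 : allRange (invOK D 1) (44 * 2048) 2048 = true := by decide +kernel
theorem inv1_b45 : allRange (invOK D 1) (45 * 2048) 2048 = true := by decide +kernel
theorem inv1_b46 : allRange (invOK D 1) (46 * 2048) 2048 = true := by decide +kernel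
theorem inv1_b47 : allRange (invOK D 1) (47 * 2048) 2048 = true := by decide +kernel
theorem inv1_b48 : allRange (invOK D 1) (48 * 2048) 2048 = true := by decide +kernel
theorem inv1_b49 : allRange (invOK D 1) (49 * 2048) 2048 = true := by decide +kernel
theorem inv1_b50 : allRange (invOK D 1) (50 * 2048) 2048 = true := by decide +kernel
theorem inv1_b51 : allRange (invOK D 1) (51 * 2048) 2048 = true := by decide +kernel
theorem inv1_b52 : allRange (invOK D 1) (52 * 2048) 2048 = true := by decide +kernel
theorem inv1_b53 : allRange (invOK D 1) (53 * 2048) 2048 = true := by decide +kernel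
theorem inv1_b54 : allRange (invOK D 1) (54 * 2048) 2048 = true := by decide +kernel
theorem inv1_b55 : allRange (invOK D 1) (55 * 2048) 2048 = true := by decide +kernel
theorem inv1_b56 : allRange (invOK D 1) (56 * 2048) 2048 = true := by decide +kernel
theorem inv1_b57 : allRange (invOK D 1) (57 * 2048) 2048 = true := by decide +kernel
theorem inv1_b58 : allRange (invOK D 1) (58 * 2048) 2048 = true := by decide +kernel
theorem inv1_t : allRange (invOK D 1) (59 * 2048) 1928 = true := by decide +kernel
theorem inv1_all : ∀ c, c < 122760 → (invOK D 1) c = true := by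
  intro c hc
  refine allRange_blocks _ 2048 59 1928 (by norm_num) ?_ inv1_t c hc
  intro k hk
  interval_cases k
  exacts [inv1_b0, inv1_b1, inv1_b2, inv1_b3, inv1_b4, inv1_b5, inv1_b6, inv1_b7, inv1_b8, inv1_b9, inv1_b10, inv1_b11, inv1_b12, inv1_b13, inv1_b14, inv1_b15, inv1_b16, inv1_b17, inv1_b18, inv1_b19, inv1_b20, inv1_b21, inv1_b22, inv1_b23, inv1_b24, inv1_b25, inv1_b26, inv1_b27, inv1_b28, inv1_b29, inv1_b30, inv1_b31, inv1_b32, inv1_b33, inv1_b34, inv1_b35, inv1_b36, inv1_b37, inv1_b38, inv1_b39, inv1_b40, inv1_b41, inv1_b42, inv1_b43, inv1_b44, inv1_b45, inv1_b46, inv1_b47, inv1_b48, inv1_b49, inv1_b50, inv1_b51, inv1_b52, inv1_b53, inv1_b54, inv1_b55, inv1_b56, inv1_b57, inv1_b58]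

theorem inv1 : allRange (invOK D 1) 0 122760 = true :=
  allRange_intro _ _ _ (fun c _ hc => inv1_all c (by omega))

theorem inv2_b0 : allRange (invOK D 2) (0 * 2048) 2048 = true := by decide +kernel
theorem inv2_b1 : allRange (invOK D 2) (1 * 2048) 2048 = true := by decide +kernel
theorem inv2_b2 : allRange (invOK D 2) (2 * 2048) 2048 = true := by decide +kernel
theorem inv2_b3 : allRange (invOK D 2) (3 * 2048) 2048 = true := by decide +kernel
theorem inv2_b4 : allRange (invOK D 2) (4 * 2048) 2048 = true := by decide +kernel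
theorem inv2_b5 : allRange (invOK D 2) (5 * 2048) 2048 = true := by decide +kernel
theorem inv2_b6 : allRange (invOK D 2) (6 * 2048) 2048 = true := by decide +kernel
theorem inv2_b7 : allRange (invOK D 2) (7 * 2048) 2048 = true := by decide +kernel
theorem inv2_b8 : allRange (invOK D 2) (8 * 2048) 2048 = true := by decide +kernel
theorem inv2_b9 : allRange (invOK D 2) (9 * 2048) 2048 = true := by decide +kernel
theorem inv2_b10 : allRange (invOK D 2) (10 * 2048) 2048 = true := by decide +kernel
theorem inv2_b11 : allRange (invOK D 2) (11 * 2048) 2048 = true := by decide +kernel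
theorem inv2_b12 : allRange (invOK D 2) (12 * 2048) 2048 = true := by decide +kernel
theorem inv2_b13 : allRange (invOK D 2) (13 * 2048) 2048 = true := by decide +kernel
theorem inv2_b14 : allRange (invOK D 2) (14 * 2048) 2048 = true := by decide +kernel
theorem inv2_b15 : allRange (invOK D 2) (15 * 2048) 2048 = true := by decide +kernel
theorem inv2_b16 : allRange (invOK D 2) (16 * 2048) 2048 = true := by decide +kernel
theorem inv2_b17 : allRange (invOK D 2) (17 * 2048) 2048 = true := by decide +kernel
theorem inv2_b18 : allRange (invOK D 2) (18 * 2048) 2048 = true := by decide +kernel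
theorem inv2_b19 : allRange (invOK D 2) (19 * 2048) 2048 = true := by decide +kernel
theorem inv2_b20 : allRange (invOK D 2) (20 * 2048) 2048 = true := by decide +kernel
theorem inv2_b21 : allRange (invOK D 2) (21 * 2048) 2048 = true := by decide +kernel
theorem inv2_b22 : allRange (invOK D 2) (22 * 2048) 2048 = true := by decide +kernel
theorem inv2_b23 : allRange (invOK D 2) (23 * 2048) 2048 = true := by decide +kernel
theorem inv2_b24 : allRange (invOK D 2) (24 * 2048) 2048 = true := by decide +kernel
theorem inv2_b25 : allRange (invOK D 2) (25 * 2048) 2048 = true := by decide +kernel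
theorem inv2_b26 : allRange (invOK D 2) (26 * 2048) 2048 = true := by decide +kernel
theorem inv2_b27 : allRange (invOK D 2) (27 * 2048) 2048 = true := by decide +kernel
theorem inv2_b28 : allRange (invOK D 2) (28 * 2048) 2048 = true := by decide +kernel
theorem inv2_b29 : allRange (invOK D 2) (29 * 2048) 2048 = true := by decide +kernel
theorem inv2_b30 : allRange (invOK D 2) (30 * 2048) 2048 = true := by decide +kernel
theorem inv2_b31 : allRange (invOK D 2) (31 * 2048) 2048 = true := by decide +kernel
theorem inv2_b32 : allRange (invOK D 2) (32 * 2048) 2048 = true := by decide +kernel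
theorem inv2_b33 : allRange (invOK D 2) (33 * 2048) 2048 = true := by decide +kernel
theorem inv2_b34 : allRange (invOK D 2) (34 * 2048) 2048 = true := by decide +kernel
theorem inv2_b35 : allRange (invOK D 2) (35 * 2048) 2048 = true := by decide +kernel
theorem inv2_b36 : allRange (invOK D 2) (36 * 2048) 2048 = true := by decide +kernel
theorem inv2_b37 : allRange (invOK D 2) (37 * 2048) 2048 = true := by decide +kernel
theorem inv2_b38 : allRange (invOK D 2) (38 * 2048) 2048 = true := by decide +kernel
theorem inv2_b39 : allRange (invOK D 2) (39 * 2048) 2048 = true := by decide +kernel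
theorem inv2_b40 : allRange (invOK D 2) (40 * 2048) 2048 = true := by decide +kernel
theorem inv2_b41 : allRange (invOK D 2) (41 * 2048) 2048 = true := by decide +kernel
theorem inv2_b42 : allRange (invOK D 2) (42 * 2048) 2048 = true := by decide +kernel
theorem inv2_b43 : allRange (invOK D 2) (43 * 2048) 2048 = true := by decide +kernel
theorem inv2_b44 : allRange (invOK D 2) (44 * 2048) 2048 = true := by decide +kernel
theorem inv2_b45 : allRange (invOK D 2) (45 * 2048) 2048 = true := by decide +kernel
theorem inv2_b46 : allRange (invOK D 2) (46 * 2048) 2048 = true := by decide +kernel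
theorem inv2_b47 : allRange (invOK D 2) (47 * 2048) 2048 = true := by decide +kernel
theorem inv2_b48 : allRange (invOK D 2) (48 * 2048) 2048 = true := by decide +kernel
theorem inv2_b49 : allRange (invOK D 2) (49 * 2048) 2048 = true := by decide +kernel
theorem inv2_b50 : allRange (invOK D 2) (50 * 2048) 2048 = true := by decide +kernel
theorem inv2_b51 : allRange (invOK D 2) (51 * 2048) 2048 = true := by decide +kernel
theorem inv2_b52 : allRange (invOK D 2) (52 * 2048) 2048 = true := by decide +kernel
theorem inv2_b53 : allRange (invOK D 2) (53 * 2048) 2048 = true := by decide +kernel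
theorem inv2_b54 : allRange (invOK D 2) (54 * 2048) 2048 = true := by decide +kernel
theorem inv2_b55 : allRange (invOK D 2) (55 * 2048) 2048 = true := by decide +kernel
theorem inv2_b56 : allRange (invOK D 2) (56 * 2048) 2048 = true := by decide +kernel
theorem inv2_b57 : allRange (invOK D 2) (57 * 2048) 2048 = true := by decide +kernel
theorem inv2_b58 : allRange (invOK D 2) (58 * 2048) 2048 = true := by decide +kernel
theorem inv2_t : allRange (invOK D 2) (59 * 2048) 1928 = true := by decide +kernel
theorem inv2_all : ∀ c, c < 122760 → (invOK D 2) c = true := by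
  intro c hc
  refine allRange_blocks _ 2048 59 1928 (by norm_num) ?_ inv2_t c hc
  intro k hk
  interval_cases k
  exacts [inv2_b0, inv2_b1, inv2_b2, inv2_b3, inv2_b4, inv2_b5, inv2_b6, inv2_b7, inv2_b8, inv2_b9, inv2_b10, inv2_b11, inv2_b12, inv2_b13, inv2_b14, inv2_b15, inv2_b16, inv2_b17, inv2_b18, inv2_b19, inv2_b20, inv2_b21, inv2_b22, inv2_b23, inv2_b24, inv2_b25, inv2_b26, inv2_b27, inv2_b28, inv2_b29, inv2_b30, inv2_b31, inv2_b32, inv2_b33, inv2_b34, inv2_b35, inv2_b36, inv2_b37, inv2_b38, inv2_b39, inv2_b40, inv2_b41, inv2_b42, inv2_b43, inv2_b44, inv2_b45, inv2_b46, inv2_b47, inv2_b48, inv2_b49, inv2_b50, inv2_b51, inv2_b52, inv2_b53, inv2_b54, inv2_b55, inv2_b56, inv2_b57, inv2_b58]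

theorem inv2 : allRange (invOK D 2) 0 122760 = true :=
  allRange_intro _ _ _ (fun c _ hc => inv2_all c (by omega))

theorem inv3_b0 : allRange (invOK D 3) (0 * 2048) 2048 = true := by decide +kernel
theorem inv3_b1 : allRange (invOK D 3) (1 * 2048) 2048 = true := by decide +kernel
theorem inv3_b2 : allRange (invOK D 3) (2 * 2048) 2048 = true := by decide +kernel
theorem inv3_b3 : allRange (invOK D 3) (3 * 2048) 2048 = true := by decide +kernel
theorem inv3_b4 : allRange (invOK D 3) (4 * 2048) 2048 = true := by decide +kernel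
theorem inv3_b5 : allRange (invOK D 3) (5 * 2048) 2048 = true := by decide +kernel
theorem inv3_b6 : allRange (invOK D 3) (6 * 2048) 2048 = true := by decide +kernel
theorem inv3_b7 : allRange (invOK D 3) (7 * 2048) 2048 = true := by decide +kernel
theorem inv3_b8 : allRange (invOK D 3) (8 * 2048) 2048 = true := by decide +kernel
theorem inv3_b9 : allRange (invOK D 3) (9 * 2048) 2048 = true := by decide +kernel
theorem inv3_b10 : allRange (invOK D 3) (10 * 2048) 2048 = true := by decide +kernel
theorem inv3_b11 : allRange (invOK D 3) (11 * 2048) 2048 = true := by decide +kernel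
theorem inv3_b12 : allRange (invOK D 3) (12 * 2048) 2048 = true := by decide +kernel
theorem inv3_b13 : allRange (invOK D 3) (13 * 2048) 2048 = true := by decide +kernel
theorem inv3_b14 : allRange (invOK D 3) (14 * 2048) 2048 = true := by decide +kernel
theorem inv3_b15 : allRange (invOK D 3) (15 * 2048) 2048 = true := by decide +kernel
theorem inv3_b16 : allRange (invOK D 3) (16 * 2048) 2048 = true := by decide +kernel
theorem inv3_b17 : allRange (invOK D 3) (17 * 2048) 2048 = true := by decide +kernel
theorem inv3_b18 : allRange (invOK D 3) (18 * 2048) 2048 = true := by decide +kernel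
theorem inv3_b19 : allRange (invOK D 3) (19 * 2048) 2048 = true := by decide +kernel
theorem inv3_b20 : allRange (invOK D 3) (20 * 2048) 2048 = true := by decide +kernel
theorem inv3_b21 : allRange (invOK D 3) (21 * 2048) 2048 = true := by decide +kernel
theorem inv3_b22 : allRange (invOK D 3) (22 * 2048) 2048 = true := by decide +kernel
theorem inv3_b23 : allRange (invOK D 3) (23 * 2048) 2048 = true := by decide +kernel
theorem inv3_b24 : allRange (invOK D 3) (24 * 2048) 2048 = true := by decide +kernel
theorem inv3_b25 : allRange (invOK D 3) (25 * 2048) 2048 = true := by decide +kernel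
theorem inv3_b26 : allRange (invOK D 3) (26 * 2048) 2048 = true := by decide +kernel
theorem inv3_b27 : allRange (invOK D 3) (27 * 2048) 2048 = true := by decide +kernel
theorem inv3_b28 : allRange (invOK D 3) (28 * 2048) 2048 = true := by decide +kernel
theorem inv3_b29 : allRange (invOK D 3) (29 * 2048) 2048 = true := by decide +kernel
theorem inv3_b30 : allRange (invOK D 3) (30 * 2048) 2048 = true := by decide +kernel
theorem inv3_b31 : allRange (invOK D 3) (31 * 2048) 2048 = true := by decide +kernel
theorem inv3_b32 : allRange (invOK D 3) (32 * 2048) 2048 = true := by decide +kernel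
theorem inv3_b33 : allRange (invOK D 3) (33 * 2048) 2048 = true := by decide +kernel
theorem inv3_b34 : allRange (invOK D 3) (34 * 2048) 2048 = true := by decide +kernel
theorem inv3_b35 : allRange (invOK D 3) (35 * 2048) 2048 = true := by decide +kernel
theorem inv3_b36 : allRange (invOK D 3) (36 * 2048) 2048 = true := by decide +kernel
theorem inv3_b37 : allRange (invOK D 3) (37 * 2048) 2048 = true := by decide +kernel
theorem inv3_b38 : allRange (invOK D 3) (38 * 2048) 2048 = true := by decide +kernel
theorem inv3_b39 : allRange (invOK D 3) (39 * 2048) 2048 = true := by decide +kernel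
theorem inv3_b40 : allRange (invOK D 3) (40 * 2048) 2048 = true := by decide +kernel
theorem inv3_b41 : allRange (invOK D 3) (41 * 2048) 2048 = true := by decide +kernel
theorem inv3_b42 : allRange (invOK D 3) (42 * 2048) 2048 = true := by decide +kernel
theorem inv3_b43 : allRange (invOK D 3) (43 * 2048) 2048 = true := by decide +kernel
theorem inv3_b44 : allRange (invOK D 3) (44 * 2048) 2048 = true := by decide +kernel
theorem inv3_b45 : allRange (invOK D 3) (45 * 2048) 2048 = true := by decide +kernel
theorem inv3_b46 : allRange (invOK D 3) (46 * 2048) 2048 = true := by decide +kernel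
theorem inv3_b47 : allRange (invOK D 3) (47 * 2048) 2048 = true := by decide +kernel
theorem inv3_b48 : allRange (invOK D 3) (48 * 2048) 2048 = true := by decide +kernel
theorem inv3_b49 : allRange (invOK D 3) (49 * 2048) 2048 = true := by decide +kernel
theorem inv3_b50 : allRange (invOK D 3) (50 * 2048) 2048 = true := by decide +kernel
theorem inv3_b51 : allRange (invOK D 3) (51 * 2048) 2048 = true := by decide +kernel
theorem inv3_b52 : allRange (invOK D 3) (52 * 2048) 2048 = true := by decide +kernel
theorem inv3_b53 : allRange (invOK D 3) (53 * 2048) 2048 = true := by decide +kernel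
theorem inv3_b54 : allRange (invOK D 3) (54 * 2048) 2048 = true := by decide +kernel
theorem inv3_b55 : allRange (invOK D 3) (55 * 2048) 2048 = true := by decide +kernel
theorem inv3_b56 : allRange (invOK D 3) (56 * 2048) 2048 = true := by decide +kernel
theorem inv3_b57 : allRange (invOK D 3) (57 * 2048) 2048 = true := by decide +kernel
theorem inv3_b58 : allRange (invOK D 3) (58 * 2048) 2048 = true := by decide +kernel
theorem inv3_t : allRange (invOK D 3) (59 * 2048) 1928 = true := by decide +kernel
theorem inv3_all : ∀ c, c < 122760 → (invOK D 3) c = true := by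
  intro c hc
  refine allRange_blocks _ 2048 59 1928 (by norm_num) ?_ inv3_t c hc
  intro k hk
  interval_cases k
  exacts [inv3_b0, inv3_b1, inv3_b2, inv3_b3, inv3_b4, inv3_b5, inv3_b6, inv3_b7, inv3_b8, inv3_b9, inv3_b10, inv3_b11, inv3_b12, inv3_b13, inv3_b14, inv3_b15, inv3_b16, inv3_b17, inv3_b18, inv3_b19, inv3_b20, inv3_b21, inv3_b22, inv3_b23, inv3_b24, inv3_b25, inv3_b26, inv3_b27, inv3_b28, inv3_b29, inv3_b30, inv3_b31, inv3_b32, inv3_b33, inv3_b34, inv3_b35, inv3_b36, inv3_b37, inv3_b38, inv3_b39, inv3_b40, inv3_b41, inv3_b42, inv3_b43, inv3_b44, inv3_b45, inv3_b46, inv3_b47, inv3_b48, inv3_b49, inv3_b50, inv3_b51, inv3_b52, inv3_b53, inv3_b54, inv3_b55, inv3_b56, inv3_b57, inv3_b58]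

theorem inv3 : allRange (invOK D 3) 0 122760 = true :=
  allRange_intro _ _ _ (fun c _ hc => inv3_all c (by omega))

theorem inv4_b0 : allRange (invOK D 4) (0 * 2048) 2048 = true := by decide +kernel
theorem inv4_b1 : allRange (invOK D 4) (1 * 2048) 2048 = true := by decide +kernel
theorem inv4_b2 : allRange (invOK D 4) (2 * 2048) 2048 = true := by decide +kernel
theorem inv4_b3 : allRange (invOK D 4) (3 * 2048) 2048 = true := by decide +kernel
theorem inv4_b4 : allRange (invOK D 4) (4 * 2048) 2048 = true := by decide +kernel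
theorem inv4_b5 : allRange (invOK D 4) (5 * 2048) 2048 = true := by decide +kernel
theorem inv4_b6 : allRange (invOK D 4) (6 * 2048) 2048 = true := by decide +kernel
theorem inv4_b7 : allRange (invOK D 4) (7 * 2048) 2048 = true := by decide +kernel
theorem inv4_b8 : allRange (invOK D 4) (8 * 2048) 2048 = true := by decide +kernel
theorem inv4_b9 : allRange (invOK D 4) (9 * 2048) 2048 = true := by decide +kernel
theorem inv4_b10 : allRange (invOK D 4) (10 * 2048) 2048 = true := by decide +kernel
theorem inv4_b11 : allRange (invOK D 4) (11 * 2048) 2048 = true := by decide +kernel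
theorem inv4_b12 : allRange (invOK D 4) (12 * 2048) 2048 = true := by decide +kernel
theorem inv4_b13 : allRange (invOK D 4) (13 * 2048) 2048 = true := by decide +kernel
theorem inv4_b14 : allRange (invOK D 4) (14 * 2048) 2048 = true := by decide +kernel
theorem inv4_b15 : allRange (invOK D 4) (15 * 2048) 2048 = true := by decide +kernel
theorem inv4_b16 : allRange (invOK D 4) (16 * 2048) 2048 = true := by decide +kernel
theorem inv4_b17 : allRange (invOK D 4) (17 * 2048) 2048 = true := by decide +kernel
theorem inv4_b18 : allRange (invOK D 4) (18 * 2048) 2048 = true := by decide +kernel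
theorem inv4_b19 : allRange (invOK D 4) (19 * 2048) 2048 = true := by decide +kernel
theorem inv4_b20 : allRange (invOK D 4) (20 * 2048) 2048 = true := by decide +kernel
theorem inv4_b21 : allRange (invOK D 4) (21 * 2048) 2048 = true := by decide +kernel
theorem inv4_b22 : allRange (invOK D 4) (22 * 2048) 2048 = true := by decide +kernel
theorem inv4_b23 : allRange (invOK D 4) (23 * 2048) 2048 = true := by decide +kernel
theorem inv4_b24 : allRange (invOK D 4) (24 * 2048) 2048 = true := by decide +kernel
theorem inv4_b25 : allRange (invOK D 4) (25 * 2048) 2048 = true := by decide +kernel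
theorem inv4_b26 : allRange (invOK D 4) (26 * 2048) 2048 = true := by decide +kernel
theorem inv4_b27 : allRange (invOK D 4) (27 * 2048) 2048 = true := by decide +kernel
theorem inv4_b28 : allRange (invOK D 4) (28 * 2048) 2048 = true := by decide +kernel
theorem inv4_b29 : allRange (invOK D 4) (29 * 2048) 2048 = true := by decide +kernel
theorem inv4_b30 : allRange (invOK D 4) (30 * 2048) 2048 = true := by decide +kernel
theorem inv4_b31 : allRange (invOK D 4) (31 * 2048) 2048 = true := by decide +kernel
theorem inv4_b32 : allRange (invOK D 4) (32 * 2048) 2048 = true := by decide +kernel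
theorem inv4_b33 : allRange (invOK D 4) (33 * 2048) 2048 = true := by decide +kernel
theorem inv4_b34 : allRange (invOK D 4) (34 * 2048) 2048 = true := by decide +kernel
theorem inv4_b35 : allRange (invOK D 4) (35 * 2048) 2048 = true := by decide +kernel
theorem inv4_b36 : allRange (invOK D 4) (36 * 2048) 2048 = true := by decide +kernel
theorem inv4_b37 : allRange (invOK D 4) (37 * 2048) 2048 = true := by decide +kernel
theorem inv4_b38 : allRange (invOK D 4) (38 * 2048) 2048 = true := by decide +kernel
theorem inv4_b39 : allRange (invOK D 4) (39 * 2048) 2048 = true := by decide +kernel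
theorem inv4_b40 : allRange (invOK D 4) (40 * 2048) 2048 = true := by decide +kernel
theorem inv4_b41 : allRange (invOK D 4) (41 * 2048) 2048 = true := by decide +kernel
theorem inv4_b42 : allRange (invOK D 4) (42 * 2048) 2048 = true := by decide +kernel
theorem inv4_b43 : allRange (invOK D 4) (43 * 2048) 2048 = true := by decide +kernel
theorem inv4_b44 : allRange (invOK D 4) (44 * 2048) 2048 = true := by decide +kernel
theorem inv4_b45 : allRange (invOK D 4) (45 * 2048) 2048 = true := by decide +kernel
theorem inv4_b46 : allRange (invOK D 4) (46 * 2048) 2048 = true := by decide +kernel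
theorem inv4_b47 : allRange (invOK D 4) (47 * 2048) 2048 = true := by decide +kernel
theorem inv4_b48 : allRange (invOK D 4) (48 * 2048) 2048 = true := by decide +kernel
theorem inv4_b49 : allRange (invOK D 4) (49 * 2048) 2048 = true := by decide +kernel
theorem inv4_b50 : allRange (invOK D 4) (50 * 2048) 2048 = true := by decide +kernel
theorem inv4_b51 : allRange (invOK D 4) (51 * 2048) 2048 = true := by decide +kernel
theorem inv4_b52 : allRange (invOK D 4) (52 * 2048) 2048 = true := by decide +kernel
theorem inv4_b53 : allRange (invOK D 4) (53 * 2048) 2048 = true := by decide +kernel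
theorem inv4_b54 : allRange (invOK D 4) (54 * 2048) 2048 = true := by decide +kernel
theorem inv4_b55 : allRange (invOK D 4) (55 * 2048) 2048 = true := by decide +kernel
theorem inv4_b56 : allRange (invOK D 4) (56 * 2048) 2048 = true := by decide +kernel
theorem inv4_b57 : allRange (invOK D 4) (57 * 2048) 2048 = true := by decide +kernel
theorem inv4_b58 : allRange (invOK D 4) (58 * 2048) 2048 = true := by decide +kernel
theorem inv4_t : allRange (invOK D 4) (59 * 2048) 1928 = true := by decide +kernel
theorem inv4_all : ∀ c, c < 122760 → (invOK D 4) c = true := by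
  intro c hc
  refine allRange_blocks _ 2048 59 1928 (by norm_num) ?_ inv4_t c hc
  intro k hk
  interval_cases k
  exacts [inv4_b0, inv4_b1, inv4_b2, inv4_b3, inv4_b4, inv4_b5, inv4_b6, inv4_b7, inv4_b8, inv4_b9, inv4_b10, inv4_b11, inv4_b12, inv4_b13, inv4_b14, inv4_b15, inv4_b16, inv4_b17, inv4_b18, inv4_b19, inv4_b20, inv4_b21, inv4_b22, inv4_b23, inv4_b24, inv4_b25, inv4_b26, inv4_b27, inv4_b28, inv4_b29, inv4_b30, inv4_b31, inv4_b32, inv4_b33, inv4_b34, inv4_b35, inv4_b36, inv4_b37, inv4_b38, inv4_b39, inv4_b40, inv4_b41, inv4_b42, inv4_b43, inv4_b44, inv4_b45, inv4_b46, inv4_b47, inv4_b48, inv4_b49, inv4_b50, inv4_b51, inv4_b52, inv4_b53, inv4_b54, inv4_b55, inv4_b56, inv4_b57, inv4_b58]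

theorem inv4 : allRange (invOK D 4) 0 122760 = true :=
  allRange_intro _ _ _ (fun c _ hc => inv4_all c (by omega))

theorem inv5_b0 : allRange (invOK D 5) (0 * 2048) 2048 = true := by decide +kernel
theorem inv5_b1 : allRange (invOK D 5) (1 * 2048) 2048 = true := by decide +kernel
theorem inv5_b2 : allRange (invOK D 5) (2 * 2048) 2048 = true := by decide +kernel
theorem inv5_b3 : allRange (invOK D 5) (3 * 2048) 2048 = true := by decide +kernel
theorem inv5_b4 : allRange (invOK D 5) (4 * 2048) 2048 = true := by decide +kernel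
theorem inv5_b5 : allRange (invOK D 5) (5 * 2048) 2048 = true := by decide +kernel
theorem inv5_b6 : allRange (invOK D 5) (6 * 2048) 2048 = true := by decide +kernel
theorem inv5_b7 : allRange (invOK D 5) (7 * 2048) 2048 = true := by decide +kernel
theorem inv5_b8 : allRange (invOK D 5) (8 * 2048) 2048 = true := by decide +kernel
theorem inv5_b9 : allRange (invOK D 5) (9 * 2048) 2048 = true := by decide +kernel
theorem inv5_b10 : allRange (invOK D 5) (10 * 2048) 2048 = true := by decide +kernel
theorem inv5_b11 : allRange (invOK D 5) (11 * 2048) 2048 = true := by decide +kernel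
theorem inv5_b12 : allRange (invOK D 5) (12 * 2048) 2048 = true := by decide +kernel
theorem inv5_b13 : allRange (invOK D 5) (13 * 2048) 2048 = true := by decide +kernel
theorem inv5_b14 : allRange (invOK D 5) (14 * 2048) 2048 = true := by decide +kernel
theorem inv5_b15 : allRange (invOK D 5) (15 * 2048) 2048 = true := by decide +kernel
theorem inv5_b16 : allRange (invOK D 5) (16 * 2048) 2048 = true := by decide +kernel
theorem inv5_b17 : allRange (invOK D 5) (17 * 2048) 2048 = true := by decide +kernel
theorem inv5_b18 : allRange (invOK D 5) (18 * 2048) 2048 = true := by decide +kernel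
theorem inv5_b19 : allRange (invOK D 5) (19 * 2048) 2048 = true := by decide +kernel
theorem inv5_b20 : allRange (invOK D 5) (20 * 2048) 2048 = true := by decide +kernel
theorem inv5_b21 : allRange (invOK D 5) (21 * 2048) 2048 = true := by decide +kernel
theorem inv5_b22 : allRange (invOK D 5) (22 * 2048) 2048 = true := by decide +kernel
theorem inv5_b23 : allRange (invOK D 5) (23 * 2048) 2048 = true := by decide +kernel
theorem inv5_b24 : allRange (invOK D 5) (24 * 2048) 2048 = true := by decide +kernel
theorem inv5_b25 : allRange (invOK D 5) (25 * 2048) 2048 = true := by decide +kernel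
theorem inv5_b26 : allRange (invOK D 5) (26 * 2048) 2048 = true := by decide +kernel
theorem inv5_b27 : allRange (invOK D 5) (27 * 2048) 2048 = true := by decide +kernel
theorem inv5_b28 : allRange (invOK D 5) (28 * 2048) 2048 = true := by decide +kernel
theorem inv5_b29 : allRange (invOK D 5) (29 * 2048) 2048 = true := by decide +kernel
theorem inv5_b30 : allRange (invOK D 5) (30 * 2048) 2048 = true := by decide +kernel
theorem inv5_b31 : allRange (invOK D 5) (31 * 2048) 2048 = true := by decide +kernel
theorem inv5_b32 : allRange (invOK D 5) (32 * 2048) 2048 = true := by decide +kernel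
theorem inv5_b33 : allRange (invOK D 5) (33 * 2048) 2048 = true := by decide +kernel
theorem inv5_b34 : allRange (invOK D 5) (34 * 2048) 2048 = true := by decide +kernel
theorem inv5_b35 : allRange (invOK D 5) (35 * 2048) 2048 = true := by decide +kernel
theorem inv5_b36 : allRange (invOK D 5) (36 * 2048) 2048 = true := by decide +kernel
theorem inv5_b37 : allRange (invOK D 5) (37 * 2048) 2048 = true := by decide +kernel
theorem inv5_b38 : allRange (invOK D 5) (38 * 2048) 2048 = true := by decide +kernel
theorem inv5_b39 : allRange (invOK D 5) (39 * 2048) 2048 = true := by decide +kernel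
theorem inv5_b40 : allRange (invOK D 5) (40 * 2048) 2048 = true := by decide +kernel
theorem inv5_b41 : allRange (invOK D 5) (41 * 2048) 2048 = true := by decide +kernel
theorem inv5_b42 : allRange (invOK D 5) (42 * 2048) 2048 = true := by decide +kernel
theorem inv5_b43 : allRange (invOK D 5) (43 * 2048) 2048 = true := by decide +kernel
theorem inv5_b44 : allRange (invOK D 5) (44 * 2048) 2048 = true := by decide +kernel
theorem inv5_b45 : allRange (invOK D 5) (45 * 2048) 2048 = true := by decide +kernel
theorem inv5_b46 : allRange (invOK D 5) (46 * 2048) 2048 = true := by decide +kernel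
theorem inv5_b47 : allRange (invOK D 5) (47 * 2048) 2048 = true := by decide +kernel
theorem inv5_b48 : allRange (invOK D 5) (48 * 2048) 2048 = true := by decide +kernel
theorem inv5_b49 : allRange (invOK D 5) (49 * 2048) 2048 = true := by decide +kernel
theorem inv5_b50 : allRange (invOK D 5) (50 * 2048) 2048 = true := by decide +kernel
theorem inv5_b51 : allRange (invOK D 5) (51 * 2048) 2048 = true := by decide +kernel
theorem inv5_b52 : allRange (invOK D 5) (52 * 2048) 2048 = true := by decide +kernel
theorem inv5_b53 : allRange (invOK D 5) (53 * 2048) 2048 = true := by decide +kernel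
theorem inv5_b54 : allRange (invOK D 5) (54 * 2048) 2048 = true := by decide +kernel
theorem inv5_b55 : allRange (invOK D 5) (55 * 2048) 2048 = true := by decide +kernel
theorem inv5_b56 : allRange (invOK D 5) (56 * 2048) 2048 = true := by decide +kernel
theorem inv5_b57 : allRange (invOK D 5) (57 * 2048) 2048 = true := by decide +kernel
theorem inv5_b58 : allRange (invOK D 5) (58 * 2048) 2048 = true := by decide +kernel
theorem inv5_t : allRange (invOK D 5) (59 * 2048) 1928 = true := by decide +kernel
theorem inv5_all : ∀ c, c < 122760 → (invOK D 5) c = true := by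
  intro c hc
  refine allRange_blocks _ 2048 59 1928 (by norm_num) ?_ inv5_t c hc
  intro k hk
  interval_cases k
  exacts [inv5_b0, inv5_b1, inv5_b2, inv5_b3, inv5_b4, inv5_b5, inv5_b6, inv5_b7, inv5_b8, inv5_b9, inv5_b10, inv5_b11, inv5_b12, inv5_b13, inv5_b14, inv5_b15, inv5_b16, inv5_b17, inv5_b18, inv5_b19, inv5_b20, inv5_b21, inv5_b22, inv5_b23, inv5_b24, inv5_b25, inv5_b26, inv5_b27, inv5_b28, inv5_b29, inv5_b30, inv5_b31, inv5_b32, inv5_b33, inv5_b34, inv5_b35, inv5_b36, inv5_b37, inv5_b38, inv5_b39, inv5_b40, inv5_b41, inv5_b42, inv5_b43, inv5_b44, inv5_b45, inv5_b46, inv5_b47, inv5_b48, inv5_b49, inv5_b50, inv5_b51, inv5_b52, inv5_b53, inv5_b54, inv5_b55, inv5_b56, inv5_b57, inv5_b58]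

theorem inv5 : allRange (invOK D 5) 0 122760 = true :=
  allRange_intro _ _ _ (fun c _ hc => inv5_all c (by omega))

theorem inv_ok : ∀ l, l < D.K → allRange (invOK D l) 0 D.n = true := by
  intro l hl
  have hK : D.K = 6 := rfl
  rw [hK] at hl
  interval_cases l
  exacts [inv0, inv1, inv2, inv3, inv4, inv5]

theorem ginv_b0 : allRange (fun c => Nat.blt (Q6 c) 122760 && Nat.beq (Q7 (Q6 c)) c && Nat.blt (Q7 c) 122760 && Nat.beq (Q6 (Q7 c)) c) (0 * 2048) 2048 = true := by decide +kernel
theorem ginv_b1 : allRange (fun c => Nat.blt (Q6 c) 122760 && Nat.beq (Q7 (Q6 c)) c && Nat.blt (Q7 c) 122760 && Nat.beq (Q6 (Q7 c)) c) (1 * 2048) 2048 = true := by decide +kernel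
theorem ginv_b2 : allRange (fun c => Nat.blt (Q6 c) 122760 && Nat.beq (Q7 (Q6 c)) c && Nat.blt (Q7 c) 122760 && Nat.beq (Q6 (Q7 c)) c) (2 * 2048) 2048 = true := by decide +kernel
theorem ginv_b3 : allRange (fun c => Nat.blt (Q6 c) 122760 && Nat.beq (Q7 (Q6 c)) c && Nat.blt (Q7 c) 122760 && Nat.beq (Q6 (Q7 c)) c) (3 * 2048) 2048 = true := by decide +kernel
theorem ginv_b4 : allRange (fun c => Nat.blt (Q6 c) 122760 && Nat.beq (Q7 (Q6 c)) c && Nat.blt (Q7 c) 122760 && Nat.beq (Q6 (Q7 c)) c) (4 * 2048) 2048 = true := by decide +kernel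
theorem ginv_b5 : allRange (fun c => Nat.blt (Q6 c) 122760 && Nat.beq (Q7 (Q6 c)) c && Nat.blt (Q7 c) 122760 && Nat.beq (Q6 (Q7 c)) c) (5 * 2048) 2048 = true := by decide +kernel
theorem ginv_b6 : allRange (fun c => Nat.blt (Q6 c) 122760 && Nat.beq (Q7 (Q6 c)) c && Nat.blt (Q7 c) 122760 && Nat.beq (Q6 (Q7 c)) c) (6 * 2048) 2048 = true := by decide +kernel
theorem ginv_b7 : allRange (fun c => Nat.blt (Q6 c) 122760 && Nat.beq (Q7 (Q6 c)) c && Nat.blt (Q7 c) 122760 && Nat.beq (Q6 (Q7 c)) c) (7 * 2048) 2048 = true := by decide +kernel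
theorem ginv_b8 : allRange (fun c => Nat.blt (Q6 c) 122760 && Nat.beq (Q7 (Q6 c)) c && Nat.blt (Q7 c) 122760 && Nat.beq (Q6 (Q7 c)) c) (8 * 2048) 2048 = true := by decide +kernel
theorem ginv_b9 : allRange (fun c => Nat.blt (Q6 c) 122760 && Nat.beq (Q7 (Q6 c)) c && Nat.blt (Q7 c) 122760 && Nat.beq (Q6 (Q7 c)) c) (9 * 2048) 2048 = true := by decide +kernel
theorem ginv_b10 : allRange (fun c => Nat.blt (Q6 c) 122760 && Nat.beq (Q7 (Q6 c)) c && Nat.blt (Q7 c) 122760 && Nat.beq (Q6 (Q7 c)) c) (10 * 2048) 2048 = true := by decide +kernel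
theorem ginv_b11 : allRange (fun c => Nat.blt (Q6 c) 122760 && Nat.beq (Q7 (Q6 c)) c && Nat.blt (Q7 c) 122760 && Nat.beq (Q6 (Q7 c)) c) (11 * 2048) 2048 = true := by decide +kernel
theorem ginv_b12 : allRange (fun c => Nat.blt (Q6 c) 122760 && Nat.beq (Q7 (Q6 c)) c && Nat.blt (Q7 c) 122760 && Nat.beq (Q6 (Q7 c)) c) (12 * 2048) 2048 = true := by decide +kernel
theorem ginv_b13 : allRange (fun c => Nat.blt (Q6 c) 122760 && Nat.beq (Q7 (Q6 c)) c && Nat.blt (Q7 c) 122760 && Nat.beq (Q6 (Q7 c)) c) (13 * 2048) 2048 = true := by decide +kernel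
theorem ginv_b14 : allRange (fun c => Nat.blt (Q6 c) 122760 && Nat.beq (Q7 (Q6 c)) c && Nat.blt (Q7 c) 122760 && Nat.beq (Q6 (Q7 c)) c) (14 * 2048) 2048 = true := by decide +kernel
theorem ginv_b15 : allRange (fun c => Nat.blt (Q6 c) 122760 && Nat.beq (Q7 (Q6 c)) c && Nat.blt (Q7 c) 122760 && Nat.beq (Q6 (Q7 c)) c) (15 * 2048) 2048 = true := by decide +kernel
theorem ginv_b16 : allRange (fun c => Nat.blt (Q6 c) 122760 && Nat.beq (Q7 (Q6 c)) c && Nat.blt (Q7 c) 122760 && Nat.beq (Q6 (Q7 c)) c) (16 * 2048) 2048 = true := by decide +kernel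
theorem ginv_b17 : allRange (fun c => Nat.blt (Q6 c) 122760 && Nat.beq (Q7 (Q6 c)) c && Nat.blt (Q7 c) 122760 && Nat.beq (Q6 (Q7 c)) c) (17 * 2048) 2048 = true := by decide +kernel
theorem ginv_b18 : allRange (fun c => Nat.blt (Q6 c) 122760 && Nat.beq (Q7 (Q6 c)) c && Nat.blt (Q7 c) 122760 && Nat.beq (Q6 (Q7 c)) c) (18 * 2048) 2048 = true := by decide +kernel
theorem ginv_b19 : allRange (fun c => Nat.blt (Q6 c) 122760 && Nat.beq (Q7 (Q6 c)) c && Nat.blt (Q7 c) 122760 && Nat.beq (Q6 (Q7 c)) c) (19 * 2048) 2048 = true := by decide +kernel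
theorem ginv_b20 : allRange (fun c => Nat.blt (Q6 c) 122760 && Nat.beq (Q7 (Q6 c)) c && Nat.blt (Q7 c) 122760 && Nat.beq (Q6 (Q7 c)) c) (20 * 2048) 2048 = true := by decide +kernel
theorem ginv_b21 : allRange (fun c => Nat.blt (Q6 c) 122760 && Nat.beq (Q7 (Q6 c)) c && Nat.blt (Q7 c) 122760 && Nat.beq (Q6 (Q7 c)) c) (21 * 2048) 2048 = true := by decide +kernel
theorem ginv_b22 : allRange (fun c => Nat.blt (Q6 c) 122760 && Nat.beq (Q7 (Q6 c)) c && Nat.blt (Q7 c) 122760 && Nat.beq (Q6 (Q7 c)) c) (22 * 2048) 2048 = true := by decide +kernel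
theorem ginv_b23 : allRange (fun c => Nat.blt (Q6 c) 122760 && Nat.beq (Q7 (Q6 c)) c && Nat.blt (Q7 c) 122760 && Nat.beq (Q6 (Q7 c)) c) (23 * 2048) 2048 = true := by decide +kernel
theorem ginv_b24 : allRange (fun c => Nat.blt (Q6 c) 122760 && Nat.beq (Q7 (Q6 c)) c && Nat.blt (Q7 c) 122760 && Nat.beq (Q6 (Q7 c)) c) (24 * 2048) 2048 = true := by decide +kernel
theorem ginv_b25 : allRange (fun c => Nat.blt (Q6 c) 122760 && Nat.beq (Q7 (Q6 c)) c && Nat.blt (Q7 c) 122760 && Nat.beq (Q6 (Q7 c)) c) (25 * 2048) 2048 = true := by decide +kernel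
theorem ginv_b26 : allRange (fun c => Nat.blt (Q6 c) 122760 && Nat.beq (Q7 (Q6 c)) c && Nat.blt (Q7 c) 122760 && Nat.beq (Q6 (Q7 c)) c) (26 * 2048) 2048 = true := by decide +kernel
theorem ginv_b27 : allRange (fun c => Nat.blt (Q6 c) 122760 && Nat.beq (Q7 (Q6 c)) c && Nat.blt (Q7 c) 122760 && Nat.beq (Q6 (Q7 c)) c) (27 * 2048) 2048 = true := by decide +kernel
theorem ginv_b28 : allRange (fun c => Nat.blt (Q6 c) 122760 && Nat.beq (Q7 (Q6 c)) c && Nat.blt (Q7 c) 122760 && Nat.beq (Q6 (Q7 c)) c) (28 * 2048) 2048 = true := by decide +kernel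
theorem ginv_b29 : allRange (fun c => Nat.blt (Q6 c) 122760 && Nat.beq (Q7 (Q6 c)) c && Nat.blt (Q7 c) 122760 && Nat.beq (Q6 (Q7 c)) c) (29 * 2048) 2048 = true := by decide +kernel
theorem ginv_b30 : allRange (fun c => Nat.blt (Q6 c) 122760 && Nat.beq (Q7 (Q6 c)) c && Nat.blt (Q7 c) 122760 && Nat.beq (Q6 (Q7 c)) c) (30 * 2048) 2048 = true := by decide +kernel
theorem ginv_b31 : allRange (fun c => Nat.blt (Q6 c) 122760 && Nat.beq (Q7 (Q6 c)) c && Nat.blt (Q7 c) 122760 && Nat.beq (Q6 (Q7 c)) c) (31 * 2048) 2048 = true := by decide +kernel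
theorem ginv_b32 : allRange (fun c => Nat.blt (Q6 c) 122760 && Nat.beq (Q7 (Q6 c)) c && Nat.blt (Q7 c) 122760 && Nat.beq (Q6 (Q7 c)) c) (32 * 2048) 2048 = true := by decide +kernel
theorem ginv_b33 : allRange (fun c => Nat.blt (Q6 c) 122760 && Nat.beq (Q7 (Q6 c)) c && Nat.blt (Q7 c) 122760 && Nat.beq (Q6 (Q7 c)) c) (33 * 2048) 2048 = true := by decide +kernel
theorem ginv_b34 : allRange (fun c => Nat.blt (Q6 c) 122760 && Nat.beq (Q7 (Q6 c)) c && Nat.blt (Q7 c) 122760 && Nat.beq (Q6 (Q7 c)) c) (34 * 2048) 2048 = true := by decide +kernel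
theorem ginv_b35 : allRange (fun c => Nat.blt (Q6 c) 122760 && Nat.beq (Q7 (Q6 c)) c && Nat.blt (Q7 c) 122760 && Nat.beq (Q6 (Q7 c)) c) (35 * 2048) 2048 = true := by decide +kernel
theorem ginv_b36 : allRange (fun c => Nat.blt (Q6 c) 122760 && Nat.beq (Q7 (Q6 c)) c && Nat.blt (Q7 c) 122760 && Nat.beq (Q6 (Q7 c)) c) (36 * 2048) 2048 = true := by decide +kernel
theorem ginv_b37 : allRange (fun c => Nat.blt (Q6 c) 122760 && Nat.beq (Q7 (Q6 c)) c && Nat.blt (Q7 c) 122760 && Nat.beq (Q6 (Q7 c)) c) (37 * 2048) 2048 = true := by decide +kernel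
theorem ginv_b38 : allRange (fun c => Nat.blt (Q6 c) 122760 && Nat.beq (Q7 (Q6 c)) c && Nat.blt (Q7 c) 122760 && Nat.beq (Q6 (Q7 c)) c) (38 * 2048) 2048 = true := by decide +kernel
theorem ginv_b39 : allRange (fun c => Nat.blt (Q6 c) 122760 && Nat.beq (Q7 (Q6 c)) c && Nat.blt (Q7 c) 122760 && Nat.beq (Q6 (Q7 c)) c) (39 * 2048) 2048 = true := by decide +kernel
theorem ginv_b40 : allRange (fun c => Nat.blt (Q6 c) 122760 && Nat.beq (Q7 (Q6 c)) c && Nat.blt (Q7 c) 122760 && Nat.beq (Q6 (Q7 c)) c) (40 * 2048) 2048 = true := by decide +kernel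
theorem ginv_b41 : allRange (fun c => Nat.blt (Q6 c) 122760 && Nat.beq (Q7 (Q6 c)) c && Nat.blt (Q7 c) 122760 && Nat.beq (Q6 (Q7 c)) c) (41 * 2048) 2048 = true := by decide +kernel
theorem ginv_b42 : allRange (fun c => Nat.blt (Q6 c) 122760 && Nat.beq (Q7 (Q6 c)) c && Nat.blt (Q7 c) 122760 && Nat.beq (Q6 (Q7 c)) c) (42 * 2048) 2048 = true := by decide +kernel
theorem ginv_b43 : allRange (fun c => Nat.blt (Q6 c) 122760 && Nat.beq (Q7 (Q6 c)) c && Nat.blt (Q7 c) 122760 && Nat.beq (Q6 (Q7 c)) c) (43 * 2048) 2048 = true := by decide +kernel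
theorem ginv_b44 : allRange (fun c => Nat.blt (Q6 c) 122760 && Nat.beq (Q7 (Q6 c)) c && Nat.blt (Q7 c) 122760 && Nat.beq (Q6 (Q7 c)) c) (44 * 2048) 2048 = true := by decide +kernel
theorem ginv_b45 : allRange (fun c => Nat.blt (Q6 c) 122760 && Nat.beq (Q7 (Q6 c)) c && Nat.blt (Q7 c) 122760 && Nat.beq (Q6 (Q7 c)) c) (45 * 2048) 2048 = true := by decide +kernel
theorem ginv_b46 : allRange (fun c => Nat.blt (Q6 c) 122760 && Nat.beq (Q7 (Q6 c)) c && Nat.blt (Q7 c) 122760 && Nat.beq (Q6 (Q7 c)) c) (46 * 2048) 2048 = true := by decide +kernel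
theorem ginv_b47 : allRange (fun c => Nat.blt (Q6 c) 122760 && Nat.beq (Q7 (Q6 c)) c && Nat.blt (Q7 c) 122760 && Nat.beq (Q6 (Q7 c)) c) (47 * 2048) 2048 = true := by decide +kernel
theorem ginv_b48 : allRange (fun c => Nat.blt (Q6 c) 122760 && Nat.beq (Q7 (Q6 c)) c && Nat.blt (Q7 c) 122760 && Nat.beq (Q6 (Q7 c)) c) (48 * 2048) 2048 = true := by decide +kernel
theorem ginv_b49 : allRange (fun c => Nat.blt (Q6 c) 122760 && Nat.beq (Q7 (Q6 c)) c && Nat.blt (Q7 c) 122760 && Nat.beq (Q6 (Q7 c)) c) (49 * 2048) 2048 = true := by decide +kernel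
theorem ginv_b50 : allRange (fun c => Nat.blt (Q6 c) 122760 && Nat.beq (Q7 (Q6 c)) c && Nat.blt (Q7 c) 122760 && Nat.beq (Q6 (Q7 c)) c) (50 * 2048) 2048 = true := by decide +kernel
theorem ginv_b51 : allRange (fun c => Nat.blt (Q6 c) 122760 && Nat.beq (Q7 (Q6 c)) c && Nat.blt (Q7 c) 122760 && Nat.beq (Q6 (Q7 c)) c) (51 * 2048) 2048 = true := by decide +kernel
theorem ginv_b52 : allRange (fun c => Nat.blt (Q6 c) 122760 && Nat.beq (Q7 (Q6 c)) c && Nat.blt (Q7 c) 122760 && Nat.beq (Q6 (Q7 c)) c) (52 * 2048) 2048 = true := by decide +kernel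
theorem ginv_b53 : allRange (fun c => Nat.blt (Q6 c) 122760 && Nat.beq (Q7 (Q6 c)) c && Nat.blt (Q7 c) 122760 && Nat.beq (Q6 (Q7 c)) c) (53 * 2048) 2048 = true := by decide +kernel
theorem ginv_b54 : allRange (fun c => Nat.blt (Q6 c) 122760 && Nat.beq (Q7 (Q6 c)) c && Nat.blt (Q7 c) 122760 && Nat.beq (Q6 (Q7 c)) c) (54 * 2048) 2048 = true := by decide +kernel
theorem ginv_b55 : allRange (fun c => Nat.blt (Q6 c) 122760 && Nat.beq (Q7 (Q6 c)) c && Nat.blt (Q7 c) 122760 && Nat.beq (Q6 (Q7 c)) c) (55 * 2048) 2048 = true := by decide +kernel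
theorem ginv_b56 : allRange (fun c => Nat.blt (Q6 c) 122760 && Nat.beq (Q7 (Q6 c)) c && Nat.blt (Q7 c) 122760 && Nat.beq (Q6 (Q7 c)) c) (56 * 2048) 2048 = true := by decide +kernel
theorem ginv_b57 : allRange (fun c => Nat.blt (Q6 c) 122760 && Nat.beq (Q7 (Q6 c)) c && Nat.blt (Q7 c) 122760 && Nat.beq (Q6 (Q7 c)) c) (57 * 2048) 2048 = true := by decide +kernel
theorem ginv_b58 : allRange (fun c => Nat.blt (Q6 c) 122760 && Nat.beq (Q7 (Q6 c)) c && Nat.blt (Q7 c) 122760 && Nat.beq (Q6 (Q7 c)) c) (58 * 2048) 2048 = true := by decide +kernel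
theorem ginv_t : allRange (fun c => Nat.blt (Q6 c) 122760 && Nat.beq (Q7 (Q6 c)) c && Nat.blt (Q7 c) 122760 && Nat.beq (Q6 (Q7 c)) c) (59 * 2048) 1928 = true := by decide +kernel
theorem ginv_all : ∀ c, c < 122760 → (fun c => Nat.blt (Q6 c) 122760 && Nat.beq (Q7 (Q6 c)) c && Nat.blt (Q7 c) 122760 && Nat.beq (Q6 (Q7 c)) c) c = true := by
  intro c hc
  refine allRange_blocks _ 2048 59 1928 (by norm_num) ?_ ginv_t c hc
  intro k hk
  interval_cases k
  exacts [ginv_b0, ginv_b1, ginv_b2, ginv_b3, ginv_b4, ginv_b5, ginv_b6, ginv_b7, ginv_b8, ginv_b9, ginv_b10, ginv_b11, ginv_b12, ginv_b13, ginv_b14, ginv_b15, ginv_b16, ginv_b17, ginv_b18, ginv_b19, ginv_b20, ginv_b21, ginv_b22, ginv_b23, ginv_b24, ginv_b25, ginv_b26, ginv_b27, ginv_b28, ginv_b29, ginv_b30, ginv_b31, ginv_b32, ginv_b33, ginv_b34, ginv_b35, ginv_b36, ginv_b37, ginv_b38, ginv_b39, ginv_b40, ginv_b41, ginv_b42, ginv_b43, ginv_b44, ginv_b45, ginv_b46, ginv_b47, ginv_b48, ginv_b49, ginv_b50, ginv_b51, ginv_b52, ginv_b53, ginv_b54, ginv_b55, ginv_b56, ginv_b57, ginv_b58]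

end Cfsg.Agent.Lib.helper35.Ona
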