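import Cfsg.Agent.Lib.helper35.CosetCert

/-!
Symmetric `3 × 3` matrices over the field with seven elements, coded as natural numbers in base 7
(entries `00, 01, 02, 11, 12, 22`), for kernel computations with the conics of the projective plane
of order 7: the matrix `A M Aᵀ`, proportionality, linear combinations; and the fact that a matrix
`E` of determinant 1 with `E S Eᵀ = μ S` for all symmetric `S` is a scalar matrix.
-/

set_option autoImplicit false
set_option maxRecDepth 100000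

namespace Cfsg.Agent.Lib.helper35.OnM

open Cfsg.Agent.Lib.helper35 Matrix

/-- the `3 × 3` matrices over the field with seven elements -/
abbrev M3 : Type := Matrix (Fin 3) (Fin 3) (ZMod 7)

/-- the symmetric matrix coded by a natural number -/
def ofS (v : ℕ) : M3 :=
  !![((v % 7 : ℕ) : ZMod 7), ((v / 7 % 7 : ℕ) : ZMod 7), ((v / 49 % 7 : ℕ) : ZMod 7);
     ((v / 7 % 7 : ℕ) : ZMod 7), ((v / 343 % 7 : ℕ) : ZMod 7), ((v / 2401 % 7 : ℕ) : ZMod 7);
     ((v / 49 % 7 : ℕ) : ZMod 7), ((v / 2401 % 7 : ℕ) : ZMod 7), ((v / 16807 % 7 : ℕ) : ZMod 7)]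

/-- the code of the symmetric matrix with the given entries -/
def pk (a b c d e f : ℕ) : ℕ :=
  a % 7 + 7 * (b % 7) + 49 * (c % 7) + 343 * (d % 7) + 2401 * (e % 7) + 16807 * (f % 7)

theorem cast_mod7 (a : ℕ) : ((a % 7 : ℕ) : ZMod 7) = (a : ZMod 7) := ZMod.natCast_mod a 7

theorem ofS_pk (a b c d e f : ℕ) :
    ofS (pk a b c d e f) = !![(a : ZMod 7), (b : ZMod 7), (c : ZMod 7);
      (b : ZMod 7), (d : ZMod 7), (e : ZMod 7); (c : ZMod 7), (e : ZMod 7), (f : ZMod 7)] := by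
  have h0 : pk a b c d e f % 7 = a % 7 := by unfold pk; omega
  have h1 : pk a b c d e f / 7 % 7 = b % 7 := by unfold pk; omega
  have h2 : pk a b c d e f / 49 % 7 = c % 7 := by unfold pk; omega
  have h3 : pk a b c d e f / 343 % 7 = d % 7 := by unfold pk; omega
  have h4 : pk a b c d e f / 2401 % 7 = e % 7 := by unfold pk; omega
  have h5 : pk a b c d e f / 16807 % 7 = f % 7 := by unfold pk; omega
  unfold ofS
  rw [h0, h1, h2, h3, h4, h5, cast_mod7, cast_mod7, cast_mod7, cast_mod7, cast_mod7, cast_mod7]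

/-- a matrix by its nine entries as natural numbers -/
structure N9 where
  a : ℕ
  b : ℕ
  c : ℕ
  d : ℕ
  e : ℕ
  f : ℕ
  g : ℕ
  h : ℕ
  i : ℕ

/-- the matrix over the field with seven elements -/
def ofN (A : N9) : M3 :=
  !![(A.a : ZMod 7), (A.b : ZMod 7), (A.c : ZMod 7); (A.d : ZMod 7), (A.e : ZMod 7), (A.f : ZMod 7);
     (A.g : ZMod 7), (A.h : ZMod 7), (A.i : ZMod 7)]

/-- the value of the symmetric bilinear form of `v` on two vectors -/
def bil (v u0 u1 u2 w0 w1 w2 : ℕ) : ℕ :=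
  u0 * (v % 7 * w0 + v / 7 % 7 * w1 + v / 49 % 7 * w2) +
    u1 * (v / 7 % 7 * w0 + v / 343 % 7 * w1 + v / 2401 % 7 * w2) +
    u2 * (v / 49 % 7 * w0 + v / 2401 % 7 * w1 + v / 16807 % 7 * w2)

/-- the code of `A M Aᵀ` -/
def conjN (A : N9) (v : ℕ) : ℕ :=
  pk (bil v A.a A.b A.c A.a A.b A.c) (bil v A.a A.b A.c A.d A.e A.f) (bil v A.a A.b A.c A.g A.h A.i)
    (bil v A.d A.e A.f A.d A.e A.f) (bil v A.d A.e A.f A.g A.h A.i) (bil v A.g A.h A.i A.g A.h A.i)

theorem ofS_conjN (A : N9) (v : ℕ) : ofS (conjN A v) = ofN A * ofS v * (ofN A)ᵀ := by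
  unfold conjN
  rw [ofS_pk]
  ext i j
  fin_cases i <;> fin_cases j <;>
    simp [ofN, ofS, bil, Matrix.mul_apply, Fin.sum_univ_three, Matrix.transpose_apply] <;> ring

/-- the code of `a M + b M'` -/
def lin2 (a v b w : ℕ) : ℕ :=
  pk (a * (v % 7) + b * (w % 7)) (a * (v / 7 % 7) + b * (w / 7 % 7))
    (a * (v / 49 % 7) + b * (w / 49 % 7)) (a * (v / 343 % 7) + b * (w / 343 % 7))
    (a * (v / 2401 % 7) + b * (w / 2401 % 7)) (a * (v / 16807 % 7) + b * (w / 16807 % 7))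

theorem ofS_lin2 (a v b w : ℕ) :
    ofS (lin2 a v b w) = (a : ZMod 7) • ofS v + (b : ZMod 7) • ofS w := by
  unfold lin2
  rw [ofS_pk]
  ext i j
  fin_cases i <;> fin_cases j <;> simp [ofS]

theorem ofS_zero : ofS 0 = 0 := by
  ext i j
  fin_cases i <;> fin_cases j <;> simp [ofS]

/-- `M = k M'` entrywise -/
def eqk (k v w : ℕ) : Bool :=
  Nat.beq (v % 7) (k * (w % 7) % 7) && Nat.beq (v / 7 % 7) (k * (w / 7 % 7) % 7) &&
    Nat.beq (v / 49 % 7) (k * (w / 49 % 7) % 7) && Nat.beq (v / 343 % 7) (k * (w / 343 % 7) % 7) &&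
    Nat.beq (v / 2401 % 7) (k * (w / 2401 % 7) % 7) &&
    Nat.beq (v / 16807 % 7) (k * (w / 16807 % 7) % 7)

theorem beq_iff (x k y : ℕ) : Nat.beq (x % 7) (k * (y % 7) % 7) = true ↔
    ((x % 7 : ℕ) : ZMod 7) = (k : ZMod 7) * ((y % 7 : ℕ) : ZMod 7) := by
  rw [nbeq_iff, ← Nat.cast_mul, ZMod.natCast_eq_natCast_iff', Nat.mod_mod]

theorem ofS_eq_smul_iff (μ : ZMod 7) (v w : ℕ) : ofS v = μ • ofS w ↔
    (((v % 7 : ℕ) : ZMod 7) = μ * ((w % 7 : ℕ) : ZMod 7) ∧
     ((v / 7 % 7 : ℕ) : ZMod 7) = μ * ((w / 7 % 7 : ℕ) : ZMod 7) ∧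
     ((v / 49 % 7 : ℕ) : ZMod 7) = μ * ((w / 49 % 7 : ℕ) : ZMod 7) ∧
     ((v / 343 % 7 : ℕ) : ZMod 7) = μ * ((w / 343 % 7 : ℕ) : ZMod 7) ∧
     ((v / 2401 % 7 : ℕ) : ZMod 7) = μ * ((w / 2401 % 7 : ℕ) : ZMod 7) ∧
     ((v / 16807 % 7 : ℕ) : ZMod 7) = μ * ((w / 16807 % 7 : ℕ) : ZMod 7)) := by
  constructor
  · intro h
    have h00 := congrFun (congrFun h 0) 0
    have h01 := congrFun (congrFun h 0) 1
    have h02 := congrFun (congrFun h 0) 2
    have h11 := congrFun (congrFun h 1) 1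
    have h12 := congrFun (congrFun h 1) 2
    have h22 := congrFun (congrFun h 2) 2
    simp only [ofS, Matrix.smul_apply, smul_eq_mul, Matrix.of_apply, Matrix.cons_val_zero,
      Matrix.cons_val_one, Matrix.cons_val] at h00 h01 h02 h11 h12 h22
    exact ⟨h00, h01, h02, h11, h12, h22⟩
  · rintro ⟨h00, h01, h02, h11, h12, h22⟩
    ext i j
    fin_cases i <;> fin_cases j <;> simp [ofS, h00, h01, h02, h11, h12, h22]

theorem eqk_iff (k v w : ℕ) : eqk k v w = true ↔ ofS v = (k : ZMod 7) • ofS w := by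
  rw [ofS_eq_smul_iff]
  unfold eqk
  simp only [Bool.and_eq_true, beq_iff, and_assoc]

/-- the matrices are proportional -/
def peC (v w : ℕ) : Bool :=
  eqk 1 v w || eqk 2 v w || eqk 3 v w || eqk 4 v w || eqk 5 v w || eqk 6 v w

theorem peC_spec {v w : ℕ} (h : peC v w = true) : ∃ μ : ZMod 7, μ ≠ 0 ∧ ofS v = μ • ofS w := by
  unfold peC at h
  simp only [Bool.or_eq_true, eqk_iff] at h
  rcases h with ((((h | h) | h) | h) | h) | h
  · exact ⟨((1 : ℕ) : ZMod 7), by decide, h⟩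
  · exact ⟨((2 : ℕ) : ZMod 7), by decide, h⟩
  · exact ⟨((3 : ℕ) : ZMod 7), by decide, h⟩
  · exact ⟨((4 : ℕ) : ZMod 7), by decide, h⟩
  · exact ⟨((5 : ℕ) : ZMod 7), by decide, h⟩
  · exact ⟨((6 : ℕ) : ZMod 7), by decide, h⟩

theorem peC_of_smul {v w : ℕ} (μ : ZMod 7) (hμ : μ ≠ 0) (h : ofS v = μ • ofS w) :
    peC v w = true := by
  have hv : ((μ.val : ℕ) : ZMod 7) = μ := ZMod.natCast_zmod_val μ
  have hlt : μ.val < 7 := ZMod.val_lt μ
  have hne : μ.val ≠ 0 := by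
    intro h0
    rw [h0] at hv
    exact hμ (by rw [← hv]; rfl)
  rw [← hv] at h
  have hk := (eqk_iff μ.val v w).2 h
  generalize μ.val = k at hk hlt hne
  unfold peC
  interval_cases k
  · exact absurd rfl hne
  all_goals simp [hk]

/-- a matrix of determinant 1 that multiplies every symmetric matrix by a fixed factor is scalar -/
theorem scalar_of_basis (E : M3) (μ : ZMod 7) (hdet : E.det = 1)
    (h0 : E * ofS 1 * Eᵀ = μ • ofS 1) (h1 : E * ofS 7 * Eᵀ = μ • ofS 7)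
    (h2 : E * ofS 49 * Eᵀ = μ • ofS 49) (h3 : E * ofS 343 * Eᵀ = μ • ofS 343)
    (h5 : E * ofS 16807 * Eᵀ = μ • ofS 16807) :
    ∃ r : ZMod 7, r ^ 3 = 1 ∧ Matrix.scalar (Fin 3) r = E := by
  have e0 : ofS 1 = !![1, 0, 0; 0, 0, 0; 0, 0, 0] := by decide
  have e1 : ofS 7 = !![0, 1, 0; 1, 0, 0; 0, 0, 0] := by decide
  have e2 : ofS 49 = !![0, 0, 1; 0, 0, 0; 1, 0, 0] := by decide
  have e3 : ofS 343 = !![0, 0, 0; 0, 1, 0; 0, 0, 0] := by decide
  have e5 : ofS 16807 = !![0, 0, 0; 0, 0, 0; 0, 0, 1] := by decide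
  rw [e0] at h0
  rw [e1] at h1
  rw [e2] at h2
  rw [e3] at h3
  rw [e5] at h5
  have a10 := congrFun (congrFun h0 1) 1
  have a20 := congrFun (congrFun h0 2) 2
  have a00 := congrFun (congrFun h0 0) 0
  have a01 := congrFun (congrFun h3 0) 0
  have a21 := congrFun (congrFun h3 2) 2
  have a11 := congrFun (congrFun h3 1) 1
  have a02 := congrFun (congrFun h5 0) 0
  have a12 := congrFun (congrFun h5 1) 1
  have a22 := congrFun (congrFun h5 2) 2
  have b01 := congrFun (congrFun h1 0) 1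
  have b02 := congrFun (congrFun h2 0) 2
  simp [Matrix.mul_apply, Fin.sum_univ_three, Matrix.transpose_apply] at a10 a20 a00 a01 a21 a11 a02 a12 a22
  simp [Matrix.mul_apply, Fin.sum_univ_three, Matrix.transpose_apply] at b01 b02
  have hp7 : Fact (Nat.Prime 7) := ⟨by norm_num⟩
  have z10 : E 1 0 = 0 := mul_self_eq_zero.1 a10
  have z20 : E 2 0 = 0 := mul_self_eq_zero.1 a20
  have z01 : E 0 1 = 0 := mul_self_eq_zero.1 a01
  have z21 : E 2 1 = 0 := mul_self_eq_zero.1 a21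
  have z02 : E 0 2 = 0 := mul_self_eq_zero.1 a02
  have z12 : E 1 2 = 0 := mul_self_eq_zero.1 a12
  rw [z01, zero_mul, zero_add] at b01
  rw [z02, zero_mul, zero_add] at b02
  have hd : E 0 0 * E 1 1 * E 2 2 = 1 := by
    rw [Matrix.det_fin_three] at hdet
    rw [z10, z20, z01, z21, z02, z12] at hdet
    rw [← hdet]
    ring
  have hne : E 0 0 ≠ 0 := by
    intro hz
    rw [hz, zero_mul, zero_mul] at hd
    exact zero_ne_one hd
  have h11 : E 1 1 = E 0 0 := by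
    have : E 0 0 * E 1 1 = E 0 0 * E 0 0 := by rw [b01, a00]
    exact mul_left_cancel₀ hne this
  have h22 : E 2 2 = E 0 0 := by
    have : E 0 0 * E 2 2 = E 0 0 * E 0 0 := by rw [b02, a00]
    exact mul_left_cancel₀ hne this
  refine ⟨E 0 0, ?_, ?_⟩
  · rw [h11, h22] at hd
    rw [← hd]
    ring
  · ext i j
    fin_cases i <;> fin_cases j <;>
      simp [Matrix.scalar_apply, Matrix.diagonal, z10, z20, z01, z21, z02, z12, h11, h22]

/-- a check for the seven residues -/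
def all7 (f : ℕ → Bool) : Bool := f 0 && f 1 && f 2 && f 3 && f 4 && f 5 && f 6

theorem all7_spec {f : ℕ → Bool} (h : all7 f = true) : ∀ k, k < 7 → f k = true := by
  unfold all7 at h
  simp only [Bool.and_eq_true] at h
  obtain ⟨⟨⟨⟨⟨⟨h0, h1⟩, h2⟩, h3⟩, h4⟩, h5⟩, h6⟩ := h
  intro k hk
  interval_cases k
  exacts [h0, h1, h2, h3, h4, h5, h6]

/-- if a linear map multiplies `M`, `M'` and `a M + b M'` by factors, the three factors agree -/
def linkB (v v' a b : ℕ) : Bool :=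
  all7 fun μ => all7 fun ν => all7 fun κ =>
    !(eqk 1 (lin2 (a * μ) v (b * ν) v') (lin2 (κ * a) v (κ * b) v')) || (Nat.beq μ κ && Nat.beq ν κ)

end Cfsg.Agent.Lib.helper35.OnM
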