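import Cfsg.Agent.Lib.helper35.OnData
import Cfsg.Agent.Lib.helper35.OnBlk

/-!
Relators of the presented O'Nan group act trivially on the 122760 points (part 1).
-/

set_option autoImplicit false
set_option maxRecDepth 100000
set_option Elab.async false

namespace Cfsg.Agent.Lib.helper35.Ona

open Cfsg.Agent.Lib.helper35

theorem chk_e4_b0 : allRange (fun c => Nat.beq (Q1 (Q2 (Q3 (Q6 (Q1 (Q2 (Q3 (Q6 (Q1 (Q2 (Q3 (Q6 (Q1 (Q2 (Q3 (Q6 (Q1 (Q2 (Q3 (Q6 c)))))))))))))))))))) c) (0 * 2048) 2048 = true := by decide +kernel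
theorem chk_e4_b1 : allRange (fun c => Nat.beq (Q1 (Q2 (Q3 (Q6 (Q1 (Q2 (Q3 (Q6 (Q1 (Q2 (Q3 (Q6 (Q1 (Q2 (Q3 (Q6 (Q1 (Q2 (Q3 (Q6 c)))))))))))))))))))) c) (1 * 2048) 2048 = true := by decide +kernel
theorem chk_e4_b2 : allRange (fun c => Nat.beq (Q1 (Q2 (Q3 (Q6 (Q1 (Q2 (Q3 (Q6 (Q1 (Q2 (Q3 (Q6 (Q1 (Q2 (Q3 (Q6 (Q1 (Q2 (Q3 (Q6 c)))))))))))))))))))) c) (2 * 2048) 2048 = true := by decide +kernel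
theorem chk_e4_b3 : allRange (fun c => Nat.beq (Q1 (Q2 (Q3 (Q6 (Q1 (Q2 (Q3 (Q6 (Q1 (Q2 (Q3 (Q6 (Q1 (Q2 (Q3 (Q6 (Q1 (Q2 (Q3 (Q6 c)))))))))))))))))))) c) (3 * 2048) 2048 = true := by decide +kernel
theorem chk_e4_b4 : allRange (fun c => Nat.beq (Q1 (Q2 (Q3 (Q6 (Q1 (Q2 (Q3 (Q6 (Q1 (Q2 (Q3 (Q6 (Q1 (Q2 (Q3 (Q6 (Q1 (Q2 (Q3 (Q6 c)))))))))))))))))))) c) (4 * 2048) 2048 = true := by decide +kernel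
theorem chk_e4_b5 : allRange (fun c => Nat.beq (Q1 (Q2 (Q3 (Q6 (Q1 (Q2 (Q3 (Q6 (Q1 (Q2 (Q3 (Q6 (Q1 (Q2 (Q3 (Q6 (Q1 (Q2 (Q3 (Q6 c)))))))))))))))))))) c) (5 * 2048) 2048 = true := by decide +kernel
theorem chk_e4_b6 : allRange (fun c => Nat.beq (Q1 (Q2 (Q3 (Q6 (Q1 (Q2 (Q3 (Q6 (Q1 (Q2 (Q3 (Q6 (Q1 (Q2 (Q3 (Q6 (Q1 (Q2 (Q3 (Q6 c)))))))))))))))))))) c) (6 * 2048) 2048 = true := by decide +kernel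
theorem chk_e4_b7 : allRange (fun c => Nat.beq (Q1 (Q2 (Q3 (Q6 (Q1 (Q2 (Q3 (Q6 (Q1 (Q2 (Q3 (Q6 (Q1 (Q2 (Q3 (Q6 (Q1 (Q2 (Q3 (Q6 c)))))))))))))))))))) c) (7 * 2048) 2048 = true := by decide +kernel
theorem chk_e4_b8 : allRange (fun c => Nat.beq (Q1 (Q2 (Q3 (Q6 (Q1 (Q2 (Q3 (Q6 (Q1 (Q2 (Q3 (Q6 (Q1 (Q2 (Q3 (Q6 (Q1 (Q2 (Q3 (Q6 c)))))))))))))))))))) c) (8 * 2048) 2048 = true := by decide +kernel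
theorem chk_e4_b9 : allRange (fun c => Nat.beq (Q1 (Q2 (Q3 (Q6 (Q1 (Q2 (Q3 (Q6 (Q1 (Q2 (Q3 (Q6 (Q1 (Q2 (Q3 (Q6 (Q1 (Q2 (Q3 (Q6 c)))))))))))))))))))) c) (9 * 2048) 2048 = true := by decide +kernel
theorem chk_e4_b10 : allRange (fun c => Nat.beq (Q1 (Q2 (Q3 (Q6 (Q1 (Q2 (Q3 (Q6 (Q1 (Q2 (Q3 (Q6 (Q1 (Q2 (Q3 (Q6 (Q1 (Q2 (Q3 (Q6 c)))))))))))))))))))) c) (10 * 2048) 2048 = true := by decide +kernel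
theorem chk_e4_b11 : allRange (fun c => Nat.beq (Q1 (Q2 (Q3 (Q6 (Q1 (Q2 (Q3 (Q6 (Q1 (Q2 (Q3 (Q6 (Q1 (Q2 (Q3 (Q6 (Q1 (Q2 (Q3 (Q6 c)))))))))))))))))))) c) (11 * 2048) 2048 = true := by decide +kernel
theorem chk_e4_b12 : allRange (fun c => Nat.beq (Q1 (Q2 (Q3 (Q6 (Q1 (Q2 (Q3 (Q6 (Q1 (Q2 (Q3 (Q6 (Q1 (Q2 (Q3 (Q6 (Q1 (Q2 (Q3 (Q6 c)))))))))))))))))))) c) (12 * 2048) 2048 = true := by decide +kernel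
theorem chk_e4_b13 : allRange (fun c => Nat.beq (Q1 (Q2 (Q3 (Q6 (Q1 (Q2 (Q3 (Q6 (Q1 (Q2 (Q3 (Q6 (Q1 (Q2 (Q3 (Q6 (Q1 (Q2 (Q3 (Q6 c)))))))))))))))))))) c) (13 * 2048) 2048 = true := by decide +kernel
theorem chk_e4_b14 : allRange (fun c => Nat.beq (Q1 (Q2 (Q3 (Q6 (Q1 (Q2 (Q3 (Q6 (Q1 (Q2 (Q3 (Q6 (Q1 (Q2 (Q3 (Q6 (Q1 (Q2 (Q3 (Q6 c)))))))))))))))))))) c) (14 * 2048) 2048 = true := by decide +kernel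
theorem chk_e4_b15 : allRange (fun c => Nat.beq (Q1 (Q2 (Q3 (Q6 (Q1 (Q2 (Q3 (Q6 (Q1 (Q2 (Q3 (Q6 (Q1 (Q2 (Q3 (Q6 (Q1 (Q2 (Q3 (Q6 c)))))))))))))))))))) c) (15 * 2048) 2048 = true := by decide +kernel
theorem chk_e4_b16 : allRange (fun c => Nat.beq (Q1 (Q2 (Q3 (Q6 (Q1 (Q2 (Q3 (Q6 (Q1 (Q2 (Q3 (Q6 (Q1 (Q2 (Q3 (Q6 (Q1 (Q2 (Q3 (Q6 c)))))))))))))))))))) c) (16 * 2048) 2048 = true := by decide +kernel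
theorem chk_e4_b17 : allRange (fun c => Nat.beq (Q1 (Q2 (Q3 (Q6 (Q1 (Q2 (Q3 (Q6 (Q1 (Q2 (Q3 (Q6 (Q1 (Q2 (Q3 (Q6 (Q1 (Q2 (Q3 (Q6 c)))))))))))))))))))) c) (17 * 2048) 2048 = true := by decide +kernel
theorem chk_e4_b18 : allRange (fun c => Nat.beq (Q1 (Q2 (Q3 (Q6 (Q1 (Q2 (Q3 (Q6 (Q1 (Q2 (Q3 (Q6 (Q1 (Q2 (Q3 (Q6 (Q1 (Q2 (Q3 (Q6 c)))))))))))))))))))) c) (18 * 2048) 2048 = true := by decide +kernel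
theorem chk_e4_b19 : allRange (fun c => Nat.beq (Q1 (Q2 (Q3 (Q6 (Q1 (Q2 (Q3 (Q6 (Q1 (Q2 (Q3 (Q6 (Q1 (Q2 (Q3 (Q6 (Q1 (Q2 (Q3 (Q6 c)))))))))))))))))))) c) (19 * 2048) 2048 = true := by decide +kernel
theorem chk_e4_b20 : allRange (fun c => Nat.beq (Q1 (Q2 (Q3 (Q6 (Q1 (Q2 (Q3 (Q6 (Q1 (Q2 (Q3 (Q6 (Q1 (Q2 (Q3 (Q6 (Q1 (Q2 (Q3 (Q6 c)))))))))))))))))))) c) (20 * 2048) 2048 = true := by decide +kernel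
theorem chk_e4_b21 : allRange (fun c => Nat.beq (Q1 (Q2 (Q3 (Q6 (Q1 (Q2 (Q3 (Q6 (Q1 (Q2 (Q3 (Q6 (Q1 (Q2 (Q3 (Q6 (Q1 (Q2 (Q3 (Q6 c)))))))))))))))))))) c) (21 * 2048) 2048 = true := by decide +kernel
theorem chk_e4_b22 : allRange (fun c => Nat.beq (Q1 (Q2 (Q3 (Q6 (Q1 (Q2 (Q3 (Q6 (Q1 (Q2 (Q3 (Q6 (Q1 (Q2 (Q3 (Q6 (Q1 (Q2 (Q3 (Q6 c)))))))))))))))))))) c) (22 * 2048) 2048 = true := by decide +kernel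
theorem chk_e4_b23 : allRange (fun c => Nat.beq (Q1 (Q2 (Q3 (Q6 (Q1 (Q2 (Q3 (Q6 (Q1 (Q2 (Q3 (Q6 (Q1 (Q2 (Q3 (Q6 (Q1 (Q2 (Q3 (Q6 c)))))))))))))))))))) c) (23 * 2048) 2048 = true := by decide +kernel
theorem chk_e4_b24 : allRange (fun c => Nat.beq (Q1 (Q2 (Q3 (Q6 (Q1 (Q2 (Q3 (Q6 (Q1 (Q2 (Q3 (Q6 (Q1 (Q2 (Q3 (Q6 (Q1 (Q2 (Q3 (Q6 c)))))))))))))))))))) c) (24 * 2048) 2048 = true := by decide +kernel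
theorem chk_e4_b25 : allRange (fun c => Nat.beq (Q1 (Q2 (Q3 (Q6 (Q1 (Q2 (Q3 (Q6 (Q1 (Q2 (Q3 (Q6 (Q1 (Q2 (Q3 (Q6 (Q1 (Q2 (Q3 (Q6 c)))))))))))))))))))) c) (25 * 2048) 2048 = true := by decide +kernel
theorem chk_e4_b26 : allRange (fun c => Nat.beq (Q1 (Q2 (Q3 (Q6 (Q1 (Q2 (Q3 (Q6 (Q1 (Q2 (Q3 (Q6 (Q1 (Q2 (Q3 (Q6 (Q1 (Q2 (Q3 (Q6 c)))))))))))))))))))) c) (26 * 2048) 2048 = true := by decide +kernel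
theorem chk_e4_b27 : allRange (fun c => Nat.beq (Q1 (Q2 (Q3 (Q6 (Q1 (Q2 (Q3 (Q6 (Q1 (Q2 (Q3 (Q6 (Q1 (Q2 (Q3 (Q6 (Q1 (Q2 (Q3 (Q6 c)))))))))))))))))))) c) (27 * 2048) 2048 = true := by decide +kernel
theorem chk_e4_b28 : allRange (fun c => Nat.beq (Q1 (Q2 (Q3 (Q6 (Q1 (Q2 (Q3 (Q6 (Q1 (Q2 (Q3 (Q6 (Q1 (Q2 (Q3 (Q6 (Q1 (Q2 (Q3 (Q6 c)))))))))))))))))))) c) (28 * 2048) 2048 = true := by decide +kernel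
theorem chk_e4_b29 : allRange (fun c => Nat.beq (Q1 (Q2 (Q3 (Q6 (Q1 (Q2 (Q3 (Q6 (Q1 (Q2 (Q3 (Q6 (Q1 (Q2 (Q3 (Q6 (Q1 (Q2 (Q3 (Q6 c)))))))))))))))))))) c) (29 * 2048) 2048 = true := by decide +kernel
theorem chk_e4_b30 : allRange (fun c => Nat.beq (Q1 (Q2 (Q3 (Q6 (Q1 (Q2 (Q3 (Q6 (Q1 (Q2 (Q3 (Q6 (Q1 (Q2 (Q3 (Q6 (Q1 (Q2 (Q3 (Q6 c)))))))))))))))))))) c) (30 * 2048) 2048 = true := by decide +kernel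
theorem chk_e4_b31 : allRange (fun c => Nat.beq (Q1 (Q2 (Q3 (Q6 (Q1 (Q2 (Q3 (Q6 (Q1 (Q2 (Q3 (Q6 (Q1 (Q2 (Q3 (Q6 (Q1 (Q2 (Q3 (Q6 c)))))))))))))))))))) c) (31 * 2048) 2048 = true := by decide +kernel
theorem chk_e4_b32 : allRange (fun c => Nat.beq (Q1 (Q2 (Q3 (Q6 (Q1 (Q2 (Q3 (Q6 (Q1 (Q2 (Q3 (Q6 (Q1 (Q2 (Q3 (Q6 (Q1 (Q2 (Q3 (Q6 c)))))))))))))))))))) c) (32 * 2048) 2048 = true := by decide +kernel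
theorem chk_e4_b33 : allRange (fun c => Nat.beq (Q1 (Q2 (Q3 (Q6 (Q1 (Q2 (Q3 (Q6 (Q1 (Q2 (Q3 (Q6 (Q1 (Q2 (Q3 (Q6 (Q1 (Q2 (Q3 (Q6 c)))))))))))))))))))) c) (33 * 2048) 2048 = true := by decide +kernel
theorem chk_e4_b34 : allRange (fun c => Nat.beq (Q1 (Q2 (Q3 (Q6 (Q1 (Q2 (Q3 (Q6 (Q1 (Q2 (Q3 (Q6 (Q1 (Q2 (Q3 (Q6 (Q1 (Q2 (Q3 (Q6 c)))))))))))))))))))) c) (34 * 2048) 2048 = true := by decide +kernel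
theorem chk_e4_b35 : allRange (fun c => Nat.beq (Q1 (Q2 (Q3 (Q6 (Q1 (Q2 (Q3 (Q6 (Q1 (Q2 (Q3 (Q6 (Q1 (Q2 (Q3 (Q6 (Q1 (Q2 (Q3 (Q6 c)))))))))))))))))))) c) (35 * 2048) 2048 = true := by decide +kernel
theorem chk_e4_b36 : allRange (fun c => Nat.beq (Q1 (Q2 (Q3 (Q6 (Q1 (Q2 (Q3 (Q6 (Q1 (Q2 (Q3 (Q6 (Q1 (Q2 (Q3 (Q6 (Q1 (Q2 (Q3 (Q6 c)))))))))))))))))))) c) (36 * 2048) 2048 = true := by decide +kernel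
theorem chk_e4_b37 : allRange (fun c => Nat.beq (Q1 (Q2 (Q3 (Q6 (Q1 (Q2 (Q3 (Q6 (Q1 (Q2 (Q3 (Q6 (Q1 (Q2 (Q3 (Q6 (Q1 (Q2 (Q3 (Q6 c)))))))))))))))))))) c) (37 * 2048) 2048 = true := by decide +kernel
theorem chk_e4_b38 : allRange (fun c => Nat.beq (Q1 (Q2 (Q3 (Q6 (Q1 (Q2 (Q3 (Q6 (Q1 (Q2 (Q3 (Q6 (Q1 (Q2 (Q3 (Q6 (Q1 (Q2 (Q3 (Q6 c)))))))))))))))))))) c) (38 * 2048) 2048 = true := by decide +kernel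
theorem chk_e4_b39 : allRange (fun c => Nat.beq (Q1 (Q2 (Q3 (Q6 (Q1 (Q2 (Q3 (Q6 (Q1 (Q2 (Q3 (Q6 (Q1 (Q2 (Q3 (Q6 (Q1 (Q2 (Q3 (Q6 c)))))))))))))))))))) c) (39 * 2048) 2048 = true := by decide +kernel
theorem chk_e4_b40 : allRange (fun c => Nat.beq (Q1 (Q2 (Q3 (Q6 (Q1 (Q2 (Q3 (Q6 (Q1 (Q2 (Q3 (Q6 (Q1 (Q2 (Q3 (Q6 (Q1 (Q2 (Q3 (Q6 c)))))))))))))))))))) c) (40 * 2048) 2048 = true := by decide +kernel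
theorem chk_e4_b41 : allRange (fun c => Nat.beq (Q1 (Q2 (Q3 (Q6 (Q1 (Q2 (Q3 (Q6 (Q1 (Q2 (Q3 (Q6 (Q1 (Q2 (Q3 (Q6 (Q1 (Q2 (Q3 (Q6 c)))))))))))))))))))) c) (41 * 2048) 2048 = true := by decide +kernel
theorem chk_e4_b42 : allRange (fun c => Nat.beq (Q1 (Q2 (Q3 (Q6 (Q1 (Q2 (Q3 (Q6 (Q1 (Q2 (Q3 (Q6 (Q1 (Q2 (Q3 (Q6 (Q1 (Q2 (Q3 (Q6 c)))))))))))))))))))) c) (42 * 2048) 2048 = true := by decide +kernel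
theorem chk_e4_b43 : allRange (fun c => Nat.beq (Q1 (Q2 (Q3 (Q6 (Q1 (Q2 (Q3 (Q6 (Q1 (Q2 (Q3 (Q6 (Q1 (Q2 (Q3 (Q6 (Q1 (Q2 (Q3 (Q6 c)))))))))))))))))))) c) (43 * 2048) 2048 = true := by decide +kernel
theorem chk_e4_b44 : allRange (fun c => Nat.beq (Q1 (Q2 (Q3 (Q6 (Q1 (Q2 (Q3 (Q6 (Q1 (Q2 (Q3 (Q6 (Q1 (Q2 (Q3 (Q6 (Q1 (Q2 (Q3 (Q6 c)))))))))))))))))))) c) (44 * 2048) 2048 = true := by decide +kernel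
theorem chk_e4_b45 : allRange (fun c => Nat.beq (Q1 (Q2 (Q3 (Q6 (Q1 (Q2 (Q3 (Q6 (Q1 (Q2 (Q3 (Q6 (Q1 (Q2 (Q3 (Q6 (Q1 (Q2 (Q3 (Q6 c)))))))))))))))))))) c) (45 * 2048) 2048 = true := by decide +kernel
theorem chk_e4_b46 : allRange (fun c => Nat.beq (Q1 (Q2 (Q3 (Q6 (Q1 (Q2 (Q3 (Q6 (Q1 (Q2 (Q3 (Q6 (Q1 (Q2 (Q3 (Q6 (Q1 (Q2 (Q3 (Q6 c)))))))))))))))))))) c) (46 * 2048) 2048 = true := by decide +kernel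
theorem chk_e4_b47 : allRange (fun c => Nat.beq (Q1 (Q2 (Q3 (Q6 (Q1 (Q2 (Q3 (Q6 (Q1 (Q2 (Q3 (Q6 (Q1 (Q2 (Q3 (Q6 (Q1 (Q2 (Q3 (Q6 c)))))))))))))))))))) c) (47 * 2048) 2048 = true := by decide +kernel
theorem chk_e4_b48 : allRange (fun c => Nat.beq (Q1 (Q2 (Q3 (Q6 (Q1 (Q2 (Q3 (Q6 (Q1 (Q2 (Q3 (Q6 (Q1 (Q2 (Q3 (Q6 (Q1 (Q2 (Q3 (Q6 c)))))))))))))))))))) c) (48 * 2048) 2048 = true := by decide +kernel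
theorem chk_e4_b49 : allRange (fun c => Nat.beq (Q1 (Q2 (Q3 (Q6 (Q1 (Q2 (Q3 (Q6 (Q1 (Q2 (Q3 (Q6 (Q1 (Q2 (Q3 (Q6 (Q1 (Q2 (Q3 (Q6 c)))))))))))))))))))) c) (49 * 2048) 2048 = true := by decide +kernel
theorem chk_e4_b50 : allRange (fun c => Nat.beq (Q1 (Q2 (Q3 (Q6 (Q1 (Q2 (Q3 (Q6 (Q1 (Q2 (Q3 (Q6 (Q1 (Q2 (Q3 (Q6 (Q1 (Q2 (Q3 (Q6 c)))))))))))))))))))) c) (50 * 2048) 2048 = true := by decide +kernel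
theorem chk_e4_b51 : allRange (fun c => Nat.beq (Q1 (Q2 (Q3 (Q6 (Q1 (Q2 (Q3 (Q6 (Q1 (Q2 (Q3 (Q6 (Q1 (Q2 (Q3 (Q6 (Q1 (Q2 (Q3 (Q6 c)))))))))))))))))))) c) (51 * 2048) 2048 = true := by decide +kernel
theorem chk_e4_b52 : allRange (fun c => Nat.beq (Q1 (Q2 (Q3 (Q6 (Q1 (Q2 (Q3 (Q6 (Q1 (Q2 (Q3 (Q6 (Q1 (Q2 (Q3 (Q6 (Q1 (Q2 (Q3 (Q6 c)))))))))))))))))))) c) (52 * 2048) 2048 = true := by decide +kernel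
theorem chk_e4_b53 : allRange (fun c => Nat.beq (Q1 (Q2 (Q3 (Q6 (Q1 (Q2 (Q3 (Q6 (Q1 (Q2 (Q3 (Q6 (Q1 (Q2 (Q3 (Q6 (Q1 (Q2 (Q3 (Q6 c)))))))))))))))))))) c) (53 * 2048) 2048 = true := by decide +kernel
theorem chk_e4_b54 : allRange (fun c => Nat.beq (Q1 (Q2 (Q3 (Q6 (Q1 (Q2 (Q3 (Q6 (Q1 (Q2 (Q3 (Q6 (Q1 (Q2 (Q3 (Q6 (Q1 (Q2 (Q3 (Q6 c)))))))))))))))))))) c) (54 * 2048) 2048 = true := by decide +kernel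
theorem chk_e4_b55 : allRange (fun c => Nat.beq (Q1 (Q2 (Q3 (Q6 (Q1 (Q2 (Q3 (Q6 (Q1 (Q2 (Q3 (Q6 (Q1 (Q2 (Q3 (Q6 (Q1 (Q2 (Q3 (Q6 c)))))))))))))))))))) c) (55 * 2048) 2048 = true := by decide +kernel
theorem chk_e4_b56 : allRange (fun c => Nat.beq (Q1 (Q2 (Q3 (Q6 (Q1 (Q2 (Q3 (Q6 (Q1 (Q2 (Q3 (Q6 (Q1 (Q2 (Q3 (Q6 (Q1 (Q2 (Q3 (Q6 c)))))))))))))))))))) c) (56 * 2048) 2048 = true := by decide +kernel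
theorem chk_e4_b57 : allRange (fun c => Nat.beq (Q1 (Q2 (Q3 (Q6 (Q1 (Q2 (Q3 (Q6 (Q1 (Q2 (Q3 (Q6 (Q1 (Q2 (Q3 (Q6 (Q1 (Q2 (Q3 (Q6 c)))))))))))))))))))) c) (57 * 2048) 2048 = true := by decide +kernel
theorem chk_e4_b58 : allRange (fun c => Nat.beq (Q1 (Q2 (Q3 (Q6 (Q1 (Q2 (Q3 (Q6 (Q1 (Q2 (Q3 (Q6 (Q1 (Q2 (Q3 (Q6 (Q1 (Q2 (Q3 (Q6 c)))))))))))))))))))) c) (58 * 2048) 2048 = true := by decide +kernel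
theorem chk_e4_t : allRange (fun c => Nat.beq (Q1 (Q2 (Q3 (Q6 (Q1 (Q2 (Q3 (Q6 (Q1 (Q2 (Q3 (Q6 (Q1 (Q2 (Q3 (Q6 (Q1 (Q2 (Q3 (Q6 c)))))))))))))))))))) c) (59 * 2048) 1928 = true := by decide +kernel
theorem chk_e4_all : ∀ c, c < 122760 → (fun c => Nat.beq (Q1 (Q2 (Q3 (Q6 (Q1 (Q2 (Q3 (Q6 (Q1 (Q2 (Q3 (Q6 (Q1 (Q2 (Q3 (Q6 (Q1 (Q2 (Q3 (Q6 c)))))))))))))))))))) c) c = true := by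
  intro c hc
  refine allRange_blocks _ 2048 59 1928 (by norm_num) ?_ chk_e4_t c hc
  intro k hk
  interval_cases k
  exacts [chk_e4_b0, chk_e4_b1, chk_e4_b2, chk_e4_b3, chk_e4_b4, chk_e4_b5, chk_e4_b6, chk_e4_b7, chk_e4_b8, chk_e4_b9, chk_e4_b10, chk_e4_b11, chk_e4_b12, chk_e4_b13, chk_e4_b14, chk_e4_b15, chk_e4_b16, chk_e4_b17, chk_e4_b18, chk_e4_b19, chk_e4_b20, chk_e4_b21, chk_e4_b22, chk_e4_b23, chk_e4_b24, chk_e4_b25, chk_e4_b26, chk_e4_b27, chk_e4_b28, chk_e4_b29, chk_e4_b30, chk_e4_b31, chk_e4_b32, chk_e4_b33, chk_e4_b34, chk_e4_b35, chk_e4_b36, chk_e4_b37, chk_e4_b38, chk_e4_b39, chk_e4_b40, chk_e4_b41, chk_e4_b42, chk_e4_b43, chk_e4_b44, chk_e4_b45, chk_e4_b46, chk_e4_b47, chk_e4_b48, chk_e4_b49, chk_e4_b50, chk_e4_b51,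 chk_e4_b52, chk_e4_b53, chk_e4_b54, chk_e4_b55, chk_e4_b56, chk_e4_b57, chk_e4_b58]

end Cfsg.Agent.Lib.helper35.Ona
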