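import Cfsg.Agent.Lib.helper35.OnData
import Cfsg.Agent.Lib.helper35.OnBlk

/-!
Relators of the presented O'Nan group act trivially on the 122760 points (part 2).
-/

set_option autoImplicit false
set_option maxRecDepth 100000
set_option Elab.async false

namespace Cfsg.Agent.Lib.helper35.Ona

open Cfsg.Agent.Lib.helper35

theorem chk_c9_b0 : allRange (fun c => Nat.beq (Q2 (Q3 (Q2 (Q3 (Q2 (Q3 (Q2 (Q3 (Q2 (Q3 (Q2 (Q3 (Q2 (Q3 (Q2 (Q3 c)))))))))))))))) c) (0 * 2048) 2048 = true := by decide +kernel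
theorem chk_c9_b1 : allRange (fun c => Nat.beq (Q2 (Q3 (Q2 (Q3 (Q2 (Q3 (Q2 (Q3 (Q2 (Q3 (Q2 (Q3 (Q2 (Q3 (Q2 (Q3 c)))))))))))))))) c) (1 * 2048) 2048 = true := by decide +kernel
theorem chk_c9_b2 : allRange (fun c => Nat.beq (Q2 (Q3 (Q2 (Q3 (Q2 (Q3 (Q2 (Q3 (Q2 (Q3 (Q2 (Q3 (Q2 (Q3 (Q2 (Q3 c)))))))))))))))) c) (2 * 2048) 2048 = true := by decide +kernel
theorem chk_c9_b3 : allRange (fun c => Nat.beq (Q2 (Q3 (Q2 (Q3 (Q2 (Q3 (Q2 (Q3 (Q2 (Q3 (Q2 (Q3 (Q2 (Q3 (Q2 (Q3 c)))))))))))))))) c) (3 * 2048) 2048 = true := by decide +kernel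
theorem chk_c9_b4 : allRange (fun c => Nat.beq (Q2 (Q3 (Q2 (Q3 (Q2 (Q3 (Q2 (Q3 (Q2 (Q3 (Q2 (Q3 (Q2 (Q3 (Q2 (Q3 c)))))))))))))))) c) (4 * 2048) 2048 = true := by decide +kernel
theorem chk_c9_b5 : allRange (fun c => Nat.beq (Q2 (Q3 (Q2 (Q3 (Q2 (Q3 (Q2 (Q3 (Q2 (Q3 (Q2 (Q3 (Q2 (Q3 (Q2 (Q3 c)))))))))))))))) c) (5 * 2048) 2048 = true := by decide +kernel
theorem chk_c9_b6 : allRange (fun c => Nat.beq (Q2 (Q3 (Q2 (Q3 (Q2 (Q3 (Q2 (Q3 (Q2 (Q3 (Q2 (Q3 (Q2 (Q3 (Q2 (Q3 c)))))))))))))))) c) (6 * 2048) 2048 = true := by decide +kernel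
theorem chk_c9_b7 : allRange (fun c => Nat.beq (Q2 (Q3 (Q2 (Q3 (Q2 (Q3 (Q2 (Q3 (Q2 (Q3 (Q2 (Q3 (Q2 (Q3 (Q2 (Q3 c)))))))))))))))) c) (7 * 2048) 2048 = true := by decide +kernel
theorem chk_c9_b8 : allRange (fun c => Nat.beq (Q2 (Q3 (Q2 (Q3 (Q2 (Q3 (Q2 (Q3 (Q2 (Q3 (Q2 (Q3 (Q2 (Q3 (Q2 (Q3 c)))))))))))))))) c) (8 * 2048) 2048 = true := by decide +kernel
theorem chk_c9_b9 : allRange (fun c => Nat.beq (Q2 (Q3 (Q2 (Q3 (Q2 (Q3 (Q2 (Q3 (Q2 (Q3 (Q2 (Q3 (Q2 (Q3 (Q2 (Q3 c)))))))))))))))) c) (9 * 2048) 2048 = true := by decide +kernel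
theorem chk_c9_b10 : allRange (fun c => Nat.beq (Q2 (Q3 (Q2 (Q3 (Q2 (Q3 (Q2 (Q3 (Q2 (Q3 (Q2 (Q3 (Q2 (Q3 (Q2 (Q3 c)))))))))))))))) c) (10 * 2048) 2048 = true := by decide +kernel
theorem chk_c9_b11 : allRange (fun c => Nat.beq (Q2 (Q3 (Q2 (Q3 (Q2 (Q3 (Q2 (Q3 (Q2 (Q3 (Q2 (Q3 (Q2 (Q3 (Q2 (Q3 c)))))))))))))))) c) (11 * 2048) 2048 = true := by decide +kernel
theorem chk_c9_b12 : allRange (fun c => Nat.beq (Q2 (Q3 (Q2 (Q3 (Q2 (Q3 (Q2 (Q3 (Q2 (Q3 (Q2 (Q3 (Q2 (Q3 (Q2 (Q3 c)))))))))))))))) c) (12 * 2048) 2048 = true := by decide +kernel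
theorem chk_c9_b13 : allRange (fun c => Nat.beq (Q2 (Q3 (Q2 (Q3 (Q2 (Q3 (Q2 (Q3 (Q2 (Q3 (Q2 (Q3 (Q2 (Q3 (Q2 (Q3 c)))))))))))))))) c) (13 * 2048) 2048 = true := by decide +kernel
theorem chk_c9_b14 : allRange (fun c => Nat.beq (Q2 (Q3 (Q2 (Q3 (Q2 (Q3 (Q2 (Q3 (Q2 (Q3 (Q2 (Q3 (Q2 (Q3 (Q2 (Q3 c)))))))))))))))) c) (14 * 2048) 2048 = true := by decide +kernel
theorem chk_c9_b15 : allRange (fun c => Nat.beq (Q2 (Q3 (Q2 (Q3 (Q2 (Q3 (Q2 (Q3 (Q2 (Q3 (Q2 (Q3 (Q2 (Q3 (Q2 (Q3 c)))))))))))))))) c) (15 * 2048) 2048 = true := by decide +kernel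
theorem chk_c9_b16 : allRange (fun c => Nat.beq (Q2 (Q3 (Q2 (Q3 (Q2 (Q3 (Q2 (Q3 (Q2 (Q3 (Q2 (Q3 (Q2 (Q3 (Q2 (Q3 c)))))))))))))))) c) (16 * 2048) 2048 = true := by decide +kernel
theorem chk_c9_b17 : allRange (fun c => Nat.beq (Q2 (Q3 (Q2 (Q3 (Q2 (Q3 (Q2 (Q3 (Q2 (Q3 (Q2 (Q3 (Q2 (Q3 (Q2 (Q3 c)))))))))))))))) c) (17 * 2048) 2048 = true := by decide +kernel
theorem chk_c9_b18 : allRange (fun c => Nat.beq (Q2 (Q3 (Q2 (Q3 (Q2 (Q3 (Q2 (Q3 (Q2 (Q3 (Q2 (Q3 (Q2 (Q3 (Q2 (Q3 c)))))))))))))))) c) (18 * 2048) 2048 = true := by decide +kernel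
theorem chk_c9_b19 : allRange (fun c => Nat.beq (Q2 (Q3 (Q2 (Q3 (Q2 (Q3 (Q2 (Q3 (Q2 (Q3 (Q2 (Q3 (Q2 (Q3 (Q2 (Q3 c)))))))))))))))) c) (19 * 2048) 2048 = true := by decide +kernel
theorem chk_c9_b20 : allRange (fun c => Nat.beq (Q2 (Q3 (Q2 (Q3 (Q2 (Q3 (Q2 (Q3 (Q2 (Q3 (Q2 (Q3 (Q2 (Q3 (Q2 (Q3 c)))))))))))))))) c) (20 * 2048) 2048 = true := by decide +kernel
theorem chk_c9_b21 : allRange (fun c => Nat.beq (Q2 (Q3 (Q2 (Q3 (Q2 (Q3 (Q2 (Q3 (Q2 (Q3 (Q2 (Q3 (Q2 (Q3 (Q2 (Q3 c)))))))))))))))) c) (21 * 2048) 2048 = true := by decide +kernel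
theorem chk_c9_b22 : allRange (fun c => Nat.beq (Q2 (Q3 (Q2 (Q3 (Q2 (Q3 (Q2 (Q3 (Q2 (Q3 (Q2 (Q3 (Q2 (Q3 (Q2 (Q3 c)))))))))))))))) c) (22 * 2048) 2048 = true := by decide +kernel
theorem chk_c9_b23 : allRange (fun c => Nat.beq (Q2 (Q3 (Q2 (Q3 (Q2 (Q3 (Q2 (Q3 (Q2 (Q3 (Q2 (Q3 (Q2 (Q3 (Q2 (Q3 c)))))))))))))))) c) (23 * 2048) 2048 = true := by decide +kernel
theorem chk_c9_b24 : allRange (fun c => Nat.beq (Q2 (Q3 (Q2 (Q3 (Q2 (Q3 (Q2 (Q3 (Q2 (Q3 (Q2 (Q3 (Q2 (Q3 (Q2 (Q3 c)))))))))))))))) c) (24 * 2048) 2048 = true := by decide +kernel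
theorem chk_c9_b25 : allRange (fun c => Nat.beq (Q2 (Q3 (Q2 (Q3 (Q2 (Q3 (Q2 (Q3 (Q2 (Q3 (Q2 (Q3 (Q2 (Q3 (Q2 (Q3 c)))))))))))))))) c) (25 * 2048) 2048 = true := by decide +kernel
theorem chk_c9_b26 : allRange (fun c => Nat.beq (Q2 (Q3 (Q2 (Q3 (Q2 (Q3 (Q2 (Q3 (Q2 (Q3 (Q2 (Q3 (Q2 (Q3 (Q2 (Q3 c)))))))))))))))) c) (26 * 2048) 2048 = true := by decide +kernel
theorem chk_c9_b27 : allRange (fun c => Nat.beq (Q2 (Q3 (Q2 (Q3 (Q2 (Q3 (Q2 (Q3 (Q2 (Q3 (Q2 (Q3 (Q2 (Q3 (Q2 (Q3 c)))))))))))))))) c) (27 * 2048) 2048 = true := by decide +kernel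
theorem chk_c9_b28 : allRange (fun c => Nat.beq (Q2 (Q3 (Q2 (Q3 (Q2 (Q3 (Q2 (Q3 (Q2 (Q3 (Q2 (Q3 (Q2 (Q3 (Q2 (Q3 c)))))))))))))))) c) (28 * 2048) 2048 = true := by decide +kernel
theorem chk_c9_b29 : allRange (fun c => Nat.beq (Q2 (Q3 (Q2 (Q3 (Q2 (Q3 (Q2 (Q3 (Q2 (Q3 (Q2 (Q3 (Q2 (Q3 (Q2 (Q3 c)))))))))))))))) c) (29 * 2048) 2048 = true := by decide +kernel
theorem chk_c9_b30 : allRange (fun c => Nat.beq (Q2 (Q3 (Q2 (Q3 (Q2 (Q3 (Q2 (Q3 (Q2 (Q3 (Q2 (Q3 (Q2 (Q3 (Q2 (Q3 c)))))))))))))))) c) (30 * 2048) 2048 = true := by decide +kernel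
theorem chk_c9_b31 : allRange (fun c => Nat.beq (Q2 (Q3 (Q2 (Q3 (Q2 (Q3 (Q2 (Q3 (Q2 (Q3 (Q2 (Q3 (Q2 (Q3 (Q2 (Q3 c)))))))))))))))) c) (31 * 2048) 2048 = true := by decide +kernel
theorem chk_c9_b32 : allRange (fun c => Nat.beq (Q2 (Q3 (Q2 (Q3 (Q2 (Q3 (Q2 (Q3 (Q2 (Q3 (Q2 (Q3 (Q2 (Q3 (Q2 (Q3 c)))))))))))))))) c) (32 * 2048) 2048 = true := by decide +kernel
theorem chk_c9_b33 : allRange (fun c => Nat.beq (Q2 (Q3 (Q2 (Q3 (Q2 (Q3 (Q2 (Q3 (Q2 (Q3 (Q2 (Q3 (Q2 (Q3 (Q2 (Q3 c)))))))))))))))) c) (33 * 2048) 2048 = true := by decide +kernel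
theorem chk_c9_b34 : allRange (fun c => Nat.beq (Q2 (Q3 (Q2 (Q3 (Q2 (Q3 (Q2 (Q3 (Q2 (Q3 (Q2 (Q3 (Q2 (Q3 (Q2 (Q3 c)))))))))))))))) c) (34 * 2048) 2048 = true := by decide +kernel
theorem chk_c9_b35 : allRange (fun c => Nat.beq (Q2 (Q3 (Q2 (Q3 (Q2 (Q3 (Q2 (Q3 (Q2 (Q3 (Q2 (Q3 (Q2 (Q3 (Q2 (Q3 c)))))))))))))))) c) (35 * 2048) 2048 = true := by decide +kernel
theorem chk_c9_b36 : allRange (fun c => Nat.beq (Q2 (Q3 (Q2 (Q3 (Q2 (Q3 (Q2 (Q3 (Q2 (Q3 (Q2 (Q3 (Q2 (Q3 (Q2 (Q3 c)))))))))))))))) c) (36 * 2048) 2048 = true := by decide +kernel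
theorem chk_c9_b37 : allRange (fun c => Nat.beq (Q2 (Q3 (Q2 (Q3 (Q2 (Q3 (Q2 (Q3 (Q2 (Q3 (Q2 (Q3 (Q2 (Q3 (Q2 (Q3 c)))))))))))))))) c) (37 * 2048) 2048 = true := by decide +kernel
theorem chk_c9_b38 : allRange (fun c => Nat.beq (Q2 (Q3 (Q2 (Q3 (Q2 (Q3 (Q2 (Q3 (Q2 (Q3 (Q2 (Q3 (Q2 (Q3 (Q2 (Q3 c)))))))))))))))) c) (38 * 2048) 2048 = true := by decide +kernel
theorem chk_c9_b39 : allRange (fun c => Nat.beq (Q2 (Q3 (Q2 (Q3 (Q2 (Q3 (Q2 (Q3 (Q2 (Q3 (Q2 (Q3 (Q2 (Q3 (Q2 (Q3 c)))))))))))))))) c) (39 * 2048) 2048 = true := by decide +kernel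
theorem chk_c9_b40 : allRange (fun c => Nat.beq (Q2 (Q3 (Q2 (Q3 (Q2 (Q3 (Q2 (Q3 (Q2 (Q3 (Q2 (Q3 (Q2 (Q3 (Q2 (Q3 c)))))))))))))))) c) (40 * 2048) 2048 = true := by decide +kernel
theorem chk_c9_b41 : allRange (fun c => Nat.beq (Q2 (Q3 (Q2 (Q3 (Q2 (Q3 (Q2 (Q3 (Q2 (Q3 (Q2 (Q3 (Q2 (Q3 (Q2 (Q3 c)))))))))))))))) c) (41 * 2048) 2048 = true := by decide +kernel
theorem chk_c9_b42 : allRange (fun c => Nat.beq (Q2 (Q3 (Q2 (Q3 (Q2 (Q3 (Q2 (Q3 (Q2 (Q3 (Q2 (Q3 (Q2 (Q3 (Q2 (Q3 c)))))))))))))))) c) (42 * 2048) 2048 = true := by decide +kernel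
theorem chk_c9_b43 : allRange (fun c => Nat.beq (Q2 (Q3 (Q2 (Q3 (Q2 (Q3 (Q2 (Q3 (Q2 (Q3 (Q2 (Q3 (Q2 (Q3 (Q2 (Q3 c)))))))))))))))) c) (43 * 2048) 2048 = true := by decide +kernel
theorem chk_c9_b44 : allRange (fun c => Nat.beq (Q2 (Q3 (Q2 (Q3 (Q2 (Q3 (Q2 (Q3 (Q2 (Q3 (Q2 (Q3 (Q2 (Q3 (Q2 (Q3 c)))))))))))))))) c) (44 * 2048) 2048 = true := by decide +kernel
theorem chk_c9_b45 : allRange (fun c => Nat.beq (Q2 (Q3 (Q2 (Q3 (Q2 (Q3 (Q2 (Q3 (Q2 (Q3 (Q2 (Q3 (Q2 (Q3 (Q2 (Q3 c)))))))))))))))) c) (45 * 2048) 2048 = true := by decide +kernel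
theorem chk_c9_b46 : allRange (fun c => Nat.beq (Q2 (Q3 (Q2 (Q3 (Q2 (Q3 (Q2 (Q3 (Q2 (Q3 (Q2 (Q3 (Q2 (Q3 (Q2 (Q3 c)))))))))))))))) c) (46 * 2048) 2048 = true := by decide +kernel
theorem chk_c9_b47 : allRange (fun c => Nat.beq (Q2 (Q3 (Q2 (Q3 (Q2 (Q3 (Q2 (Q3 (Q2 (Q3 (Q2 (Q3 (Q2 (Q3 (Q2 (Q3 c)))))))))))))))) c) (47 * 2048) 2048 = true := by decide +kernel
theorem chk_c9_b48 : allRange (fun c => Nat.beq (Q2 (Q3 (Q2 (Q3 (Q2 (Q3 (Q2 (Q3 (Q2 (Q3 (Q2 (Q3 (Q2 (Q3 (Q2 (Q3 c)))))))))))))))) c) (48 * 2048) 2048 = true := by decide +kernel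
theorem chk_c9_b49 : allRange (fun c => Nat.beq (Q2 (Q3 (Q2 (Q3 (Q2 (Q3 (Q2 (Q3 (Q2 (Q3 (Q2 (Q3 (Q2 (Q3 (Q2 (Q3 c)))))))))))))))) c) (49 * 2048) 2048 = true := by decide +kernel
theorem chk_c9_b50 : allRange (fun c => Nat.beq (Q2 (Q3 (Q2 (Q3 (Q2 (Q3 (Q2 (Q3 (Q2 (Q3 (Q2 (Q3 (Q2 (Q3 (Q2 (Q3 c)))))))))))))))) c) (50 * 2048) 2048 = true := by decide +kernel
theorem chk_c9_b51 : allRange (fun c => Nat.beq (Q2 (Q3 (Q2 (Q3 (Q2 (Q3 (Q2 (Q3 (Q2 (Q3 (Q2 (Q3 (Q2 (Q3 (Q2 (Q3 c)))))))))))))))) c) (51 * 2048) 2048 = true := by decide +kernel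
theorem chk_c9_b52 : allRange (fun c => Nat.beq (Q2 (Q3 (Q2 (Q3 (Q2 (Q3 (Q2 (Q3 (Q2 (Q3 (Q2 (Q3 (Q2 (Q3 (Q2 (Q3 c)))))))))))))))) c) (52 * 2048) 2048 = true := by decide +kernel
theorem chk_c9_b53 : allRange (fun c => Nat.beq (Q2 (Q3 (Q2 (Q3 (Q2 (Q3 (Q2 (Q3 (Q2 (Q3 (Q2 (Q3 (Q2 (Q3 (Q2 (Q3 c)))))))))))))))) c) (53 * 2048) 2048 = true := by decide +kernel
theorem chk_c9_b54 : allRange (fun c => Nat.beq (Q2 (Q3 (Q2 (Q3 (Q2 (Q3 (Q2 (Q3 (Q2 (Q3 (Q2 (Q3 (Q2 (Q3 (Q2 (Q3 c)))))))))))))))) c) (54 * 2048) 2048 = true := by decide +kernel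
theorem chk_c9_b55 : allRange (fun c => Nat.beq (Q2 (Q3 (Q2 (Q3 (Q2 (Q3 (Q2 (Q3 (Q2 (Q3 (Q2 (Q3 (Q2 (Q3 (Q2 (Q3 c)))))))))))))))) c) (55 * 2048) 2048 = true := by decide +kernel
theorem chk_c9_b56 : allRange (fun c => Nat.beq (Q2 (Q3 (Q2 (Q3 (Q2 (Q3 (Q2 (Q3 (Q2 (Q3 (Q2 (Q3 (Q2 (Q3 (Q2 (Q3 c)))))))))))))))) c) (56 * 2048) 2048 = true := by decide +kernel
theorem chk_c9_b57 : allRange (fun c => Nat.beq (Q2 (Q3 (Q2 (Q3 (Q2 (Q3 (Q2 (Q3 (Q2 (Q3 (Q2 (Q3 (Q2 (Q3 (Q2 (Q3 c)))))))))))))))) c) (57 * 2048) 2048 = true := by decide +kernel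
theorem chk_c9_b58 : allRange (fun c => Nat.beq (Q2 (Q3 (Q2 (Q3 (Q2 (Q3 (Q2 (Q3 (Q2 (Q3 (Q2 (Q3 (Q2 (Q3 (Q2 (Q3 c)))))))))))))))) c) (58 * 2048) 2048 = true := by decide +kernel
theorem chk_c9_t : allRange (fun c => Nat.beq (Q2 (Q3 (Q2 (Q3 (Q2 (Q3 (Q2 (Q3 (Q2 (Q3 (Q2 (Q3 (Q2 (Q3 (Q2 (Q3 c)))))))))))))))) c) (59 * 2048) 1928 = true := by decide +kernel
theorem chk_c9_all : ∀ c, c < 122760 → (fun c => Nat.beq (Q2 (Q3 (Q2 (Q3 (Q2 (Q3 (Q2 (Q3 (Q2 (Q3 (Q2 (Q3 (Q2 (Q3 (Q2 (Q3 c)))))))))))))))) c) c = true := by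
  intro c hc
  refine allRange_blocks _ 2048 59 1928 (by norm_num) ?_ chk_c9_t c hc
  intro k hk
  interval_cases k
  exacts [chk_c9_b0, chk_c9_b1, chk_c9_b2, chk_c9_b3, chk_c9_b4, chk_c9_b5, chk_c9_b6, chk_c9_b7, chk_c9_b8, chk_c9_b9, chk_c9_b10, chk_c9_b11, chk_c9_b12, chk_c9_b13, chk_c9_b14, chk_c9_b15, chk_c9_b16, chk_c9_b17, chk_c9_b18, chk_c9_b19, chk_c9_b20, chk_c9_b21, chk_c9_b22, chk_c9_b23, chk_c9_b24, chk_c9_b25, chk_c9_b26, chk_c9_b27, chk_c9_b28, chk_c9_b29, chk_c9_b30, chk_c9_b31, chk_c9_b32, chk_c9_b33, chk_c9_b34, chk_c9_b35, chk_c9_b36, chk_c9_b37, chk_c9_b38, chk_c9_b39, chk_c9_b40, chk_c9_b41, chk_c9_b42, chk_c9_b43, chk_c9_b44, chk_c9_b45, chk_c9_b46, chk_c9_b47, chk_c9_b48, chk_c9_b49, chk_c9_b50, chk_c9_b51, chk_c9_b52, chk_c9_b53, chk_c9_b54, chk_c9_b55, chk_c9_b56, chk_c9_b57, chk_c9_b58]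

theorem chk_c1_b0 : allRange (fun c => Nat.beq (Q0 (Q2 (Q0 (Q2 c)))) c) (0 * 2048) 2048 = true := by decide +kernel
theorem chk_c1_b1 : allRange (fun c => Nat.beq (Q0 (Q2 (Q0 (Q2 c)))) c) (1 * 2048) 2048 = true := by decide +kernel
theorem chk_c1_b2 : allRange (fun c => Nat.beq (Q0 (Q2 (Q0 (Q2 c)))) c) (2 * 2048) 2048 = true := by decide +kernel
theorem chk_c1_b3 : allRange (fun c => Nat.beq (Q0 (Q2 (Q0 (Q2 c)))) c) (3 * 2048) 2048 = true := by decide +kernel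
theorem chk_c1_b4 : allRange (fun c => Nat.beq (Q0 (Q2 (Q0 (Q2 c)))) c) (4 * 2048) 2048 = true := by decide +kernel
theorem chk_c1_b5 : allRange (fun c => Nat.beq (Q0 (Q2 (Q0 (Q2 c)))) c) (5 * 2048) 2048 = true := by decide +kernel
theorem chk_c1_b6 : allRange (fun c => Nat.beq (Q0 (Q2 (Q0 (Q2 c)))) c) (6 * 2048) 2048 = true := by decide +kernel
theorem chk_c1_b7 : allRange (fun c => Nat.beq (Q0 (Q2 (Q0 (Q2 c)))) c) (7 * 2048) 2048 = true := by decide +kernel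
theorem chk_c1_b8 : allRange (fun c => Nat.beq (Q0 (Q2 (Q0 (Q2 c)))) c) (8 * 2048) 2048 = true := by decide +kernel
theorem chk_c1_b9 : allRange (fun c => Nat.beq (Q0 (Q2 (Q0 (Q2 c)))) c) (9 * 2048) 2048 = true := by decide +kernel
theorem chk_c1_b10 : allRange (fun c => Nat.beq (Q0 (Q2 (Q0 (Q2 c)))) c) (10 * 2048) 2048 = true := by decide +kernel
theorem chk_c1_b11 : allRange (fun c => Nat.beq (Q0 (Q2 (Q0 (Q2 c)))) c) (11 * 2048) 2048 = true := by decide +kernel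
theorem chk_c1_b12 : allRange (fun c => Nat.beq (Q0 (Q2 (Q0 (Q2 c)))) c) (12 * 2048) 2048 = true := by decide +kernel
theorem chk_c1_b13 : allRange (fun c => Nat.beq (Q0 (Q2 (Q0 (Q2 c)))) c) (13 * 2048) 2048 = true := by decide +kernel
theorem chk_c1_b14 : allRange (fun c => Nat.beq (Q0 (Q2 (Q0 (Q2 c)))) c) (14 * 2048) 2048 = true := by decide +kernel
theorem chk_c1_b15 : allRange (fun c => Nat.beq (Q0 (Q2 (Q0 (Q2 c)))) c) (15 * 2048) 2048 = true := by decide +kernel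
theorem chk_c1_b16 : allRange (fun c => Nat.beq (Q0 (Q2 (Q0 (Q2 c)))) c) (16 * 2048) 2048 = true := by decide +kernel
theorem chk_c1_b17 : allRange (fun c => Nat.beq (Q0 (Q2 (Q0 (Q2 c)))) c) (17 * 2048) 2048 = true := by decide +kernel
theorem chk_c1_b18 : allRange (fun c => Nat.beq (Q0 (Q2 (Q0 (Q2 c)))) c) (18 * 2048) 2048 = true := by decide +kernel
theorem chk_c1_b19 : allRange (fun c => Nat.beq (Q0 (Q2 (Q0 (Q2 c)))) c) (19 * 2048) 2048 = true := by decide +kernel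
theorem chk_c1_b20 : allRange (fun c => Nat.beq (Q0 (Q2 (Q0 (Q2 c)))) c) (20 * 2048) 2048 = true := by decide +kernel
theorem chk_c1_b21 : allRange (fun c => Nat.beq (Q0 (Q2 (Q0 (Q2 c)))) c) (21 * 2048) 2048 = true := by decide +kernel
theorem chk_c1_b22 : allRange (fun c => Nat.beq (Q0 (Q2 (Q0 (Q2 c)))) c) (22 * 2048) 2048 = true := by decide +kernel
theorem chk_c1_b23 : allRange (fun c => Nat.beq (Q0 (Q2 (Q0 (Q2 c)))) c) (23 * 2048) 2048 = true := by decide +kernel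
theorem chk_c1_b24 : allRange (fun c => Nat.beq (Q0 (Q2 (Q0 (Q2 c)))) c) (24 * 2048) 2048 = true := by decide +kernel
theorem chk_c1_b25 : allRange (fun c => Nat.beq (Q0 (Q2 (Q0 (Q2 c)))) c) (25 * 2048) 2048 = true := by decide +kernel
theorem chk_c1_b26 : allRange (fun c => Nat.beq (Q0 (Q2 (Q0 (Q2 c)))) c) (26 * 2048) 2048 = true := by decide +kernel
theorem chk_c1_b27 : allRange (fun c => Nat.beq (Q0 (Q2 (Q0 (Q2 c)))) c) (27 * 2048) 2048 = true := by decide +kernel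
theorem chk_c1_b28 : allRange (fun c => Nat.beq (Q0 (Q2 (Q0 (Q2 c)))) c) (28 * 2048) 2048 = true := by decide +kernel
theorem chk_c1_b29 : allRange (fun c => Nat.beq (Q0 (Q2 (Q0 (Q2 c)))) c) (29 * 2048) 2048 = true := by decide +kernel
theorem chk_c1_b30 : allRange (fun c => Nat.beq (Q0 (Q2 (Q0 (Q2 c)))) c) (30 * 2048) 2048 = true := by decide +kernel
theorem chk_c1_b31 : allRange (fun c => Nat.beq (Q0 (Q2 (Q0 (Q2 c)))) c) (31 * 2048) 2048 = true := by decide +kernel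
theorem chk_c1_b32 : allRange (fun c => Nat.beq (Q0 (Q2 (Q0 (Q2 c)))) c) (32 * 2048) 2048 = true := by decide +kernel
theorem chk_c1_b33 : allRange (fun c => Nat.beq (Q0 (Q2 (Q0 (Q2 c)))) c) (33 * 2048) 2048 = true := by decide +kernel
theorem chk_c1_b34 : allRange (fun c => Nat.beq (Q0 (Q2 (Q0 (Q2 c)))) c) (34 * 2048) 2048 = true := by decide +kernel
theorem chk_c1_b35 : allRange (fun c => Nat.beq (Q0 (Q2 (Q0 (Q2 c)))) c) (35 * 2048) 2048 = true := by decide +kernel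
theorem chk_c1_b36 : allRange (fun c => Nat.beq (Q0 (Q2 (Q0 (Q2 c)))) c) (36 * 2048) 2048 = true := by decide +kernel
theorem chk_c1_b37 : allRange (fun c => Nat.beq (Q0 (Q2 (Q0 (Q2 c)))) c) (37 * 2048) 2048 = true := by decide +kernel
theorem chk_c1_b38 : allRange (fun c => Nat.beq (Q0 (Q2 (Q0 (Q2 c)))) c) (38 * 2048) 2048 = true := by decide +kernel
theorem chk_c1_b39 : allRange (fun c => Nat.beq (Q0 (Q2 (Q0 (Q2 c)))) c) (39 * 2048) 2048 = true := by decide +kernel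
theorem chk_c1_b40 : allRange (fun c => Nat.beq (Q0 (Q2 (Q0 (Q2 c)))) c) (40 * 2048) 2048 = true := by decide +kernel
theorem chk_c1_b41 : allRange (fun c => Nat.beq (Q0 (Q2 (Q0 (Q2 c)))) c) (41 * 2048) 2048 = true := by decide +kernel
theorem chk_c1_b42 : allRange (fun c => Nat.beq (Q0 (Q2 (Q0 (Q2 c)))) c) (42 * 2048) 2048 = true := by decide +kernel
theorem chk_c1_b43 : allRange (fun c => Nat.beq (Q0 (Q2 (Q0 (Q2 c)))) c) (43 * 2048) 2048 = true := by decide +kernel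
theorem chk_c1_b44 : allRange (fun c => Nat.beq (Q0 (Q2 (Q0 (Q2 c)))) c) (44 * 2048) 2048 = true := by decide +kernel
theorem chk_c1_b45 : allRange (fun c => Nat.beq (Q0 (Q2 (Q0 (Q2 c)))) c) (45 * 2048) 2048 = true := by decide +kernel
theorem chk_c1_b46 : allRange (fun c => Nat.beq (Q0 (Q2 (Q0 (Q2 c)))) c) (46 * 2048) 2048 = true := by decide +kernel
theorem chk_c1_b47 : allRange (fun c => Nat.beq (Q0 (Q2 (Q0 (Q2 c)))) c) (47 * 2048) 2048 = true := by decide +kernel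
theorem chk_c1_b48 : allRange (fun c => Nat.beq (Q0 (Q2 (Q0 (Q2 c)))) c) (48 * 2048) 2048 = true := by decide +kernel
theorem chk_c1_b49 : allRange (fun c => Nat.beq (Q0 (Q2 (Q0 (Q2 c)))) c) (49 * 2048) 2048 = true := by decide +kernel
theorem chk_c1_b50 : allRange (fun c => Nat.beq (Q0 (Q2 (Q0 (Q2 c)))) c) (50 * 2048) 2048 = true := by decide +kernel
theorem chk_c1_b51 : allRange (fun c => Nat.beq (Q0 (Q2 (Q0 (Q2 c)))) c) (51 * 2048) 2048 = true := by decide +kernel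
theorem chk_c1_b52 : allRange (fun c => Nat.beq (Q0 (Q2 (Q0 (Q2 c)))) c) (52 * 2048) 2048 = true := by decide +kernel
theorem chk_c1_b53 : allRange (fun c => Nat.beq (Q0 (Q2 (Q0 (Q2 c)))) c) (53 * 2048) 2048 = true := by decide +kernel
theorem chk_c1_b54 : allRange (fun c => Nat.beq (Q0 (Q2 (Q0 (Q2 c)))) c) (54 * 2048) 2048 = true := by decide +kernel
theorem chk_c1_b55 : allRange (fun c => Nat.beq (Q0 (Q2 (Q0 (Q2 c)))) c) (55 * 2048) 2048 = true := by decide +kernel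
theorem chk_c1_b56 : allRange (fun c => Nat.beq (Q0 (Q2 (Q0 (Q2 c)))) c) (56 * 2048) 2048 = true := by decide +kernel
theorem chk_c1_b57 : allRange (fun c => Nat.beq (Q0 (Q2 (Q0 (Q2 c)))) c) (57 * 2048) 2048 = true := by decide +kernel
theorem chk_c1_b58 : allRange (fun c => Nat.beq (Q0 (Q2 (Q0 (Q2 c)))) c) (58 * 2048) 2048 = true := by decide +kernel
theorem chk_c1_t : allRange (fun c => Nat.beq (Q0 (Q2 (Q0 (Q2 c)))) c) (59 * 2048) 1928 = true := by decide +kernel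
theorem chk_c1_all : ∀ c, c < 122760 → (fun c => Nat.beq (Q0 (Q2 (Q0 (Q2 c)))) c) c = true := by
  intro c hc
  refine allRange_blocks _ 2048 59 1928 (by norm_num) ?_ chk_c1_t c hc
  intro k hk
  interval_cases k
  exacts [chk_c1_b0, chk_c1_b1, chk_c1_b2, chk_c1_b3, chk_c1_b4, chk_c1_b5, chk_c1_b6, chk_c1_b7, chk_c1_b8, chk_c1_b9, chk_c1_b10, chk_c1_b11, chk_c1_b12, chk_c1_b13, chk_c1_b14, chk_c1_b15, chk_c1_b16, chk_c1_b17, chk_c1_b18, chk_c1_b19, chk_c1_b20, chk_c1_b21, chk_c1_b22, chk_c1_b23, chk_c1_b24, chk_c1_b25, chk_c1_b26, chk_c1_b27, chk_c1_b28, chk_c1_b29, chk_c1_b30, chk_c1_b31, chk_c1_b32, chk_c1_b33, chk_c1_b34, chk_c1_b35, chk_c1_b36, chk_c1_b37, chk_c1_b38, chk_c1_b39, chk_c1_b40, chk_c1_b41, chk_c1_b42, chk_c1_b43, chk_c1_b44, chk_c1_b45, chk_c1_b46, chk_c1_b47, chk_c1_b48, chk_c1_b49, chk_c1_b50,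 chk_c1_b51, chk_c1_b52, chk_c1_b53, chk_c1_b54, chk_c1_b55, chk_c1_b56, chk_c1_b57, chk_c1_b58]

end Cfsg.Agent.Lib.helper35.Ona
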