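import Cfsg.Agent.Lib.helper35.OnData
import Cfsg.Agent.Lib.helper35.OnBlk

/-!
Relators of the presented O'Nan group act trivially on the 122760 points (part 4).
-/

set_option autoImplicit false
set_option maxRecDepth 100000
set_option Elab.async false

namespace Cfsg.Agent.Lib.helper35.Ona

open Cfsg.Agent.Lib.helper35

theorem chk_e6_b0 : allRange (fun c => Nat.beq (Q6 (Q4 (Q3 (Q6 (Q3 (Q4 (Q6 (Q4 (Q3 (Q6 (Q3 c))))))))))) c) (0 * 2048) 2048 = true := by decide +kernel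
theorem chk_e6_b1 : allRange (fun c => Nat.beq (Q6 (Q4 (Q3 (Q6 (Q3 (Q4 (Q6 (Q4 (Q3 (Q6 (Q3 c))))))))))) c) (1 * 2048) 2048 = true := by decide +kernel
theorem chk_e6_b2 : allRange (fun c => Nat.beq (Q6 (Q4 (Q3 (Q6 (Q3 (Q4 (Q6 (Q4 (Q3 (Q6 (Q3 c))))))))))) c) (2 * 2048) 2048 = true := by decide +kernel
theorem chk_e6_b3 : allRange (fun c => Nat.beq (Q6 (Q4 (Q3 (Q6 (Q3 (Q4 (Q6 (Q4 (Q3 (Q6 (Q3 c))))))))))) c) (3 * 2048) 2048 = true := by decide +kernel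
theorem chk_e6_b4 : allRange (fun c => Nat.beq (Q6 (Q4 (Q3 (Q6 (Q3 (Q4 (Q6 (Q4 (Q3 (Q6 (Q3 c))))))))))) c) (4 * 2048) 2048 = true := by decide +kernel
theorem chk_e6_b5 : allRange (fun c => Nat.beq (Q6 (Q4 (Q3 (Q6 (Q3 (Q4 (Q6 (Q4 (Q3 (Q6 (Q3 c))))))))))) c) (5 * 2048) 2048 = true := by decide +kernel
theorem chk_e6_b6 : allRange (fun c => Nat.beq (Q6 (Q4 (Q3 (Q6 (Q3 (Q4 (Q6 (Q4 (Q3 (Q6 (Q3 c))))))))))) c) (6 * 2048) 2048 = true := by decide +kernel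
theorem chk_e6_b7 : allRange (fun c => Nat.beq (Q6 (Q4 (Q3 (Q6 (Q3 (Q4 (Q6 (Q4 (Q3 (Q6 (Q3 c))))))))))) c) (7 * 2048) 2048 = true := by decide +kernel
theorem chk_e6_b8 : allRange (fun c => Nat.beq (Q6 (Q4 (Q3 (Q6 (Q3 (Q4 (Q6 (Q4 (Q3 (Q6 (Q3 c))))))))))) c) (8 * 2048) 2048 = true := by decide +kernel
theorem chk_e6_b9 : allRange (fun c => Nat.beq (Q6 (Q4 (Q3 (Q6 (Q3 (Q4 (Q6 (Q4 (Q3 (Q6 (Q3 c))))))))))) c) (9 * 2048) 2048 = true := by decide +kernel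
theorem chk_e6_b10 : allRange (fun c => Nat.beq (Q6 (Q4 (Q3 (Q6 (Q3 (Q4 (Q6 (Q4 (Q3 (Q6 (Q3 c))))))))))) c) (10 * 2048) 2048 = true := by decide +kernel
theorem chk_e6_b11 : allRange (fun c => Nat.beq (Q6 (Q4 (Q3 (Q6 (Q3 (Q4 (Q6 (Q4 (Q3 (Q6 (Q3 c))))))))))) c) (11 * 2048) 2048 = true := by decide +kernel
theorem chk_e6_b12 : allRange (fun c => Nat.beq (Q6 (Q4 (Q3 (Q6 (Q3 (Q4 (Q6 (Q4 (Q3 (Q6 (Q3 c))))))))))) c) (12 * 2048) 2048 = true := by decide +kernel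
theorem chk_e6_b13 : allRange (fun c => Nat.beq (Q6 (Q4 (Q3 (Q6 (Q3 (Q4 (Q6 (Q4 (Q3 (Q6 (Q3 c))))))))))) c) (13 * 2048) 2048 = true := by decide +kernel
theorem chk_e6_b14 : allRange (fun c => Nat.beq (Q6 (Q4 (Q3 (Q6 (Q3 (Q4 (Q6 (Q4 (Q3 (Q6 (Q3 c))))))))))) c) (14 * 2048) 2048 = true := by decide +kernel
theorem chk_e6_b15 : allRange (fun c => Nat.beq (Q6 (Q4 (Q3 (Q6 (Q3 (Q4 (Q6 (Q4 (Q3 (Q6 (Q3 c))))))))))) c) (15 * 2048) 2048 = true := by decide +kernel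
theorem chk_e6_b16 : allRange (fun c => Nat.beq (Q6 (Q4 (Q3 (Q6 (Q3 (Q4 (Q6 (Q4 (Q3 (Q6 (Q3 c))))))))))) c) (16 * 2048) 2048 = true := by decide +kernel
theorem chk_e6_b17 : allRange (fun c => Nat.beq (Q6 (Q4 (Q3 (Q6 (Q3 (Q4 (Q6 (Q4 (Q3 (Q6 (Q3 c))))))))))) c) (17 * 2048) 2048 = true := by decide +kernel
theorem chk_e6_b18 : allRange (fun c => Nat.beq (Q6 (Q4 (Q3 (Q6 (Q3 (Q4 (Q6 (Q4 (Q3 (Q6 (Q3 c))))))))))) c) (18 * 2048) 2048 = true := by decide +kernel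
theorem chk_e6_b19 : allRange (fun c => Nat.beq (Q6 (Q4 (Q3 (Q6 (Q3 (Q4 (Q6 (Q4 (Q3 (Q6 (Q3 c))))))))))) c) (19 * 2048) 2048 = true := by decide +kernel
theorem chk_e6_b20 : allRange (fun c => Nat.beq (Q6 (Q4 (Q3 (Q6 (Q3 (Q4 (Q6 (Q4 (Q3 (Q6 (Q3 c))))))))))) c) (20 * 2048) 2048 = true := by decide +kernel
theorem chk_e6_b21 : allRange (fun c => Nat.beq (Q6 (Q4 (Q3 (Q6 (Q3 (Q4 (Q6 (Q4 (Q3 (Q6 (Q3 c))))))))))) c) (21 * 2048) 2048 = true := by decide +kernel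
theorem chk_e6_b22 : allRange (fun c => Nat.beq (Q6 (Q4 (Q3 (Q6 (Q3 (Q4 (Q6 (Q4 (Q3 (Q6 (Q3 c))))))))))) c) (22 * 2048) 2048 = true := by decide +kernel
theorem chk_e6_b23 : allRange (fun c => Nat.beq (Q6 (Q4 (Q3 (Q6 (Q3 (Q4 (Q6 (Q4 (Q3 (Q6 (Q3 c))))))))))) c) (23 * 2048) 2048 = true := by decide +kernel
theorem chk_e6_b24 : allRange (fun c => Nat.beq (Q6 (Q4 (Q3 (Q6 (Q3 (Q4 (Q6 (Q4 (Q3 (Q6 (Q3 c))))))))))) c) (24 * 2048) 2048 = true := by decide +kernel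
theorem chk_e6_b25 : allRange (fun c => Nat.beq (Q6 (Q4 (Q3 (Q6 (Q3 (Q4 (Q6 (Q4 (Q3 (Q6 (Q3 c))))))))))) c) (25 * 2048) 2048 = true := by decide +kernel
theorem chk_e6_b26 : allRange (fun c => Nat.beq (Q6 (Q4 (Q3 (Q6 (Q3 (Q4 (Q6 (Q4 (Q3 (Q6 (Q3 c))))))))))) c) (26 * 2048) 2048 = true := by decide +kernel
theorem chk_e6_b27 : allRange (fun c => Nat.beq (Q6 (Q4 (Q3 (Q6 (Q3 (Q4 (Q6 (Q4 (Q3 (Q6 (Q3 c))))))))))) c) (27 * 2048) 2048 = true := by decide +kernel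
theorem chk_e6_b28 : allRange (fun c => Nat.beq (Q6 (Q4 (Q3 (Q6 (Q3 (Q4 (Q6 (Q4 (Q3 (Q6 (Q3 c))))))))))) c) (28 * 2048) 2048 = true := by decide +kernel
theorem chk_e6_b29 : allRange (fun c => Nat.beq (Q6 (Q4 (Q3 (Q6 (Q3 (Q4 (Q6 (Q4 (Q3 (Q6 (Q3 c))))))))))) c) (29 * 2048) 2048 = true := by decide +kernel
theorem chk_e6_b30 : allRange (fun c => Nat.beq (Q6 (Q4 (Q3 (Q6 (Q3 (Q4 (Q6 (Q4 (Q3 (Q6 (Q3 c))))))))))) c) (30 * 2048) 2048 = true := by decide +kernel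
theorem chk_e6_b31 : allRange (fun c => Nat.beq (Q6 (Q4 (Q3 (Q6 (Q3 (Q4 (Q6 (Q4 (Q3 (Q6 (Q3 c))))))))))) c) (31 * 2048) 2048 = true := by decide +kernel
theorem chk_e6_b32 : allRange (fun c => Nat.beq (Q6 (Q4 (Q3 (Q6 (Q3 (Q4 (Q6 (Q4 (Q3 (Q6 (Q3 c))))))))))) c) (32 * 2048) 2048 = true := by decide +kernel
theorem chk_e6_b33 : allRange (fun c => Nat.beq (Q6 (Q4 (Q3 (Q6 (Q3 (Q4 (Q6 (Q4 (Q3 (Q6 (Q3 c))))))))))) c) (33 * 2048) 2048 = true := by decide +kernel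
theorem chk_e6_b34 : allRange (fun c => Nat.beq (Q6 (Q4 (Q3 (Q6 (Q3 (Q4 (Q6 (Q4 (Q3 (Q6 (Q3 c))))))))))) c) (34 * 2048) 2048 = true := by decide +kernel
theorem chk_e6_b35 : allRange (fun c => Nat.beq (Q6 (Q4 (Q3 (Q6 (Q3 (Q4 (Q6 (Q4 (Q3 (Q6 (Q3 c))))))))))) c) (35 * 2048) 2048 = true := by decide +kernel
theorem chk_e6_b36 : allRange (fun c => Nat.beq (Q6 (Q4 (Q3 (Q6 (Q3 (Q4 (Q6 (Q4 (Q3 (Q6 (Q3 c))))))))))) c) (36 * 2048) 2048 = true := by decide +kernel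
theorem chk_e6_b37 : allRange (fun c => Nat.beq (Q6 (Q4 (Q3 (Q6 (Q3 (Q4 (Q6 (Q4 (Q3 (Q6 (Q3 c))))))))))) c) (37 * 2048) 2048 = true := by decide +kernel
theorem chk_e6_b38 : allRange (fun c => Nat.beq (Q6 (Q4 (Q3 (Q6 (Q3 (Q4 (Q6 (Q4 (Q3 (Q6 (Q3 c))))))))))) c) (38 * 2048) 2048 = true := by decide +kernel
theorem chk_e6_b39 : allRange (fun c => Nat.beq (Q6 (Q4 (Q3 (Q6 (Q3 (Q4 (Q6 (Q4 (Q3 (Q6 (Q3 c))))))))))) c) (39 * 2048) 2048 = true := by decide +kernel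
theorem chk_e6_b40 : allRange (fun c => Nat.beq (Q6 (Q4 (Q3 (Q6 (Q3 (Q4 (Q6 (Q4 (Q3 (Q6 (Q3 c))))))))))) c) (40 * 2048) 2048 = true := by decide +kernel
theorem chk_e6_b41 : allRange (fun c => Nat.beq (Q6 (Q4 (Q3 (Q6 (Q3 (Q4 (Q6 (Q4 (Q3 (Q6 (Q3 c))))))))))) c) (41 * 2048) 2048 = true := by decide +kernel
theorem chk_e6_b42 : allRange (fun c => Nat.beq (Q6 (Q4 (Q3 (Q6 (Q3 (Q4 (Q6 (Q4 (Q3 (Q6 (Q3 c))))))))))) c) (42 * 2048) 2048 = true := by decide +kernel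
theorem chk_e6_b43 : allRange (fun c => Nat.beq (Q6 (Q4 (Q3 (Q6 (Q3 (Q4 (Q6 (Q4 (Q3 (Q6 (Q3 c))))))))))) c) (43 * 2048) 2048 = true := by decide +kernel
theorem chk_e6_b44 : allRange (fun c => Nat.beq (Q6 (Q4 (Q3 (Q6 (Q3 (Q4 (Q6 (Q4 (Q3 (Q6 (Q3 c))))))))))) c) (44 * 2048) 2048 = true := by decide +kernel
theorem chk_e6_b45 : allRange (fun c => Nat.beq (Q6 (Q4 (Q3 (Q6 (Q3 (Q4 (Q6 (Q4 (Q3 (Q6 (Q3 c))))))))))) c) (45 * 2048) 2048 = true := by decide +kernel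
theorem chk_e6_b46 : allRange (fun c => Nat.beq (Q6 (Q4 (Q3 (Q6 (Q3 (Q4 (Q6 (Q4 (Q3 (Q6 (Q3 c))))))))))) c) (46 * 2048) 2048 = true := by decide +kernel
theorem chk_e6_b47 : allRange (fun c => Nat.beq (Q6 (Q4 (Q3 (Q6 (Q3 (Q4 (Q6 (Q4 (Q3 (Q6 (Q3 c))))))))))) c) (47 * 2048) 2048 = true := by decide +kernel
theorem chk_e6_b48 : allRange (fun c => Nat.beq (Q6 (Q4 (Q3 (Q6 (Q3 (Q4 (Q6 (Q4 (Q3 (Q6 (Q3 c))))))))))) c) (48 * 2048) 2048 = true := by decide +kernel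
theorem chk_e6_b49 : allRange (fun c => Nat.beq (Q6 (Q4 (Q3 (Q6 (Q3 (Q4 (Q6 (Q4 (Q3 (Q6 (Q3 c))))))))))) c) (49 * 2048) 2048 = true := by decide +kernel
theorem chk_e6_b50 : allRange (fun c => Nat.beq (Q6 (Q4 (Q3 (Q6 (Q3 (Q4 (Q6 (Q4 (Q3 (Q6 (Q3 c))))))))))) c) (50 * 2048) 2048 = true := by decide +kernel
theorem chk_e6_b51 : allRange (fun c => Nat.beq (Q6 (Q4 (Q3 (Q6 (Q3 (Q4 (Q6 (Q4 (Q3 (Q6 (Q3 c))))))))))) c) (51 * 2048) 2048 = true := by decide +kernel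
theorem chk_e6_b52 : allRange (fun c => Nat.beq (Q6 (Q4 (Q3 (Q6 (Q3 (Q4 (Q6 (Q4 (Q3 (Q6 (Q3 c))))))))))) c) (52 * 2048) 2048 = true := by decide +kernel
theorem chk_e6_b53 : allRange (fun c => Nat.beq (Q6 (Q4 (Q3 (Q6 (Q3 (Q4 (Q6 (Q4 (Q3 (Q6 (Q3 c))))))))))) c) (53 * 2048) 2048 = true := by decide +kernel
theorem chk_e6_b54 : allRange (fun c => Nat.beq (Q6 (Q4 (Q3 (Q6 (Q3 (Q4 (Q6 (Q4 (Q3 (Q6 (Q3 c))))))))))) c) (54 * 2048) 2048 = true := by decide +kernel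
theorem chk_e6_b55 : allRange (fun c => Nat.beq (Q6 (Q4 (Q3 (Q6 (Q3 (Q4 (Q6 (Q4 (Q3 (Q6 (Q3 c))))))))))) c) (55 * 2048) 2048 = true := by decide +kernel
theorem chk_e6_b56 : allRange (fun c => Nat.beq (Q6 (Q4 (Q3 (Q6 (Q3 (Q4 (Q6 (Q4 (Q3 (Q6 (Q3 c))))))))))) c) (56 * 2048) 2048 = true := by decide +kernel
theorem chk_e6_b57 : allRange (fun c => Nat.beq (Q6 (Q4 (Q3 (Q6 (Q3 (Q4 (Q6 (Q4 (Q3 (Q6 (Q3 c))))))))))) c) (57 * 2048) 2048 = true := by decide +kernel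
theorem chk_e6_b58 : allRange (fun c => Nat.beq (Q6 (Q4 (Q3 (Q6 (Q3 (Q4 (Q6 (Q4 (Q3 (Q6 (Q3 c))))))))))) c) (58 * 2048) 2048 = true := by decide +kernel
theorem chk_e6_t : allRange (fun c => Nat.beq (Q6 (Q4 (Q3 (Q6 (Q3 (Q4 (Q6 (Q4 (Q3 (Q6 (Q3 c))))))))))) c) (59 * 2048) 1928 = true := by decide +kernel
theorem chk_e6_all : ∀ c, c < 122760 → (fun c => Nat.beq (Q6 (Q4 (Q3 (Q6 (Q3 (Q4 (Q6 (Q4 (Q3 (Q6 (Q3 c))))))))))) c) c = true := by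
  intro c hc
  refine allRange_blocks _ 2048 59 1928 (by norm_num) ?_ chk_e6_t c hc
  intro k hk
  interval_cases k
  exacts [chk_e6_b0, chk_e6_b1, chk_e6_b2, chk_e6_b3, chk_e6_b4, chk_e6_b5, chk_e6_b6, chk_e6_b7, chk_e6_b8, chk_e6_b9, chk_e6_b10, chk_e6_b11, chk_e6_b12, chk_e6_b13, chk_e6_b14, chk_e6_b15, chk_e6_b16, chk_e6_b17, chk_e6_b18, chk_e6_b19, chk_e6_b20, chk_e6_b21, chk_e6_b22, chk_e6_b23, chk_e6_b24, chk_e6_b25, chk_e6_b26, chk_e6_b27, chk_e6_b28, chk_e6_b29, chk_e6_b30, chk_e6_b31, chk_e6_b32, chk_e6_b33, chk_e6_b34, chk_e6_b35, chk_e6_b36, chk_e6_b37, chk_e6_b38, chk_e6_b39, chk_e6_b40, chk_e6_b41, chk_e6_b42, chk_e6_b43, chk_e6_b44, chk_e6_b45, chk_e6_b46, chk_e6_b47, chk_e6_b48, chk_e6_b49, chk_e6_b50, chk_e6_b51, chk_e6_b52, chk_e6_b53, chk_e6_b54, chk_e6_b55, chk_e6_b56, chk_e6_b57, chk_e6_b58]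

theorem chk_c5_b0 : allRange (fun c => Nat.beq (Q1 (Q2 (Q1 (Q2 (Q1 (Q2 c)))))) c) (0 * 2048) 2048 = true := by decide +kernel
theorem chk_c5_b1 : allRange (fun c => Nat.beq (Q1 (Q2 (Q1 (Q2 (Q1 (Q2 c)))))) c) (1 * 2048) 2048 = true := by decide +kernel
theorem chk_c5_b2 : allRange (fun c => Nat.beq (Q1 (Q2 (Q1 (Q2 (Q1 (Q2 c)))))) c) (2 * 2048) 2048 = true := by decide +kernel
theorem chk_c5_b3 : allRange (fun c => Nat.beq (Q1 (Q2 (Q1 (Q2 (Q1 (Q2 c)))))) c) (3 * 2048) 2048 = true := by decide +kernel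
theorem chk_c5_b4 : allRange (fun c => Nat.beq (Q1 (Q2 (Q1 (Q2 (Q1 (Q2 c)))))) c) (4 * 2048) 2048 = true := by decide +kernel
theorem chk_c5_b5 : allRange (fun c => Nat.beq (Q1 (Q2 (Q1 (Q2 (Q1 (Q2 c)))))) c) (5 * 2048) 2048 = true := by decide +kernel
theorem chk_c5_b6 : allRange (fun c => Nat.beq (Q1 (Q2 (Q1 (Q2 (Q1 (Q2 c)))))) c) (6 * 2048) 2048 = true := by decide +kernel
theorem chk_c5_b7 : allRange (fun c => Nat.beq (Q1 (Q2 (Q1 (Q2 (Q1 (Q2 c)))))) c) (7 * 2048) 2048 = true := by decide +kernel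
theorem chk_c5_b8 : allRange (fun c => Nat.beq (Q1 (Q2 (Q1 (Q2 (Q1 (Q2 c)))))) c) (8 * 2048) 2048 = true := by decide +kernel
theorem chk_c5_b9 : allRange (fun c => Nat.beq (Q1 (Q2 (Q1 (Q2 (Q1 (Q2 c)))))) c) (9 * 2048) 2048 = true := by decide +kernel
theorem chk_c5_b10 : allRange (fun c => Nat.beq (Q1 (Q2 (Q1 (Q2 (Q1 (Q2 c)))))) c) (10 * 2048) 2048 = true := by decide +kernel
theorem chk_c5_b11 : allRange (fun c => Nat.beq (Q1 (Q2 (Q1 (Q2 (Q1 (Q2 c)))))) c) (11 * 2048) 2048 = true := by decide +kernel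
theorem chk_c5_b12 : allRange (fun c => Nat.beq (Q1 (Q2 (Q1 (Q2 (Q1 (Q2 c)))))) c) (12 * 2048) 2048 = true := by decide +kernel
theorem chk_c5_b13 : allRange (fun c => Nat.beq (Q1 (Q2 (Q1 (Q2 (Q1 (Q2 c)))))) c) (13 * 2048) 2048 = true := by decide +kernel
theorem chk_c5_b14 : allRange (fun c => Nat.beq (Q1 (Q2 (Q1 (Q2 (Q1 (Q2 c)))))) c) (14 * 2048) 2048 = true := by decide +kernel
theorem chk_c5_b15 : allRange (fun c => Nat.beq (Q1 (Q2 (Q1 (Q2 (Q1 (Q2 c)))))) c) (15 * 2048) 2048 = true := by decide +kernel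
theorem chk_c5_b16 : allRange (fun c => Nat.beq (Q1 (Q2 (Q1 (Q2 (Q1 (Q2 c)))))) c) (16 * 2048) 2048 = true := by decide +kernel
theorem chk_c5_b17 : allRange (fun c => Nat.beq (Q1 (Q2 (Q1 (Q2 (Q1 (Q2 c)))))) c) (17 * 2048) 2048 = true := by decide +kernel
theorem chk_c5_b18 : allRange (fun c => Nat.beq (Q1 (Q2 (Q1 (Q2 (Q1 (Q2 c)))))) c) (18 * 2048) 2048 = true := by decide +kernel
theorem chk_c5_b19 : allRange (fun c => Nat.beq (Q1 (Q2 (Q1 (Q2 (Q1 (Q2 c)))))) c) (19 * 2048) 2048 = true := by decide +kernel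
theorem chk_c5_b20 : allRange (fun c => Nat.beq (Q1 (Q2 (Q1 (Q2 (Q1 (Q2 c)))))) c) (20 * 2048) 2048 = true := by decide +kernel
theorem chk_c5_b21 : allRange (fun c => Nat.beq (Q1 (Q2 (Q1 (Q2 (Q1 (Q2 c)))))) c) (21 * 2048) 2048 = true := by decide +kernel
theorem chk_c5_b22 : allRange (fun c => Nat.beq (Q1 (Q2 (Q1 (Q2 (Q1 (Q2 c)))))) c) (22 * 2048) 2048 = true := by decide +kernel
theorem chk_c5_b23 : allRange (fun c => Nat.beq (Q1 (Q2 (Q1 (Q2 (Q1 (Q2 c)))))) c) (23 * 2048) 2048 = true := by decide +kernel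
theorem chk_c5_b24 : allRange (fun c => Nat.beq (Q1 (Q2 (Q1 (Q2 (Q1 (Q2 c)))))) c) (24 * 2048) 2048 = true := by decide +kernel
theorem chk_c5_b25 : allRange (fun c => Nat.beq (Q1 (Q2 (Q1 (Q2 (Q1 (Q2 c)))))) c) (25 * 2048) 2048 = true := by decide +kernel
theorem chk_c5_b26 : allRange (fun c => Nat.beq (Q1 (Q2 (Q1 (Q2 (Q1 (Q2 c)))))) c) (26 * 2048) 2048 = true := by decide +kernel
theorem chk_c5_b27 : allRange (fun c => Nat.beq (Q1 (Q2 (Q1 (Q2 (Q1 (Q2 c)))))) c) (27 * 2048) 2048 = true := by decide +kernel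
theorem chk_c5_b28 : allRange (fun c => Nat.beq (Q1 (Q2 (Q1 (Q2 (Q1 (Q2 c)))))) c) (28 * 2048) 2048 = true := by decide +kernel
theorem chk_c5_b29 : allRange (fun c => Nat.beq (Q1 (Q2 (Q1 (Q2 (Q1 (Q2 c)))))) c) (29 * 2048) 2048 = true := by decide +kernel
theorem chk_c5_b30 : allRange (fun c => Nat.beq (Q1 (Q2 (Q1 (Q2 (Q1 (Q2 c)))))) c) (30 * 2048) 2048 = true := by decide +kernel
theorem chk_c5_b31 : allRange (fun c => Nat.beq (Q1 (Q2 (Q1 (Q2 (Q1 (Q2 c)))))) c) (31 * 2048) 2048 = true := by decide +kernel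
theorem chk_c5_b32 : allRange (fun c => Nat.beq (Q1 (Q2 (Q1 (Q2 (Q1 (Q2 c)))))) c) (32 * 2048) 2048 = true := by decide +kernel
theorem chk_c5_b33 : allRange (fun c => Nat.beq (Q1 (Q2 (Q1 (Q2 (Q1 (Q2 c)))))) c) (33 * 2048) 2048 = true := by decide +kernel
theorem chk_c5_b34 : allRange (fun c => Nat.beq (Q1 (Q2 (Q1 (Q2 (Q1 (Q2 c)))))) c) (34 * 2048) 2048 = true := by decide +kernel
theorem chk_c5_b35 : allRange (fun c => Nat.beq (Q1 (Q2 (Q1 (Q2 (Q1 (Q2 c)))))) c) (35 * 2048) 2048 = true := by decide +kernel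
theorem chk_c5_b36 : allRange (fun c => Nat.beq (Q1 (Q2 (Q1 (Q2 (Q1 (Q2 c)))))) c) (36 * 2048) 2048 = true := by decide +kernel
theorem chk_c5_b37 : allRange (fun c => Nat.beq (Q1 (Q2 (Q1 (Q2 (Q1 (Q2 c)))))) c) (37 * 2048) 2048 = true := by decide +kernel
theorem chk_c5_b38 : allRange (fun c => Nat.beq (Q1 (Q2 (Q1 (Q2 (Q1 (Q2 c)))))) c) (38 * 2048) 2048 = true := by decide +kernel
theorem chk_c5_b39 : allRange (fun c => Nat.beq (Q1 (Q2 (Q1 (Q2 (Q1 (Q2 c)))))) c) (39 * 2048) 2048 = true := by decide +kernel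
theorem chk_c5_b40 : allRange (fun c => Nat.beq (Q1 (Q2 (Q1 (Q2 (Q1 (Q2 c)))))) c) (40 * 2048) 2048 = true := by decide +kernel
theorem chk_c5_b41 : allRange (fun c => Nat.beq (Q1 (Q2 (Q1 (Q2 (Q1 (Q2 c)))))) c) (41 * 2048) 2048 = true := by decide +kernel
theorem chk_c5_b42 : allRange (fun c => Nat.beq (Q1 (Q2 (Q1 (Q2 (Q1 (Q2 c)))))) c) (42 * 2048) 2048 = true := by decide +kernel
theorem chk_c5_b43 : allRange (fun c => Nat.beq (Q1 (Q2 (Q1 (Q2 (Q1 (Q2 c)))))) c) (43 * 2048) 2048 = true := by decide +kernel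
theorem chk_c5_b44 : allRange (fun c => Nat.beq (Q1 (Q2 (Q1 (Q2 (Q1 (Q2 c)))))) c) (44 * 2048) 2048 = true := by decide +kernel
theorem chk_c5_b45 : allRange (fun c => Nat.beq (Q1 (Q2 (Q1 (Q2 (Q1 (Q2 c)))))) c) (45 * 2048) 2048 = true := by decide +kernel
theorem chk_c5_b46 : allRange (fun c => Nat.beq (Q1 (Q2 (Q1 (Q2 (Q1 (Q2 c)))))) c) (46 * 2048) 2048 = true := by decide +kernel
theorem chk_c5_b47 : allRange (fun c => Nat.beq (Q1 (Q2 (Q1 (Q2 (Q1 (Q2 c)))))) c) (47 * 2048) 2048 = true := by decide +kernel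
theorem chk_c5_b48 : allRange (fun c => Nat.beq (Q1 (Q2 (Q1 (Q2 (Q1 (Q2 c)))))) c) (48 * 2048) 2048 = true := by decide +kernel
theorem chk_c5_b49 : allRange (fun c => Nat.beq (Q1 (Q2 (Q1 (Q2 (Q1 (Q2 c)))))) c) (49 * 2048) 2048 = true := by decide +kernel
theorem chk_c5_b50 : allRange (fun c => Nat.beq (Q1 (Q2 (Q1 (Q2 (Q1 (Q2 c)))))) c) (50 * 2048) 2048 = true := by decide +kernel
theorem chk_c5_b51 : allRange (fun c => Nat.beq (Q1 (Q2 (Q1 (Q2 (Q1 (Q2 c)))))) c) (51 * 2048) 2048 = true := by decide +kernel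
theorem chk_c5_b52 : allRange (fun c => Nat.beq (Q1 (Q2 (Q1 (Q2 (Q1 (Q2 c)))))) c) (52 * 2048) 2048 = true := by decide +kernel
theorem chk_c5_b53 : allRange (fun c => Nat.beq (Q1 (Q2 (Q1 (Q2 (Q1 (Q2 c)))))) c) (53 * 2048) 2048 = true := by decide +kernel
theorem chk_c5_b54 : allRange (fun c => Nat.beq (Q1 (Q2 (Q1 (Q2 (Q1 (Q2 c)))))) c) (54 * 2048) 2048 = true := by decide +kernel
theorem chk_c5_b55 : allRange (fun c => Nat.beq (Q1 (Q2 (Q1 (Q2 (Q1 (Q2 c)))))) c) (55 * 2048) 2048 = true := by decide +kernel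
theorem chk_c5_b56 : allRange (fun c => Nat.beq (Q1 (Q2 (Q1 (Q2 (Q1 (Q2 c)))))) c) (56 * 2048) 2048 = true := by decide +kernel
theorem chk_c5_b57 : allRange (fun c => Nat.beq (Q1 (Q2 (Q1 (Q2 (Q1 (Q2 c)))))) c) (57 * 2048) 2048 = true := by decide +kernel
theorem chk_c5_b58 : allRange (fun c => Nat.beq (Q1 (Q2 (Q1 (Q2 (Q1 (Q2 c)))))) c) (58 * 2048) 2048 = true := by decide +kernel
theorem chk_c5_t : allRange (fun c => Nat.beq (Q1 (Q2 (Q1 (Q2 (Q1 (Q2 c)))))) c) (59 * 2048) 1928 = true := by decide +kernel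
theorem chk_c5_all : ∀ c, c < 122760 → (fun c => Nat.beq (Q1 (Q2 (Q1 (Q2 (Q1 (Q2 c)))))) c) c = true := by
  intro c hc
  refine allRange_blocks _ 2048 59 1928 (by norm_num) ?_ chk_c5_t c hc
  intro k hk
  interval_cases k
  exacts [chk_c5_b0, chk_c5_b1, chk_c5_b2, chk_c5_b3, chk_c5_b4, chk_c5_b5, chk_c5_b6, chk_c5_b7, chk_c5_b8, chk_c5_b9, chk_c5_b10, chk_c5_b11, chk_c5_b12, chk_c5_b13, chk_c5_b14, chk_c5_b15, chk_c5_b16, chk_c5_b17, chk_c5_b18, chk_c5_b19, chk_c5_b20, chk_c5_b21, chk_c5_b22, chk_c5_b23, chk_c5_b24, chk_c5_b25, chk_c5_b26, chk_c5_b27, chk_c5_b28, chk_c5_b29, chk_c5_b30, chk_c5_b31, chk_c5_b32, chk_c5_b33, chk_c5_b34, chk_c5_b35, chk_c5_b36, chk_c5_b37, chk_c5_b38, chk_c5_b39, chk_c5_b40, chk_c5_b41, chk_c5_b42, chk_c5_b43, chk_c5_b44, chk_c5_b45, chk_c5_b46, chk_c5_b47, chk_c5_b48, chk_c5_b49, chk_c5_b50, chk_c5_b51,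 chk_c5_b52, chk_c5_b53, chk_c5_b54, chk_c5_b55, chk_c5_b56, chk_c5_b57, chk_c5_b58]

end Cfsg.Agent.Lib.helper35.Ona
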