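import Cfsg.Agent.Lib.helper35.OnData
import Cfsg.Agent.Lib.helper35.OnBlk

/-!
Relators of the presented O'Nan group act trivially on the 122760 points (part 5).
-/

set_option autoImplicit false
set_option maxRecDepth 100000
set_option Elab.async false

namespace Cfsg.Agent.Lib.helper35.Ona

open Cfsg.Agent.Lib.helper35

theorem chk_e1_b0 : allRange (fun c => Nat.beq (Q0 (Q5 (Q3 (Q2 (Q3 (Q2 (Q3 (Q2 (Q3 (Q2 c)))))))))) c) (0 * 2048) 2048 = true := by decide +kernel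
theorem chk_e1_b1 : allRange (fun c => Nat.beq (Q0 (Q5 (Q3 (Q2 (Q3 (Q2 (Q3 (Q2 (Q3 (Q2 c)))))))))) c) (1 * 2048) 2048 = true := by decide +kernel
theorem chk_e1_b2 : allRange (fun c => Nat.beq (Q0 (Q5 (Q3 (Q2 (Q3 (Q2 (Q3 (Q2 (Q3 (Q2 c)))))))))) c) (2 * 2048) 2048 = true := by decide +kernel
theorem chk_e1_b3 : allRange (fun c => Nat.beq (Q0 (Q5 (Q3 (Q2 (Q3 (Q2 (Q3 (Q2 (Q3 (Q2 c)))))))))) c) (3 * 2048) 2048 = true := by decide +kernel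
theorem chk_e1_b4 : allRange (fun c => Nat.beq (Q0 (Q5 (Q3 (Q2 (Q3 (Q2 (Q3 (Q2 (Q3 (Q2 c)))))))))) c) (4 * 2048) 2048 = true := by decide +kernel
theorem chk_e1_b5 : allRange (fun c => Nat.beq (Q0 (Q5 (Q3 (Q2 (Q3 (Q2 (Q3 (Q2 (Q3 (Q2 c)))))))))) c) (5 * 2048) 2048 = true := by decide +kernel
theorem chk_e1_b6 : allRange (fun c => Nat.beq (Q0 (Q5 (Q3 (Q2 (Q3 (Q2 (Q3 (Q2 (Q3 (Q2 c)))))))))) c) (6 * 2048) 2048 = true := by decide +kernel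
theorem chk_e1_b7 : allRange (fun c => Nat.beq (Q0 (Q5 (Q3 (Q2 (Q3 (Q2 (Q3 (Q2 (Q3 (Q2 c)))))))))) c) (7 * 2048) 2048 = true := by decide +kernel
theorem chk_e1_b8 : allRange (fun c => Nat.beq (Q0 (Q5 (Q3 (Q2 (Q3 (Q2 (Q3 (Q2 (Q3 (Q2 c)))))))))) c) (8 * 2048) 2048 = true := by decide +kernel
theorem chk_e1_b9 : allRange (fun c => Nat.beq (Q0 (Q5 (Q3 (Q2 (Q3 (Q2 (Q3 (Q2 (Q3 (Q2 c)))))))))) c) (9 * 2048) 2048 = true := by decide +kernel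
theorem chk_e1_b10 : allRange (fun c => Nat.beq (Q0 (Q5 (Q3 (Q2 (Q3 (Q2 (Q3 (Q2 (Q3 (Q2 c)))))))))) c) (10 * 2048) 2048 = true := by decide +kernel
theorem chk_e1_b11 : allRange (fun c => Nat.beq (Q0 (Q5 (Q3 (Q2 (Q3 (Q2 (Q3 (Q2 (Q3 (Q2 c)))))))))) c) (11 * 2048) 2048 = true := by decide +kernel
theorem chk_e1_b12 : allRange (fun c => Nat.beq (Q0 (Q5 (Q3 (Q2 (Q3 (Q2 (Q3 (Q2 (Q3 (Q2 c)))))))))) c) (12 * 2048) 2048 = true := by decide +kernel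
theorem chk_e1_b13 : allRange (fun c => Nat.beq (Q0 (Q5 (Q3 (Q2 (Q3 (Q2 (Q3 (Q2 (Q3 (Q2 c)))))))))) c) (13 * 2048) 2048 = true := by decide +kernel
theorem chk_e1_b14 : allRange (fun c => Nat.beq (Q0 (Q5 (Q3 (Q2 (Q3 (Q2 (Q3 (Q2 (Q3 (Q2 c)))))))))) c) (14 * 2048) 2048 = true := by decide +kernel
theorem chk_e1_b15 : allRange (fun c => Nat.beq (Q0 (Q5 (Q3 (Q2 (Q3 (Q2 (Q3 (Q2 (Q3 (Q2 c)))))))))) c) (15 * 2048) 2048 = true := by decide +kernel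
theorem chk_e1_b16 : allRange (fun c => Nat.beq (Q0 (Q5 (Q3 (Q2 (Q3 (Q2 (Q3 (Q2 (Q3 (Q2 c)))))))))) c) (16 * 2048) 2048 = true := by decide +kernel
theorem chk_e1_b17 : allRange (fun c => Nat.beq (Q0 (Q5 (Q3 (Q2 (Q3 (Q2 (Q3 (Q2 (Q3 (Q2 c)))))))))) c) (17 * 2048) 2048 = true := by decide +kernel
theorem chk_e1_b18 : allRange (fun c => Nat.beq (Q0 (Q5 (Q3 (Q2 (Q3 (Q2 (Q3 (Q2 (Q3 (Q2 c)))))))))) c) (18 * 2048) 2048 = true := by decide +kernel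
theorem chk_e1_b19 : allRange (fun c => Nat.beq (Q0 (Q5 (Q3 (Q2 (Q3 (Q2 (Q3 (Q2 (Q3 (Q2 c)))))))))) c) (19 * 2048) 2048 = true := by decide +kernel
theorem chk_e1_b20 : allRange (fun c => Nat.beq (Q0 (Q5 (Q3 (Q2 (Q3 (Q2 (Q3 (Q2 (Q3 (Q2 c)))))))))) c) (20 * 2048) 2048 = true := by decide +kernel
theorem chk_e1_b21 : allRange (fun c => Nat.beq (Q0 (Q5 (Q3 (Q2 (Q3 (Q2 (Q3 (Q2 (Q3 (Q2 c)))))))))) c) (21 * 2048) 2048 = true := by decide +kernel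
theorem chk_e1_b22 : allRange (fun c => Nat.beq (Q0 (Q5 (Q3 (Q2 (Q3 (Q2 (Q3 (Q2 (Q3 (Q2 c)))))))))) c) (22 * 2048) 2048 = true := by decide +kernel
theorem chk_e1_b23 : allRange (fun c => Nat.beq (Q0 (Q5 (Q3 (Q2 (Q3 (Q2 (Q3 (Q2 (Q3 (Q2 c)))))))))) c) (23 * 2048) 2048 = true := by decide +kernel
theorem chk_e1_b24 : allRange (fun c => Nat.beq (Q0 (Q5 (Q3 (Q2 (Q3 (Q2 (Q3 (Q2 (Q3 (Q2 c)))))))))) c) (24 * 2048) 2048 = true := by decide +kernel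
theorem chk_e1_b25 : allRange (fun c => Nat.beq (Q0 (Q5 (Q3 (Q2 (Q3 (Q2 (Q3 (Q2 (Q3 (Q2 c)))))))))) c) (25 * 2048) 2048 = true := by decide +kernel
theorem chk_e1_b26 : allRange (fun c => Nat.beq (Q0 (Q5 (Q3 (Q2 (Q3 (Q2 (Q3 (Q2 (Q3 (Q2 c)))))))))) c) (26 * 2048) 2048 = true := by decide +kernel
theorem chk_e1_b27 : allRange (fun c => Nat.beq (Q0 (Q5 (Q3 (Q2 (Q3 (Q2 (Q3 (Q2 (Q3 (Q2 c)))))))))) c) (27 * 2048) 2048 = true := by decide +kernel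
theorem chk_e1_b28 : allRange (fun c => Nat.beq (Q0 (Q5 (Q3 (Q2 (Q3 (Q2 (Q3 (Q2 (Q3 (Q2 c)))))))))) c) (28 * 2048) 2048 = true := by decide +kernel
theorem chk_e1_b29 : allRange (fun c => Nat.beq (Q0 (Q5 (Q3 (Q2 (Q3 (Q2 (Q3 (Q2 (Q3 (Q2 c)))))))))) c) (29 * 2048) 2048 = true := by decide +kernel
theorem chk_e1_b30 : allRange (fun c => Nat.beq (Q0 (Q5 (Q3 (Q2 (Q3 (Q2 (Q3 (Q2 (Q3 (Q2 c)))))))))) c) (30 * 2048) 2048 = true := by decide +kernel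
theorem chk_e1_b31 : allRange (fun c => Nat.beq (Q0 (Q5 (Q3 (Q2 (Q3 (Q2 (Q3 (Q2 (Q3 (Q2 c)))))))))) c) (31 * 2048) 2048 = true := by decide +kernel
theorem chk_e1_b32 : allRange (fun c => Nat.beq (Q0 (Q5 (Q3 (Q2 (Q3 (Q2 (Q3 (Q2 (Q3 (Q2 c)))))))))) c) (32 * 2048) 2048 = true := by decide +kernel
theorem chk_e1_b33 : allRange (fun c => Nat.beq (Q0 (Q5 (Q3 (Q2 (Q3 (Q2 (Q3 (Q2 (Q3 (Q2 c)))))))))) c) (33 * 2048) 2048 = true := by decide +kernel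
theorem chk_e1_b34 : allRange (fun c => Nat.beq (Q0 (Q5 (Q3 (Q2 (Q3 (Q2 (Q3 (Q2 (Q3 (Q2 c)))))))))) c) (34 * 2048) 2048 = true := by decide +kernel
theorem chk_e1_b35 : allRange (fun c => Nat.beq (Q0 (Q5 (Q3 (Q2 (Q3 (Q2 (Q3 (Q2 (Q3 (Q2 c)))))))))) c) (35 * 2048) 2048 = true := by decide +kernel
theorem chk_e1_b36 : allRange (fun c => Nat.beq (Q0 (Q5 (Q3 (Q2 (Q3 (Q2 (Q3 (Q2 (Q3 (Q2 c)))))))))) c) (36 * 2048) 2048 = true := by decide +kernel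
theorem chk_e1_b37 : allRange (fun c => Nat.beq (Q0 (Q5 (Q3 (Q2 (Q3 (Q2 (Q3 (Q2 (Q3 (Q2 c)))))))))) c) (37 * 2048) 2048 = true := by decide +kernel
theorem chk_e1_b38 : allRange (fun c => Nat.beq (Q0 (Q5 (Q3 (Q2 (Q3 (Q2 (Q3 (Q2 (Q3 (Q2 c)))))))))) c) (38 * 2048) 2048 = true := by decide +kernel
theorem chk_e1_b39 : allRange (fun c => Nat.beq (Q0 (Q5 (Q3 (Q2 (Q3 (Q2 (Q3 (Q2 (Q3 (Q2 c)))))))))) c) (39 * 2048) 2048 = true := by decide +kernel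
theorem chk_e1_b40 : allRange (fun c => Nat.beq (Q0 (Q5 (Q3 (Q2 (Q3 (Q2 (Q3 (Q2 (Q3 (Q2 c)))))))))) c) (40 * 2048) 2048 = true := by decide +kernel
theorem chk_e1_b41 : allRange (fun c => Nat.beq (Q0 (Q5 (Q3 (Q2 (Q3 (Q2 (Q3 (Q2 (Q3 (Q2 c)))))))))) c) (41 * 2048) 2048 = true := by decide +kernel
theorem chk_e1_b42 : allRange (fun c => Nat.beq (Q0 (Q5 (Q3 (Q2 (Q3 (Q2 (Q3 (Q2 (Q3 (Q2 c)))))))))) c) (42 * 2048) 2048 = true := by decide +kernel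
theorem chk_e1_b43 : allRange (fun c => Nat.beq (Q0 (Q5 (Q3 (Q2 (Q3 (Q2 (Q3 (Q2 (Q3 (Q2 c)))))))))) c) (43 * 2048) 2048 = true := by decide +kernel
theorem chk_e1_b44 : allRange (fun c => Nat.beq (Q0 (Q5 (Q3 (Q2 (Q3 (Q2 (Q3 (Q2 (Q3 (Q2 c)))))))))) c) (44 * 2048) 2048 = true := by decide +kernel
theorem chk_e1_b45 : allRange (fun c => Nat.beq (Q0 (Q5 (Q3 (Q2 (Q3 (Q2 (Q3 (Q2 (Q3 (Q2 c)))))))))) c) (45 * 2048) 2048 = true := by decide +kernel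
theorem chk_e1_b46 : allRange (fun c => Nat.beq (Q0 (Q5 (Q3 (Q2 (Q3 (Q2 (Q3 (Q2 (Q3 (Q2 c)))))))))) c) (46 * 2048) 2048 = true := by decide +kernel
theorem chk_e1_b47 : allRange (fun c => Nat.beq (Q0 (Q5 (Q3 (Q2 (Q3 (Q2 (Q3 (Q2 (Q3 (Q2 c)))))))))) c) (47 * 2048) 2048 = true := by decide +kernel
theorem chk_e1_b48 : allRange (fun c => Nat.beq (Q0 (Q5 (Q3 (Q2 (Q3 (Q2 (Q3 (Q2 (Q3 (Q2 c)))))))))) c) (48 * 2048) 2048 = true := by decide +kernel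
theorem chk_e1_b49 : allRange (fun c => Nat.beq (Q0 (Q5 (Q3 (Q2 (Q3 (Q2 (Q3 (Q2 (Q3 (Q2 c)))))))))) c) (49 * 2048) 2048 = true := by decide +kernel
theorem chk_e1_b50 : allRange (fun c => Nat.beq (Q0 (Q5 (Q3 (Q2 (Q3 (Q2 (Q3 (Q2 (Q3 (Q2 c)))))))))) c) (50 * 2048) 2048 = true := by decide +kernel
theorem chk_e1_b51 : allRange (fun c => Nat.beq (Q0 (Q5 (Q3 (Q2 (Q3 (Q2 (Q3 (Q2 (Q3 (Q2 c)))))))))) c) (51 * 2048) 2048 = true := by decide +kernel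
theorem chk_e1_b52 : allRange (fun c => Nat.beq (Q0 (Q5 (Q3 (Q2 (Q3 (Q2 (Q3 (Q2 (Q3 (Q2 c)))))))))) c) (52 * 2048) 2048 = true := by decide +kernel
theorem chk_e1_b53 : allRange (fun c => Nat.beq (Q0 (Q5 (Q3 (Q2 (Q3 (Q2 (Q3 (Q2 (Q3 (Q2 c)))))))))) c) (53 * 2048) 2048 = true := by decide +kernel
theorem chk_e1_b54 : allRange (fun c => Nat.beq (Q0 (Q5 (Q3 (Q2 (Q3 (Q2 (Q3 (Q2 (Q3 (Q2 c)))))))))) c) (54 * 2048) 2048 = true := by decide +kernel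
theorem chk_e1_b55 : allRange (fun c => Nat.beq (Q0 (Q5 (Q3 (Q2 (Q3 (Q2 (Q3 (Q2 (Q3 (Q2 c)))))))))) c) (55 * 2048) 2048 = true := by decide +kernel
theorem chk_e1_b56 : allRange (fun c => Nat.beq (Q0 (Q5 (Q3 (Q2 (Q3 (Q2 (Q3 (Q2 (Q3 (Q2 c)))))))))) c) (56 * 2048) 2048 = true := by decide +kernel
theorem chk_e1_b57 : allRange (fun c => Nat.beq (Q0 (Q5 (Q3 (Q2 (Q3 (Q2 (Q3 (Q2 (Q3 (Q2 c)))))))))) c) (57 * 2048) 2048 = true := by decide +kernel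
theorem chk_e1_b58 : allRange (fun c => Nat.beq (Q0 (Q5 (Q3 (Q2 (Q3 (Q2 (Q3 (Q2 (Q3 (Q2 c)))))))))) c) (58 * 2048) 2048 = true := by decide +kernel
theorem chk_e1_t : allRange (fun c => Nat.beq (Q0 (Q5 (Q3 (Q2 (Q3 (Q2 (Q3 (Q2 (Q3 (Q2 c)))))))))) c) (59 * 2048) 1928 = true := by decide +kernel
theorem chk_e1_all : ∀ c, c < 122760 → (fun c => Nat.beq (Q0 (Q5 (Q3 (Q2 (Q3 (Q2 (Q3 (Q2 (Q3 (Q2 c)))))))))) c) c = true := by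
  intro c hc
  refine allRange_blocks _ 2048 59 1928 (by norm_num) ?_ chk_e1_t c hc
  intro k hk
  interval_cases k
  exacts [chk_e1_b0, chk_e1_b1, chk_e1_b2, chk_e1_b3, chk_e1_b4, chk_e1_b5, chk_e1_b6, chk_e1_b7, chk_e1_b8, chk_e1_b9, chk_e1_b10, chk_e1_b11, chk_e1_b12, chk_e1_b13, chk_e1_b14, chk_e1_b15, chk_e1_b16, chk_e1_b17, chk_e1_b18, chk_e1_b19, chk_e1_b20, chk_e1_b21, chk_e1_b22, chk_e1_b23, chk_e1_b24, chk_e1_b25, chk_e1_b26, chk_e1_b27, chk_e1_b28, chk_e1_b29, chk_e1_b30, chk_e1_b31, chk_e1_b32, chk_e1_b33, chk_e1_b34, chk_e1_b35, chk_e1_b36, chk_e1_b37, chk_e1_b38, chk_e1_b39, chk_e1_b40, chk_e1_b41, chk_e1_b42, chk_e1_b43, chk_e1_b44, chk_e1_b45, chk_e1_b46, chk_e1_b47, chk_e1_b48, chk_e1_b49, chk_e1_b50, chk_e1_b51, chk_e1_b52, chk_e1_b53, chk_e1_b54, chk_e1_b55, chk_e1_b56, chk_e1_b57, chk_e1_b58]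

theorem chk_e2_b0 : allRange (fun c => Nat.beq (Q2 (Q7 (Q3 (Q7 (Q3 (Q2 (Q3 (Q6 (Q3 (Q6 c)))))))))) c) (0 * 2048) 2048 = true := by decide +kernel
theorem chk_e2_b1 : allRange (fun c => Nat.beq (Q2 (Q7 (Q3 (Q7 (Q3 (Q2 (Q3 (Q6 (Q3 (Q6 c)))))))))) c) (1 * 2048) 2048 = true := by decide +kernel
theorem chk_e2_b2 : allRange (fun c => Nat.beq (Q2 (Q7 (Q3 (Q7 (Q3 (Q2 (Q3 (Q6 (Q3 (Q6 c)))))))))) c) (2 * 2048) 2048 = true := by decide +kernel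
theorem chk_e2_b3 : allRange (fun c => Nat.beq (Q2 (Q7 (Q3 (Q7 (Q3 (Q2 (Q3 (Q6 (Q3 (Q6 c)))))))))) c) (3 * 2048) 2048 = true := by decide +kernel
theorem chk_e2_b4 : allRange (fun c => Nat.beq (Q2 (Q7 (Q3 (Q7 (Q3 (Q2 (Q3 (Q6 (Q3 (Q6 c)))))))))) c) (4 * 2048) 2048 = true := by decide +kernel
theorem chk_e2_b5 : allRange (fun c => Nat.beq (Q2 (Q7 (Q3 (Q7 (Q3 (Q2 (Q3 (Q6 (Q3 (Q6 c)))))))))) c) (5 * 2048) 2048 = true := by decide +kernel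
theorem chk_e2_b6 : allRange (fun c => Nat.beq (Q2 (Q7 (Q3 (Q7 (Q3 (Q2 (Q3 (Q6 (Q3 (Q6 c)))))))))) c) (6 * 2048) 2048 = true := by decide +kernel
theorem chk_e2_b7 : allRange (fun c => Nat.beq (Q2 (Q7 (Q3 (Q7 (Q3 (Q2 (Q3 (Q6 (Q3 (Q6 c)))))))))) c) (7 * 2048) 2048 = true := by decide +kernel
theorem chk_e2_b8 : allRange (fun c => Nat.beq (Q2 (Q7 (Q3 (Q7 (Q3 (Q2 (Q3 (Q6 (Q3 (Q6 c)))))))))) c) (8 * 2048) 2048 = true := by decide +kernel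
theorem chk_e2_b9 : allRange (fun c => Nat.beq (Q2 (Q7 (Q3 (Q7 (Q3 (Q2 (Q3 (Q6 (Q3 (Q6 c)))))))))) c) (9 * 2048) 2048 = true := by decide +kernel
theorem chk_e2_b10 : allRange (fun c => Nat.beq (Q2 (Q7 (Q3 (Q7 (Q3 (Q2 (Q3 (Q6 (Q3 (Q6 c)))))))))) c) (10 * 2048) 2048 = true := by decide +kernel
theorem chk_e2_b11 : allRange (fun c => Nat.beq (Q2 (Q7 (Q3 (Q7 (Q3 (Q2 (Q3 (Q6 (Q3 (Q6 c)))))))))) c) (11 * 2048) 2048 = true := by decide +kernel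
theorem chk_e2_b12 : allRange (fun c => Nat.beq (Q2 (Q7 (Q3 (Q7 (Q3 (Q2 (Q3 (Q6 (Q3 (Q6 c)))))))))) c) (12 * 2048) 2048 = true := by decide +kernel
theorem chk_e2_b13 : allRange (fun c => Nat.beq (Q2 (Q7 (Q3 (Q7 (Q3 (Q2 (Q3 (Q6 (Q3 (Q6 c)))))))))) c) (13 * 2048) 2048 = true := by decide +kernel
theorem chk_e2_b14 : allRange (fun c => Nat.beq (Q2 (Q7 (Q3 (Q7 (Q3 (Q2 (Q3 (Q6 (Q3 (Q6 c)))))))))) c) (14 * 2048) 2048 = true := by decide +kernel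
theorem chk_e2_b15 : allRange (fun c => Nat.beq (Q2 (Q7 (Q3 (Q7 (Q3 (Q2 (Q3 (Q6 (Q3 (Q6 c)))))))))) c) (15 * 2048) 2048 = true := by decide +kernel
theorem chk_e2_b16 : allRange (fun c => Nat.beq (Q2 (Q7 (Q3 (Q7 (Q3 (Q2 (Q3 (Q6 (Q3 (Q6 c)))))))))) c) (16 * 2048) 2048 = true := by decide +kernel
theorem chk_e2_b17 : allRange (fun c => Nat.beq (Q2 (Q7 (Q3 (Q7 (Q3 (Q2 (Q3 (Q6 (Q3 (Q6 c)))))))))) c) (17 * 2048) 2048 = true := by decide +kernel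
theorem chk_e2_b18 : allRange (fun c => Nat.beq (Q2 (Q7 (Q3 (Q7 (Q3 (Q2 (Q3 (Q6 (Q3 (Q6 c)))))))))) c) (18 * 2048) 2048 = true := by decide +kernel
theorem chk_e2_b19 : allRange (fun c => Nat.beq (Q2 (Q7 (Q3 (Q7 (Q3 (Q2 (Q3 (Q6 (Q3 (Q6 c)))))))))) c) (19 * 2048) 2048 = true := by decide +kernel
theorem chk_e2_b20 : allRange (fun c => Nat.beq (Q2 (Q7 (Q3 (Q7 (Q3 (Q2 (Q3 (Q6 (Q3 (Q6 c)))))))))) c) (20 * 2048) 2048 = true := by decide +kernel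
theorem chk_e2_b21 : allRange (fun c => Nat.beq (Q2 (Q7 (Q3 (Q7 (Q3 (Q2 (Q3 (Q6 (Q3 (Q6 c)))))))))) c) (21 * 2048) 2048 = true := by decide +kernel
theorem chk_e2_b22 : allRange (fun c => Nat.beq (Q2 (Q7 (Q3 (Q7 (Q3 (Q2 (Q3 (Q6 (Q3 (Q6 c)))))))))) c) (22 * 2048) 2048 = true := by decide +kernel
theorem chk_e2_b23 : allRange (fun c => Nat.beq (Q2 (Q7 (Q3 (Q7 (Q3 (Q2 (Q3 (Q6 (Q3 (Q6 c)))))))))) c) (23 * 2048) 2048 = true := by decide +kernel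
theorem chk_e2_b24 : allRange (fun c => Nat.beq (Q2 (Q7 (Q3 (Q7 (Q3 (Q2 (Q3 (Q6 (Q3 (Q6 c)))))))))) c) (24 * 2048) 2048 = true := by decide +kernel
theorem chk_e2_b25 : allRange (fun c => Nat.beq (Q2 (Q7 (Q3 (Q7 (Q3 (Q2 (Q3 (Q6 (Q3 (Q6 c)))))))))) c) (25 * 2048) 2048 = true := by decide +kernel
theorem chk_e2_b26 : allRange (fun c => Nat.beq (Q2 (Q7 (Q3 (Q7 (Q3 (Q2 (Q3 (Q6 (Q3 (Q6 c)))))))))) c) (26 * 2048) 2048 = true := by decide +kernel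
theorem chk_e2_b27 : allRange (fun c => Nat.beq (Q2 (Q7 (Q3 (Q7 (Q3 (Q2 (Q3 (Q6 (Q3 (Q6 c)))))))))) c) (27 * 2048) 2048 = true := by decide +kernel
theorem chk_e2_b28 : allRange (fun c => Nat.beq (Q2 (Q7 (Q3 (Q7 (Q3 (Q2 (Q3 (Q6 (Q3 (Q6 c)))))))))) c) (28 * 2048) 2048 = true := by decide +kernel
theorem chk_e2_b29 : allRange (fun c => Nat.beq (Q2 (Q7 (Q3 (Q7 (Q3 (Q2 (Q3 (Q6 (Q3 (Q6 c)))))))))) c) (29 * 2048) 2048 = true := by decide +kernel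
theorem chk_e2_b30 : allRange (fun c => Nat.beq (Q2 (Q7 (Q3 (Q7 (Q3 (Q2 (Q3 (Q6 (Q3 (Q6 c)))))))))) c) (30 * 2048) 2048 = true := by decide +kernel
theorem chk_e2_b31 : allRange (fun c => Nat.beq (Q2 (Q7 (Q3 (Q7 (Q3 (Q2 (Q3 (Q6 (Q3 (Q6 c)))))))))) c) (31 * 2048) 2048 = true := by decide +kernel
theorem chk_e2_b32 : allRange (fun c => Nat.beq (Q2 (Q7 (Q3 (Q7 (Q3 (Q2 (Q3 (Q6 (Q3 (Q6 c)))))))))) c) (32 * 2048) 2048 = true := by decide +kernel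
theorem chk_e2_b33 : allRange (fun c => Nat.beq (Q2 (Q7 (Q3 (Q7 (Q3 (Q2 (Q3 (Q6 (Q3 (Q6 c)))))))))) c) (33 * 2048) 2048 = true := by decide +kernel
theorem chk_e2_b34 : allRange (fun c => Nat.beq (Q2 (Q7 (Q3 (Q7 (Q3 (Q2 (Q3 (Q6 (Q3 (Q6 c)))))))))) c) (34 * 2048) 2048 = true := by decide +kernel
theorem chk_e2_b35 : allRange (fun c => Nat.beq (Q2 (Q7 (Q3 (Q7 (Q3 (Q2 (Q3 (Q6 (Q3 (Q6 c)))))))))) c) (35 * 2048) 2048 = true := by decide +kernel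
theorem chk_e2_b36 : allRange (fun c => Nat.beq (Q2 (Q7 (Q3 (Q7 (Q3 (Q2 (Q3 (Q6 (Q3 (Q6 c)))))))))) c) (36 * 2048) 2048 = true := by decide +kernel
theorem chk_e2_b37 : allRange (fun c => Nat.beq (Q2 (Q7 (Q3 (Q7 (Q3 (Q2 (Q3 (Q6 (Q3 (Q6 c)))))))))) c) (37 * 2048) 2048 = true := by decide +kernel
theorem chk_e2_b38 : allRange (fun c => Nat.beq (Q2 (Q7 (Q3 (Q7 (Q3 (Q2 (Q3 (Q6 (Q3 (Q6 c)))))))))) c) (38 * 2048) 2048 = true := by decide +kernel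
theorem chk_e2_b39 : allRange (fun c => Nat.beq (Q2 (Q7 (Q3 (Q7 (Q3 (Q2 (Q3 (Q6 (Q3 (Q6 c)))))))))) c) (39 * 2048) 2048 = true := by decide +kernel
theorem chk_e2_b40 : allRange (fun c => Nat.beq (Q2 (Q7 (Q3 (Q7 (Q3 (Q2 (Q3 (Q6 (Q3 (Q6 c)))))))))) c) (40 * 2048) 2048 = true := by decide +kernel
theorem chk_e2_b41 : allRange (fun c => Nat.beq (Q2 (Q7 (Q3 (Q7 (Q3 (Q2 (Q3 (Q6 (Q3 (Q6 c)))))))))) c) (41 * 2048) 2048 = true := by decide +kernel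
theorem chk_e2_b42 : allRange (fun c => Nat.beq (Q2 (Q7 (Q3 (Q7 (Q3 (Q2 (Q3 (Q6 (Q3 (Q6 c)))))))))) c) (42 * 2048) 2048 = true := by decide +kernel
theorem chk_e2_b43 : allRange (fun c => Nat.beq (Q2 (Q7 (Q3 (Q7 (Q3 (Q2 (Q3 (Q6 (Q3 (Q6 c)))))))))) c) (43 * 2048) 2048 = true := by decide +kernel
theorem chk_e2_b44 : allRange (fun c => Nat.beq (Q2 (Q7 (Q3 (Q7 (Q3 (Q2 (Q3 (Q6 (Q3 (Q6 c)))))))))) c) (44 * 2048) 2048 = true := by decide +kernel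
theorem chk_e2_b45 : allRange (fun c => Nat.beq (Q2 (Q7 (Q3 (Q7 (Q3 (Q2 (Q3 (Q6 (Q3 (Q6 c)))))))))) c) (45 * 2048) 2048 = true := by decide +kernel
theorem chk_e2_b46 : allRange (fun c => Nat.beq (Q2 (Q7 (Q3 (Q7 (Q3 (Q2 (Q3 (Q6 (Q3 (Q6 c)))))))))) c) (46 * 2048) 2048 = true := by decide +kernel
theorem chk_e2_b47 : allRange (fun c => Nat.beq (Q2 (Q7 (Q3 (Q7 (Q3 (Q2 (Q3 (Q6 (Q3 (Q6 c)))))))))) c) (47 * 2048) 2048 = true := by decide +kernel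
theorem chk_e2_b48 : allRange (fun c => Nat.beq (Q2 (Q7 (Q3 (Q7 (Q3 (Q2 (Q3 (Q6 (Q3 (Q6 c)))))))))) c) (48 * 2048) 2048 = true := by decide +kernel
theorem chk_e2_b49 : allRange (fun c => Nat.beq (Q2 (Q7 (Q3 (Q7 (Q3 (Q2 (Q3 (Q6 (Q3 (Q6 c)))))))))) c) (49 * 2048) 2048 = true := by decide +kernel
theorem chk_e2_b50 : allRange (fun c => Nat.beq (Q2 (Q7 (Q3 (Q7 (Q3 (Q2 (Q3 (Q6 (Q3 (Q6 c)))))))))) c) (50 * 2048) 2048 = true := by decide +kernel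
theorem chk_e2_b51 : allRange (fun c => Nat.beq (Q2 (Q7 (Q3 (Q7 (Q3 (Q2 (Q3 (Q6 (Q3 (Q6 c)))))))))) c) (51 * 2048) 2048 = true := by decide +kernel
theorem chk_e2_b52 : allRange (fun c => Nat.beq (Q2 (Q7 (Q3 (Q7 (Q3 (Q2 (Q3 (Q6 (Q3 (Q6 c)))))))))) c) (52 * 2048) 2048 = true := by decide +kernel
theorem chk_e2_b53 : allRange (fun c => Nat.beq (Q2 (Q7 (Q3 (Q7 (Q3 (Q2 (Q3 (Q6 (Q3 (Q6 c)))))))))) c) (53 * 2048) 2048 = true := by decide +kernel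
theorem chk_e2_b54 : allRange (fun c => Nat.beq (Q2 (Q7 (Q3 (Q7 (Q3 (Q2 (Q3 (Q6 (Q3 (Q6 c)))))))))) c) (54 * 2048) 2048 = true := by decide +kernel
theorem chk_e2_b55 : allRange (fun c => Nat.beq (Q2 (Q7 (Q3 (Q7 (Q3 (Q2 (Q3 (Q6 (Q3 (Q6 c)))))))))) c) (55 * 2048) 2048 = true := by decide +kernel
theorem chk_e2_b56 : allRange (fun c => Nat.beq (Q2 (Q7 (Q3 (Q7 (Q3 (Q2 (Q3 (Q6 (Q3 (Q6 c)))))))))) c) (56 * 2048) 2048 = true := by decide +kernel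
theorem chk_e2_b57 : allRange (fun c => Nat.beq (Q2 (Q7 (Q3 (Q7 (Q3 (Q2 (Q3 (Q6 (Q3 (Q6 c)))))))))) c) (57 * 2048) 2048 = true := by decide +kernel
theorem chk_e2_b58 : allRange (fun c => Nat.beq (Q2 (Q7 (Q3 (Q7 (Q3 (Q2 (Q3 (Q6 (Q3 (Q6 c)))))))))) c) (58 * 2048) 2048 = true := by decide +kernel
theorem chk_e2_t : allRange (fun c => Nat.beq (Q2 (Q7 (Q3 (Q7 (Q3 (Q2 (Q3 (Q6 (Q3 (Q6 c)))))))))) c) (59 * 2048) 1928 = true := by decide +kernel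
theorem chk_e2_all : ∀ c, c < 122760 → (fun c => Nat.beq (Q2 (Q7 (Q3 (Q7 (Q3 (Q2 (Q3 (Q6 (Q3 (Q6 c)))))))))) c) c = true := by
  intro c hc
  refine allRange_blocks _ 2048 59 1928 (by norm_num) ?_ chk_e2_t c hc
  intro k hk
  interval_cases k
  exacts [chk_e2_b0, chk_e2_b1, chk_e2_b2, chk_e2_b3, chk_e2_b4, chk_e2_b5, chk_e2_b6, chk_e2_b7, chk_e2_b8, chk_e2_b9, chk_e2_b10, chk_e2_b11, chk_e2_b12, chk_e2_b13, chk_e2_b14, chk_e2_b15, chk_e2_b16, chk_e2_b17, chk_e2_b18, chk_e2_b19, chk_e2_b20, chk_e2_b21, chk_e2_b22, chk_e2_b23, chk_e2_b24, chk_e2_b25, chk_e2_b26, chk_e2_b27, chk_e2_b28, chk_e2_b29, chk_e2_b30, chk_e2_b31, chk_e2_b32, chk_e2_b33, chk_e2_b34, chk_e2_b35, chk_e2_b36, chk_e2_b37, chk_e2_b38, chk_e2_b39, chk_e2_b40, chk_e2_b41, chk_e2_b42, chk_e2_b43, chk_e2_b44, chk_e2_b45, chk_e2_b46, chk_e2_b47,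 chk_e2_b48, chk_e2_b49, chk_e2_b50, chk_e2_b51, chk_e2_b52, chk_e2_b53, chk_e2_b54, chk_e2_b55, chk_e2_b56, chk_e2_b57, chk_e2_b58]

end Cfsg.Agent.Lib.helper35.Ona
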