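import Cfsg.Agent.Lib.helper35.OnData
import Cfsg.Agent.Lib.helper35.OnBlk

/-!
Relators of the presented O'Nan group act trivially on the 122760 points (part 6).
-/

set_option autoImplicit false
set_option maxRecDepth 100000
set_option Elab.async false

namespace Cfsg.Agent.Lib.helper35.Ona

open Cfsg.Agent.Lib.helper35

theorem chk_e3_b0 : allRange (fun c => Nat.beq (Q3 (Q7 (Q2 (Q7 (Q2 (Q3 (Q2 (Q6 (Q2 (Q6 c)))))))))) c) (0 * 2048) 2048 = true := by decide +kernel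
theorem chk_e3_b1 : allRange (fun c => Nat.beq (Q3 (Q7 (Q2 (Q7 (Q2 (Q3 (Q2 (Q6 (Q2 (Q6 c)))))))))) c) (1 * 2048) 2048 = true := by decide +kernel
theorem chk_e3_b2 : allRange (fun c => Nat.beq (Q3 (Q7 (Q2 (Q7 (Q2 (Q3 (Q2 (Q6 (Q2 (Q6 c)))))))))) c) (2 * 2048) 2048 = true := by decide +kernel
theorem chk_e3_b3 : allRange (fun c => Nat.beq (Q3 (Q7 (Q2 (Q7 (Q2 (Q3 (Q2 (Q6 (Q2 (Q6 c)))))))))) c) (3 * 2048) 2048 = true := by decide +kernel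
theorem chk_e3_b4 : allRange (fun c => Nat.beq (Q3 (Q7 (Q2 (Q7 (Q2 (Q3 (Q2 (Q6 (Q2 (Q6 c)))))))))) c) (4 * 2048) 2048 = true := by decide +kernel
theorem chk_e3_b5 : allRange (fun c => Nat.beq (Q3 (Q7 (Q2 (Q7 (Q2 (Q3 (Q2 (Q6 (Q2 (Q6 c)))))))))) c) (5 * 2048) 2048 = true := by decide +kernel
theorem chk_e3_b6 : allRange (fun c => Nat.beq (Q3 (Q7 (Q2 (Q7 (Q2 (Q3 (Q2 (Q6 (Q2 (Q6 c)))))))))) c) (6 * 2048) 2048 = true := by decide +kernel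
theorem chk_e3_b7 : allRange (fun c => Nat.beq (Q3 (Q7 (Q2 (Q7 (Q2 (Q3 (Q2 (Q6 (Q2 (Q6 c)))))))))) c) (7 * 2048) 2048 = true := by decide +kernel
theorem chk_e3_b8 : allRange (fun c => Nat.beq (Q3 (Q7 (Q2 (Q7 (Q2 (Q3 (Q2 (Q6 (Q2 (Q6 c)))))))))) c) (8 * 2048) 2048 = true := by decide +kernel
theorem chk_e3_b9 : allRange (fun c => Nat.beq (Q3 (Q7 (Q2 (Q7 (Q2 (Q3 (Q2 (Q6 (Q2 (Q6 c)))))))))) c) (9 * 2048) 2048 = true := by decide +kernel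
theorem chk_e3_b10 : allRange (fun c => Nat.beq (Q3 (Q7 (Q2 (Q7 (Q2 (Q3 (Q2 (Q6 (Q2 (Q6 c)))))))))) c) (10 * 2048) 2048 = true := by decide +kernel
theorem chk_e3_b11 : allRange (fun c => Nat.beq (Q3 (Q7 (Q2 (Q7 (Q2 (Q3 (Q2 (Q6 (Q2 (Q6 c)))))))))) c) (11 * 2048) 2048 = true := by decide +kernel
theorem chk_e3_b12 : allRange (fun c => Nat.beq (Q3 (Q7 (Q2 (Q7 (Q2 (Q3 (Q2 (Q6 (Q2 (Q6 c)))))))))) c) (12 * 2048) 2048 = true := by decide +kernel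
theorem chk_e3_b13 : allRange (fun c => Nat.beq (Q3 (Q7 (Q2 (Q7 (Q2 (Q3 (Q2 (Q6 (Q2 (Q6 c)))))))))) c) (13 * 2048) 2048 = true := by decide +kernel
theorem chk_e3_b14 : allRange (fun c => Nat.beq (Q3 (Q7 (Q2 (Q7 (Q2 (Q3 (Q2 (Q6 (Q2 (Q6 c)))))))))) c) (14 * 2048) 2048 = true := by decide +kernel
theorem chk_e3_b15 : allRange (fun c => Nat.beq (Q3 (Q7 (Q2 (Q7 (Q2 (Q3 (Q2 (Q6 (Q2 (Q6 c)))))))))) c) (15 * 2048) 2048 = true := by decide +kernel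
theorem chk_e3_b16 : allRange (fun c => Nat.beq (Q3 (Q7 (Q2 (Q7 (Q2 (Q3 (Q2 (Q6 (Q2 (Q6 c)))))))))) c) (16 * 2048) 2048 = true := by decide +kernel
theorem chk_e3_b17 : allRange (fun c => Nat.beq (Q3 (Q7 (Q2 (Q7 (Q2 (Q3 (Q2 (Q6 (Q2 (Q6 c)))))))))) c) (17 * 2048) 2048 = true := by decide +kernel
theorem chk_e3_b18 : allRange (fun c => Nat.beq (Q3 (Q7 (Q2 (Q7 (Q2 (Q3 (Q2 (Q6 (Q2 (Q6 c)))))))))) c) (18 * 2048) 2048 = true := by decide +kernel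
theorem chk_e3_b19 : allRange (fun c => Nat.beq (Q3 (Q7 (Q2 (Q7 (Q2 (Q3 (Q2 (Q6 (Q2 (Q6 c)))))))))) c) (19 * 2048) 2048 = true := by decide +kernel
theorem chk_e3_b20 : allRange (fun c => Nat.beq (Q3 (Q7 (Q2 (Q7 (Q2 (Q3 (Q2 (Q6 (Q2 (Q6 c)))))))))) c) (20 * 2048) 2048 = true := by decide +kernel
theorem chk_e3_b21 : allRange (fun c => Nat.beq (Q3 (Q7 (Q2 (Q7 (Q2 (Q3 (Q2 (Q6 (Q2 (Q6 c)))))))))) c) (21 * 2048) 2048 = true := by decide +kernel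
theorem chk_e3_b22 : allRange (fun c => Nat.beq (Q3 (Q7 (Q2 (Q7 (Q2 (Q3 (Q2 (Q6 (Q2 (Q6 c)))))))))) c) (22 * 2048) 2048 = true := by decide +kernel
theorem chk_e3_b23 : allRange (fun c => Nat.beq (Q3 (Q7 (Q2 (Q7 (Q2 (Q3 (Q2 (Q6 (Q2 (Q6 c)))))))))) c) (23 * 2048) 2048 = true := by decide +kernel
theorem chk_e3_b24 : allRange (fun c => Nat.beq (Q3 (Q7 (Q2 (Q7 (Q2 (Q3 (Q2 (Q6 (Q2 (Q6 c)))))))))) c) (24 * 2048) 2048 = true := by decide +kernel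
theorem chk_e3_b25 : allRange (fun c => Nat.beq (Q3 (Q7 (Q2 (Q7 (Q2 (Q3 (Q2 (Q6 (Q2 (Q6 c)))))))))) c) (25 * 2048) 2048 = true := by decide +kernel
theorem chk_e3_b26 : allRange (fun c => Nat.beq (Q3 (Q7 (Q2 (Q7 (Q2 (Q3 (Q2 (Q6 (Q2 (Q6 c)))))))))) c) (26 * 2048) 2048 = true := by decide +kernel
theorem chk_e3_b27 : allRange (fun c => Nat.beq (Q3 (Q7 (Q2 (Q7 (Q2 (Q3 (Q2 (Q6 (Q2 (Q6 c)))))))))) c) (27 * 2048) 2048 = true := by decide +kernel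
theorem chk_e3_b28 : allRange (fun c => Nat.beq (Q3 (Q7 (Q2 (Q7 (Q2 (Q3 (Q2 (Q6 (Q2 (Q6 c)))))))))) c) (28 * 2048) 2048 = true := by decide +kernel
theorem chk_e3_b29 : allRange (fun c => Nat.beq (Q3 (Q7 (Q2 (Q7 (Q2 (Q3 (Q2 (Q6 (Q2 (Q6 c)))))))))) c) (29 * 2048) 2048 = true := by decide +kernel
theorem chk_e3_b30 : allRange (fun c => Nat.beq (Q3 (Q7 (Q2 (Q7 (Q2 (Q3 (Q2 (Q6 (Q2 (Q6 c)))))))))) c) (30 * 2048) 2048 = true := by decide +kernel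
theorem chk_e3_b31 : allRange (fun c => Nat.beq (Q3 (Q7 (Q2 (Q7 (Q2 (Q3 (Q2 (Q6 (Q2 (Q6 c)))))))))) c) (31 * 2048) 2048 = true := by decide +kernel
theorem chk_e3_b32 : allRange (fun c => Nat.beq (Q3 (Q7 (Q2 (Q7 (Q2 (Q3 (Q2 (Q6 (Q2 (Q6 c)))))))))) c) (32 * 2048) 2048 = true := by decide +kernel
theorem chk_e3_b33 : allRange (fun c => Nat.beq (Q3 (Q7 (Q2 (Q7 (Q2 (Q3 (Q2 (Q6 (Q2 (Q6 c)))))))))) c) (33 * 2048) 2048 = true := by decide +kernel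
theorem chk_e3_b34 : allRange (fun c => Nat.beq (Q3 (Q7 (Q2 (Q7 (Q2 (Q3 (Q2 (Q6 (Q2 (Q6 c)))))))))) c) (34 * 2048) 2048 = true := by decide +kernel
theorem chk_e3_b35 : allRange (fun c => Nat.beq (Q3 (Q7 (Q2 (Q7 (Q2 (Q3 (Q2 (Q6 (Q2 (Q6 c)))))))))) c) (35 * 2048) 2048 = true := by decide +kernel
theorem chk_e3_b36 : allRange (fun c => Nat.beq (Q3 (Q7 (Q2 (Q7 (Q2 (Q3 (Q2 (Q6 (Q2 (Q6 c)))))))))) c) (36 * 2048) 2048 = true := by decide +kernel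
theorem chk_e3_b37 : allRange (fun c => Nat.beq (Q3 (Q7 (Q2 (Q7 (Q2 (Q3 (Q2 (Q6 (Q2 (Q6 c)))))))))) c) (37 * 2048) 2048 = true := by decide +kernel
theorem chk_e3_b38 : allRange (fun c => Nat.beq (Q3 (Q7 (Q2 (Q7 (Q2 (Q3 (Q2 (Q6 (Q2 (Q6 c)))))))))) c) (38 * 2048) 2048 = true := by decide +kernel
theorem chk_e3_b39 : allRange (fun c => Nat.beq (Q3 (Q7 (Q2 (Q7 (Q2 (Q3 (Q2 (Q6 (Q2 (Q6 c)))))))))) c) (39 * 2048) 2048 = true := by decide +kernel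
theorem chk_e3_b40 : allRange (fun c => Nat.beq (Q3 (Q7 (Q2 (Q7 (Q2 (Q3 (Q2 (Q6 (Q2 (Q6 c)))))))))) c) (40 * 2048) 2048 = true := by decide +kernel
theorem chk_e3_b41 : allRange (fun c => Nat.beq (Q3 (Q7 (Q2 (Q7 (Q2 (Q3 (Q2 (Q6 (Q2 (Q6 c)))))))))) c) (41 * 2048) 2048 = true := by decide +kernel
theorem chk_e3_b42 : allRange (fun c => Nat.beq (Q3 (Q7 (Q2 (Q7 (Q2 (Q3 (Q2 (Q6 (Q2 (Q6 c)))))))))) c) (42 * 2048) 2048 = true := by decide +kernel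
theorem chk_e3_b43 : allRange (fun c => Nat.beq (Q3 (Q7 (Q2 (Q7 (Q2 (Q3 (Q2 (Q6 (Q2 (Q6 c)))))))))) c) (43 * 2048) 2048 = true := by decide +kernel
theorem chk_e3_b44 : allRange (fun c => Nat.beq (Q3 (Q7 (Q2 (Q7 (Q2 (Q3 (Q2 (Q6 (Q2 (Q6 c)))))))))) c) (44 * 2048) 2048 = true := by decide +kernel
theorem chk_e3_b45 : allRange (fun c => Nat.beq (Q3 (Q7 (Q2 (Q7 (Q2 (Q3 (Q2 (Q6 (Q2 (Q6 c)))))))))) c) (45 * 2048) 2048 = true := by decide +kernel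
theorem chk_e3_b46 : allRange (fun c => Nat.beq (Q3 (Q7 (Q2 (Q7 (Q2 (Q3 (Q2 (Q6 (Q2 (Q6 c)))))))))) c) (46 * 2048) 2048 = true := by decide +kernel
theorem chk_e3_b47 : allRange (fun c => Nat.beq (Q3 (Q7 (Q2 (Q7 (Q2 (Q3 (Q2 (Q6 (Q2 (Q6 c)))))))))) c) (47 * 2048) 2048 = true := by decide +kernel
theorem chk_e3_b48 : allRange (fun c => Nat.beq (Q3 (Q7 (Q2 (Q7 (Q2 (Q3 (Q2 (Q6 (Q2 (Q6 c)))))))))) c) (48 * 2048) 2048 = true := by decide +kernel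
theorem chk_e3_b49 : allRange (fun c => Nat.beq (Q3 (Q7 (Q2 (Q7 (Q2 (Q3 (Q2 (Q6 (Q2 (Q6 c)))))))))) c) (49 * 2048) 2048 = true := by decide +kernel
theorem chk_e3_b50 : allRange (fun c => Nat.beq (Q3 (Q7 (Q2 (Q7 (Q2 (Q3 (Q2 (Q6 (Q2 (Q6 c)))))))))) c) (50 * 2048) 2048 = true := by decide +kernel
theorem chk_e3_b51 : allRange (fun c => Nat.beq (Q3 (Q7 (Q2 (Q7 (Q2 (Q3 (Q2 (Q6 (Q2 (Q6 c)))))))))) c) (51 * 2048) 2048 = true := by decide +kernel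
theorem chk_e3_b52 : allRange (fun c => Nat.beq (Q3 (Q7 (Q2 (Q7 (Q2 (Q3 (Q2 (Q6 (Q2 (Q6 c)))))))))) c) (52 * 2048) 2048 = true := by decide +kernel
theorem chk_e3_b53 : allRange (fun c => Nat.beq (Q3 (Q7 (Q2 (Q7 (Q2 (Q3 (Q2 (Q6 (Q2 (Q6 c)))))))))) c) (53 * 2048) 2048 = true := by decide +kernel
theorem chk_e3_b54 : allRange (fun c => Nat.beq (Q3 (Q7 (Q2 (Q7 (Q2 (Q3 (Q2 (Q6 (Q2 (Q6 c)))))))))) c) (54 * 2048) 2048 = true := by decide +kernel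
theorem chk_e3_b55 : allRange (fun c => Nat.beq (Q3 (Q7 (Q2 (Q7 (Q2 (Q3 (Q2 (Q6 (Q2 (Q6 c)))))))))) c) (55 * 2048) 2048 = true := by decide +kernel
theorem chk_e3_b56 : allRange (fun c => Nat.beq (Q3 (Q7 (Q2 (Q7 (Q2 (Q3 (Q2 (Q6 (Q2 (Q6 c)))))))))) c) (56 * 2048) 2048 = true := by decide +kernel
theorem chk_e3_b57 : allRange (fun c => Nat.beq (Q3 (Q7 (Q2 (Q7 (Q2 (Q3 (Q2 (Q6 (Q2 (Q6 c)))))))))) c) (57 * 2048) 2048 = true := by decide +kernel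
theorem chk_e3_b58 : allRange (fun c => Nat.beq (Q3 (Q7 (Q2 (Q7 (Q2 (Q3 (Q2 (Q6 (Q2 (Q6 c)))))))))) c) (58 * 2048) 2048 = true := by decide +kernel
theorem chk_e3_t : allRange (fun c => Nat.beq (Q3 (Q7 (Q2 (Q7 (Q2 (Q3 (Q2 (Q6 (Q2 (Q6 c)))))))))) c) (59 * 2048) 1928 = true := by decide +kernel
theorem chk_e3_all : ∀ c, c < 122760 → (fun c => Nat.beq (Q3 (Q7 (Q2 (Q7 (Q2 (Q3 (Q2 (Q6 (Q2 (Q6 c)))))))))) c) c = true := by
  intro c hc
  refine allRange_blocks _ 2048 59 1928 (by norm_num) ?_ chk_e3_t c hc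
  intro k hk
  interval_cases k
  exacts [chk_e3_b0, chk_e3_b1, chk_e3_b2, chk_e3_b3, chk_e3_b4, chk_e3_b5, chk_e3_b6, chk_e3_b7, chk_e3_b8, chk_e3_b9, chk_e3_b10, chk_e3_b11, chk_e3_b12, chk_e3_b13, chk_e3_b14, chk_e3_b15, chk_e3_b16, chk_e3_b17, chk_e3_b18, chk_e3_b19, chk_e3_b20, chk_e3_b21, chk_e3_b22, chk_e3_b23, chk_e3_b24, chk_e3_b25, chk_e3_b26, chk_e3_b27, chk_e3_b28, chk_e3_b29, chk_e3_b30, chk_e3_b31, chk_e3_b32, chk_e3_b33, chk_e3_b34, chk_e3_b35, chk_e3_b36, chk_e3_b37, chk_e3_b38, chk_e3_b39, chk_e3_b40, chk_e3_b41, chk_e3_b42, chk_e3_b43, chk_e3_b44, chk_e3_b45, chk_e3_b46, chk_e3_b47, chk_e3_b48, chk_e3_b49, chk_e3_b50, chk_e3_b51, chk_e3_b52, chk_e3_b53, chk_e3_b54, chk_e3_b55, chk_e3_b56, chk_e3_b57, chk_e3_b58]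

theorem chk_c12_b0 : allRange (fun c => Nat.beq (Q3 (Q4 (Q3 (Q4 (Q3 (Q4 c)))))) c) (0 * 2048) 2048 = true := by decide +kernel
theorem chk_c12_b1 : allRange (fun c => Nat.beq (Q3 (Q4 (Q3 (Q4 (Q3 (Q4 c)))))) c) (1 * 2048) 2048 = true := by decide +kernel
theorem chk_c12_b2 : allRange (fun c => Nat.beq (Q3 (Q4 (Q3 (Q4 (Q3 (Q4 c)))))) c) (2 * 2048) 2048 = true := by decide +kernel
theorem chk_c12_b3 : allRange (fun c => Nat.beq (Q3 (Q4 (Q3 (Q4 (Q3 (Q4 c)))))) c) (3 * 2048) 2048 = true := by decide +kernel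
theorem chk_c12_b4 : allRange (fun c => Nat.beq (Q3 (Q4 (Q3 (Q4 (Q3 (Q4 c)))))) c) (4 * 2048) 2048 = true := by decide +kernel
theorem chk_c12_b5 : allRange (fun c => Nat.beq (Q3 (Q4 (Q3 (Q4 (Q3 (Q4 c)))))) c) (5 * 2048) 2048 = true := by decide +kernel
theorem chk_c12_b6 : allRange (fun c => Nat.beq (Q3 (Q4 (Q3 (Q4 (Q3 (Q4 c)))))) c) (6 * 2048) 2048 = true := by decide +kernel
theorem chk_c12_b7 : allRange (fun c => Nat.beq (Q3 (Q4 (Q3 (Q4 (Q3 (Q4 c)))))) c) (7 * 2048) 2048 = true := by decide +kernel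
theorem chk_c12_b8 : allRange (fun c => Nat.beq (Q3 (Q4 (Q3 (Q4 (Q3 (Q4 c)))))) c) (8 * 2048) 2048 = true := by decide +kernel
theorem chk_c12_b9 : allRange (fun c => Nat.beq (Q3 (Q4 (Q3 (Q4 (Q3 (Q4 c)))))) c) (9 * 2048) 2048 = true := by decide +kernel
theorem chk_c12_b10 : allRange (fun c => Nat.beq (Q3 (Q4 (Q3 (Q4 (Q3 (Q4 c)))))) c) (10 * 2048) 2048 = true := by decide +kernel
theorem chk_c12_b11 : allRange (fun c => Nat.beq (Q3 (Q4 (Q3 (Q4 (Q3 (Q4 c)))))) c) (11 * 2048) 2048 = true := by decide +kernel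
theorem chk_c12_b12 : allRange (fun c => Nat.beq (Q3 (Q4 (Q3 (Q4 (Q3 (Q4 c)))))) c) (12 * 2048) 2048 = true := by decide +kernel
theorem chk_c12_b13 : allRange (fun c => Nat.beq (Q3 (Q4 (Q3 (Q4 (Q3 (Q4 c)))))) c) (13 * 2048) 2048 = true := by decide +kernel
theorem chk_c12_b14 : allRange (fun c => Nat.beq (Q3 (Q4 (Q3 (Q4 (Q3 (Q4 c)))))) c) (14 * 2048) 2048 = true := by decide +kernel
theorem chk_c12_b15 : allRange (fun c => Nat.beq (Q3 (Q4 (Q3 (Q4 (Q3 (Q4 c)))))) c) (15 * 2048) 2048 = true := by decide +kernel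
theorem chk_c12_b16 : allRange (fun c => Nat.beq (Q3 (Q4 (Q3 (Q4 (Q3 (Q4 c)))))) c) (16 * 2048) 2048 = true := by decide +kernel
theorem chk_c12_b17 : allRange (fun c => Nat.beq (Q3 (Q4 (Q3 (Q4 (Q3 (Q4 c)))))) c) (17 * 2048) 2048 = true := by decide +kernel
theorem chk_c12_b18 : allRange (fun c => Nat.beq (Q3 (Q4 (Q3 (Q4 (Q3 (Q4 c)))))) c) (18 * 2048) 2048 = true := by decide +kernel
theorem chk_c12_b19 : allRange (fun c => Nat.beq (Q3 (Q4 (Q3 (Q4 (Q3 (Q4 c)))))) c) (19 * 2048) 2048 = true := by decide +kernel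
theorem chk_c12_b20 : allRange (fun c => Nat.beq (Q3 (Q4 (Q3 (Q4 (Q3 (Q4 c)))))) c) (20 * 2048) 2048 = true := by decide +kernel
theorem chk_c12_b21 : allRange (fun c => Nat.beq (Q3 (Q4 (Q3 (Q4 (Q3 (Q4 c)))))) c) (21 * 2048) 2048 = true := by decide +kernel
theorem chk_c12_b22 : allRange (fun c => Nat.beq (Q3 (Q4 (Q3 (Q4 (Q3 (Q4 c)))))) c) (22 * 2048) 2048 = true := by decide +kernel
theorem chk_c12_b23 : allRange (fun c => Nat.beq (Q3 (Q4 (Q3 (Q4 (Q3 (Q4 c)))))) c) (23 * 2048) 2048 = true := by decide +kernel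
theorem chk_c12_b24 : allRange (fun c => Nat.beq (Q3 (Q4 (Q3 (Q4 (Q3 (Q4 c)))))) c) (24 * 2048) 2048 = true := by decide +kernel
theorem chk_c12_b25 : allRange (fun c => Nat.beq (Q3 (Q4 (Q3 (Q4 (Q3 (Q4 c)))))) c) (25 * 2048) 2048 = true := by decide +kernel
theorem chk_c12_b26 : allRange (fun c => Nat.beq (Q3 (Q4 (Q3 (Q4 (Q3 (Q4 c)))))) c) (26 * 2048) 2048 = true := by decide +kernel
theorem chk_c12_b27 : allRange (fun c => Nat.beq (Q3 (Q4 (Q3 (Q4 (Q3 (Q4 c)))))) c) (27 * 2048) 2048 = true := by decide +kernel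
theorem chk_c12_b28 : allRange (fun c => Nat.beq (Q3 (Q4 (Q3 (Q4 (Q3 (Q4 c)))))) c) (28 * 2048) 2048 = true := by decide +kernel
theorem chk_c12_b29 : allRange (fun c => Nat.beq (Q3 (Q4 (Q3 (Q4 (Q3 (Q4 c)))))) c) (29 * 2048) 2048 = true := by decide +kernel
theorem chk_c12_b30 : allRange (fun c => Nat.beq (Q3 (Q4 (Q3 (Q4 (Q3 (Q4 c)))))) c) (30 * 2048) 2048 = true := by decide +kernel
theorem chk_c12_b31 : allRange (fun c => Nat.beq (Q3 (Q4 (Q3 (Q4 (Q3 (Q4 c)))))) c) (31 * 2048) 2048 = true := by decide +kernel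
theorem chk_c12_b32 : allRange (fun c => Nat.beq (Q3 (Q4 (Q3 (Q4 (Q3 (Q4 c)))))) c) (32 * 2048) 2048 = true := by decide +kernel
theorem chk_c12_b33 : allRange (fun c => Nat.beq (Q3 (Q4 (Q3 (Q4 (Q3 (Q4 c)))))) c) (33 * 2048) 2048 = true := by decide +kernel
theorem chk_c12_b34 : allRange (fun c => Nat.beq (Q3 (Q4 (Q3 (Q4 (Q3 (Q4 c)))))) c) (34 * 2048) 2048 = true := by decide +kernel
theorem chk_c12_b35 : allRange (fun c => Nat.beq (Q3 (Q4 (Q3 (Q4 (Q3 (Q4 c)))))) c) (35 * 2048) 2048 = true := by decide +kernel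
theorem chk_c12_b36 : allRange (fun c => Nat.beq (Q3 (Q4 (Q3 (Q4 (Q3 (Q4 c)))))) c) (36 * 2048) 2048 = true := by decide +kernel
theorem chk_c12_b37 : allRange (fun c => Nat.beq (Q3 (Q4 (Q3 (Q4 (Q3 (Q4 c)))))) c) (37 * 2048) 2048 = true := by decide +kernel
theorem chk_c12_b38 : allRange (fun c => Nat.beq (Q3 (Q4 (Q3 (Q4 (Q3 (Q4 c)))))) c) (38 * 2048) 2048 = true := by decide +kernel
theorem chk_c12_b39 : allRange (fun c => Nat.beq (Q3 (Q4 (Q3 (Q4 (Q3 (Q4 c)))))) c) (39 * 2048) 2048 = true := by decide +kernel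
theorem chk_c12_b40 : allRange (fun c => Nat.beq (Q3 (Q4 (Q3 (Q4 (Q3 (Q4 c)))))) c) (40 * 2048) 2048 = true := by decide +kernel
theorem chk_c12_b41 : allRange (fun c => Nat.beq (Q3 (Q4 (Q3 (Q4 (Q3 (Q4 c)))))) c) (41 * 2048) 2048 = true := by decide +kernel
theorem chk_c12_b42 : allRange (fun c => Nat.beq (Q3 (Q4 (Q3 (Q4 (Q3 (Q4 c)))))) c) (42 * 2048) 2048 = true := by decide +kernel
theorem chk_c12_b43 : allRange (fun c => Nat.beq (Q3 (Q4 (Q3 (Q4 (Q3 (Q4 c)))))) c) (43 * 2048) 2048 = true := by decide +kernel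
theorem chk_c12_b44 : allRange (fun c => Nat.beq (Q3 (Q4 (Q3 (Q4 (Q3 (Q4 c)))))) c) (44 * 2048) 2048 = true := by decide +kernel
theorem chk_c12_b45 : allRange (fun c => Nat.beq (Q3 (Q4 (Q3 (Q4 (Q3 (Q4 c)))))) c) (45 * 2048) 2048 = true := by decide +kernel
theorem chk_c12_b46 : allRange (fun c => Nat.beq (Q3 (Q4 (Q3 (Q4 (Q3 (Q4 c)))))) c) (46 * 2048) 2048 = true := by decide +kernel
theorem chk_c12_b47 : allRange (fun c => Nat.beq (Q3 (Q4 (Q3 (Q4 (Q3 (Q4 c)))))) c) (47 * 2048) 2048 = true := by decide +kernel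
theorem chk_c12_b48 : allRange (fun c => Nat.beq (Q3 (Q4 (Q3 (Q4 (Q3 (Q4 c)))))) c) (48 * 2048) 2048 = true := by decide +kernel
theorem chk_c12_b49 : allRange (fun c => Nat.beq (Q3 (Q4 (Q3 (Q4 (Q3 (Q4 c)))))) c) (49 * 2048) 2048 = true := by decide +kernel
theorem chk_c12_b50 : allRange (fun c => Nat.beq (Q3 (Q4 (Q3 (Q4 (Q3 (Q4 c)))))) c) (50 * 2048) 2048 = true := by decide +kernel
theorem chk_c12_b51 : allRange (fun c => Nat.beq (Q3 (Q4 (Q3 (Q4 (Q3 (Q4 c)))))) c) (51 * 2048) 2048 = true := by decide +kernel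
theorem chk_c12_b52 : allRange (fun c => Nat.beq (Q3 (Q4 (Q3 (Q4 (Q3 (Q4 c)))))) c) (52 * 2048) 2048 = true := by decide +kernel
theorem chk_c12_b53 : allRange (fun c => Nat.beq (Q3 (Q4 (Q3 (Q4 (Q3 (Q4 c)))))) c) (53 * 2048) 2048 = true := by decide +kernel
theorem chk_c12_b54 : allRange (fun c => Nat.beq (Q3 (Q4 (Q3 (Q4 (Q3 (Q4 c)))))) c) (54 * 2048) 2048 = true := by decide +kernel
theorem chk_c12_b55 : allRange (fun c => Nat.beq (Q3 (Q4 (Q3 (Q4 (Q3 (Q4 c)))))) c) (55 * 2048) 2048 = true := by decide +kernel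
theorem chk_c12_b56 : allRange (fun c => Nat.beq (Q3 (Q4 (Q3 (Q4 (Q3 (Q4 c)))))) c) (56 * 2048) 2048 = true := by decide +kernel
theorem chk_c12_b57 : allRange (fun c => Nat.beq (Q3 (Q4 (Q3 (Q4 (Q3 (Q4 c)))))) c) (57 * 2048) 2048 = true := by decide +kernel
theorem chk_c12_b58 : allRange (fun c => Nat.beq (Q3 (Q4 (Q3 (Q4 (Q3 (Q4 c)))))) c) (58 * 2048) 2048 = true := by decide +kernel
theorem chk_c12_t : allRange (fun c => Nat.beq (Q3 (Q4 (Q3 (Q4 (Q3 (Q4 c)))))) c) (59 * 2048) 1928 = true := by decide +kernel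
theorem chk_c12_all : ∀ c, c < 122760 → (fun c => Nat.beq (Q3 (Q4 (Q3 (Q4 (Q3 (Q4 c)))))) c) c = true := by
  intro c hc
  refine allRange_blocks _ 2048 59 1928 (by norm_num) ?_ chk_c12_t c hc
  intro k hk
  interval_cases k
  exacts [chk_c12_b0, chk_c12_b1, chk_c12_b2, chk_c12_b3, chk_c12_b4, chk_c12_b5, chk_c12_b6, chk_c12_b7, chk_c12_b8, chk_c12_b9, chk_c12_b10, chk_c12_b11, chk_c12_b12, chk_c12_b13, chk_c12_b14, chk_c12_b15, chk_c12_b16, chk_c12_b17, chk_c12_b18, chk_c12_b19, chk_c12_b20, chk_c12_b21, chk_c12_b22, chk_c12_b23, chk_c12_b24, chk_c12_b25, chk_c12_b26, chk_c12_b27, chk_c12_b28, chk_c12_b29, chk_c12_b30, chk_c12_b31, chk_c12_b32, chk_c12_b33, chk_c12_b34, chk_c12_b35, chk_c12_b36, chk_c12_b37, chk_c12_b38, chk_c12_b39, chk_c12_b40, chk_c12_b41, chk_c12_b42, chk_c12_b43, chk_c12_b44, chk_c12_b45, chk_c12_b46, chk_c12_b47, chk_c12_b48, chk_c12_b49,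 chk_c12_b50, chk_c12_b51, chk_c12_b52, chk_c12_b53, chk_c12_b54, chk_c12_b55, chk_c12_b56, chk_c12_b57, chk_c12_b58]

theorem chk_c2_b0 : allRange (fun c => Nat.beq (Q0 (Q3 (Q0 (Q3 c)))) c) (0 * 2048) 2048 = true := by decide +kernel
theorem chk_c2_b1 : allRange (fun c => Nat.beq (Q0 (Q3 (Q0 (Q3 c)))) c) (1 * 2048) 2048 = true := by decide +kernel
theorem chk_c2_b2 : allRange (fun c => Nat.beq (Q0 (Q3 (Q0 (Q3 c)))) c) (2 * 2048) 2048 = true := by decide +kernel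
theorem chk_c2_b3 : allRange (fun c => Nat.beq (Q0 (Q3 (Q0 (Q3 c)))) c) (3 * 2048) 2048 = true := by decide +kernel
theorem chk_c2_b4 : allRange (fun c => Nat.beq (Q0 (Q3 (Q0 (Q3 c)))) c) (4 * 2048) 2048 = true := by decide +kernel
theorem chk_c2_b5 : allRange (fun c => Nat.beq (Q0 (Q3 (Q0 (Q3 c)))) c) (5 * 2048) 2048 = true := by decide +kernel
theorem chk_c2_b6 : allRange (fun c => Nat.beq (Q0 (Q3 (Q0 (Q3 c)))) c) (6 * 2048) 2048 = true := by decide +kernel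
theorem chk_c2_b7 : allRange (fun c => Nat.beq (Q0 (Q3 (Q0 (Q3 c)))) c) (7 * 2048) 2048 = true := by decide +kernel
theorem chk_c2_b8 : allRange (fun c => Nat.beq (Q0 (Q3 (Q0 (Q3 c)))) c) (8 * 2048) 2048 = true := by decide +kernel
theorem chk_c2_b9 : allRange (fun c => Nat.beq (Q0 (Q3 (Q0 (Q3 c)))) c) (9 * 2048) 2048 = true := by decide +kernel
theorem chk_c2_b10 : allRange (fun c => Nat.beq (Q0 (Q3 (Q0 (Q3 c)))) c) (10 * 2048) 2048 = true := by decide +kernel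
theorem chk_c2_b11 : allRange (fun c => Nat.beq (Q0 (Q3 (Q0 (Q3 c)))) c) (11 * 2048) 2048 = true := by decide +kernel
theorem chk_c2_b12 : allRange (fun c => Nat.beq (Q0 (Q3 (Q0 (Q3 c)))) c) (12 * 2048) 2048 = true := by decide +kernel
theorem chk_c2_b13 : allRange (fun c => Nat.beq (Q0 (Q3 (Q0 (Q3 c)))) c) (13 * 2048) 2048 = true := by decide +kernel
theorem chk_c2_b14 : allRange (fun c => Nat.beq (Q0 (Q3 (Q0 (Q3 c)))) c) (14 * 2048) 2048 = true := by decide +kernel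
theorem chk_c2_b15 : allRange (fun c => Nat.beq (Q0 (Q3 (Q0 (Q3 c)))) c) (15 * 2048) 2048 = true := by decide +kernel
theorem chk_c2_b16 : allRange (fun c => Nat.beq (Q0 (Q3 (Q0 (Q3 c)))) c) (16 * 2048) 2048 = true := by decide +kernel
theorem chk_c2_b17 : allRange (fun c => Nat.beq (Q0 (Q3 (Q0 (Q3 c)))) c) (17 * 2048) 2048 = true := by decide +kernel
theorem chk_c2_b18 : allRange (fun c => Nat.beq (Q0 (Q3 (Q0 (Q3 c)))) c) (18 * 2048) 2048 = true := by decide +kernel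
theorem chk_c2_b19 : allRange (fun c => Nat.beq (Q0 (Q3 (Q0 (Q3 c)))) c) (19 * 2048) 2048 = true := by decide +kernel
theorem chk_c2_b20 : allRange (fun c => Nat.beq (Q0 (Q3 (Q0 (Q3 c)))) c) (20 * 2048) 2048 = true := by decide +kernel
theorem chk_c2_b21 : allRange (fun c => Nat.beq (Q0 (Q3 (Q0 (Q3 c)))) c) (21 * 2048) 2048 = true := by decide +kernel
theorem chk_c2_b22 : allRange (fun c => Nat.beq (Q0 (Q3 (Q0 (Q3 c)))) c) (22 * 2048) 2048 = true := by decide +kernel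
theorem chk_c2_b23 : allRange (fun c => Nat.beq (Q0 (Q3 (Q0 (Q3 c)))) c) (23 * 2048) 2048 = true := by decide +kernel
theorem chk_c2_b24 : allRange (fun c => Nat.beq (Q0 (Q3 (Q0 (Q3 c)))) c) (24 * 2048) 2048 = true := by decide +kernel
theorem chk_c2_b25 : allRange (fun c => Nat.beq (Q0 (Q3 (Q0 (Q3 c)))) c) (25 * 2048) 2048 = true := by decide +kernel
theorem chk_c2_b26 : allRange (fun c => Nat.beq (Q0 (Q3 (Q0 (Q3 c)))) c) (26 * 2048) 2048 = true := by decide +kernel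
theorem chk_c2_b27 : allRange (fun c => Nat.beq (Q0 (Q3 (Q0 (Q3 c)))) c) (27 * 2048) 2048 = true := by decide +kernel
theorem chk_c2_b28 : allRange (fun c => Nat.beq (Q0 (Q3 (Q0 (Q3 c)))) c) (28 * 2048) 2048 = true := by decide +kernel
theorem chk_c2_b29 : allRange (fun c => Nat.beq (Q0 (Q3 (Q0 (Q3 c)))) c) (29 * 2048) 2048 = true := by decide +kernel
theorem chk_c2_b30 : allRange (fun c => Nat.beq (Q0 (Q3 (Q0 (Q3 c)))) c) (30 * 2048) 2048 = true := by decide +kernel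
theorem chk_c2_b31 : allRange (fun c => Nat.beq (Q0 (Q3 (Q0 (Q3 c)))) c) (31 * 2048) 2048 = true := by decide +kernel
theorem chk_c2_b32 : allRange (fun c => Nat.beq (Q0 (Q3 (Q0 (Q3 c)))) c) (32 * 2048) 2048 = true := by decide +kernel
theorem chk_c2_b33 : allRange (fun c => Nat.beq (Q0 (Q3 (Q0 (Q3 c)))) c) (33 * 2048) 2048 = true := by decide +kernel
theorem chk_c2_b34 : allRange (fun c => Nat.beq (Q0 (Q3 (Q0 (Q3 c)))) c) (34 * 2048) 2048 = true := by decide +kernel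
theorem chk_c2_b35 : allRange (fun c => Nat.beq (Q0 (Q3 (Q0 (Q3 c)))) c) (35 * 2048) 2048 = true := by decide +kernel
theorem chk_c2_b36 : allRange (fun c => Nat.beq (Q0 (Q3 (Q0 (Q3 c)))) c) (36 * 2048) 2048 = true := by decide +kernel
theorem chk_c2_b37 : allRange (fun c => Nat.beq (Q0 (Q3 (Q0 (Q3 c)))) c) (37 * 2048) 2048 = true := by decide +kernel
theorem chk_c2_b38 : allRange (fun c => Nat.beq (Q0 (Q3 (Q0 (Q3 c)))) c) (38 * 2048) 2048 = true := by decide +kernel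
theorem chk_c2_b39 : allRange (fun c => Nat.beq (Q0 (Q3 (Q0 (Q3 c)))) c) (39 * 2048) 2048 = true := by decide +kernel
theorem chk_c2_b40 : allRange (fun c => Nat.beq (Q0 (Q3 (Q0 (Q3 c)))) c) (40 * 2048) 2048 = true := by decide +kernel
theorem chk_c2_b41 : allRange (fun c => Nat.beq (Q0 (Q3 (Q0 (Q3 c)))) c) (41 * 2048) 2048 = true := by decide +kernel
theorem chk_c2_b42 : allRange (fun c => Nat.beq (Q0 (Q3 (Q0 (Q3 c)))) c) (42 * 2048) 2048 = true := by decide +kernel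
theorem chk_c2_b43 : allRange (fun c => Nat.beq (Q0 (Q3 (Q0 (Q3 c)))) c) (43 * 2048) 2048 = true := by decide +kernel
theorem chk_c2_b44 : allRange (fun c => Nat.beq (Q0 (Q3 (Q0 (Q3 c)))) c) (44 * 2048) 2048 = true := by decide +kernel
theorem chk_c2_b45 : allRange (fun c => Nat.beq (Q0 (Q3 (Q0 (Q3 c)))) c) (45 * 2048) 2048 = true := by decide +kernel
theorem chk_c2_b46 : allRange (fun c => Nat.beq (Q0 (Q3 (Q0 (Q3 c)))) c) (46 * 2048) 2048 = true := by decide +kernel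
theorem chk_c2_b47 : allRange (fun c => Nat.beq (Q0 (Q3 (Q0 (Q3 c)))) c) (47 * 2048) 2048 = true := by decide +kernel
theorem chk_c2_b48 : allRange (fun c => Nat.beq (Q0 (Q3 (Q0 (Q3 c)))) c) (48 * 2048) 2048 = true := by decide +kernel
theorem chk_c2_b49 : allRange (fun c => Nat.beq (Q0 (Q3 (Q0 (Q3 c)))) c) (49 * 2048) 2048 = true := by decide +kernel
theorem chk_c2_b50 : allRange (fun c => Nat.beq (Q0 (Q3 (Q0 (Q3 c)))) c) (50 * 2048) 2048 = true := by decide +kernel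
theorem chk_c2_b51 : allRange (fun c => Nat.beq (Q0 (Q3 (Q0 (Q3 c)))) c) (51 * 2048) 2048 = true := by decide +kernel
theorem chk_c2_b52 : allRange (fun c => Nat.beq (Q0 (Q3 (Q0 (Q3 c)))) c) (52 * 2048) 2048 = true := by decide +kernel
theorem chk_c2_b53 : allRange (fun c => Nat.beq (Q0 (Q3 (Q0 (Q3 c)))) c) (53 * 2048) 2048 = true := by decide +kernel
theorem chk_c2_b54 : allRange (fun c => Nat.beq (Q0 (Q3 (Q0 (Q3 c)))) c) (54 * 2048) 2048 = true := by decide +kernel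
theorem chk_c2_b55 : allRange (fun c => Nat.beq (Q0 (Q3 (Q0 (Q3 c)))) c) (55 * 2048) 2048 = true := by decide +kernel
theorem chk_c2_b56 : allRange (fun c => Nat.beq (Q0 (Q3 (Q0 (Q3 c)))) c) (56 * 2048) 2048 = true := by decide +kernel
theorem chk_c2_b57 : allRange (fun c => Nat.beq (Q0 (Q3 (Q0 (Q3 c)))) c) (57 * 2048) 2048 = true := by decide +kernel
theorem chk_c2_b58 : allRange (fun c => Nat.beq (Q0 (Q3 (Q0 (Q3 c)))) c) (58 * 2048) 2048 = true := by decide +kernel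
theorem chk_c2_t : allRange (fun c => Nat.beq (Q0 (Q3 (Q0 (Q3 c)))) c) (59 * 2048) 1928 = true := by decide +kernel
theorem chk_c2_all : ∀ c, c < 122760 → (fun c => Nat.beq (Q0 (Q3 (Q0 (Q3 c)))) c) c = true := by
  intro c hc
  refine allRange_blocks _ 2048 59 1928 (by norm_num) ?_ chk_c2_t c hc
  intro k hk
  interval_cases k
  exacts [chk_c2_b0, chk_c2_b1, chk_c2_b2, chk_c2_b3, chk_c2_b4, chk_c2_b5, chk_c2_b6, chk_c2_b7, chk_c2_b8, chk_c2_b9, chk_c2_b10, chk_c2_b11, chk_c2_b12, chk_c2_b13, chk_c2_b14, chk_c2_b15, chk_c2_b16, chk_c2_b17, chk_c2_b18, chk_c2_b19, chk_c2_b20, chk_c2_b21, chk_c2_b22, chk_c2_b23, chk_c2_b24, chk_c2_b25, chk_c2_b26, chk_c2_b27, chk_c2_b28, chk_c2_b29, chk_c2_b30, chk_c2_b31, chk_c2_b32, chk_c2_b33, chk_c2_b34, chk_c2_b35, chk_c2_b36, chk_c2_b37, chk_c2_b38, chk_c2_b39, chk_c2_b40, chk_c2_b41, chk_c2_b42, chk_c2_b43, chk_c2_b44,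 chk_c2_b45, chk_c2_b46, chk_c2_b47, chk_c2_b48, chk_c2_b49, chk_c2_b50, chk_c2_b51, chk_c2_b52, chk_c2_b53, chk_c2_b54, chk_c2_b55, chk_c2_b56, chk_c2_b57, chk_c2_b58]

end Cfsg.Agent.Lib.helper35.Ona
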