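import Cfsg.Agent.Lib.helper35.OnData
import Cfsg.Agent.Lib.helper35.OnBlk

/-!
Relators of the presented O'Nan group act trivially on the 122760 points (part 7).
-/

set_option autoImplicit false
set_option maxRecDepth 100000
set_option Elab.async false

namespace Cfsg.Agent.Lib.helper35.Ona

open Cfsg.Agent.Lib.helper35

theorem chk_c14_b0 : allRange (fun c => Nat.beq (Q4 (Q5 (Q4 (Q5 (Q4 (Q5 c)))))) c) (0 * 2048) 2048 = true := by decide +kernel
theorem chk_c14_b1 : allRange (fun c => Nat.beq (Q4 (Q5 (Q4 (Q5 (Q4 (Q5 c)))))) c) (1 * 2048) 2048 = true := by decide +kernel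
theorem chk_c14_b2 : allRange (fun c => Nat.beq (Q4 (Q5 (Q4 (Q5 (Q4 (Q5 c)))))) c) (2 * 2048) 2048 = true := by decide +kernel
theorem chk_c14_b3 : allRange (fun c => Nat.beq (Q4 (Q5 (Q4 (Q5 (Q4 (Q5 c)))))) c) (3 * 2048) 2048 = true := by decide +kernel
theorem chk_c14_b4 : allRange (fun c => Nat.beq (Q4 (Q5 (Q4 (Q5 (Q4 (Q5 c)))))) c) (4 * 2048) 2048 = true := by decide +kernel
theorem chk_c14_b5 : allRange (fun c => Nat.beq (Q4 (Q5 (Q4 (Q5 (Q4 (Q5 c)))))) c) (5 * 2048) 2048 = true := by decide +kernel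
theorem chk_c14_b6 : allRange (fun c => Nat.beq (Q4 (Q5 (Q4 (Q5 (Q4 (Q5 c)))))) c) (6 * 2048) 2048 = true := by decide +kernel
theorem chk_c14_b7 : allRange (fun c => Nat.beq (Q4 (Q5 (Q4 (Q5 (Q4 (Q5 c)))))) c) (7 * 2048) 2048 = true := by decide +kernel
theorem chk_c14_b8 : allRange (fun c => Nat.beq (Q4 (Q5 (Q4 (Q5 (Q4 (Q5 c)))))) c) (8 * 2048) 2048 = true := by decide +kernel
theorem chk_c14_b9 : allRange (fun c => Nat.beq (Q4 (Q5 (Q4 (Q5 (Q4 (Q5 c)))))) c) (9 * 2048) 2048 = true := by decide +kernel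
theorem chk_c14_b10 : allRange (fun c => Nat.beq (Q4 (Q5 (Q4 (Q5 (Q4 (Q5 c)))))) c) (10 * 2048) 2048 = true := by decide +kernel
theorem chk_c14_b11 : allRange (fun c => Nat.beq (Q4 (Q5 (Q4 (Q5 (Q4 (Q5 c)))))) c) (11 * 2048) 2048 = true := by decide +kernel
theorem chk_c14_b12 : allRange (fun c => Nat.beq (Q4 (Q5 (Q4 (Q5 (Q4 (Q5 c)))))) c) (12 * 2048) 2048 = true := by decide +kernel
theorem chk_c14_b13 : allRange (fun c => Nat.beq (Q4 (Q5 (Q4 (Q5 (Q4 (Q5 c)))))) c) (13 * 2048) 2048 = true := by decide +kernel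
theorem chk_c14_b14 : allRange (fun c => Nat.beq (Q4 (Q5 (Q4 (Q5 (Q4 (Q5 c)))))) c) (14 * 2048) 2048 = true := by decide +kernel
theorem chk_c14_b15 : allRange (fun c => Nat.beq (Q4 (Q5 (Q4 (Q5 (Q4 (Q5 c)))))) c) (15 * 2048) 2048 = true := by decide +kernel
theorem chk_c14_b16 : allRange (fun c => Nat.beq (Q4 (Q5 (Q4 (Q5 (Q4 (Q5 c)))))) c) (16 * 2048) 2048 = true := by decide +kernel
theorem chk_c14_b17 : allRange (fun c => Nat.beq (Q4 (Q5 (Q4 (Q5 (Q4 (Q5 c)))))) c) (17 * 2048) 2048 = true := by decide +kernel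
theorem chk_c14_b18 : allRange (fun c => Nat.beq (Q4 (Q5 (Q4 (Q5 (Q4 (Q5 c)))))) c) (18 * 2048) 2048 = true := by decide +kernel
theorem chk_c14_b19 : allRange (fun c => Nat.beq (Q4 (Q5 (Q4 (Q5 (Q4 (Q5 c)))))) c) (19 * 2048) 2048 = true := by decide +kernel
theorem chk_c14_b20 : allRange (fun c => Nat.beq (Q4 (Q5 (Q4 (Q5 (Q4 (Q5 c)))))) c) (20 * 2048) 2048 = true := by decide +kernel
theorem chk_c14_b21 : allRange (fun c => Nat.beq (Q4 (Q5 (Q4 (Q5 (Q4 (Q5 c)))))) c) (21 * 2048) 2048 = true := by decide +kernel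
theorem chk_c14_b22 : allRange (fun c => Nat.beq (Q4 (Q5 (Q4 (Q5 (Q4 (Q5 c)))))) c) (22 * 2048) 2048 = true := by decide +kernel
theorem chk_c14_b23 : allRange (fun c => Nat.beq (Q4 (Q5 (Q4 (Q5 (Q4 (Q5 c)))))) c) (23 * 2048) 2048 = true := by decide +kernel
theorem chk_c14_b24 : allRange (fun c => Nat.beq (Q4 (Q5 (Q4 (Q5 (Q4 (Q5 c)))))) c) (24 * 2048) 2048 = true := by decide +kernel
theorem chk_c14_b25 : allRange (fun c => Nat.beq (Q4 (Q5 (Q4 (Q5 (Q4 (Q5 c)))))) c) (25 * 2048) 2048 = true := by decide +kernel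
theorem chk_c14_b26 : allRange (fun c => Nat.beq (Q4 (Q5 (Q4 (Q5 (Q4 (Q5 c)))))) c) (26 * 2048) 2048 = true := by decide +kernel
theorem chk_c14_b27 : allRange (fun c => Nat.beq (Q4 (Q5 (Q4 (Q5 (Q4 (Q5 c)))))) c) (27 * 2048) 2048 = true := by decide +kernel
theorem chk_c14_b28 : allRange (fun c => Nat.beq (Q4 (Q5 (Q4 (Q5 (Q4 (Q5 c)))))) c) (28 * 2048) 2048 = true := by decide +kernel
theorem chk_c14_b29 : allRange (fun c => Nat.beq (Q4 (Q5 (Q4 (Q5 (Q4 (Q5 c)))))) c) (29 * 2048) 2048 = true := by decide +kernel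
theorem chk_c14_b30 : allRange (fun c => Nat.beq (Q4 (Q5 (Q4 (Q5 (Q4 (Q5 c)))))) c) (30 * 2048) 2048 = true := by decide +kernel
theorem chk_c14_b31 : allRange (fun c => Nat.beq (Q4 (Q5 (Q4 (Q5 (Q4 (Q5 c)))))) c) (31 * 2048) 2048 = true := by decide +kernel
theorem chk_c14_b32 : allRange (fun c => Nat.beq (Q4 (Q5 (Q4 (Q5 (Q4 (Q5 c)))))) c) (32 * 2048) 2048 = true := by decide +kernel
theorem chk_c14_b33 : allRange (fun c => Nat.beq (Q4 (Q5 (Q4 (Q5 (Q4 (Q5 c)))))) c) (33 * 2048) 2048 = true := by decide +kernel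
theorem chk_c14_b34 : allRange (fun c => Nat.beq (Q4 (Q5 (Q4 (Q5 (Q4 (Q5 c)))))) c) (34 * 2048) 2048 = true := by decide +kernel
theorem chk_c14_b35 : allRange (fun c => Nat.beq (Q4 (Q5 (Q4 (Q5 (Q4 (Q5 c)))))) c) (35 * 2048) 2048 = true := by decide +kernel
theorem chk_c14_b36 : allRange (fun c => Nat.beq (Q4 (Q5 (Q4 (Q5 (Q4 (Q5 c)))))) c) (36 * 2048) 2048 = true := by decide +kernel
theorem chk_c14_b37 : allRange (fun c => Nat.beq (Q4 (Q5 (Q4 (Q5 (Q4 (Q5 c)))))) c) (37 * 2048) 2048 = true := by decide +kernel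
theorem chk_c14_b38 : allRange (fun c => Nat.beq (Q4 (Q5 (Q4 (Q5 (Q4 (Q5 c)))))) c) (38 * 2048) 2048 = true := by decide +kernel
theorem chk_c14_b39 : allRange (fun c => Nat.beq (Q4 (Q5 (Q4 (Q5 (Q4 (Q5 c)))))) c) (39 * 2048) 2048 = true := by decide +kernel
theorem chk_c14_b40 : allRange (fun c => Nat.beq (Q4 (Q5 (Q4 (Q5 (Q4 (Q5 c)))))) c) (40 * 2048) 2048 = true := by decide +kernel
theorem chk_c14_b41 : allRange (fun c => Nat.beq (Q4 (Q5 (Q4 (Q5 (Q4 (Q5 c)))))) c) (41 * 2048) 2048 = true := by decide +kernel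
theorem chk_c14_b42 : allRange (fun c => Nat.beq (Q4 (Q5 (Q4 (Q5 (Q4 (Q5 c)))))) c) (42 * 2048) 2048 = true := by decide +kernel
theorem chk_c14_b43 : allRange (fun c => Nat.beq (Q4 (Q5 (Q4 (Q5 (Q4 (Q5 c)))))) c) (43 * 2048) 2048 = true := by decide +kernel
theorem chk_c14_b44 : allRange (fun c => Nat.beq (Q4 (Q5 (Q4 (Q5 (Q4 (Q5 c)))))) c) (44 * 2048) 2048 = true := by decide +kernel
theorem chk_c14_b45 : allRange (fun c => Nat.beq (Q4 (Q5 (Q4 (Q5 (Q4 (Q5 c)))))) c) (45 * 2048) 2048 = true := by decide +kernel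
theorem chk_c14_b46 : allRange (fun c => Nat.beq (Q4 (Q5 (Q4 (Q5 (Q4 (Q5 c)))))) c) (46 * 2048) 2048 = true := by decide +kernel
theorem chk_c14_b47 : allRange (fun c => Nat.beq (Q4 (Q5 (Q4 (Q5 (Q4 (Q5 c)))))) c) (47 * 2048) 2048 = true := by decide +kernel
theorem chk_c14_b48 : allRange (fun c => Nat.beq (Q4 (Q5 (Q4 (Q5 (Q4 (Q5 c)))))) c) (48 * 2048) 2048 = true := by decide +kernel
theorem chk_c14_b49 : allRange (fun c => Nat.beq (Q4 (Q5 (Q4 (Q5 (Q4 (Q5 c)))))) c) (49 * 2048) 2048 = true := by decide +kernel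
theorem chk_c14_b50 : allRange (fun c => Nat.beq (Q4 (Q5 (Q4 (Q5 (Q4 (Q5 c)))))) c) (50 * 2048) 2048 = true := by decide +kernel
theorem chk_c14_b51 : allRange (fun c => Nat.beq (Q4 (Q5 (Q4 (Q5 (Q4 (Q5 c)))))) c) (51 * 2048) 2048 = true := by decide +kernel
theorem chk_c14_b52 : allRange (fun c => Nat.beq (Q4 (Q5 (Q4 (Q5 (Q4 (Q5 c)))))) c) (52 * 2048) 2048 = true := by decide +kernel
theorem chk_c14_b53 : allRange (fun c => Nat.beq (Q4 (Q5 (Q4 (Q5 (Q4 (Q5 c)))))) c) (53 * 2048) 2048 = true := by decide +kernel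
theorem chk_c14_b54 : allRange (fun c => Nat.beq (Q4 (Q5 (Q4 (Q5 (Q4 (Q5 c)))))) c) (54 * 2048) 2048 = true := by decide +kernel
theorem chk_c14_b55 : allRange (fun c => Nat.beq (Q4 (Q5 (Q4 (Q5 (Q4 (Q5 c)))))) c) (55 * 2048) 2048 = true := by decide +kernel
theorem chk_c14_b56 : allRange (fun c => Nat.beq (Q4 (Q5 (Q4 (Q5 (Q4 (Q5 c)))))) c) (56 * 2048) 2048 = true := by decide +kernel
theorem chk_c14_b57 : allRange (fun c => Nat.beq (Q4 (Q5 (Q4 (Q5 (Q4 (Q5 c)))))) c) (57 * 2048) 2048 = true := by decide +kernel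
theorem chk_c14_b58 : allRange (fun c => Nat.beq (Q4 (Q5 (Q4 (Q5 (Q4 (Q5 c)))))) c) (58 * 2048) 2048 = true := by decide +kernel
theorem chk_c14_t : allRange (fun c => Nat.beq (Q4 (Q5 (Q4 (Q5 (Q4 (Q5 c)))))) c) (59 * 2048) 1928 = true := by decide +kernel
theorem chk_c14_all : ∀ c, c < 122760 → (fun c => Nat.beq (Q4 (Q5 (Q4 (Q5 (Q4 (Q5 c)))))) c) c = true := by
  intro c hc
  refine allRange_blocks _ 2048 59 1928 (by norm_num) ?_ chk_c14_t c hc
  intro k hk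
  interval_cases k
  exacts [chk_c14_b0, chk_c14_b1, chk_c14_b2, chk_c14_b3, chk_c14_b4, chk_c14_b5, chk_c14_b6, chk_c14_b7, chk_c14_b8, chk_c14_b9, chk_c14_b10, chk_c14_b11, chk_c14_b12, chk_c14_b13, chk_c14_b14, chk_c14_b15, chk_c14_b16, chk_c14_b17, chk_c14_b18, chk_c14_b19, chk_c14_b20, chk_c14_b21, chk_c14_b22, chk_c14_b23, chk_c14_b24, chk_c14_b25, chk_c14_b26, chk_c14_b27, chk_c14_b28, chk_c14_b29, chk_c14_b30, chk_c14_b31, chk_c14_b32, chk_c14_b33, chk_c14_b34, chk_c14_b35, chk_c14_b36, chk_c14_b37, chk_c14_b38, chk_c14_b39, chk_c14_b40, chk_c14_b41, chk_c14_b42, chk_c14_b43, chk_c14_b44, chk_c14_b45, chk_c14_b46, chk_c14_b47, chk_c14_b48, chk_c14_b49, chk_c14_b50, chk_c14_b51, chk_c14_b52, chk_c14_b53, chk_c14_b54, chk_c14_b55, chk_c14_b56, chk_c14_b57, chk_c14_b58]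

theorem chk_c3_b0 : allRange (fun c => Nat.beq (Q0 (Q4 (Q0 (Q4 c)))) c) (0 * 2048) 2048 = true := by decide +kernel
theorem chk_c3_b1 : allRange (fun c => Nat.beq (Q0 (Q4 (Q0 (Q4 c)))) c) (1 * 2048) 2048 = true := by decide +kernel
theorem chk_c3_b2 : allRange (fun c => Nat.beq (Q0 (Q4 (Q0 (Q4 c)))) c) (2 * 2048) 2048 = true := by decide +kernel
theorem chk_c3_b3 : allRange (fun c => Nat.beq (Q0 (Q4 (Q0 (Q4 c)))) c) (3 * 2048) 2048 = true := by decide +kernel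
theorem chk_c3_b4 : allRange (fun c => Nat.beq (Q0 (Q4 (Q0 (Q4 c)))) c) (4 * 2048) 2048 = true := by decide +kernel
theorem chk_c3_b5 : allRange (fun c => Nat.beq (Q0 (Q4 (Q0 (Q4 c)))) c) (5 * 2048) 2048 = true := by decide +kernel
theorem chk_c3_b6 : allRange (fun c => Nat.beq (Q0 (Q4 (Q0 (Q4 c)))) c) (6 * 2048) 2048 = true := by decide +kernel
theorem chk_c3_b7 : allRange (fun c => Nat.beq (Q0 (Q4 (Q0 (Q4 c)))) c) (7 * 2048) 2048 = true := by decide +kernel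
theorem chk_c3_b8 : allRange (fun c => Nat.beq (Q0 (Q4 (Q0 (Q4 c)))) c) (8 * 2048) 2048 = true := by decide +kernel
theorem chk_c3_b9 : allRange (fun c => Nat.beq (Q0 (Q4 (Q0 (Q4 c)))) c) (9 * 2048) 2048 = true := by decide +kernel
theorem chk_c3_b10 : allRange (fun c => Nat.beq (Q0 (Q4 (Q0 (Q4 c)))) c) (10 * 2048) 2048 = true := by decide +kernel
theorem chk_c3_b11 : allRange (fun c => Nat.beq (Q0 (Q4 (Q0 (Q4 c)))) c) (11 * 2048) 2048 = true := by decide +kernel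
theorem chk_c3_b12 : allRange (fun c => Nat.beq (Q0 (Q4 (Q0 (Q4 c)))) c) (12 * 2048) 2048 = true := by decide +kernel
theorem chk_c3_b13 : allRange (fun c => Nat.beq (Q0 (Q4 (Q0 (Q4 c)))) c) (13 * 2048) 2048 = true := by decide +kernel
theorem chk_c3_b14 : allRange (fun c => Nat.beq (Q0 (Q4 (Q0 (Q4 c)))) c) (14 * 2048) 2048 = true := by decide +kernel
theorem chk_c3_b15 : allRange (fun c => Nat.beq (Q0 (Q4 (Q0 (Q4 c)))) c) (15 * 2048) 2048 = true := by decide +kernel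
theorem chk_c3_b16 : allRange (fun c => Nat.beq (Q0 (Q4 (Q0 (Q4 c)))) c) (16 * 2048) 2048 = true := by decide +kernel
theorem chk_c3_b17 : allRange (fun c => Nat.beq (Q0 (Q4 (Q0 (Q4 c)))) c) (17 * 2048) 2048 = true := by decide +kernel
theorem chk_c3_b18 : allRange (fun c => Nat.beq (Q0 (Q4 (Q0 (Q4 c)))) c) (18 * 2048) 2048 = true := by decide +kernel
theorem chk_c3_b19 : allRange (fun c => Nat.beq (Q0 (Q4 (Q0 (Q4 c)))) c) (19 * 2048) 2048 = true := by decide +kernel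
theorem chk_c3_b20 : allRange (fun c => Nat.beq (Q0 (Q4 (Q0 (Q4 c)))) c) (20 * 2048) 2048 = true := by decide +kernel
theorem chk_c3_b21 : allRange (fun c => Nat.beq (Q0 (Q4 (Q0 (Q4 c)))) c) (21 * 2048) 2048 = true := by decide +kernel
theorem chk_c3_b22 : allRange (fun c => Nat.beq (Q0 (Q4 (Q0 (Q4 c)))) c) (22 * 2048) 2048 = true := by decide +kernel
theorem chk_c3_b23 : allRange (fun c => Nat.beq (Q0 (Q4 (Q0 (Q4 c)))) c) (23 * 2048) 2048 = true := by decide +kernel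
theorem chk_c3_b24 : allRange (fun c => Nat.beq (Q0 (Q4 (Q0 (Q4 c)))) c) (24 * 2048) 2048 = true := by decide +kernel
theorem chk_c3_b25 : allRange (fun c => Nat.beq (Q0 (Q4 (Q0 (Q4 c)))) c) (25 * 2048) 2048 = true := by decide +kernel
theorem chk_c3_b26 : allRange (fun c => Nat.beq (Q0 (Q4 (Q0 (Q4 c)))) c) (26 * 2048) 2048 = true := by decide +kernel
theorem chk_c3_b27 : allRange (fun c => Nat.beq (Q0 (Q4 (Q0 (Q4 c)))) c) (27 * 2048) 2048 = true := by decide +kernel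
theorem chk_c3_b28 : allRange (fun c => Nat.beq (Q0 (Q4 (Q0 (Q4 c)))) c) (28 * 2048) 2048 = true := by decide +kernel
theorem chk_c3_b29 : allRange (fun c => Nat.beq (Q0 (Q4 (Q0 (Q4 c)))) c) (29 * 2048) 2048 = true := by decide +kernel
theorem chk_c3_b30 : allRange (fun c => Nat.beq (Q0 (Q4 (Q0 (Q4 c)))) c) (30 * 2048) 2048 = true := by decide +kernel
theorem chk_c3_b31 : allRange (fun c => Nat.beq (Q0 (Q4 (Q0 (Q4 c)))) c) (31 * 2048) 2048 = true := by decide +kernel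
theorem chk_c3_b32 : allRange (fun c => Nat.beq (Q0 (Q4 (Q0 (Q4 c)))) c) (32 * 2048) 2048 = true := by decide +kernel
theorem chk_c3_b33 : allRange (fun c => Nat.beq (Q0 (Q4 (Q0 (Q4 c)))) c) (33 * 2048) 2048 = true := by decide +kernel
theorem chk_c3_b34 : allRange (fun c => Nat.beq (Q0 (Q4 (Q0 (Q4 c)))) c) (34 * 2048) 2048 = true := by decide +kernel
theorem chk_c3_b35 : allRange (fun c => Nat.beq (Q0 (Q4 (Q0 (Q4 c)))) c) (35 * 2048) 2048 = true := by decide +kernel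
theorem chk_c3_b36 : allRange (fun c => Nat.beq (Q0 (Q4 (Q0 (Q4 c)))) c) (36 * 2048) 2048 = true := by decide +kernel
theorem chk_c3_b37 : allRange (fun c => Nat.beq (Q0 (Q4 (Q0 (Q4 c)))) c) (37 * 2048) 2048 = true := by decide +kernel
theorem chk_c3_b38 : allRange (fun c => Nat.beq (Q0 (Q4 (Q0 (Q4 c)))) c) (38 * 2048) 2048 = true := by decide +kernel
theorem chk_c3_b39 : allRange (fun c => Nat.beq (Q0 (Q4 (Q0 (Q4 c)))) c) (39 * 2048) 2048 = true := by decide +kernel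
theorem chk_c3_b40 : allRange (fun c => Nat.beq (Q0 (Q4 (Q0 (Q4 c)))) c) (40 * 2048) 2048 = true := by decide +kernel
theorem chk_c3_b41 : allRange (fun c => Nat.beq (Q0 (Q4 (Q0 (Q4 c)))) c) (41 * 2048) 2048 = true := by decide +kernel
theorem chk_c3_b42 : allRange (fun c => Nat.beq (Q0 (Q4 (Q0 (Q4 c)))) c) (42 * 2048) 2048 = true := by decide +kernel
theorem chk_c3_b43 : allRange (fun c => Nat.beq (Q0 (Q4 (Q0 (Q4 c)))) c) (43 * 2048) 2048 = true := by decide +kernel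
theorem chk_c3_b44 : allRange (fun c => Nat.beq (Q0 (Q4 (Q0 (Q4 c)))) c) (44 * 2048) 2048 = true := by decide +kernel
theorem chk_c3_b45 : allRange (fun c => Nat.beq (Q0 (Q4 (Q0 (Q4 c)))) c) (45 * 2048) 2048 = true := by decide +kernel
theorem chk_c3_b46 : allRange (fun c => Nat.beq (Q0 (Q4 (Q0 (Q4 c)))) c) (46 * 2048) 2048 = true := by decide +kernel
theorem chk_c3_b47 : allRange (fun c => Nat.beq (Q0 (Q4 (Q0 (Q4 c)))) c) (47 * 2048) 2048 = true := by decide +kernel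
theorem chk_c3_b48 : allRange (fun c => Nat.beq (Q0 (Q4 (Q0 (Q4 c)))) c) (48 * 2048) 2048 = true := by decide +kernel
theorem chk_c3_b49 : allRange (fun c => Nat.beq (Q0 (Q4 (Q0 (Q4 c)))) c) (49 * 2048) 2048 = true := by decide +kernel
theorem chk_c3_b50 : allRange (fun c => Nat.beq (Q0 (Q4 (Q0 (Q4 c)))) c) (50 * 2048) 2048 = true := by decide +kernel
theorem chk_c3_b51 : allRange (fun c => Nat.beq (Q0 (Q4 (Q0 (Q4 c)))) c) (51 * 2048) 2048 = true := by decide +kernel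
theorem chk_c3_b52 : allRange (fun c => Nat.beq (Q0 (Q4 (Q0 (Q4 c)))) c) (52 * 2048) 2048 = true := by decide +kernel
theorem chk_c3_b53 : allRange (fun c => Nat.beq (Q0 (Q4 (Q0 (Q4 c)))) c) (53 * 2048) 2048 = true := by decide +kernel
theorem chk_c3_b54 : allRange (fun c => Nat.beq (Q0 (Q4 (Q0 (Q4 c)))) c) (54 * 2048) 2048 = true := by decide +kernel
theorem chk_c3_b55 : allRange (fun c => Nat.beq (Q0 (Q4 (Q0 (Q4 c)))) c) (55 * 2048) 2048 = true := by decide +kernel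
theorem chk_c3_b56 : allRange (fun c => Nat.beq (Q0 (Q4 (Q0 (Q4 c)))) c) (56 * 2048) 2048 = true := by decide +kernel
theorem chk_c3_b57 : allRange (fun c => Nat.beq (Q0 (Q4 (Q0 (Q4 c)))) c) (57 * 2048) 2048 = true := by decide +kernel
theorem chk_c3_b58 : allRange (fun c => Nat.beq (Q0 (Q4 (Q0 (Q4 c)))) c) (58 * 2048) 2048 = true := by decide +kernel
theorem chk_c3_t : allRange (fun c => Nat.beq (Q0 (Q4 (Q0 (Q4 c)))) c) (59 * 2048) 1928 = true := by decide +kernel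
theorem chk_c3_all : ∀ c, c < 122760 → (fun c => Nat.beq (Q0 (Q4 (Q0 (Q4 c)))) c) c = true := by
  intro c hc
  refine allRange_blocks _ 2048 59 1928 (by norm_num) ?_ chk_c3_t c hc
  intro k hk
  interval_cases k
  exacts [chk_c3_b0, chk_c3_b1, chk_c3_b2, chk_c3_b3, chk_c3_b4, chk_c3_b5, chk_c3_b6, chk_c3_b7, chk_c3_b8, chk_c3_b9, chk_c3_b10, chk_c3_b11, chk_c3_b12, chk_c3_b13, chk_c3_b14, chk_c3_b15, chk_c3_b16, chk_c3_b17, chk_c3_b18, chk_c3_b19, chk_c3_b20, chk_c3_b21, chk_c3_b22, chk_c3_b23, chk_c3_b24, chk_c3_b25, chk_c3_b26, chk_c3_b27, chk_c3_b28, chk_c3_b29, chk_c3_b30, chk_c3_b31, chk_c3_b32, chk_c3_b33, chk_c3_b34, chk_c3_b35, chk_c3_b36, chk_c3_b37, chk_c3_b38, chk_c3_b39, chk_c3_b40, chk_c3_b41, chk_c3_b42, chk_c3_b43, chk_c3_b44, chk_c3_b45, chk_c3_b46, chk_c3_b47, chk_c3_b48, chk_c3_b49, chk_c3_b50, chk_c3_b51, chk_c3_b52, chk_c3_b53, chk_c3_b54, chk_c3_b55, chk_c3_b56, chk_c3_b57, chk_c3_b58]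

theorem chk_c4_b0 : allRange (fun c => Nat.beq (Q0 (Q5 (Q0 (Q5 c)))) c) (0 * 2048) 2048 = true := by decide +kernel
theorem chk_c4_b1 : allRange (fun c => Nat.beq (Q0 (Q5 (Q0 (Q5 c)))) c) (1 * 2048) 2048 = true := by decide +kernel
theorem chk_c4_b2 : allRange (fun c => Nat.beq (Q0 (Q5 (Q0 (Q5 c)))) c) (2 * 2048) 2048 = true := by decide +kernel
theorem chk_c4_b3 : allRange (fun c => Nat.beq (Q0 (Q5 (Q0 (Q5 c)))) c) (3 * 2048) 2048 = true := by decide +kernel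
theorem chk_c4_b4 : allRange (fun c => Nat.beq (Q0 (Q5 (Q0 (Q5 c)))) c) (4 * 2048) 2048 = true := by decide +kernel
theorem chk_c4_b5 : allRange (fun c => Nat.beq (Q0 (Q5 (Q0 (Q5 c)))) c) (5 * 2048) 2048 = true := by decide +kernel
theorem chk_c4_b6 : allRange (fun c => Nat.beq (Q0 (Q5 (Q0 (Q5 c)))) c) (6 * 2048) 2048 = true := by decide +kernel
theorem chk_c4_b7 : allRange (fun c => Nat.beq (Q0 (Q5 (Q0 (Q5 c)))) c) (7 * 2048) 2048 = true := by decide +kernel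
theorem chk_c4_b8 : allRange (fun c => Nat.beq (Q0 (Q5 (Q0 (Q5 c)))) c) (8 * 2048) 2048 = true := by decide +kernel
theorem chk_c4_b9 : allRange (fun c => Nat.beq (Q0 (Q5 (Q0 (Q5 c)))) c) (9 * 2048) 2048 = true := by decide +kernel
theorem chk_c4_b10 : allRange (fun c => Nat.beq (Q0 (Q5 (Q0 (Q5 c)))) c) (10 * 2048) 2048 = true := by decide +kernel
theorem chk_c4_b11 : allRange (fun c => Nat.beq (Q0 (Q5 (Q0 (Q5 c)))) c) (11 * 2048) 2048 = true := by decide +kernel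
theorem chk_c4_b12 : allRange (fun c => Nat.beq (Q0 (Q5 (Q0 (Q5 c)))) c) (12 * 2048) 2048 = true := by decide +kernel
theorem chk_c4_b13 : allRange (fun c => Nat.beq (Q0 (Q5 (Q0 (Q5 c)))) c) (13 * 2048) 2048 = true := by decide +kernel
theorem chk_c4_b14 : allRange (fun c => Nat.beq (Q0 (Q5 (Q0 (Q5 c)))) c) (14 * 2048) 2048 = true := by decide +kernel
theorem chk_c4_b15 : allRange (fun c => Nat.beq (Q0 (Q5 (Q0 (Q5 c)))) c) (15 * 2048) 2048 = true := by decide +kernel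
theorem chk_c4_b16 : allRange (fun c => Nat.beq (Q0 (Q5 (Q0 (Q5 c)))) c) (16 * 2048) 2048 = true := by decide +kernel
theorem chk_c4_b17 : allRange (fun c => Nat.beq (Q0 (Q5 (Q0 (Q5 c)))) c) (17 * 2048) 2048 = true := by decide +kernel
theorem chk_c4_b18 : allRange (fun c => Nat.beq (Q0 (Q5 (Q0 (Q5 c)))) c) (18 * 2048) 2048 = true := by decide +kernel
theorem chk_c4_b19 : allRange (fun c => Nat.beq (Q0 (Q5 (Q0 (Q5 c)))) c) (19 * 2048) 2048 = true := by decide +kernel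
theorem chk_c4_b20 : allRange (fun c => Nat.beq (Q0 (Q5 (Q0 (Q5 c)))) c) (20 * 2048) 2048 = true := by decide +kernel
theorem chk_c4_b21 : allRange (fun c => Nat.beq (Q0 (Q5 (Q0 (Q5 c)))) c) (21 * 2048) 2048 = true := by decide +kernel
theorem chk_c4_b22 : allRange (fun c => Nat.beq (Q0 (Q5 (Q0 (Q5 c)))) c) (22 * 2048) 2048 = true := by decide +kernel
theorem chk_c4_b23 : allRange (fun c => Nat.beq (Q0 (Q5 (Q0 (Q5 c)))) c) (23 * 2048) 2048 = true := by decide +kernel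
theorem chk_c4_b24 : allRange (fun c => Nat.beq (Q0 (Q5 (Q0 (Q5 c)))) c) (24 * 2048) 2048 = true := by decide +kernel
theorem chk_c4_b25 : allRange (fun c => Nat.beq (Q0 (Q5 (Q0 (Q5 c)))) c) (25 * 2048) 2048 = true := by decide +kernel
theorem chk_c4_b26 : allRange (fun c => Nat.beq (Q0 (Q5 (Q0 (Q5 c)))) c) (26 * 2048) 2048 = true := by decide +kernel
theorem chk_c4_b27 : allRange (fun c => Nat.beq (Q0 (Q5 (Q0 (Q5 c)))) c) (27 * 2048) 2048 = true := by decide +kernel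
theorem chk_c4_b28 : allRange (fun c => Nat.beq (Q0 (Q5 (Q0 (Q5 c)))) c) (28 * 2048) 2048 = true := by decide +kernel
theorem chk_c4_b29 : allRange (fun c => Nat.beq (Q0 (Q5 (Q0 (Q5 c)))) c) (29 * 2048) 2048 = true := by decide +kernel
theorem chk_c4_b30 : allRange (fun c => Nat.beq (Q0 (Q5 (Q0 (Q5 c)))) c) (30 * 2048) 2048 = true := by decide +kernel
theorem chk_c4_b31 : allRange (fun c => Nat.beq (Q0 (Q5 (Q0 (Q5 c)))) c) (31 * 2048) 2048 = true := by decide +kernel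
theorem chk_c4_b32 : allRange (fun c => Nat.beq (Q0 (Q5 (Q0 (Q5 c)))) c) (32 * 2048) 2048 = true := by decide +kernel
theorem chk_c4_b33 : allRange (fun c => Nat.beq (Q0 (Q5 (Q0 (Q5 c)))) c) (33 * 2048) 2048 = true := by decide +kernel
theorem chk_c4_b34 : allRange (fun c => Nat.beq (Q0 (Q5 (Q0 (Q5 c)))) c) (34 * 2048) 2048 = true := by decide +kernel
theorem chk_c4_b35 : allRange (fun c => Nat.beq (Q0 (Q5 (Q0 (Q5 c)))) c) (35 * 2048) 2048 = true := by decide +kernel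
theorem chk_c4_b36 : allRange (fun c => Nat.beq (Q0 (Q5 (Q0 (Q5 c)))) c) (36 * 2048) 2048 = true := by decide +kernel
theorem chk_c4_b37 : allRange (fun c => Nat.beq (Q0 (Q5 (Q0 (Q5 c)))) c) (37 * 2048) 2048 = true := by decide +kernel
theorem chk_c4_b38 : allRange (fun c => Nat.beq (Q0 (Q5 (Q0 (Q5 c)))) c) (38 * 2048) 2048 = true := by decide +kernel
theorem chk_c4_b39 : allRange (fun c => Nat.beq (Q0 (Q5 (Q0 (Q5 c)))) c) (39 * 2048) 2048 = true := by decide +kernel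
theorem chk_c4_b40 : allRange (fun c => Nat.beq (Q0 (Q5 (Q0 (Q5 c)))) c) (40 * 2048) 2048 = true := by decide +kernel
theorem chk_c4_b41 : allRange (fun c => Nat.beq (Q0 (Q5 (Q0 (Q5 c)))) c) (41 * 2048) 2048 = true := by decide +kernel
theorem chk_c4_b42 : allRange (fun c => Nat.beq (Q0 (Q5 (Q0 (Q5 c)))) c) (42 * 2048) 2048 = true := by decide +kernel
theorem chk_c4_b43 : allRange (fun c => Nat.beq (Q0 (Q5 (Q0 (Q5 c)))) c) (43 * 2048) 2048 = true := by decide +kernel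
theorem chk_c4_b44 : allRange (fun c => Nat.beq (Q0 (Q5 (Q0 (Q5 c)))) c) (44 * 2048) 2048 = true := by decide +kernel
theorem chk_c4_b45 : allRange (fun c => Nat.beq (Q0 (Q5 (Q0 (Q5 c)))) c) (45 * 2048) 2048 = true := by decide +kernel
theorem chk_c4_b46 : allRange (fun c => Nat.beq (Q0 (Q5 (Q0 (Q5 c)))) c) (46 * 2048) 2048 = true := by decide +kernel
theorem chk_c4_b47 : allRange (fun c => Nat.beq (Q0 (Q5 (Q0 (Q5 c)))) c) (47 * 2048) 2048 = true := by decide +kernel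
theorem chk_c4_b48 : allRange (fun c => Nat.beq (Q0 (Q5 (Q0 (Q5 c)))) c) (48 * 2048) 2048 = true := by decide +kernel
theorem chk_c4_b49 : allRange (fun c => Nat.beq (Q0 (Q5 (Q0 (Q5 c)))) c) (49 * 2048) 2048 = true := by decide +kernel
theorem chk_c4_b50 : allRange (fun c => Nat.beq (Q0 (Q5 (Q0 (Q5 c)))) c) (50 * 2048) 2048 = true := by decide +kernel
theorem chk_c4_b51 : allRange (fun c => Nat.beq (Q0 (Q5 (Q0 (Q5 c)))) c) (51 * 2048) 2048 = true := by decide +kernel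
theorem chk_c4_b52 : allRange (fun c => Nat.beq (Q0 (Q5 (Q0 (Q5 c)))) c) (52 * 2048) 2048 = true := by decide +kernel
theorem chk_c4_b53 : allRange (fun c => Nat.beq (Q0 (Q5 (Q0 (Q5 c)))) c) (53 * 2048) 2048 = true := by decide +kernel
theorem chk_c4_b54 : allRange (fun c => Nat.beq (Q0 (Q5 (Q0 (Q5 c)))) c) (54 * 2048) 2048 = true := by decide +kernel
theorem chk_c4_b55 : allRange (fun c => Nat.beq (Q0 (Q5 (Q0 (Q5 c)))) c) (55 * 2048) 2048 = true := by decide +kernel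
theorem chk_c4_b56 : allRange (fun c => Nat.beq (Q0 (Q5 (Q0 (Q5 c)))) c) (56 * 2048) 2048 = true := by decide +kernel
theorem chk_c4_b57 : allRange (fun c => Nat.beq (Q0 (Q5 (Q0 (Q5 c)))) c) (57 * 2048) 2048 = true := by decide +kernel
theorem chk_c4_b58 : allRange (fun c => Nat.beq (Q0 (Q5 (Q0 (Q5 c)))) c) (58 * 2048) 2048 = true := by decide +kernel
theorem chk_c4_t : allRange (fun c => Nat.beq (Q0 (Q5 (Q0 (Q5 c)))) c) (59 * 2048) 1928 = true := by decide +kernel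
theorem chk_c4_all : ∀ c, c < 122760 → (fun c => Nat.beq (Q0 (Q5 (Q0 (Q5 c)))) c) c = true := by
  intro c hc
  refine allRange_blocks _ 2048 59 1928 (by norm_num) ?_ chk_c4_t c hc
  intro k hk
  interval_cases k
  exacts [chk_c4_b0, chk_c4_b1, chk_c4_b2, chk_c4_b3, chk_c4_b4, chk_c4_b5, chk_c4_b6, chk_c4_b7, chk_c4_b8, chk_c4_b9, chk_c4_b10, chk_c4_b11, chk_c4_b12, chk_c4_b13, chk_c4_b14, chk_c4_b15, chk_c4_b16, chk_c4_b17, chk_c4_b18, chk_c4_b19, chk_c4_b20, chk_c4_b21, chk_c4_b22, chk_c4_b23, chk_c4_b24, chk_c4_b25, chk_c4_b26, chk_c4_b27, chk_c4_b28, chk_c4_b29, chk_c4_b30, chk_c4_b31, chk_c4_b32, chk_c4_b33, chk_c4_b34, chk_c4_b35, chk_c4_b36, chk_c4_b37, chk_c4_b38, chk_c4_b39, chk_c4_b40, chk_c4_b41, chk_c4_b42, chk_c4_b43, chk_c4_b44, chk_c4_b45, chk_c4_b46, chk_c4_b47, chk_c4_b48, chk_c4_b49, chk_c4_b50, chk_c4_b51, chk_c4_b52, chk_c4_b53, chk_c4_b54, chk_c4_b55, chk_c4_b56, chk_c4_b57, chk_c4_b58]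

theorem chk_c6_b0 : allRange (fun c => Nat.beq (Q1 (Q3 (Q1 (Q3 c)))) c) (0 * 2048) 2048 = true := by decide +kernel
theorem chk_c6_b1 : allRange (fun c => Nat.beq (Q1 (Q3 (Q1 (Q3 c)))) c) (1 * 2048) 2048 = true := by decide +kernel
theorem chk_c6_b2 : allRange (fun c => Nat.beq (Q1 (Q3 (Q1 (Q3 c)))) c) (2 * 2048) 2048 = true := by decide +kernel
theorem chk_c6_b3 : allRange (fun c => Nat.beq (Q1 (Q3 (Q1 (Q3 c)))) c) (3 * 2048) 2048 = true := by decide +kernel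
theorem chk_c6_b4 : allRange (fun c => Nat.beq (Q1 (Q3 (Q1 (Q3 c)))) c) (4 * 2048) 2048 = true := by decide +kernel
theorem chk_c6_b5 : allRange (fun c => Nat.beq (Q1 (Q3 (Q1 (Q3 c)))) c) (5 * 2048) 2048 = true := by decide +kernel
theorem chk_c6_b6 : allRange (fun c => Nat.beq (Q1 (Q3 (Q1 (Q3 c)))) c) (6 * 2048) 2048 = true := by decide +kernel
theorem chk_c6_b7 : allRange (fun c => Nat.beq (Q1 (Q3 (Q1 (Q3 c)))) c) (7 * 2048) 2048 = true := by decide +kernel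
theorem chk_c6_b8 : allRange (fun c => Nat.beq (Q1 (Q3 (Q1 (Q3 c)))) c) (8 * 2048) 2048 = true := by decide +kernel
theorem chk_c6_b9 : allRange (fun c => Nat.beq (Q1 (Q3 (Q1 (Q3 c)))) c) (9 * 2048) 2048 = true := by decide +kernel
theorem chk_c6_b10 : allRange (fun c => Nat.beq (Q1 (Q3 (Q1 (Q3 c)))) c) (10 * 2048) 2048 = true := by decide +kernel
theorem chk_c6_b11 : allRange (fun c => Nat.beq (Q1 (Q3 (Q1 (Q3 c)))) c) (11 * 2048) 2048 = true := by decide +kernel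
theorem chk_c6_b12 : allRange (fun c => Nat.beq (Q1 (Q3 (Q1 (Q3 c)))) c) (12 * 2048) 2048 = true := by decide +kernel
theorem chk_c6_b13 : allRange (fun c => Nat.beq (Q1 (Q3 (Q1 (Q3 c)))) c) (13 * 2048) 2048 = true := by decide +kernel
theorem chk_c6_b14 : allRange (fun c => Nat.beq (Q1 (Q3 (Q1 (Q3 c)))) c) (14 * 2048) 2048 = true := by decide +kernel
theorem chk_c6_b15 : allRange (fun c => Nat.beq (Q1 (Q3 (Q1 (Q3 c)))) c) (15 * 2048) 2048 = true := by decide +kernel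
theorem chk_c6_b16 : allRange (fun c => Nat.beq (Q1 (Q3 (Q1 (Q3 c)))) c) (16 * 2048) 2048 = true := by decide +kernel
theorem chk_c6_b17 : allRange (fun c => Nat.beq (Q1 (Q3 (Q1 (Q3 c)))) c) (17 * 2048) 2048 = true := by decide +kernel
theorem chk_c6_b18 : allRange (fun c => Nat.beq (Q1 (Q3 (Q1 (Q3 c)))) c) (18 * 2048) 2048 = true := by decide +kernel
theorem chk_c6_b19 : allRange (fun c => Nat.beq (Q1 (Q3 (Q1 (Q3 c)))) c) (19 * 2048) 2048 = true := by decide +kernel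
theorem chk_c6_b20 : allRange (fun c => Nat.beq (Q1 (Q3 (Q1 (Q3 c)))) c) (20 * 2048) 2048 = true := by decide +kernel
theorem chk_c6_b21 : allRange (fun c => Nat.beq (Q1 (Q3 (Q1 (Q3 c)))) c) (21 * 2048) 2048 = true := by decide +kernel
theorem chk_c6_b22 : allRange (fun c => Nat.beq (Q1 (Q3 (Q1 (Q3 c)))) c) (22 * 2048) 2048 = true := by decide +kernel
theorem chk_c6_b23 : allRange (fun c => Nat.beq (Q1 (Q3 (Q1 (Q3 c)))) c) (23 * 2048) 2048 = true := by decide +kernel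
theorem chk_c6_b24 : allRange (fun c => Nat.beq (Q1 (Q3 (Q1 (Q3 c)))) c) (24 * 2048) 2048 = true := by decide +kernel
theorem chk_c6_b25 : allRange (fun c => Nat.beq (Q1 (Q3 (Q1 (Q3 c)))) c) (25 * 2048) 2048 = true := by decide +kernel
theorem chk_c6_b26 : allRange (fun c => Nat.beq (Q1 (Q3 (Q1 (Q3 c)))) c) (26 * 2048) 2048 = true := by decide +kernel
theorem chk_c6_b27 : allRange (fun c => Nat.beq (Q1 (Q3 (Q1 (Q3 c)))) c) (27 * 2048) 2048 = true := by decide +kernel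
theorem chk_c6_b28 : allRange (fun c => Nat.beq (Q1 (Q3 (Q1 (Q3 c)))) c) (28 * 2048) 2048 = true := by decide +kernel
theorem chk_c6_b29 : allRange (fun c => Nat.beq (Q1 (Q3 (Q1 (Q3 c)))) c) (29 * 2048) 2048 = true := by decide +kernel
theorem chk_c6_b30 : allRange (fun c => Nat.beq (Q1 (Q3 (Q1 (Q3 c)))) c) (30 * 2048) 2048 = true := by decide +kernel
theorem chk_c6_b31 : allRange (fun c => Nat.beq (Q1 (Q3 (Q1 (Q3 c)))) c) (31 * 2048) 2048 = true := by decide +kernel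
theorem chk_c6_b32 : allRange (fun c => Nat.beq (Q1 (Q3 (Q1 (Q3 c)))) c) (32 * 2048) 2048 = true := by decide +kernel
theorem chk_c6_b33 : allRange (fun c => Nat.beq (Q1 (Q3 (Q1 (Q3 c)))) c) (33 * 2048) 2048 = true := by decide +kernel
theorem chk_c6_b34 : allRange (fun c => Nat.beq (Q1 (Q3 (Q1 (Q3 c)))) c) (34 * 2048) 2048 = true := by decide +kernel
theorem chk_c6_b35 : allRange (fun c => Nat.beq (Q1 (Q3 (Q1 (Q3 c)))) c) (35 * 2048) 2048 = true := by decide +kernel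
theorem chk_c6_b36 : allRange (fun c => Nat.beq (Q1 (Q3 (Q1 (Q3 c)))) c) (36 * 2048) 2048 = true := by decide +kernel
theorem chk_c6_b37 : allRange (fun c => Nat.beq (Q1 (Q3 (Q1 (Q3 c)))) c) (37 * 2048) 2048 = true := by decide +kernel
theorem chk_c6_b38 : allRange (fun c => Nat.beq (Q1 (Q3 (Q1 (Q3 c)))) c) (38 * 2048) 2048 = true := by decide +kernel
theorem chk_c6_b39 : allRange (fun c => Nat.beq (Q1 (Q3 (Q1 (Q3 c)))) c) (39 * 2048) 2048 = true := by decide +kernel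
theorem chk_c6_b40 : allRange (fun c => Nat.beq (Q1 (Q3 (Q1 (Q3 c)))) c) (40 * 2048) 2048 = true := by decide +kernel
theorem chk_c6_b41 : allRange (fun c => Nat.beq (Q1 (Q3 (Q1 (Q3 c)))) c) (41 * 2048) 2048 = true := by decide +kernel
theorem chk_c6_b42 : allRange (fun c => Nat.beq (Q1 (Q3 (Q1 (Q3 c)))) c) (42 * 2048) 2048 = true := by decide +kernel
theorem chk_c6_b43 : allRange (fun c => Nat.beq (Q1 (Q3 (Q1 (Q3 c)))) c) (43 * 2048) 2048 = true := by decide +kernel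
theorem chk_c6_b44 : allRange (fun c => Nat.beq (Q1 (Q3 (Q1 (Q3 c)))) c) (44 * 2048) 2048 = true := by decide +kernel
theorem chk_c6_b45 : allRange (fun c => Nat.beq (Q1 (Q3 (Q1 (Q3 c)))) c) (45 * 2048) 2048 = true := by decide +kernel
theorem chk_c6_b46 : allRange (fun c => Nat.beq (Q1 (Q3 (Q1 (Q3 c)))) c) (46 * 2048) 2048 = true := by decide +kernel
theorem chk_c6_b47 : allRange (fun c => Nat.beq (Q1 (Q3 (Q1 (Q3 c)))) c) (47 * 2048) 2048 = true := by decide +kernel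
theorem chk_c6_b48 : allRange (fun c => Nat.beq (Q1 (Q3 (Q1 (Q3 c)))) c) (48 * 2048) 2048 = true := by decide +kernel
theorem chk_c6_b49 : allRange (fun c => Nat.beq (Q1 (Q3 (Q1 (Q3 c)))) c) (49 * 2048) 2048 = true := by decide +kernel
theorem chk_c6_b50 : allRange (fun c => Nat.beq (Q1 (Q3 (Q1 (Q3 c)))) c) (50 * 2048) 2048 = true := by decide +kernel
theorem chk_c6_b51 : allRange (fun c => Nat.beq (Q1 (Q3 (Q1 (Q3 c)))) c) (51 * 2048) 2048 = true := by decide +kernel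
theorem chk_c6_b52 : allRange (fun c => Nat.beq (Q1 (Q3 (Q1 (Q3 c)))) c) (52 * 2048) 2048 = true := by decide +kernel
theorem chk_c6_b53 : allRange (fun c => Nat.beq (Q1 (Q3 (Q1 (Q3 c)))) c) (53 * 2048) 2048 = true := by decide +kernel
theorem chk_c6_b54 : allRange (fun c => Nat.beq (Q1 (Q3 (Q1 (Q3 c)))) c) (54 * 2048) 2048 = true := by decide +kernel
theorem chk_c6_b55 : allRange (fun c => Nat.beq (Q1 (Q3 (Q1 (Q3 c)))) c) (55 * 2048) 2048 = true := by decide +kernel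
theorem chk_c6_b56 : allRange (fun c => Nat.beq (Q1 (Q3 (Q1 (Q3 c)))) c) (56 * 2048) 2048 = true := by decide +kernel
theorem chk_c6_b57 : allRange (fun c => Nat.beq (Q1 (Q3 (Q1 (Q3 c)))) c) (57 * 2048) 2048 = true := by decide +kernel
theorem chk_c6_b58 : allRange (fun c => Nat.beq (Q1 (Q3 (Q1 (Q3 c)))) c) (58 * 2048) 2048 = true := by decide +kernel
theorem chk_c6_t : allRange (fun c => Nat.beq (Q1 (Q3 (Q1 (Q3 c)))) c) (59 * 2048) 1928 = true := by decide +kernel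
theorem chk_c6_all : ∀ c, c < 122760 → (fun c => Nat.beq (Q1 (Q3 (Q1 (Q3 c)))) c) c = true := by
  intro c hc
  refine allRange_blocks _ 2048 59 1928 (by norm_num) ?_ chk_c6_t c hc
  intro k hk
  interval_cases k
  exacts [chk_c6_b0, chk_c6_b1, chk_c6_b2, chk_c6_b3, chk_c6_b4, chk_c6_b5, chk_c6_b6, chk_c6_b7, chk_c6_b8, chk_c6_b9, chk_c6_b10, chk_c6_b11, chk_c6_b12, chk_c6_b13, chk_c6_b14, chk_c6_b15, chk_c6_b16, chk_c6_b17, chk_c6_b18, chk_c6_b19, chk_c6_b20, chk_c6_b21, chk_c6_b22, chk_c6_b23, chk_c6_b24, chk_c6_b25, chk_c6_b26, chk_c6_b27, chk_c6_b28, chk_c6_b29, chk_c6_b30, chk_c6_b31, chk_c6_b32, chk_c6_b33, chk_c6_b34, chk_c6_b35, chk_c6_b36, chk_c6_b37, chk_c6_b38, chk_c6_b39, chk_c6_b40, chk_c6_b41, chk_c6_b42, chk_c6_b43, chk_c6_b44, chk_c6_b45, chk_c6_b46, chk_c6_b47, chk_c6_b48, chk_c6_b49, chk_c6_b50, chk_c6_b51, chk_c6_b52, chk_c6_b53, chk_c6_b54, chk_c6_b55, chk_c6_b56, chk_c6_b57, chk_c6_b58]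

end Cfsg.Agent.Lib.helper35.Ona
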