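import Cfsg.Agent.Lib.helper35.OnData
import Cfsg.Agent.Lib.helper35.OnBlk

/-!
Relators of the presented O'Nan group act trivially on the 122760 points (part 8).
-/

set_option autoImplicit false
set_option maxRecDepth 100000
set_option Elab.async false

namespace Cfsg.Agent.Lib.helper35.Ona

open Cfsg.Agent.Lib.helper35

theorem chk_c7_b0 : allRange (fun c => Nat.beq (Q1 (Q4 (Q1 (Q4 c)))) c) (0 * 2048) 2048 = true := by decide +kernel
theorem chk_c7_b1 : allRange (fun c => Nat.beq (Q1 (Q4 (Q1 (Q4 c)))) c) (1 * 2048) 2048 = true := by decide +kernel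
theorem chk_c7_b2 : allRange (fun c => Nat.beq (Q1 (Q4 (Q1 (Q4 c)))) c) (2 * 2048) 2048 = true := by decide +kernel
theorem chk_c7_b3 : allRange (fun c => Nat.beq (Q1 (Q4 (Q1 (Q4 c)))) c) (3 * 2048) 2048 = true := by decide +kernel
theorem chk_c7_b4 : allRange (fun c => Nat.beq (Q1 (Q4 (Q1 (Q4 c)))) c) (4 * 2048) 2048 = true := by decide +kernel
theorem chk_c7_b5 : allRange (fun c => Nat.beq (Q1 (Q4 (Q1 (Q4 c)))) c) (5 * 2048) 2048 = true := by decide +kernel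
theorem chk_c7_b6 : allRange (fun c => Nat.beq (Q1 (Q4 (Q1 (Q4 c)))) c) (6 * 2048) 2048 = true := by decide +kernel
theorem chk_c7_b7 : allRange (fun c => Nat.beq (Q1 (Q4 (Q1 (Q4 c)))) c) (7 * 2048) 2048 = true := by decide +kernel
theorem chk_c7_b8 : allRange (fun c => Nat.beq (Q1 (Q4 (Q1 (Q4 c)))) c) (8 * 2048) 2048 = true := by decide +kernel
theorem chk_c7_b9 : allRange (fun c => Nat.beq (Q1 (Q4 (Q1 (Q4 c)))) c) (9 * 2048) 2048 = true := by decide +kernel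
theorem chk_c7_b10 : allRange (fun c => Nat.beq (Q1 (Q4 (Q1 (Q4 c)))) c) (10 * 2048) 2048 = true := by decide +kernel
theorem chk_c7_b11 : allRange (fun c => Nat.beq (Q1 (Q4 (Q1 (Q4 c)))) c) (11 * 2048) 2048 = true := by decide +kernel
theorem chk_c7_b12 : allRange (fun c => Nat.beq (Q1 (Q4 (Q1 (Q4 c)))) c) (12 * 2048) 2048 = true := by decide +kernel
theorem chk_c7_b13 : allRange (fun c => Nat.beq (Q1 (Q4 (Q1 (Q4 c)))) c) (13 * 2048) 2048 = true := by decide +kernel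
theorem chk_c7_b14 : allRange (fun c => Nat.beq (Q1 (Q4 (Q1 (Q4 c)))) c) (14 * 2048) 2048 = true := by decide +kernel
theorem chk_c7_b15 : allRange (fun c => Nat.beq (Q1 (Q4 (Q1 (Q4 c)))) c) (15 * 2048) 2048 = true := by decide +kernel
theorem chk_c7_b16 : allRange (fun c => Nat.beq (Q1 (Q4 (Q1 (Q4 c)))) c) (16 * 2048) 2048 = true := by decide +kernel
theorem chk_c7_b17 : allRange (fun c => Nat.beq (Q1 (Q4 (Q1 (Q4 c)))) c) (17 * 2048) 2048 = true := by decide +kernel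
theorem chk_c7_b18 : allRange (fun c => Nat.beq (Q1 (Q4 (Q1 (Q4 c)))) c) (18 * 2048) 2048 = true := by decide +kernel
theorem chk_c7_b19 : allRange (fun c => Nat.beq (Q1 (Q4 (Q1 (Q4 c)))) c) (19 * 2048) 2048 = true := by decide +kernel
theorem chk_c7_b20 : allRange (fun c => Nat.beq (Q1 (Q4 (Q1 (Q4 c)))) c) (20 * 2048) 2048 = true := by decide +kernel
theorem chk_c7_b21 : allRange (fun c => Nat.beq (Q1 (Q4 (Q1 (Q4 c)))) c) (21 * 2048) 2048 = true := by decide +kernel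
theorem chk_c7_b22 : allRange (fun c => Nat.beq (Q1 (Q4 (Q1 (Q4 c)))) c) (22 * 2048) 2048 = true := by decide +kernel
theorem chk_c7_b23 : allRange (fun c => Nat.beq (Q1 (Q4 (Q1 (Q4 c)))) c) (23 * 2048) 2048 = true := by decide +kernel
theorem chk_c7_b24 : allRange (fun c => Nat.beq (Q1 (Q4 (Q1 (Q4 c)))) c) (24 * 2048) 2048 = true := by decide +kernel
theorem chk_c7_b25 : allRange (fun c => Nat.beq (Q1 (Q4 (Q1 (Q4 c)))) c) (25 * 2048) 2048 = true := by decide +kernel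
theorem chk_c7_b26 : allRange (fun c => Nat.beq (Q1 (Q4 (Q1 (Q4 c)))) c) (26 * 2048) 2048 = true := by decide +kernel
theorem chk_c7_b27 : allRange (fun c => Nat.beq (Q1 (Q4 (Q1 (Q4 c)))) c) (27 * 2048) 2048 = true := by decide +kernel
theorem chk_c7_b28 : allRange (fun c => Nat.beq (Q1 (Q4 (Q1 (Q4 c)))) c) (28 * 2048) 2048 = true := by decide +kernel
theorem chk_c7_b29 : allRange (fun c => Nat.beq (Q1 (Q4 (Q1 (Q4 c)))) c) (29 * 2048) 2048 = true := by decide +kernel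
theorem chk_c7_b30 : allRange (fun c => Nat.beq (Q1 (Q4 (Q1 (Q4 c)))) c) (30 * 2048) 2048 = true := by decide +kernel
theorem chk_c7_b31 : allRange (fun c => Nat.beq (Q1 (Q4 (Q1 (Q4 c)))) c) (31 * 2048) 2048 = true := by decide +kernel
theorem chk_c7_b32 : allRange (fun c => Nat.beq (Q1 (Q4 (Q1 (Q4 c)))) c) (32 * 2048) 2048 = true := by decide +kernel
theorem chk_c7_b33 : allRange (fun c => Nat.beq (Q1 (Q4 (Q1 (Q4 c)))) c) (33 * 2048) 2048 = true := by decide +kernel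
theorem chk_c7_b34 : allRange (fun c => Nat.beq (Q1 (Q4 (Q1 (Q4 c)))) c) (34 * 2048) 2048 = true := by decide +kernel
theorem chk_c7_b35 : allRange (fun c => Nat.beq (Q1 (Q4 (Q1 (Q4 c)))) c) (35 * 2048) 2048 = true := by decide +kernel
theorem chk_c7_b36 : allRange (fun c => Nat.beq (Q1 (Q4 (Q1 (Q4 c)))) c) (36 * 2048) 2048 = true := by decide +kernel
theorem chk_c7_b37 : allRange (fun c => Nat.beq (Q1 (Q4 (Q1 (Q4 c)))) c) (37 * 2048) 2048 = true := by decide +kernel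
theorem chk_c7_b38 : allRange (fun c => Nat.beq (Q1 (Q4 (Q1 (Q4 c)))) c) (38 * 2048) 2048 = true := by decide +kernel
theorem chk_c7_b39 : allRange (fun c => Nat.beq (Q1 (Q4 (Q1 (Q4 c)))) c) (39 * 2048) 2048 = true := by decide +kernel
theorem chk_c7_b40 : allRange (fun c => Nat.beq (Q1 (Q4 (Q1 (Q4 c)))) c) (40 * 2048) 2048 = true := by decide +kernel
theorem chk_c7_b41 : allRange (fun c => Nat.beq (Q1 (Q4 (Q1 (Q4 c)))) c) (41 * 2048) 2048 = true := by decide +kernel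
theorem chk_c7_b42 : allRange (fun c => Nat.beq (Q1 (Q4 (Q1 (Q4 c)))) c) (42 * 2048) 2048 = true := by decide +kernel
theorem chk_c7_b43 : allRange (fun c => Nat.beq (Q1 (Q4 (Q1 (Q4 c)))) c) (43 * 2048) 2048 = true := by decide +kernel
theorem chk_c7_b44 : allRange (fun c => Nat.beq (Q1 (Q4 (Q1 (Q4 c)))) c) (44 * 2048) 2048 = true := by decide +kernel
theorem chk_c7_b45 : allRange (fun c => Nat.beq (Q1 (Q4 (Q1 (Q4 c)))) c) (45 * 2048) 2048 = true := by decide +kernel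
theorem chk_c7_b46 : allRange (fun c => Nat.beq (Q1 (Q4 (Q1 (Q4 c)))) c) (46 * 2048) 2048 = true := by decide +kernel
theorem chk_c7_b47 : allRange (fun c => Nat.beq (Q1 (Q4 (Q1 (Q4 c)))) c) (47 * 2048) 2048 = true := by decide +kernel
theorem chk_c7_b48 : allRange (fun c => Nat.beq (Q1 (Q4 (Q1 (Q4 c)))) c) (48 * 2048) 2048 = true := by decide +kernel
theorem chk_c7_b49 : allRange (fun c => Nat.beq (Q1 (Q4 (Q1 (Q4 c)))) c) (49 * 2048) 2048 = true := by decide +kernel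
theorem chk_c7_b50 : allRange (fun c => Nat.beq (Q1 (Q4 (Q1 (Q4 c)))) c) (50 * 2048) 2048 = true := by decide +kernel
theorem chk_c7_b51 : allRange (fun c => Nat.beq (Q1 (Q4 (Q1 (Q4 c)))) c) (51 * 2048) 2048 = true := by decide +kernel
theorem chk_c7_b52 : allRange (fun c => Nat.beq (Q1 (Q4 (Q1 (Q4 c)))) c) (52 * 2048) 2048 = true := by decide +kernel
theorem chk_c7_b53 : allRange (fun c => Nat.beq (Q1 (Q4 (Q1 (Q4 c)))) c) (53 * 2048) 2048 = true := by decide +kernel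
theorem chk_c7_b54 : allRange (fun c => Nat.beq (Q1 (Q4 (Q1 (Q4 c)))) c) (54 * 2048) 2048 = true := by decide +kernel
theorem chk_c7_b55 : allRange (fun c => Nat.beq (Q1 (Q4 (Q1 (Q4 c)))) c) (55 * 2048) 2048 = true := by decide +kernel
theorem chk_c7_b56 : allRange (fun c => Nat.beq (Q1 (Q4 (Q1 (Q4 c)))) c) (56 * 2048) 2048 = true := by decide +kernel
theorem chk_c7_b57 : allRange (fun c => Nat.beq (Q1 (Q4 (Q1 (Q4 c)))) c) (57 * 2048) 2048 = true := by decide +kernel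
theorem chk_c7_b58 : allRange (fun c => Nat.beq (Q1 (Q4 (Q1 (Q4 c)))) c) (58 * 2048) 2048 = true := by decide +kernel
theorem chk_c7_t : allRange (fun c => Nat.beq (Q1 (Q4 (Q1 (Q4 c)))) c) (59 * 2048) 1928 = true := by decide +kernel
theorem chk_c7_all : ∀ c, c < 122760 → (fun c => Nat.beq (Q1 (Q4 (Q1 (Q4 c)))) c) c = true := by
  intro c hc
  refine allRange_blocks _ 2048 59 1928 (by norm_num) ?_ chk_c7_t c hc
  intro k hk
  interval_cases k
  exacts [chk_c7_b0, chk_c7_b1, chk_c7_b2, chk_c7_b3, chk_c7_b4, chk_c7_b5, chk_c7_b6, chk_c7_b7, chk_c7_b8, chk_c7_b9, chk_c7_b10, chk_c7_b11, chk_c7_b12, chk_c7_b13, chk_c7_b14, chk_c7_b15, chk_c7_b16, chk_c7_b17, chk_c7_b18, chk_c7_b19, chk_c7_b20, chk_c7_b21, chk_c7_b22, chk_c7_b23, chk_c7_b24, chk_c7_b25, chk_c7_b26, chk_c7_b27, chk_c7_b28, chk_c7_b29, chk_c7_b30, chk_c7_b31, chk_c7_b32, chk_c7_b33, chk_c7_b34, chk_c7_b35, chk_c7_b36, chk_c7_b37, chk_c7_b38, chk_c7_b39,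 chk_c7_b40, chk_c7_b41, chk_c7_b42, chk_c7_b43, chk_c7_b44, chk_c7_b45, chk_c7_b46, chk_c7_b47, chk_c7_b48, chk_c7_b49, chk_c7_b50, chk_c7_b51, chk_c7_b52, chk_c7_b53, chk_c7_b54, chk_c7_b55, chk_c7_b56, chk_c7_b57, chk_c7_b58]

theorem chk_c8_b0 : allRange (fun c => Nat.beq (Q1 (Q5 (Q1 (Q5 c)))) c) (0 * 2048) 2048 = true := by decide +kernel
theorem chk_c8_b1 : allRange (fun c => Nat.beq (Q1 (Q5 (Q1 (Q5 c)))) c) (1 * 2048) 2048 = true := by decide +kernel
theorem chk_c8_b2 : allRange (fun c => Nat.beq (Q1 (Q5 (Q1 (Q5 c)))) c) (2 * 2048) 2048 = true := by decide +kernel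
theorem chk_c8_b3 : allRange (fun c => Nat.beq (Q1 (Q5 (Q1 (Q5 c)))) c) (3 * 2048) 2048 = true := by decide +kernel
theorem chk_c8_b4 : allRange (fun c => Nat.beq (Q1 (Q5 (Q1 (Q5 c)))) c) (4 * 2048) 2048 = true := by decide +kernel
theorem chk_c8_b5 : allRange (fun c => Nat.beq (Q1 (Q5 (Q1 (Q5 c)))) c) (5 * 2048) 2048 = true := by decide +kernel
theorem chk_c8_b6 : allRange (fun c => Nat.beq (Q1 (Q5 (Q1 (Q5 c)))) c) (6 * 2048) 2048 = true := by decide +kernel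
theorem chk_c8_b7 : allRange (fun c => Nat.beq (Q1 (Q5 (Q1 (Q5 c)))) c) (7 * 2048) 2048 = true := by decide +kernel
theorem chk_c8_b8 : allRange (fun c => Nat.beq (Q1 (Q5 (Q1 (Q5 c)))) c) (8 * 2048) 2048 = true := by decide +kernel
theorem chk_c8_b9 : allRange (fun c => Nat.beq (Q1 (Q5 (Q1 (Q5 c)))) c) (9 * 2048) 2048 = true := by decide +kernel
theorem chk_c8_b10 : allRange (fun c => Nat.beq (Q1 (Q5 (Q1 (Q5 c)))) c) (10 * 2048) 2048 = true := by decide +kernel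
theorem chk_c8_b11 : allRange (fun c => Nat.beq (Q1 (Q5 (Q1 (Q5 c)))) c) (11 * 2048) 2048 = true := by decide +kernel
theorem chk_c8_b12 : allRange (fun c => Nat.beq (Q1 (Q5 (Q1 (Q5 c)))) c) (12 * 2048) 2048 = true := by decide +kernel
theorem chk_c8_b13 : allRange (fun c => Nat.beq (Q1 (Q5 (Q1 (Q5 c)))) c) (13 * 2048) 2048 = true := by decide +kernel
theorem chk_c8_b14 : allRange (fun c => Nat.beq (Q1 (Q5 (Q1 (Q5 c)))) c) (14 * 2048) 2048 = true := by decide +kernel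
theorem chk_c8_b15 : allRange (fun c => Nat.beq (Q1 (Q5 (Q1 (Q5 c)))) c) (15 * 2048) 2048 = true := by decide +kernel
theorem chk_c8_b16 : allRange (fun c => Nat.beq (Q1 (Q5 (Q1 (Q5 c)))) c) (16 * 2048) 2048 = true := by decide +kernel
theorem chk_c8_b17 : allRange (fun c => Nat.beq (Q1 (Q5 (Q1 (Q5 c)))) c) (17 * 2048) 2048 = true := by decide +kernel
theorem chk_c8_b18 : allRange (fun c => Nat.beq (Q1 (Q5 (Q1 (Q5 c)))) c) (18 * 2048) 2048 = true := by decide +kernel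
theorem chk_c8_b19 : allRange (fun c => Nat.beq (Q1 (Q5 (Q1 (Q5 c)))) c) (19 * 2048) 2048 = true := by decide +kernel
theorem chk_c8_b20 : allRange (fun c => Nat.beq (Q1 (Q5 (Q1 (Q5 c)))) c) (20 * 2048) 2048 = true := by decide +kernel
theorem chk_c8_b21 : allRange (fun c => Nat.beq (Q1 (Q5 (Q1 (Q5 c)))) c) (21 * 2048) 2048 = true := by decide +kernel
theorem chk_c8_b22 : allRange (fun c => Nat.beq (Q1 (Q5 (Q1 (Q5 c)))) c) (22 * 2048) 2048 = true := by decide +kernel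
theorem chk_c8_b23 : allRange (fun c => Nat.beq (Q1 (Q5 (Q1 (Q5 c)))) c) (23 * 2048) 2048 = true := by decide +kernel
theorem chk_c8_b24 : allRange (fun c => Nat.beq (Q1 (Q5 (Q1 (Q5 c)))) c) (24 * 2048) 2048 = true := by decide +kernel
theorem chk_c8_b25 : allRange (fun c => Nat.beq (Q1 (Q5 (Q1 (Q5 c)))) c) (25 * 2048) 2048 = true := by decide +kernel
theorem chk_c8_b26 : allRange (fun c => Nat.beq (Q1 (Q5 (Q1 (Q5 c)))) c) (26 * 2048) 2048 = true := by decide +kernel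
theorem chk_c8_b27 : allRange (fun c => Nat.beq (Q1 (Q5 (Q1 (Q5 c)))) c) (27 * 2048) 2048 = true := by decide +kernel
theorem chk_c8_b28 : allRange (fun c => Nat.beq (Q1 (Q5 (Q1 (Q5 c)))) c) (28 * 2048) 2048 = true := by decide +kernel
theorem chk_c8_b29 : allRange (fun c => Nat.beq (Q1 (Q5 (Q1 (Q5 c)))) c) (29 * 2048) 2048 = true := by decide +kernel
theorem chk_c8_b30 : allRange (fun c => Nat.beq (Q1 (Q5 (Q1 (Q5 c)))) c) (30 * 2048) 2048 = true := by decide +kernel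
theorem chk_c8_b31 : allRange (fun c => Nat.beq (Q1 (Q5 (Q1 (Q5 c)))) c) (31 * 2048) 2048 = true := by decide +kernel
theorem chk_c8_b32 : allRange (fun c => Nat.beq (Q1 (Q5 (Q1 (Q5 c)))) c) (32 * 2048) 2048 = true := by decide +kernel
theorem chk_c8_b33 : allRange (fun c => Nat.beq (Q1 (Q5 (Q1 (Q5 c)))) c) (33 * 2048) 2048 = true := by decide +kernel
theorem chk_c8_b34 : allRange (fun c => Nat.beq (Q1 (Q5 (Q1 (Q5 c)))) c) (34 * 2048) 2048 = true := by decide +kernel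
theorem chk_c8_b35 : allRange (fun c => Nat.beq (Q1 (Q5 (Q1 (Q5 c)))) c) (35 * 2048) 2048 = true := by decide +kernel
theorem chk_c8_b36 : allRange (fun c => Nat.beq (Q1 (Q5 (Q1 (Q5 c)))) c) (36 * 2048) 2048 = true := by decide +kernel
theorem chk_c8_b37 : allRange (fun c => Nat.beq (Q1 (Q5 (Q1 (Q5 c)))) c) (37 * 2048) 2048 = true := by decide +kernel
theorem chk_c8_b38 : allRange (fun c => Nat.beq (Q1 (Q5 (Q1 (Q5 c)))) c) (38 * 2048) 2048 = true := by decide +kernel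
theorem chk_c8_b39 : allRange (fun c => Nat.beq (Q1 (Q5 (Q1 (Q5 c)))) c) (39 * 2048) 2048 = true := by decide +kernel
theorem chk_c8_b40 : allRange (fun c => Nat.beq (Q1 (Q5 (Q1 (Q5 c)))) c) (40 * 2048) 2048 = true := by decide +kernel
theorem chk_c8_b41 : allRange (fun c => Nat.beq (Q1 (Q5 (Q1 (Q5 c)))) c) (41 * 2048) 2048 = true := by decide +kernel
theorem chk_c8_b42 : allRange (fun c => Nat.beq (Q1 (Q5 (Q1 (Q5 c)))) c) (42 * 2048) 2048 = true := by decide +kernel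
theorem chk_c8_b43 : allRange (fun c => Nat.beq (Q1 (Q5 (Q1 (Q5 c)))) c) (43 * 2048) 2048 = true := by decide +kernel
theorem chk_c8_b44 : allRange (fun c => Nat.beq (Q1 (Q5 (Q1 (Q5 c)))) c) (44 * 2048) 2048 = true := by decide +kernel
theorem chk_c8_b45 : allRange (fun c => Nat.beq (Q1 (Q5 (Q1 (Q5 c)))) c) (45 * 2048) 2048 = true := by decide +kernel
theorem chk_c8_b46 : allRange (fun c => Nat.beq (Q1 (Q5 (Q1 (Q5 c)))) c) (46 * 2048) 2048 = true := by decide +kernel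
theorem chk_c8_b47 : allRange (fun c => Nat.beq (Q1 (Q5 (Q1 (Q5 c)))) c) (47 * 2048) 2048 = true := by decide +kernel
theorem chk_c8_b48 : allRange (fun c => Nat.beq (Q1 (Q5 (Q1 (Q5 c)))) c) (48 * 2048) 2048 = true := by decide +kernel
theorem chk_c8_b49 : allRange (fun c => Nat.beq (Q1 (Q5 (Q1 (Q5 c)))) c) (49 * 2048) 2048 = true := by decide +kernel
theorem chk_c8_b50 : allRange (fun c => Nat.beq (Q1 (Q5 (Q1 (Q5 c)))) c) (50 * 2048) 2048 = true := by decide +kernel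
theorem chk_c8_b51 : allRange (fun c => Nat.beq (Q1 (Q5 (Q1 (Q5 c)))) c) (51 * 2048) 2048 = true := by decide +kernel
theorem chk_c8_b52 : allRange (fun c => Nat.beq (Q1 (Q5 (Q1 (Q5 c)))) c) (52 * 2048) 2048 = true := by decide +kernel
theorem chk_c8_b53 : allRange (fun c => Nat.beq (Q1 (Q5 (Q1 (Q5 c)))) c) (53 * 2048) 2048 = true := by decide +kernel
theorem chk_c8_b54 : allRange (fun c => Nat.beq (Q1 (Q5 (Q1 (Q5 c)))) c) (54 * 2048) 2048 = true := by decide +kernel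
theorem chk_c8_b55 : allRange (fun c => Nat.beq (Q1 (Q5 (Q1 (Q5 c)))) c) (55 * 2048) 2048 = true := by decide +kernel
theorem chk_c8_b56 : allRange (fun c => Nat.beq (Q1 (Q5 (Q1 (Q5 c)))) c) (56 * 2048) 2048 = true := by decide +kernel
theorem chk_c8_b57 : allRange (fun c => Nat.beq (Q1 (Q5 (Q1 (Q5 c)))) c) (57 * 2048) 2048 = true := by decide +kernel
theorem chk_c8_b58 : allRange (fun c => Nat.beq (Q1 (Q5 (Q1 (Q5 c)))) c) (58 * 2048) 2048 = true := by decide +kernel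
theorem chk_c8_t : allRange (fun c => Nat.beq (Q1 (Q5 (Q1 (Q5 c)))) c) (59 * 2048) 1928 = true := by decide +kernel
theorem chk_c8_all : ∀ c, c < 122760 → (fun c => Nat.beq (Q1 (Q5 (Q1 (Q5 c)))) c) c = true := by
  intro c hc
  refine allRange_blocks _ 2048 59 1928 (by norm_num) ?_ chk_c8_t c hc
  intro k hk
  interval_cases k
  exacts [chk_c8_b0, chk_c8_b1, chk_c8_b2, chk_c8_b3, chk_c8_b4, chk_c8_b5, chk_c8_b6, chk_c8_b7, chk_c8_b8, chk_c8_b9, chk_c8_b10, chk_c8_b11, chk_c8_b12, chk_c8_b13, chk_c8_b14, chk_c8_b15, chk_c8_b16, chk_c8_b17, chk_c8_b18, chk_c8_b19, chk_c8_b20, chk_c8_b21, chk_c8_b22, chk_c8_b23, chk_c8_b24, chk_c8_b25, chk_c8_b26, chk_c8_b27, chk_c8_b28, chk_c8_b29, chk_c8_b30, chk_c8_b31, chk_c8_b32, chk_c8_b33, chk_c8_b34, chk_c8_b35, chk_c8_b36, chk_c8_b37, chk_c8_b38, chk_c8_b39, chk_c8_b40, chk_c8_b41, chk_c8_b42, chk_c8_b43, chk_c8_b44, chk_c8_b45, chk_c8_b46, chk_c8_b47, chk_c8_b48, chk_c8_b49,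 chk_c8_b50, chk_c8_b51, chk_c8_b52, chk_c8_b53, chk_c8_b54, chk_c8_b55, chk_c8_b56, chk_c8_b57, chk_c8_b58]

theorem chk_c10_b0 : allRange (fun c => Nat.beq (Q2 (Q4 (Q2 (Q4 c)))) c) (0 * 2048) 2048 = true := by decide +kernel
theorem chk_c10_b1 : allRange (fun c => Nat.beq (Q2 (Q4 (Q2 (Q4 c)))) c) (1 * 2048) 2048 = true := by decide +kernel
theorem chk_c10_b2 : allRange (fun c => Nat.beq (Q2 (Q4 (Q2 (Q4 c)))) c) (2 * 2048) 2048 = true := by decide +kernel
theorem chk_c10_b3 : allRange (fun c => Nat.beq (Q2 (Q4 (Q2 (Q4 c)))) c) (3 * 2048) 2048 = true := by decide +kernel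
theorem chk_c10_b4 : allRange (fun c => Nat.beq (Q2 (Q4 (Q2 (Q4 c)))) c) (4 * 2048) 2048 = true := by decide +kernel
theorem chk_c10_b5 : allRange (fun c => Nat.beq (Q2 (Q4 (Q2 (Q4 c)))) c) (5 * 2048) 2048 = true := by decide +kernel
theorem chk_c10_b6 : allRange (fun c => Nat.beq (Q2 (Q4 (Q2 (Q4 c)))) c) (6 * 2048) 2048 = true := by decide +kernel
theorem chk_c10_b7 : allRange (fun c => Nat.beq (Q2 (Q4 (Q2 (Q4 c)))) c) (7 * 2048) 2048 = true := by decide +kernel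
theorem chk_c10_b8 : allRange (fun c => Nat.beq (Q2 (Q4 (Q2 (Q4 c)))) c) (8 * 2048) 2048 = true := by decide +kernel
theorem chk_c10_b9 : allRange (fun c => Nat.beq (Q2 (Q4 (Q2 (Q4 c)))) c) (9 * 2048) 2048 = true := by decide +kernel
theorem chk_c10_b10 : allRange (fun c => Nat.beq (Q2 (Q4 (Q2 (Q4 c)))) c) (10 * 2048) 2048 = true := by decide +kernel
theorem chk_c10_b11 : allRange (fun c => Nat.beq (Q2 (Q4 (Q2 (Q4 c)))) c) (11 * 2048) 2048 = true := by decide +kernel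
theorem chk_c10_b12 : allRange (fun c => Nat.beq (Q2 (Q4 (Q2 (Q4 c)))) c) (12 * 2048) 2048 = true := by decide +kernel
theorem chk_c10_b13 : allRange (fun c => Nat.beq (Q2 (Q4 (Q2 (Q4 c)))) c) (13 * 2048) 2048 = true := by decide +kernel
theorem chk_c10_b14 : allRange (fun c => Nat.beq (Q2 (Q4 (Q2 (Q4 c)))) c) (14 * 2048) 2048 = true := by decide +kernel
theorem chk_c10_b15 : allRange (fun c => Nat.beq (Q2 (Q4 (Q2 (Q4 c)))) c) (15 * 2048) 2048 = true := by decide +kernel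
theorem chk_c10_b16 : allRange (fun c => Nat.beq (Q2 (Q4 (Q2 (Q4 c)))) c) (16 * 2048) 2048 = true := by decide +kernel
theorem chk_c10_b17 : allRange (fun c => Nat.beq (Q2 (Q4 (Q2 (Q4 c)))) c) (17 * 2048) 2048 = true := by decide +kernel
theorem chk_c10_b18 : allRange (fun c => Nat.beq (Q2 (Q4 (Q2 (Q4 c)))) c) (18 * 2048) 2048 = true := by decide +kernel
theorem chk_c10_b19 : allRange (fun c => Nat.beq (Q2 (Q4 (Q2 (Q4 c)))) c) (19 * 2048) 2048 = true := by decide +kernel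
theorem chk_c10_b20 : allRange (fun c => Nat.beq (Q2 (Q4 (Q2 (Q4 c)))) c) (20 * 2048) 2048 = true := by decide +kernel
theorem chk_c10_b21 : allRange (fun c => Nat.beq (Q2 (Q4 (Q2 (Q4 c)))) c) (21 * 2048) 2048 = true := by decide +kernel
theorem chk_c10_b22 : allRange (fun c => Nat.beq (Q2 (Q4 (Q2 (Q4 c)))) c) (22 * 2048) 2048 = true := by decide +kernel
theorem chk_c10_b23 : allRange (fun c => Nat.beq (Q2 (Q4 (Q2 (Q4 c)))) c) (23 * 2048) 2048 = true := by decide +kernel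
theorem chk_c10_b24 : allRange (fun c => Nat.beq (Q2 (Q4 (Q2 (Q4 c)))) c) (24 * 2048) 2048 = true := by decide +kernel
theorem chk_c10_b25 : allRange (fun c => Nat.beq (Q2 (Q4 (Q2 (Q4 c)))) c) (25 * 2048) 2048 = true := by decide +kernel
theorem chk_c10_b26 : allRange (fun c => Nat.beq (Q2 (Q4 (Q2 (Q4 c)))) c) (26 * 2048) 2048 = true := by decide +kernel
theorem chk_c10_b27 : allRange (fun c => Nat.beq (Q2 (Q4 (Q2 (Q4 c)))) c) (27 * 2048) 2048 = true := by decide +kernel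
theorem chk_c10_b28 : allRange (fun c => Nat.beq (Q2 (Q4 (Q2 (Q4 c)))) c) (28 * 2048) 2048 = true := by decide +kernel
theorem chk_c10_b29 : allRange (fun c => Nat.beq (Q2 (Q4 (Q2 (Q4 c)))) c) (29 * 2048) 2048 = true := by decide +kernel
theorem chk_c10_b30 : allRange (fun c => Nat.beq (Q2 (Q4 (Q2 (Q4 c)))) c) (30 * 2048) 2048 = true := by decide +kernel
theorem chk_c10_b31 : allRange (fun c => Nat.beq (Q2 (Q4 (Q2 (Q4 c)))) c) (31 * 2048) 2048 = true := by decide +kernel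
theorem chk_c10_b32 : allRange (fun c => Nat.beq (Q2 (Q4 (Q2 (Q4 c)))) c) (32 * 2048) 2048 = true := by decide +kernel
theorem chk_c10_b33 : allRange (fun c => Nat.beq (Q2 (Q4 (Q2 (Q4 c)))) c) (33 * 2048) 2048 = true := by decide +kernel
theorem chk_c10_b34 : allRange (fun c => Nat.beq (Q2 (Q4 (Q2 (Q4 c)))) c) (34 * 2048) 2048 = true := by decide +kernel
theorem chk_c10_b35 : allRange (fun c => Nat.beq (Q2 (Q4 (Q2 (Q4 c)))) c) (35 * 2048) 2048 = true := by decide +kernel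
theorem chk_c10_b36 : allRange (fun c => Nat.beq (Q2 (Q4 (Q2 (Q4 c)))) c) (36 * 2048) 2048 = true := by decide +kernel
theorem chk_c10_b37 : allRange (fun c => Nat.beq (Q2 (Q4 (Q2 (Q4 c)))) c) (37 * 2048) 2048 = true := by decide +kernel
theorem chk_c10_b38 : allRange (fun c => Nat.beq (Q2 (Q4 (Q2 (Q4 c)))) c) (38 * 2048) 2048 = true := by decide +kernel
theorem chk_c10_b39 : allRange (fun c => Nat.beq (Q2 (Q4 (Q2 (Q4 c)))) c) (39 * 2048) 2048 = true := by decide +kernel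
theorem chk_c10_b40 : allRange (fun c => Nat.beq (Q2 (Q4 (Q2 (Q4 c)))) c) (40 * 2048) 2048 = true := by decide +kernel
theorem chk_c10_b41 : allRange (fun c => Nat.beq (Q2 (Q4 (Q2 (Q4 c)))) c) (41 * 2048) 2048 = true := by decide +kernel
theorem chk_c10_b42 : allRange (fun c => Nat.beq (Q2 (Q4 (Q2 (Q4 c)))) c) (42 * 2048) 2048 = true := by decide +kernel
theorem chk_c10_b43 : allRange (fun c => Nat.beq (Q2 (Q4 (Q2 (Q4 c)))) c) (43 * 2048) 2048 = true := by decide +kernel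
theorem chk_c10_b44 : allRange (fun c => Nat.beq (Q2 (Q4 (Q2 (Q4 c)))) c) (44 * 2048) 2048 = true := by decide +kernel
theorem chk_c10_b45 : allRange (fun c => Nat.beq (Q2 (Q4 (Q2 (Q4 c)))) c) (45 * 2048) 2048 = true := by decide +kernel
theorem chk_c10_b46 : allRange (fun c => Nat.beq (Q2 (Q4 (Q2 (Q4 c)))) c) (46 * 2048) 2048 = true := by decide +kernel
theorem chk_c10_b47 : allRange (fun c => Nat.beq (Q2 (Q4 (Q2 (Q4 c)))) c) (47 * 2048) 2048 = true := by decide +kernel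
theorem chk_c10_b48 : allRange (fun c => Nat.beq (Q2 (Q4 (Q2 (Q4 c)))) c) (48 * 2048) 2048 = true := by decide +kernel
theorem chk_c10_b49 : allRange (fun c => Nat.beq (Q2 (Q4 (Q2 (Q4 c)))) c) (49 * 2048) 2048 = true := by decide +kernel
theorem chk_c10_b50 : allRange (fun c => Nat.beq (Q2 (Q4 (Q2 (Q4 c)))) c) (50 * 2048) 2048 = true := by decide +kernel
theorem chk_c10_b51 : allRange (fun c => Nat.beq (Q2 (Q4 (Q2 (Q4 c)))) c) (51 * 2048) 2048 = true := by decide +kernel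
theorem chk_c10_b52 : allRange (fun c => Nat.beq (Q2 (Q4 (Q2 (Q4 c)))) c) (52 * 2048) 2048 = true := by decide +kernel
theorem chk_c10_b53 : allRange (fun c => Nat.beq (Q2 (Q4 (Q2 (Q4 c)))) c) (53 * 2048) 2048 = true := by decide +kernel
theorem chk_c10_b54 : allRange (fun c => Nat.beq (Q2 (Q4 (Q2 (Q4 c)))) c) (54 * 2048) 2048 = true := by decide +kernel
theorem chk_c10_b55 : allRange (fun c => Nat.beq (Q2 (Q4 (Q2 (Q4 c)))) c) (55 * 2048) 2048 = true := by decide +kernel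
theorem chk_c10_b56 : allRange (fun c => Nat.beq (Q2 (Q4 (Q2 (Q4 c)))) c) (56 * 2048) 2048 = true := by decide +kernel
theorem chk_c10_b57 : allRange (fun c => Nat.beq (Q2 (Q4 (Q2 (Q4 c)))) c) (57 * 2048) 2048 = true := by decide +kernel
theorem chk_c10_b58 : allRange (fun c => Nat.beq (Q2 (Q4 (Q2 (Q4 c)))) c) (58 * 2048) 2048 = true := by decide +kernel
theorem chk_c10_t : allRange (fun c => Nat.beq (Q2 (Q4 (Q2 (Q4 c)))) c) (59 * 2048) 1928 = true := by decide +kernel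
theorem chk_c10_all : ∀ c, c < 122760 → (fun c => Nat.beq (Q2 (Q4 (Q2 (Q4 c)))) c) c = true := by
  intro c hc
  refine allRange_blocks _ 2048 59 1928 (by norm_num) ?_ chk_c10_t c hc
  intro k hk
  interval_cases k
  exacts [chk_c10_b0, chk_c10_b1, chk_c10_b2, chk_c10_b3, chk_c10_b4, chk_c10_b5, chk_c10_b6, chk_c10_b7, chk_c10_b8, chk_c10_b9, chk_c10_b10, chk_c10_b11, chk_c10_b12, chk_c10_b13, chk_c10_b14, chk_c10_b15, chk_c10_b16, chk_c10_b17, chk_c10_b18, chk_c10_b19, chk_c10_b20, chk_c10_b21, chk_c10_b22, chk_c10_b23, chk_c10_b24, chk_c10_b25, chk_c10_b26, chk_c10_b27, chk_c10_b28, chk_c10_b29, chk_c10_b30, chk_c10_b31, chk_c10_b32, chk_c10_b33, chk_c10_b34, chk_c10_b35, chk_c10_b36, chk_c10_b37, chk_c10_b38, chk_c10_b39, chk_c10_b40, chk_c10_b41, chk_c10_b42, chk_c10_b43, chk_c10_b44, chk_c10_b45, chk_c10_b46, chk_c10_b47, chk_c10_b48, chk_c10_b49, chk_c10_b50, chk_c10_b51, chk_c10_b52, chk_c10_b53, chk_c10_b54,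 chk_c10_b55, chk_c10_b56, chk_c10_b57, chk_c10_b58]

theorem chk_c11_b0 : allRange (fun c => Nat.beq (Q2 (Q5 (Q2 (Q5 c)))) c) (0 * 2048) 2048 = true := by decide +kernel
theorem chk_c11_b1 : allRange (fun c => Nat.beq (Q2 (Q5 (Q2 (Q5 c)))) c) (1 * 2048) 2048 = true := by decide +kernel
theorem chk_c11_b2 : allRange (fun c => Nat.beq (Q2 (Q5 (Q2 (Q5 c)))) c) (2 * 2048) 2048 = true := by decide +kernel
theorem chk_c11_b3 : allRange (fun c => Nat.beq (Q2 (Q5 (Q2 (Q5 c)))) c) (3 * 2048) 2048 = true := by decide +kernel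
theorem chk_c11_b4 : allRange (fun c => Nat.beq (Q2 (Q5 (Q2 (Q5 c)))) c) (4 * 2048) 2048 = true := by decide +kernel
theorem chk_c11_b5 : allRange (fun c => Nat.beq (Q2 (Q5 (Q2 (Q5 c)))) c) (5 * 2048) 2048 = true := by decide +kernel
theorem chk_c11_b6 : allRange (fun c => Nat.beq (Q2 (Q5 (Q2 (Q5 c)))) c) (6 * 2048) 2048 = true := by decide +kernel
theorem chk_c11_b7 : allRange (fun c => Nat.beq (Q2 (Q5 (Q2 (Q5 c)))) c) (7 * 2048) 2048 = true := by decide +kernel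
theorem chk_c11_b8 : allRange (fun c => Nat.beq (Q2 (Q5 (Q2 (Q5 c)))) c) (8 * 2048) 2048 = true := by decide +kernel
theorem chk_c11_b9 : allRange (fun c => Nat.beq (Q2 (Q5 (Q2 (Q5 c)))) c) (9 * 2048) 2048 = true := by decide +kernel
theorem chk_c11_b10 : allRange (fun c => Nat.beq (Q2 (Q5 (Q2 (Q5 c)))) c) (10 * 2048) 2048 = true := by decide +kernel
theorem chk_c11_b11 : allRange (fun c => Nat.beq (Q2 (Q5 (Q2 (Q5 c)))) c) (11 * 2048) 2048 = true := by decide +kernel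
theorem chk_c11_b12 : allRange (fun c => Nat.beq (Q2 (Q5 (Q2 (Q5 c)))) c) (12 * 2048) 2048 = true := by decide +kernel
theorem chk_c11_b13 : allRange (fun c => Nat.beq (Q2 (Q5 (Q2 (Q5 c)))) c) (13 * 2048) 2048 = true := by decide +kernel
theorem chk_c11_b14 : allRange (fun c => Nat.beq (Q2 (Q5 (Q2 (Q5 c)))) c) (14 * 2048) 2048 = true := by decide +kernel
theorem chk_c11_b15 : allRange (fun c => Nat.beq (Q2 (Q5 (Q2 (Q5 c)))) c) (15 * 2048) 2048 = true := by decide +kernel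
theorem chk_c11_b16 : allRange (fun c => Nat.beq (Q2 (Q5 (Q2 (Q5 c)))) c) (16 * 2048) 2048 = true := by decide +kernel
theorem chk_c11_b17 : allRange (fun c => Nat.beq (Q2 (Q5 (Q2 (Q5 c)))) c) (17 * 2048) 2048 = true := by decide +kernel
theorem chk_c11_b18 : allRange (fun c => Nat.beq (Q2 (Q5 (Q2 (Q5 c)))) c) (18 * 2048) 2048 = true := by decide +kernel
theorem chk_c11_b19 : allRange (fun c => Nat.beq (Q2 (Q5 (Q2 (Q5 c)))) c) (19 * 2048) 2048 = true := by decide +kernel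
theorem chk_c11_b20 : allRange (fun c => Nat.beq (Q2 (Q5 (Q2 (Q5 c)))) c) (20 * 2048) 2048 = true := by decide +kernel
theorem chk_c11_b21 : allRange (fun c => Nat.beq (Q2 (Q5 (Q2 (Q5 c)))) c) (21 * 2048) 2048 = true := by decide +kernel
theorem chk_c11_b22 : allRange (fun c => Nat.beq (Q2 (Q5 (Q2 (Q5 c)))) c) (22 * 2048) 2048 = true := by decide +kernel
theorem chk_c11_b23 : allRange (fun c => Nat.beq (Q2 (Q5 (Q2 (Q5 c)))) c) (23 * 2048) 2048 = true := by decide +kernel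
theorem chk_c11_b24 : allRange (fun c => Nat.beq (Q2 (Q5 (Q2 (Q5 c)))) c) (24 * 2048) 2048 = true := by decide +kernel
theorem chk_c11_b25 : allRange (fun c => Nat.beq (Q2 (Q5 (Q2 (Q5 c)))) c) (25 * 2048) 2048 = true := by decide +kernel
theorem chk_c11_b26 : allRange (fun c => Nat.beq (Q2 (Q5 (Q2 (Q5 c)))) c) (26 * 2048) 2048 = true := by decide +kernel
theorem chk_c11_b27 : allRange (fun c => Nat.beq (Q2 (Q5 (Q2 (Q5 c)))) c) (27 * 2048) 2048 = true := by decide +kernel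
theorem chk_c11_b28 : allRange (fun c => Nat.beq (Q2 (Q5 (Q2 (Q5 c)))) c) (28 * 2048) 2048 = true := by decide +kernel
theorem chk_c11_b29 : allRange (fun c => Nat.beq (Q2 (Q5 (Q2 (Q5 c)))) c) (29 * 2048) 2048 = true := by decide +kernel
theorem chk_c11_b30 : allRange (fun c => Nat.beq (Q2 (Q5 (Q2 (Q5 c)))) c) (30 * 2048) 2048 = true := by decide +kernel
theorem chk_c11_b31 : allRange (fun c => Nat.beq (Q2 (Q5 (Q2 (Q5 c)))) c) (31 * 2048) 2048 = true := by decide +kernel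
theorem chk_c11_b32 : allRange (fun c => Nat.beq (Q2 (Q5 (Q2 (Q5 c)))) c) (32 * 2048) 2048 = true := by decide +kernel
theorem chk_c11_b33 : allRange (fun c => Nat.beq (Q2 (Q5 (Q2 (Q5 c)))) c) (33 * 2048) 2048 = true := by decide +kernel
theorem chk_c11_b34 : allRange (fun c => Nat.beq (Q2 (Q5 (Q2 (Q5 c)))) c) (34 * 2048) 2048 = true := by decide +kernel
theorem chk_c11_b35 : allRange (fun c => Nat.beq (Q2 (Q5 (Q2 (Q5 c)))) c) (35 * 2048) 2048 = true := by decide +kernel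
theorem chk_c11_b36 : allRange (fun c => Nat.beq (Q2 (Q5 (Q2 (Q5 c)))) c) (36 * 2048) 2048 = true := by decide +kernel
theorem chk_c11_b37 : allRange (fun c => Nat.beq (Q2 (Q5 (Q2 (Q5 c)))) c) (37 * 2048) 2048 = true := by decide +kernel
theorem chk_c11_b38 : allRange (fun c => Nat.beq (Q2 (Q5 (Q2 (Q5 c)))) c) (38 * 2048) 2048 = true := by decide +kernel
theorem chk_c11_b39 : allRange (fun c => Nat.beq (Q2 (Q5 (Q2 (Q5 c)))) c) (39 * 2048) 2048 = true := by decide +kernel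
theorem chk_c11_b40 : allRange (fun c => Nat.beq (Q2 (Q5 (Q2 (Q5 c)))) c) (40 * 2048) 2048 = true := by decide +kernel
theorem chk_c11_b41 : allRange (fun c => Nat.beq (Q2 (Q5 (Q2 (Q5 c)))) c) (41 * 2048) 2048 = true := by decide +kernel
theorem chk_c11_b42 : allRange (fun c => Nat.beq (Q2 (Q5 (Q2 (Q5 c)))) c) (42 * 2048) 2048 = true := by decide +kernel
theorem chk_c11_b43 : allRange (fun c => Nat.beq (Q2 (Q5 (Q2 (Q5 c)))) c) (43 * 2048) 2048 = true := by decide +kernel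
theorem chk_c11_b44 : allRange (fun c => Nat.beq (Q2 (Q5 (Q2 (Q5 c)))) c) (44 * 2048) 2048 = true := by decide +kernel
theorem chk_c11_b45 : allRange (fun c => Nat.beq (Q2 (Q5 (Q2 (Q5 c)))) c) (45 * 2048) 2048 = true := by decide +kernel
theorem chk_c11_b46 : allRange (fun c => Nat.beq (Q2 (Q5 (Q2 (Q5 c)))) c) (46 * 2048) 2048 = true := by decide +kernel
theorem chk_c11_b47 : allRange (fun c => Nat.beq (Q2 (Q5 (Q2 (Q5 c)))) c) (47 * 2048) 2048 = true := by decide +kernel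
theorem chk_c11_b48 : allRange (fun c => Nat.beq (Q2 (Q5 (Q2 (Q5 c)))) c) (48 * 2048) 2048 = true := by decide +kernel
theorem chk_c11_b49 : allRange (fun c => Nat.beq (Q2 (Q5 (Q2 (Q5 c)))) c) (49 * 2048) 2048 = true := by decide +kernel
theorem chk_c11_b50 : allRange (fun c => Nat.beq (Q2 (Q5 (Q2 (Q5 c)))) c) (50 * 2048) 2048 = true := by decide +kernel
theorem chk_c11_b51 : allRange (fun c => Nat.beq (Q2 (Q5 (Q2 (Q5 c)))) c) (51 * 2048) 2048 = true := by decide +kernel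
theorem chk_c11_b52 : allRange (fun c => Nat.beq (Q2 (Q5 (Q2 (Q5 c)))) c) (52 * 2048) 2048 = true := by decide +kernel
theorem chk_c11_b53 : allRange (fun c => Nat.beq (Q2 (Q5 (Q2 (Q5 c)))) c) (53 * 2048) 2048 = true := by decide +kernel
theorem chk_c11_b54 : allRange (fun c => Nat.beq (Q2 (Q5 (Q2 (Q5 c)))) c) (54 * 2048) 2048 = true := by decide +kernel
theorem chk_c11_b55 : allRange (fun c => Nat.beq (Q2 (Q5 (Q2 (Q5 c)))) c) (55 * 2048) 2048 = true := by decide +kernel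
theorem chk_c11_b56 : allRange (fun c => Nat.beq (Q2 (Q5 (Q2 (Q5 c)))) c) (56 * 2048) 2048 = true := by decide +kernel
theorem chk_c11_b57 : allRange (fun c => Nat.beq (Q2 (Q5 (Q2 (Q5 c)))) c) (57 * 2048) 2048 = true := by decide +kernel
theorem chk_c11_b58 : allRange (fun c => Nat.beq (Q2 (Q5 (Q2 (Q5 c)))) c) (58 * 2048) 2048 = true := by decide +kernel
theorem chk_c11_t : allRange (fun c => Nat.beq (Q2 (Q5 (Q2 (Q5 c)))) c) (59 * 2048) 1928 = true := by decide +kernel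
theorem chk_c11_all : ∀ c, c < 122760 → (fun c => Nat.beq (Q2 (Q5 (Q2 (Q5 c)))) c) c = true := by
  intro c hc
  refine allRange_blocks _ 2048 59 1928 (by norm_num) ?_ chk_c11_t c hc
  intro k hk
  interval_cases k
  exacts [chk_c11_b0, chk_c11_b1, chk_c11_b2, chk_c11_b3, chk_c11_b4, chk_c11_b5, chk_c11_b6, chk_c11_b7, chk_c11_b8, chk_c11_b9, chk_c11_b10, chk_c11_b11, chk_c11_b12, chk_c11_b13, chk_c11_b14, chk_c11_b15, chk_c11_b16, chk_c11_b17, chk_c11_b18, chk_c11_b19, chk_c11_b20, chk_c11_b21, chk_c11_b22, chk_c11_b23, chk_c11_b24, chk_c11_b25, chk_c11_b26, chk_c11_b27, chk_c11_b28, chk_c11_b29, chk_c11_b30, chk_c11_b31, chk_c11_b32, chk_c11_b33, chk_c11_b34, chk_c11_b35, chk_c11_b36, chk_c11_b37, chk_c11_b38, chk_c11_b39, chk_c11_b40, chk_c11_b41, chk_c11_b42, chk_c11_b43, chk_c11_b44, chk_c11_b45, chk_c11_b46, chk_c11_b47, chk_c11_b48, chk_c11_b49, chk_c11_b50, chk_c11_b51, chk_c11_b52, chk_c11_b53, chk_c11_b54,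 chk_c11_b55, chk_c11_b56, chk_c11_b57, chk_c11_b58]

theorem chk_c13_b0 : allRange (fun c => Nat.beq (Q3 (Q5 (Q3 (Q5 c)))) c) (0 * 2048) 2048 = true := by decide +kernel
theorem chk_c13_b1 : allRange (fun c => Nat.beq (Q3 (Q5 (Q3 (Q5 c)))) c) (1 * 2048) 2048 = true := by decide +kernel
theorem chk_c13_b2 : allRange (fun c => Nat.beq (Q3 (Q5 (Q3 (Q5 c)))) c) (2 * 2048) 2048 = true := by decide +kernel
theorem chk_c13_b3 : allRange (fun c => Nat.beq (Q3 (Q5 (Q3 (Q5 c)))) c) (3 * 2048) 2048 = true := by decide +kernel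
theorem chk_c13_b4 : allRange (fun c => Nat.beq (Q3 (Q5 (Q3 (Q5 c)))) c) (4 * 2048) 2048 = true := by decide +kernel
theorem chk_c13_b5 : allRange (fun c => Nat.beq (Q3 (Q5 (Q3 (Q5 c)))) c) (5 * 2048) 2048 = true := by decide +kernel
theorem chk_c13_b6 : allRange (fun c => Nat.beq (Q3 (Q5 (Q3 (Q5 c)))) c) (6 * 2048) 2048 = true := by decide +kernel
theorem chk_c13_b7 : allRange (fun c => Nat.beq (Q3 (Q5 (Q3 (Q5 c)))) c) (7 * 2048) 2048 = true := by decide +kernel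
theorem chk_c13_b8 : allRange (fun c => Nat.beq (Q3 (Q5 (Q3 (Q5 c)))) c) (8 * 2048) 2048 = true := by decide +kernel
theorem chk_c13_b9 : allRange (fun c => Nat.beq (Q3 (Q5 (Q3 (Q5 c)))) c) (9 * 2048) 2048 = true := by decide +kernel
theorem chk_c13_b10 : allRange (fun c => Nat.beq (Q3 (Q5 (Q3 (Q5 c)))) c) (10 * 2048) 2048 = true := by decide +kernel
theorem chk_c13_b11 : allRange (fun c => Nat.beq (Q3 (Q5 (Q3 (Q5 c)))) c) (11 * 2048) 2048 = true := by decide +kernel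
theorem chk_c13_b12 : allRange (fun c => Nat.beq (Q3 (Q5 (Q3 (Q5 c)))) c) (12 * 2048) 2048 = true := by decide +kernel
theorem chk_c13_b13 : allRange (fun c => Nat.beq (Q3 (Q5 (Q3 (Q5 c)))) c) (13 * 2048) 2048 = true := by decide +kernel
theorem chk_c13_b14 : allRange (fun c => Nat.beq (Q3 (Q5 (Q3 (Q5 c)))) c) (14 * 2048) 2048 = true := by decide +kernel
theorem chk_c13_b15 : allRange (fun c => Nat.beq (Q3 (Q5 (Q3 (Q5 c)))) c) (15 * 2048) 2048 = true := by decide +kernel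
theorem chk_c13_b16 : allRange (fun c => Nat.beq (Q3 (Q5 (Q3 (Q5 c)))) c) (16 * 2048) 2048 = true := by decide +kernel
theorem chk_c13_b17 : allRange (fun c => Nat.beq (Q3 (Q5 (Q3 (Q5 c)))) c) (17 * 2048) 2048 = true := by decide +kernel
theorem chk_c13_b18 : allRange (fun c => Nat.beq (Q3 (Q5 (Q3 (Q5 c)))) c) (18 * 2048) 2048 = true := by decide +kernel
theorem chk_c13_b19 : allRange (fun c => Nat.beq (Q3 (Q5 (Q3 (Q5 c)))) c) (19 * 2048) 2048 = true := by decide +kernel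
theorem chk_c13_b20 : allRange (fun c => Nat.beq (Q3 (Q5 (Q3 (Q5 c)))) c) (20 * 2048) 2048 = true := by decide +kernel
theorem chk_c13_b21 : allRange (fun c => Nat.beq (Q3 (Q5 (Q3 (Q5 c)))) c) (21 * 2048) 2048 = true := by decide +kernel
theorem chk_c13_b22 : allRange (fun c => Nat.beq (Q3 (Q5 (Q3 (Q5 c)))) c) (22 * 2048) 2048 = true := by decide +kernel
theorem chk_c13_b23 : allRange (fun c => Nat.beq (Q3 (Q5 (Q3 (Q5 c)))) c) (23 * 2048) 2048 = true := by decide +kernel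
theorem chk_c13_b24 : allRange (fun c => Nat.beq (Q3 (Q5 (Q3 (Q5 c)))) c) (24 * 2048) 2048 = true := by decide +kernel
theorem chk_c13_b25 : allRange (fun c => Nat.beq (Q3 (Q5 (Q3 (Q5 c)))) c) (25 * 2048) 2048 = true := by decide +kernel
theorem chk_c13_b26 : allRange (fun c => Nat.beq (Q3 (Q5 (Q3 (Q5 c)))) c) (26 * 2048) 2048 = true := by decide +kernel
theorem chk_c13_b27 : allRange (fun c => Nat.beq (Q3 (Q5 (Q3 (Q5 c)))) c) (27 * 2048) 2048 = true := by decide +kernel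
theorem chk_c13_b28 : allRange (fun c => Nat.beq (Q3 (Q5 (Q3 (Q5 c)))) c) (28 * 2048) 2048 = true := by decide +kernel
theorem chk_c13_b29 : allRange (fun c => Nat.beq (Q3 (Q5 (Q3 (Q5 c)))) c) (29 * 2048) 2048 = true := by decide +kernel
theorem chk_c13_b30 : allRange (fun c => Nat.beq (Q3 (Q5 (Q3 (Q5 c)))) c) (30 * 2048) 2048 = true := by decide +kernel
theorem chk_c13_b31 : allRange (fun c => Nat.beq (Q3 (Q5 (Q3 (Q5 c)))) c) (31 * 2048) 2048 = true := by decide +kernel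
theorem chk_c13_b32 : allRange (fun c => Nat.beq (Q3 (Q5 (Q3 (Q5 c)))) c) (32 * 2048) 2048 = true := by decide +kernel
theorem chk_c13_b33 : allRange (fun c => Nat.beq (Q3 (Q5 (Q3 (Q5 c)))) c) (33 * 2048) 2048 = true := by decide +kernel
theorem chk_c13_b34 : allRange (fun c => Nat.beq (Q3 (Q5 (Q3 (Q5 c)))) c) (34 * 2048) 2048 = true := by decide +kernel
theorem chk_c13_b35 : allRange (fun c => Nat.beq (Q3 (Q5 (Q3 (Q5 c)))) c) (35 * 2048) 2048 = true := by decide +kernel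
theorem chk_c13_b36 : allRange (fun c => Nat.beq (Q3 (Q5 (Q3 (Q5 c)))) c) (36 * 2048) 2048 = true := by decide +kernel
theorem chk_c13_b37 : allRange (fun c => Nat.beq (Q3 (Q5 (Q3 (Q5 c)))) c) (37 * 2048) 2048 = true := by decide +kernel
theorem chk_c13_b38 : allRange (fun c => Nat.beq (Q3 (Q5 (Q3 (Q5 c)))) c) (38 * 2048) 2048 = true := by decide +kernel
theorem chk_c13_b39 : allRange (fun c => Nat.beq (Q3 (Q5 (Q3 (Q5 c)))) c) (39 * 2048) 2048 = true := by decide +kernel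
theorem chk_c13_b40 : allRange (fun c => Nat.beq (Q3 (Q5 (Q3 (Q5 c)))) c) (40 * 2048) 2048 = true := by decide +kernel
theorem chk_c13_b41 : allRange (fun c => Nat.beq (Q3 (Q5 (Q3 (Q5 c)))) c) (41 * 2048) 2048 = true := by decide +kernel
theorem chk_c13_b42 : allRange (fun c => Nat.beq (Q3 (Q5 (Q3 (Q5 c)))) c) (42 * 2048) 2048 = true := by decide +kernel
theorem chk_c13_b43 : allRange (fun c => Nat.beq (Q3 (Q5 (Q3 (Q5 c)))) c) (43 * 2048) 2048 = true := by decide +kernel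
theorem chk_c13_b44 : allRange (fun c => Nat.beq (Q3 (Q5 (Q3 (Q5 c)))) c) (44 * 2048) 2048 = true := by decide +kernel
theorem chk_c13_b45 : allRange (fun c => Nat.beq (Q3 (Q5 (Q3 (Q5 c)))) c) (45 * 2048) 2048 = true := by decide +kernel
theorem chk_c13_b46 : allRange (fun c => Nat.beq (Q3 (Q5 (Q3 (Q5 c)))) c) (46 * 2048) 2048 = true := by decide +kernel
theorem chk_c13_b47 : allRange (fun c => Nat.beq (Q3 (Q5 (Q3 (Q5 c)))) c) (47 * 2048) 2048 = true := by decide +kernel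
theorem chk_c13_b48 : allRange (fun c => Nat.beq (Q3 (Q5 (Q3 (Q5 c)))) c) (48 * 2048) 2048 = true := by decide +kernel
theorem chk_c13_b49 : allRange (fun c => Nat.beq (Q3 (Q5 (Q3 (Q5 c)))) c) (49 * 2048) 2048 = true := by decide +kernel
theorem chk_c13_b50 : allRange (fun c => Nat.beq (Q3 (Q5 (Q3 (Q5 c)))) c) (50 * 2048) 2048 = true := by decide +kernel
theorem chk_c13_b51 : allRange (fun c => Nat.beq (Q3 (Q5 (Q3 (Q5 c)))) c) (51 * 2048) 2048 = true := by decide +kernel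
theorem chk_c13_b52 : allRange (fun c => Nat.beq (Q3 (Q5 (Q3 (Q5 c)))) c) (52 * 2048) 2048 = true := by decide +kernel
theorem chk_c13_b53 : allRange (fun c => Nat.beq (Q3 (Q5 (Q3 (Q5 c)))) c) (53 * 2048) 2048 = true := by decide +kernel
theorem chk_c13_b54 : allRange (fun c => Nat.beq (Q3 (Q5 (Q3 (Q5 c)))) c) (54 * 2048) 2048 = true := by decide +kernel
theorem chk_c13_b55 : allRange (fun c => Nat.beq (Q3 (Q5 (Q3 (Q5 c)))) c) (55 * 2048) 2048 = true := by decide +kernel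
theorem chk_c13_b56 : allRange (fun c => Nat.beq (Q3 (Q5 (Q3 (Q5 c)))) c) (56 * 2048) 2048 = true := by decide +kernel
theorem chk_c13_b57 : allRange (fun c => Nat.beq (Q3 (Q5 (Q3 (Q5 c)))) c) (57 * 2048) 2048 = true := by decide +kernel
theorem chk_c13_b58 : allRange (fun c => Nat.beq (Q3 (Q5 (Q3 (Q5 c)))) c) (58 * 2048) 2048 = true := by decide +kernel
theorem chk_c13_t : allRange (fun c => Nat.beq (Q3 (Q5 (Q3 (Q5 c)))) c) (59 * 2048) 1928 = true := by decide +kernel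
theorem chk_c13_all : ∀ c, c < 122760 → (fun c => Nat.beq (Q3 (Q5 (Q3 (Q5 c)))) c) c = true := by
  intro c hc
  refine allRange_blocks _ 2048 59 1928 (by norm_num) ?_ chk_c13_t c hc
  intro k hk
  interval_cases k
  exacts [chk_c13_b0, chk_c13_b1, chk_c13_b2, chk_c13_b3, chk_c13_b4, chk_c13_b5, chk_c13_b6, chk_c13_b7, chk_c13_b8, chk_c13_b9, chk_c13_b10, chk_c13_b11, chk_c13_b12, chk_c13_b13, chk_c13_b14, chk_c13_b15, chk_c13_b16, chk_c13_b17, chk_c13_b18, chk_c13_b19, chk_c13_b20, chk_c13_b21, chk_c13_b22, chk_c13_b23, chk_c13_b24, chk_c13_b25, chk_c13_b26, chk_c13_b27, chk_c13_b28, chk_c13_b29, chk_c13_b30, chk_c13_b31, chk_c13_b32, chk_c13_b33, chk_c13_b34, chk_c13_b35, chk_c13_b36, chk_c13_b37, chk_c13_b38, chk_c13_b39, chk_c13_b40, chk_c13_b41, chk_c13_b42, chk_c13_b43, chk_c13_b44, chk_c13_b45, chk_c13_b46, chk_c13_b47, chk_c13_b48, chk_c13_b49, chk_c13_b50, chk_c13_b51, chk_c13_b52, chk_c13_b53, chk_c13_b54,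 chk_c13_b55, chk_c13_b56, chk_c13_b57, chk_c13_b58]

end Cfsg.Agent.Lib.helper35.Ona
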