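import Cfsg.Agent.Lib.helper35.OnData
import Cfsg.Agent.Lib.helper35.OnBlk

/-!
Relators of the presented O'Nan group act trivially on the 122760 points (part 9).
-/

set_option autoImplicit false
set_option maxRecDepth 100000
set_option Elab.async false

namespace Cfsg.Agent.Lib.helper35.Ona

open Cfsg.Agent.Lib.helper35

theorem chk_e0_b0 : allRange (fun c => Nat.beq (Q0 (Q5 (Q7 (Q7 c)))) c) (0 * 2048) 2048 = true := by decide +kernel
theorem chk_e0_b1 : allRange (fun c => Nat.beq (Q0 (Q5 (Q7 (Q7 c)))) c) (1 * 2048) 2048 = true := by decide +kernel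
theorem chk_e0_b2 : allRange (fun c => Nat.beq (Q0 (Q5 (Q7 (Q7 c)))) c) (2 * 2048) 2048 = true := by decide +kernel
theorem chk_e0_b3 : allRange (fun c => Nat.beq (Q0 (Q5 (Q7 (Q7 c)))) c) (3 * 2048) 2048 = true := by decide +kernel
theorem chk_e0_b4 : allRange (fun c => Nat.beq (Q0 (Q5 (Q7 (Q7 c)))) c) (4 * 2048) 2048 = true := by decide +kernel
theorem chk_e0_b5 : allRange (fun c => Nat.beq (Q0 (Q5 (Q7 (Q7 c)))) c) (5 * 2048) 2048 = true := by decide +kernel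
theorem chk_e0_b6 : allRange (fun c => Nat.beq (Q0 (Q5 (Q7 (Q7 c)))) c) (6 * 2048) 2048 = true := by decide +kernel
theorem chk_e0_b7 : allRange (fun c => Nat.beq (Q0 (Q5 (Q7 (Q7 c)))) c) (7 * 2048) 2048 = true := by decide +kernel
theorem chk_e0_b8 : allRange (fun c => Nat.beq (Q0 (Q5 (Q7 (Q7 c)))) c) (8 * 2048) 2048 = true := by decide +kernel
theorem chk_e0_b9 : allRange (fun c => Nat.beq (Q0 (Q5 (Q7 (Q7 c)))) c) (9 * 2048) 2048 = true := by decide +kernel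
theorem chk_e0_b10 : allRange (fun c => Nat.beq (Q0 (Q5 (Q7 (Q7 c)))) c) (10 * 2048) 2048 = true := by decide +kernel
theorem chk_e0_b11 : allRange (fun c => Nat.beq (Q0 (Q5 (Q7 (Q7 c)))) c) (11 * 2048) 2048 = true := by decide +kernel
theorem chk_e0_b12 : allRange (fun c => Nat.beq (Q0 (Q5 (Q7 (Q7 c)))) c) (12 * 2048) 2048 = true := by decide +kernel
theorem chk_e0_b13 : allRange (fun c => Nat.beq (Q0 (Q5 (Q7 (Q7 c)))) c) (13 * 2048) 2048 = true := by decide +kernel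
theorem chk_e0_b14 : allRange (fun c => Nat.beq (Q0 (Q5 (Q7 (Q7 c)))) c) (14 * 2048) 2048 = true := by decide +kernel
theorem chk_e0_b15 : allRange (fun c => Nat.beq (Q0 (Q5 (Q7 (Q7 c)))) c) (15 * 2048) 2048 = true := by decide +kernel
theorem chk_e0_b16 : allRange (fun c => Nat.beq (Q0 (Q5 (Q7 (Q7 c)))) c) (16 * 2048) 2048 = true := by decide +kernel
theorem chk_e0_b17 : allRange (fun c => Nat.beq (Q0 (Q5 (Q7 (Q7 c)))) c) (17 * 2048) 2048 = true := by decide +kernel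
theorem chk_e0_b18 : allRange (fun c => Nat.beq (Q0 (Q5 (Q7 (Q7 c)))) c) (18 * 2048) 2048 = true := by decide +kernel
theorem chk_e0_b19 : allRange (fun c => Nat.beq (Q0 (Q5 (Q7 (Q7 c)))) c) (19 * 2048) 2048 = true := by decide +kernel
theorem chk_e0_b20 : allRange (fun c => Nat.beq (Q0 (Q5 (Q7 (Q7 c)))) c) (20 * 2048) 2048 = true := by decide +kernel
theorem chk_e0_b21 : allRange (fun c => Nat.beq (Q0 (Q5 (Q7 (Q7 c)))) c) (21 * 2048) 2048 = true := by decide +kernel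
theorem chk_e0_b22 : allRange (fun c => Nat.beq (Q0 (Q5 (Q7 (Q7 c)))) c) (22 * 2048) 2048 = true := by decide +kernel
theorem chk_e0_b23 : allRange (fun c => Nat.beq (Q0 (Q5 (Q7 (Q7 c)))) c) (23 * 2048) 2048 = true := by decide +kernel
theorem chk_e0_b24 : allRange (fun c => Nat.beq (Q0 (Q5 (Q7 (Q7 c)))) c) (24 * 2048) 2048 = true := by decide +kernel
theorem chk_e0_b25 : allRange (fun c => Nat.beq (Q0 (Q5 (Q7 (Q7 c)))) c) (25 * 2048) 2048 = true := by decide +kernel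
theorem chk_e0_b26 : allRange (fun c => Nat.beq (Q0 (Q5 (Q7 (Q7 c)))) c) (26 * 2048) 2048 = true := by decide +kernel
theorem chk_e0_b27 : allRange (fun c => Nat.beq (Q0 (Q5 (Q7 (Q7 c)))) c) (27 * 2048) 2048 = true := by decide +kernel
theorem chk_e0_b28 : allRange (fun c => Nat.beq (Q0 (Q5 (Q7 (Q7 c)))) c) (28 * 2048) 2048 = true := by decide +kernel
theorem chk_e0_b29 : allRange (fun c => Nat.beq (Q0 (Q5 (Q7 (Q7 c)))) c) (29 * 2048) 2048 = true := by decide +kernel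
theorem chk_e0_b30 : allRange (fun c => Nat.beq (Q0 (Q5 (Q7 (Q7 c)))) c) (30 * 2048) 2048 = true := by decide +kernel
theorem chk_e0_b31 : allRange (fun c => Nat.beq (Q0 (Q5 (Q7 (Q7 c)))) c) (31 * 2048) 2048 = true := by decide +kernel
theorem chk_e0_b32 : allRange (fun c => Nat.beq (Q0 (Q5 (Q7 (Q7 c)))) c) (32 * 2048) 2048 = true := by decide +kernel
theorem chk_e0_b33 : allRange (fun c => Nat.beq (Q0 (Q5 (Q7 (Q7 c)))) c) (33 * 2048) 2048 = true := by decide +kernel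
theorem chk_e0_b34 : allRange (fun c => Nat.beq (Q0 (Q5 (Q7 (Q7 c)))) c) (34 * 2048) 2048 = true := by decide +kernel
theorem chk_e0_b35 : allRange (fun c => Nat.beq (Q0 (Q5 (Q7 (Q7 c)))) c) (35 * 2048) 2048 = true := by decide +kernel
theorem chk_e0_b36 : allRange (fun c => Nat.beq (Q0 (Q5 (Q7 (Q7 c)))) c) (36 * 2048) 2048 = true := by decide +kernel
theorem chk_e0_b37 : allRange (fun c => Nat.beq (Q0 (Q5 (Q7 (Q7 c)))) c) (37 * 2048) 2048 = true := by decide +kernel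
theorem chk_e0_b38 : allRange (fun c => Nat.beq (Q0 (Q5 (Q7 (Q7 c)))) c) (38 * 2048) 2048 = true := by decide +kernel
theorem chk_e0_b39 : allRange (fun c => Nat.beq (Q0 (Q5 (Q7 (Q7 c)))) c) (39 * 2048) 2048 = true := by decide +kernel
theorem chk_e0_b40 : allRange (fun c => Nat.beq (Q0 (Q5 (Q7 (Q7 c)))) c) (40 * 2048) 2048 = true := by decide +kernel
theorem chk_e0_b41 : allRange (fun c => Nat.beq (Q0 (Q5 (Q7 (Q7 c)))) c) (41 * 2048) 2048 = true := by decide +kernel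
theorem chk_e0_b42 : allRange (fun c => Nat.beq (Q0 (Q5 (Q7 (Q7 c)))) c) (42 * 2048) 2048 = true := by decide +kernel
theorem chk_e0_b43 : allRange (fun c => Nat.beq (Q0 (Q5 (Q7 (Q7 c)))) c) (43 * 2048) 2048 = true := by decide +kernel
theorem chk_e0_b44 : allRange (fun c => Nat.beq (Q0 (Q5 (Q7 (Q7 c)))) c) (44 * 2048) 2048 = true := by decide +kernel
theorem chk_e0_b45 : allRange (fun c => Nat.beq (Q0 (Q5 (Q7 (Q7 c)))) c) (45 * 2048) 2048 = true := by decide +kernel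
theorem chk_e0_b46 : allRange (fun c => Nat.beq (Q0 (Q5 (Q7 (Q7 c)))) c) (46 * 2048) 2048 = true := by decide +kernel
theorem chk_e0_b47 : allRange (fun c => Nat.beq (Q0 (Q5 (Q7 (Q7 c)))) c) (47 * 2048) 2048 = true := by decide +kernel
theorem chk_e0_b48 : allRange (fun c => Nat.beq (Q0 (Q5 (Q7 (Q7 c)))) c) (48 * 2048) 2048 = true := by decide +kernel
theorem chk_e0_b49 : allRange (fun c => Nat.beq (Q0 (Q5 (Q7 (Q7 c)))) c) (49 * 2048) 2048 = true := by decide +kernel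
theorem chk_e0_b50 : allRange (fun c => Nat.beq (Q0 (Q5 (Q7 (Q7 c)))) c) (50 * 2048) 2048 = true := by decide +kernel
theorem chk_e0_b51 : allRange (fun c => Nat.beq (Q0 (Q5 (Q7 (Q7 c)))) c) (51 * 2048) 2048 = true := by decide +kernel
theorem chk_e0_b52 : allRange (fun c => Nat.beq (Q0 (Q5 (Q7 (Q7 c)))) c) (52 * 2048) 2048 = true := by decide +kernel
theorem chk_e0_b53 : allRange (fun c => Nat.beq (Q0 (Q5 (Q7 (Q7 c)))) c) (53 * 2048) 2048 = true := by decide +kernel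
theorem chk_e0_b54 : allRange (fun c => Nat.beq (Q0 (Q5 (Q7 (Q7 c)))) c) (54 * 2048) 2048 = true := by decide +kernel
theorem chk_e0_b55 : allRange (fun c => Nat.beq (Q0 (Q5 (Q7 (Q7 c)))) c) (55 * 2048) 2048 = true := by decide +kernel
theorem chk_e0_b56 : allRange (fun c => Nat.beq (Q0 (Q5 (Q7 (Q7 c)))) c) (56 * 2048) 2048 = true := by decide +kernel
theorem chk_e0_b57 : allRange (fun c => Nat.beq (Q0 (Q5 (Q7 (Q7 c)))) c) (57 * 2048) 2048 = true := by decide +kernel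
theorem chk_e0_b58 : allRange (fun c => Nat.beq (Q0 (Q5 (Q7 (Q7 c)))) c) (58 * 2048) 2048 = true := by decide +kernel
theorem chk_e0_t : allRange (fun c => Nat.beq (Q0 (Q5 (Q7 (Q7 c)))) c) (59 * 2048) 1928 = true := by decide +kernel
theorem chk_e0_all : ∀ c, c < 122760 → (fun c => Nat.beq (Q0 (Q5 (Q7 (Q7 c)))) c) c = true := by
  intro c hc
  refine allRange_blocks _ 2048 59 1928 (by norm_num) ?_ chk_e0_t c hc
  intro k hk
  interval_cases k
  exacts [chk_e0_b0, chk_e0_b1, chk_e0_b2, chk_e0_b3, chk_e0_b4, chk_e0_b5, chk_e0_b6, chk_e0_b7, chk_e0_b8, chk_e0_b9, chk_e0_b10, chk_e0_b11, chk_e0_b12, chk_e0_b13, chk_e0_b14, chk_e0_b15, chk_e0_b16, chk_e0_b17, chk_e0_b18, chk_e0_b19, chk_e0_b20, chk_e0_b21, chk_e0_b22, chk_e0_b23, chk_e0_b24, chk_e0_b25, chk_e0_b26, chk_e0_b27, chk_e0_b28, chk_e0_b29, chk_e0_b30, chk_e0_b31, chk_e0_b32, chk_e0_b33, chk_e0_b34, chk_e0_b35, chk_e0_b36, chk_e0_b37, chk_e0_b38, chk_e0_b39,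 chk_e0_b40, chk_e0_b41, chk_e0_b42, chk_e0_b43, chk_e0_b44, chk_e0_b45, chk_e0_b46, chk_e0_b47, chk_e0_b48, chk_e0_b49, chk_e0_b50, chk_e0_b51, chk_e0_b52, chk_e0_b53, chk_e0_b54, chk_e0_b55, chk_e0_b56, chk_e0_b57, chk_e0_b58]

end Cfsg.Agent.Lib.helper35.Ona
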