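import Cfsg.Agent.Lib.helper35.CosetOrd

/-!
The relators of the subgroup generated by `a, …, f` of the presented O'Nan group, as words.
-/

set_option autoImplicit false
set_option maxRecDepth 100000

namespace Cfsg.Agent.Lib.helper35.OnhW

open Cfsg.Agent.Lib.helper35

/-- the Coxeter relators of `a, …, f` and the relator `a f (d c)^4` as words -/
def relW : List (List ℕ) := [[0, 1, 0, 1, 0, 1],
  [0, 2, 0, 2],
  [0, 3, 0, 3],
  [0, 4, 0, 4],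
  [0, 5, 0, 5],
  [1, 2, 1, 2, 1, 2],
  [1, 3, 1, 3],
  [1, 4, 1, 4],
  [1, 5, 1, 5],
  [2, 3, 2, 3, 2, 3, 2, 3, 2, 3, 2, 3, 2, 3, 2, 3],
  [2, 4, 2, 4],
  [2, 5, 2, 5],
  [3, 4, 3, 4, 3, 4],
  [3, 5, 3, 5],
  [4, 5, 4, 5, 4, 5],
  [0, 5, 3, 2, 3, 2, 3, 2, 3, 2]]

end Cfsg.Agent.Lib.helper35.OnhW
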