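import Cfsg.Agent.Lib.helper35.OnInv
import Cfsg.Agent.Lib.helper35.OnRel0
import Cfsg.Agent.Lib.helper35.OnRel1
import Cfsg.Agent.Lib.helper35.OnRel2
import Cfsg.Agent.Lib.helper35.OnRel3
import Cfsg.Agent.Lib.helper35.OnRel4
import Cfsg.Agent.Lib.helper35.OnRel5
import Cfsg.Agent.Lib.helper35.OnRel6
import Cfsg.Agent.Lib.helper35.OnRel7
import Cfsg.Agent.Lib.helper35.OnRel8
import Cfsg.Agent.Lib.helper35.CosetGroup
import Cfsg.Agent.Lib.helper35.OnhW
import Cfsg.Prelude.Def_Spor_ON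

/-!
The permutation representation of the presented O'Nan group on the 122760 cosets of the subgroup
generated by `a, …, f`: the homomorphism to the permutations of the points, and the relators of
that subgroup that are used to bound its order.
-/

set_option autoImplicit false
set_option maxRecDepth 100000

namespace Cfsg.Agent.Lib.helper35.Ona

open Cfsg.Agent.Lib.helper35 Cfsg.Spor

theorem QL_0 (c : ℕ) : QL 0 c = Q0 c := rfl
theorem QL_1 (c : ℕ) : QL 1 c = Q1 c := rfl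
theorem QL_2 (c : ℕ) : QL 2 c = Q2 c := rfl
theorem QL_3 (c : ℕ) : QL 3 c = Q3 c := rfl
theorem QL_4 (c : ℕ) : QL 4 c = Q4 c := rfl
theorem QL_5 (c : ℕ) : QL 5 c = Q5 c := rfl
theorem QL_6 (c : ℕ) : QL 6 c = Q6 c := rfl
theorem QL_7 (c : ℕ) : QL 7 c = Q7 c := rfl

theorem ginv_spec (c : ℕ) (hc : c < 122760) :
    Q6 c < 122760 ∧ Q7 (Q6 c) = c ∧ Q7 c < 122760 ∧ Q6 (Q7 c) = c := by
  have h := ginv_all c hc
  simp only [Bool.and_eq_true, nblt_iff, nbeq_iff] at h
  exact ⟨h.1.1.1, h.1.1.2, h.1.2, h.2⟩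

/-- the permutation of the points given by the table of `g` -/
def πg : Equiv.Perm ℕ where
  toFun c := if c < 122760 then Q6 c else c
  invFun c := if c < 122760 then Q7 c else c
  left_inv := by
    intro c
    by_cases hc : c < 122760
    · have h := ginv_spec c hc
      simp only [if_pos hc, if_pos h.1, h.2.1]
    · simp only [if_neg hc]
  right_inv := by
    intro c
    by_cases hc : c < 122760
    · have h := ginv_spec c hc
      simp only [if_pos hc, if_pos h.2.2.1, h.2.2.2]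
    · simp only [if_neg hc]

theorem πg_apply (c : ℕ) : πg c = if c < 122760 then Q6 c else c := rfl

theorem πg_inv_apply (c : ℕ) : πg⁻¹ c = if c < 122760 then Q7 c else c := rfl

/-- the permutations of the eight letters: `a, …, f`, `g` and the inverse of `g` -/
def σ8 (l : ℕ) : Equiv.Perm ℕ :=
  if l < 6 then perm D inv_ok l else if l = 6 then πg else πg⁻¹

theorem σ8_lt6 (l : ℕ) (hl : l < 6) : σ8 l = perm D inv_ok l := by
  unfold σ8
  rw [if_pos hl]

theorem σ8_6 : σ8 6 = πg := by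
  unfold σ8
  rw [if_neg (by norm_num), if_pos rfl]

theorem σ8_7 : σ8 7 = πg⁻¹ := by
  unfold σ8
  rw [if_neg (by norm_num), if_neg (by norm_num)]

theorem σ8_spec (l : ℕ) (hl : l < 8) (c : ℕ) (hc : c < 122760) :
    σ8 l c = QL l c ∧ QL l c < 122760 := by
  by_cases h6 : l < 6
  · rw [σ8_lt6 l h6, perm_apply]
    have hK : l < D.K := h6
    have hn : c < D.n := hc
    have h := P_spec inv_ok hK hn
    refine ⟨?_, h.1⟩
    unfold sig
    rw [if_pos ⟨hK, hn⟩]
    rfl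
  · have h := ginv_spec c hc
    have h' : l = 6 ∨ l = 7 := by omega
    rcases h' with rfl | rfl
    · rw [σ8_6, πg_apply, if_pos hc, QL_6]
      exact ⟨rfl, h.1⟩
    · rw [σ8_7, πg_inv_apply, if_pos hc, QL_7]
      exact ⟨rfl, h.2.2.1⟩

theorem σ8_ge (l c : ℕ) (hc : 122760 ≤ c) : σ8 l c = c := by
  unfold σ8
  split_ifs with h1 h2
  · rw [perm_apply]
    exact sig_ge D l hc
  · rw [πg_apply, if_neg (by omega)]
  · rw [πg_inv_apply, if_neg (by omega)]

theorem σ8_sq (l : ℕ) (hl : l < 6) : σ8 l * σ8 l = 1 := by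
  rw [σ8_lt6 l hl]
  ext c
  show sig D l (sig D l c) = c
  exact sig_invol inv_ok l c

theorem σ8_sq_pow (l : ℕ) (hl : l < 6) : (σ8 l * σ8 l) ^ 1 = 1 := by
  rw [pow_one]
  exact σ8_sq l hl

theorem wprod_σ8 (w : List ℕ) (hw : ∀ l ∈ w, l < 8) (c : ℕ) (hc : c < 122760) :
    wprod σ8 w c = actQ w c ∧ actQ w c < 122760 := by
  induction w with
  | nil => exact ⟨by rw [wprod_nil]; rfl, hc⟩
  | cons l w ih =>
    have h1 := ih (fun l' hl' => hw l' (List.mem_cons_of_mem _ hl'))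
    have h2 := σ8_spec l (hw l List.mem_cons_self) _ h1.2
    have e : actQ (l :: w) c = QL l (actQ w c) := rfl
    rw [wprod_cons, Equiv.Perm.mul_apply, h1.1, e]
    exact h2

theorem wprod_σ8_ge (w : List ℕ) (c : ℕ) (hc : 122760 ≤ c) : wprod σ8 w c = c := by
  induction w with
  | nil => rw [wprod_nil]; rfl
  | cons l w ih => rw [wprod_cons, Equiv.Perm.mul_apply, ih, σ8_ge l c hc]

theorem wprod_eq_one (w : List ℕ) (hw : ∀ l ∈ w, l < 8)
    (h : ∀ c, c < 122760 → actQ w c = c) : wprod σ8 w = 1 := by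
  ext c
  rw [Equiv.Perm.one_apply]
  by_cases hc : c < 122760
  · rw [(wprod_σ8 w hw c hc).1, h c hc]
  · exact wprod_σ8_ge w c (by omega)

/-! ### The relators act trivially -/

theorem act_c0 : ∀ c, c < 122760 → actQ [0, 1, 0, 1, 0, 1] c = c := by
  intro c hc
  have h := nbeq_iff.1 (chk_c0_all c hc)
  simp only [actQ, List.foldr_cons, List.foldr_nil, QL_0, QL_1]
  exact h

theorem act_c1 : ∀ c, c < 122760 → actQ [0, 2, 0, 2] c = c := by
  intro c hc
  have h := nbeq_iff.1 (chk_c1_all c hc)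
  simp only [actQ, List.foldr_cons, List.foldr_nil, QL_0, QL_2]
  exact h

theorem act_c2 : ∀ c, c < 122760 → actQ [0, 3, 0, 3] c = c := by
  intro c hc
  have h := nbeq_iff.1 (chk_c2_all c hc)
  simp only [actQ, List.foldr_cons, List.foldr_nil, QL_0, QL_3]
  exact h

theorem act_c3 : ∀ c, c < 122760 → actQ [0, 4, 0, 4] c = c := by
  intro c hc
  have h := nbeq_iff.1 (chk_c3_all c hc)
  simp only [actQ, List.foldr_cons, List.foldr_nil, QL_0, QL_4]
  exact h

theorem act_c4 : ∀ c, c < 122760 → actQ [0, 5, 0, 5] c = c := by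
  intro c hc
  have h := nbeq_iff.1 (chk_c4_all c hc)
  simp only [actQ, List.foldr_cons, List.foldr_nil, QL_0, QL_5]
  exact h

theorem act_c5 : ∀ c, c < 122760 → actQ [1, 2, 1, 2, 1, 2] c = c := by
  intro c hc
  have h := nbeq_iff.1 (chk_c5_all c hc)
  simp only [actQ, List.foldr_cons, List.foldr_nil, QL_1, QL_2]
  exact h

theorem act_c6 : ∀ c, c < 122760 → actQ [1, 3, 1, 3] c = c := by
  intro c hc
  have h := nbeq_iff.1 (chk_c6_all c hc)
  simp only [actQ, List.foldr_cons, List.foldr_nil, QL_1, QL_3]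
  exact h

theorem act_c7 : ∀ c, c < 122760 → actQ [1, 4, 1, 4] c = c := by
  intro c hc
  have h := nbeq_iff.1 (chk_c7_all c hc)
  simp only [actQ, List.foldr_cons, List.foldr_nil, QL_1, QL_4]
  exact h

theorem act_c8 : ∀ c, c < 122760 → actQ [1, 5, 1, 5] c = c := by
  intro c hc
  have h := nbeq_iff.1 (chk_c8_all c hc)
  simp only [actQ, List.foldr_cons, List.foldr_nil, QL_1, QL_5]
  exact h

theorem act_c9 : ∀ c, c < 122760 → actQ [2, 3, 2, 3, 2, 3, 2, 3, 2, 3, 2, 3, 2, 3, 2, 3] c = c := by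
  intro c hc
  have h := nbeq_iff.1 (chk_c9_all c hc)
  simp only [actQ, List.foldr_cons, List.foldr_nil, QL_2, QL_3]
  exact h

theorem act_c10 : ∀ c, c < 122760 → actQ [2, 4, 2, 4] c = c := by
  intro c hc
  have h := nbeq_iff.1 (chk_c10_all c hc)
  simp only [actQ, List.foldr_cons, List.foldr_nil, QL_2, QL_4]
  exact h

theorem act_c11 : ∀ c, c < 122760 → actQ [2, 5, 2, 5] c = c := by
  intro c hc
  have h := nbeq_iff.1 (chk_c11_all c hc)
  simp only [actQ, List.foldr_cons, List.foldr_nil, QL_2, QL_5]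
  exact h

theorem act_c12 : ∀ c, c < 122760 → actQ [3, 4, 3, 4, 3, 4] c = c := by
  intro c hc
  have h := nbeq_iff.1 (chk_c12_all c hc)
  simp only [actQ, List.foldr_cons, List.foldr_nil, QL_3, QL_4]
  exact h

theorem act_c13 : ∀ c, c < 122760 → actQ [3, 5, 3, 5] c = c := by
  intro c hc
  have h := nbeq_iff.1 (chk_c13_all c hc)
  simp only [actQ, List.foldr_cons, List.foldr_nil, QL_3, QL_5]
  exact h

theorem act_c14 : ∀ c, c < 122760 → actQ [4, 5, 4, 5, 4, 5] c = c := by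
  intro c hc
  have h := nbeq_iff.1 (chk_c14_all c hc)
  simp only [actQ, List.foldr_cons, List.foldr_nil, QL_4, QL_5]
  exact h

theorem act_e0 : ∀ c, c < 122760 → actQ [0, 5, 7, 7] c = c := by
  intro c hc
  have h := nbeq_iff.1 (chk_e0_all c hc)
  simp only [actQ, List.foldr_cons, List.foldr_nil, QL_0, QL_5, QL_7]
  exact h

theorem act_e1 : ∀ c, c < 122760 → actQ [0, 5, 3, 2, 3, 2, 3, 2, 3, 2] c = c := by
  intro c hc
  have h := nbeq_iff.1 (chk_e1_all c hc)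
  simp only [actQ, List.foldr_cons, List.foldr_nil, QL_0, QL_2, QL_3, QL_5]
  exact h

theorem act_e2 : ∀ c, c < 122760 → actQ [2, 7, 3, 7, 3, 2, 3, 6, 3, 6] c = c := by
  intro c hc
  have h := nbeq_iff.1 (chk_e2_all c hc)
  simp only [actQ, List.foldr_cons, List.foldr_nil, QL_2, QL_3, QL_6, QL_7]
  exact h

theorem act_e3 : ∀ c, c < 122760 → actQ [3, 7, 2, 7, 2, 3, 2, 6, 2, 6] c = c := by
  intro c hc
  have h := nbeq_iff.1 (chk_e3_all c hc)
  simp only [actQ, List.foldr_cons, List.foldr_nil, QL_2, QL_3, QL_6, QL_7]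
  exact h

theorem act_e4 : ∀ c, c < 122760 → actQ [1, 2, 3, 6, 1, 2, 3, 6, 1, 2, 3, 6, 1, 2, 3, 6, 1, 2, 3, 6] c = c := by
  intro c hc
  have h := nbeq_iff.1 (chk_e4_all c hc)
  simp only [actQ, List.foldr_cons, List.foldr_nil, QL_1, QL_2, QL_3, QL_6]
  exact h

theorem act_e5 : ∀ c, c < 122760 → actQ [6, 1, 2, 6, 2, 1, 6, 1, 2, 6, 2] c = c := by
  intro c hc
  have h := nbeq_iff.1 (chk_e5_all c hc)
  simp only [actQ, List.foldr_cons, List.foldr_nil, QL_1, QL_2, QL_6]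
  exact h

theorem act_e6 : ∀ c, c < 122760 → actQ [6, 4, 3, 6, 3, 4, 6, 4, 3, 6, 3] c = c := by
  intro c hc
  have h := nbeq_iff.1 (chk_e6_all c hc)
  simp only [actQ, List.foldr_cons, List.foldr_nil, QL_3, QL_4, QL_6]
  exact h

theorem cox_0_1 : (σ8 0 * σ8 1) ^ 3 = 1 := by
  have e : wprod σ8 [0, 1, 0, 1, 0, 1] = (σ8 0 * σ8 1) ^ 3 := wprod_coxWord σ8 3 0 1
  rw [← e]
  exact wprod_eq_one _ (by decide) act_c0

theorem cox_0_2 : (σ8 0 * σ8 2) ^ 2 = 1 := by
  have e : wprod σ8 [0, 2, 0, 2] = (σ8 0 * σ8 2) ^ 2 := wprod_coxWord σ8 2 0 2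
  rw [← e]
  exact wprod_eq_one _ (by decide) act_c1

theorem cox_0_3 : (σ8 0 * σ8 3) ^ 2 = 1 := by
  have e : wprod σ8 [0, 3, 0, 3] = (σ8 0 * σ8 3) ^ 2 := wprod_coxWord σ8 2 0 3
  rw [← e]
  exact wprod_eq_one _ (by decide) act_c2

theorem cox_0_4 : (σ8 0 * σ8 4) ^ 2 = 1 := by
  have e : wprod σ8 [0, 4, 0, 4] = (σ8 0 * σ8 4) ^ 2 := wprod_coxWord σ8 2 0 4
  rw [← e]
  exact wprod_eq_one _ (by decide) act_c3

theorem cox_0_5 : (σ8 0 * σ8 5) ^ 2 = 1 := by
  have e : wprod σ8 [0, 5, 0, 5] = (σ8 0 * σ8 5) ^ 2 := wprod_coxWord σ8 2 0 5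
  rw [← e]
  exact wprod_eq_one _ (by decide) act_c4

theorem cox_1_2 : (σ8 1 * σ8 2) ^ 3 = 1 := by
  have e : wprod σ8 [1, 2, 1, 2, 1, 2] = (σ8 1 * σ8 2) ^ 3 := wprod_coxWord σ8 3 1 2
  rw [← e]
  exact wprod_eq_one _ (by decide) act_c5

theorem cox_1_3 : (σ8 1 * σ8 3) ^ 2 = 1 := by
  have e : wprod σ8 [1, 3, 1, 3] = (σ8 1 * σ8 3) ^ 2 := wprod_coxWord σ8 2 1 3
  rw [← e]
  exact wprod_eq_one _ (by decide) act_c6

theorem cox_1_4 : (σ8 1 * σ8 4) ^ 2 = 1 := by
  have e : wprod σ8 [1, 4, 1, 4] = (σ8 1 * σ8 4) ^ 2 := wprod_coxWord σ8 2 1 4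
  rw [← e]
  exact wprod_eq_one _ (by decide) act_c7

theorem cox_1_5 : (σ8 1 * σ8 5) ^ 2 = 1 := by
  have e : wprod σ8 [1, 5, 1, 5] = (σ8 1 * σ8 5) ^ 2 := wprod_coxWord σ8 2 1 5
  rw [← e]
  exact wprod_eq_one _ (by decide) act_c8

theorem cox_2_3 : (σ8 2 * σ8 3) ^ 8 = 1 := by
  have e : wprod σ8 [2, 3, 2, 3, 2, 3, 2, 3, 2, 3, 2, 3, 2, 3, 2, 3] = (σ8 2 * σ8 3) ^ 8 := wprod_coxWord σ8 8 2 3
  rw [← e]
  exact wprod_eq_one _ (by decide) act_c9

theorem cox_2_4 : (σ8 2 * σ8 4) ^ 2 = 1 := by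
  have e : wprod σ8 [2, 4, 2, 4] = (σ8 2 * σ8 4) ^ 2 := wprod_coxWord σ8 2 2 4
  rw [← e]
  exact wprod_eq_one _ (by decide) act_c10

theorem cox_2_5 : (σ8 2 * σ8 5) ^ 2 = 1 := by
  have e : wprod σ8 [2, 5, 2, 5] = (σ8 2 * σ8 5) ^ 2 := wprod_coxWord σ8 2 2 5
  rw [← e]
  exact wprod_eq_one _ (by decide) act_c11

theorem cox_3_4 : (σ8 3 * σ8 4) ^ 3 = 1 := by
  have e : wprod σ8 [3, 4, 3, 4, 3, 4] = (σ8 3 * σ8 4) ^ 3 := wprod_coxWord σ8 3 3 4
  rw [← e]
  exact wprod_eq_one _ (by decide) act_c12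

theorem cox_3_5 : (σ8 3 * σ8 5) ^ 2 = 1 := by
  have e : wprod σ8 [3, 5, 3, 5] = (σ8 3 * σ8 5) ^ 2 := wprod_coxWord σ8 2 3 5
  rw [← e]
  exact wprod_eq_one _ (by decide) act_c13

theorem cox_4_5 : (σ8 4 * σ8 5) ^ 3 = 1 := by
  have e : wprod σ8 [4, 5, 4, 5, 4, 5] = (σ8 4 * σ8 5) ^ 3 := wprod_coxWord σ8 3 4 5
  rw [← e]
  exact wprod_eq_one _ (by decide) act_c14

/-- numbering of the generators `a, …, f` -/
def gen : ℕ → ON.Gen
  | 0 => .a | 1 => .b | 2 => .c | 3 => .d | 4 => .e | _ => .f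

theorem cox_all : ∀ i j, i < 6 → j < 6 →
    (σ8 i * σ8 j) ^ coxLabel ON.edges (gen i) (gen j) = 1 := by
  intro i j hi hj
  interval_cases i <;> interval_cases j
  · exact σ8_sq_pow 0 (by norm_num)
  · exact cox_0_1
  · exact cox_0_2
  · exact cox_0_3
  · exact cox_0_4
  · exact cox_0_5
  · exact pow_swap_eq_one cox_0_1
  · exact σ8_sq_pow 1 (by norm_num)
  · exact cox_1_2
  · exact cox_1_3
  · exact cox_1_4
  · exact cox_1_5
  · exact pow_swap_eq_one cox_0_2
  · exact pow_swap_eq_one cox_1_2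
  · exact σ8_sq_pow 2 (by norm_num)
  · exact cox_2_3
  · exact cox_2_4
  · exact cox_2_5
  · exact pow_swap_eq_one cox_0_3
  · exact pow_swap_eq_one cox_1_3
  · exact pow_swap_eq_one cox_2_3
  · exact σ8_sq_pow 3 (by norm_num)
  · exact cox_3_4
  · exact cox_3_5
  · exact pow_swap_eq_one cox_0_4
  · exact pow_swap_eq_one cox_1_4
  · exact pow_swap_eq_one cox_2_4
  · exact pow_swap_eq_one cox_3_4
  · exact σ8_sq_pow 4 (by norm_num)
  · exact cox_4_5
  · exact pow_swap_eq_one cox_0_5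
  · exact pow_swap_eq_one cox_1_5
  · exact pow_swap_eq_one cox_2_5
  · exact pow_swap_eq_one cox_3_5
  · exact pow_swap_eq_one cox_4_5
  · exact σ8_sq_pow 5 (by norm_num)

/-- the permutation of a generator -/
def fperm : ON.Gen → Equiv.Perm ℕ
  | .g => σ8 6 | .a => σ8 0 | .b => σ8 1 | .c => σ8 2 | .d => σ8 3 | .e => σ8 4 | .f => σ8 5

theorem fperm_gen (i : ℕ) (hi : i < 6) : fperm (gen i) = σ8 i := by
  interval_cases i <;> rfl

/-- the letter of a generator or of its inverse -/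
def code : ON.Gen × Bool → ℕ
  | (.g, true) => 6 | (.g, false) => 7
  | (.a, _) => 0 | (.b, _) => 1 | (.c, _) => 2 | (.d, _) => 3 | (.e, _) => 4 | (.f, _) => 5

theorem σ8_7_eq : (σ8 6)⁻¹ = σ8 7 := by rw [σ8_6, σ8_7]

theorem σ8_code (p : ON.Gen × Bool) : cond p.2 (fperm p.1) (fperm p.1)⁻¹ = σ8 (code p) := by
  obtain ⟨x, b⟩ := p
  cases x <;> cases b
  · exact σ8_7_eq
  · rfl
  · exact inv_eq_of_mul_eq_one_right (σ8_sq 0 (by norm_num))
  · rfl
  · exact inv_eq_of_mul_eq_one_right (σ8_sq 1 (by norm_num))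
  · rfl
  · exact inv_eq_of_mul_eq_one_right (σ8_sq 2 (by norm_num))
  · rfl
  · exact inv_eq_of_mul_eq_one_right (σ8_sq 3 (by norm_num))
  · rfl
  · exact inv_eq_of_mul_eq_one_right (σ8_sq 4 (by norm_num))
  · rfl
  · exact inv_eq_of_mul_eq_one_right (σ8_sq 5 (by norm_num))
  · rfl

theorem lift_word (r : FreeGroup ON.Gen) :
    FreeGroup.lift fperm r = wprod σ8 (r.toWord.map code) := by
  have h : FreeGroup.lift fperm (FreeGroup.mk r.toWord) = wprod σ8 (r.toWord.map code) := by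
    rw [FreeGroup.lift_mk]
    unfold wprod
    rw [List.map_map]
    congr 1
    apply List.map_congr_left
    intro p _
    exact σ8_code p
  rw [FreeGroup.mk_toWord] at h
  exact h

theorem extW_eq : ON.extra.map (fun r => r.toWord.map code) = extW := by decide +kernel

theorem ext_one : ∀ w ∈ extW, wprod σ8 w = 1 := by
  intro w hw
  unfold extW at hw
  simp only [List.mem_cons, List.not_mem_nil, or_false] at hw
  rcases hw with rfl | rfl | rfl | rfl | rfl | rfl | rfl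
  · exact wprod_eq_one _ (by decide) act_e0
  · exact wprod_eq_one _ (by decide) act_e1
  · exact wprod_eq_one _ (by decide) act_e2
  · exact wprod_eq_one _ (by decide) act_e3
  · exact wprod_eq_one _ (by decide) act_e4
  · exact wprod_eq_one _ (by decide) act_e5
  · exact wprod_eq_one _ (by decide) act_e6

theorem node_gen (x : ON.Gen) (hx : x ∈ coxNodes ON.edges) : ∃ i, i < 6 ∧ x = gen i := by
  cases x
  · exact absurd hx (by decide)
  · exact ⟨0, by norm_num, rfl⟩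
  · exact ⟨1, by norm_num, rfl⟩
  · exact ⟨2, by norm_num, rfl⟩
  · exact ⟨3, by norm_num, rfl⟩
  · exact ⟨4, by norm_num, rfl⟩
  · exact ⟨5, by norm_num, rfl⟩

theorem rels_ok : ∀ r ∈ coxRelators ON.edges ∪ {r | r ∈ ON.extra}, FreeGroup.lift fperm r = 1 := by
  rintro r (hr | hr)
  · obtain ⟨x, hx, y, hy, rfl⟩ := hr
    obtain ⟨i, hi, rfl⟩ := node_gen x hx
    obtain ⟨j, hj, rfl⟩ := node_gen y hy
    rw [map_pow, map_mul, FreeGroup.lift_apply_of, FreeGroup.lift_apply_of, fperm_gen i hi,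
      fperm_gen j hj]
    exact cox_all i j hi hj
  · rw [lift_word]
    apply ext_one
    have h : r.toWord.map code ∈ ON.extra.map (fun r => r.toWord.map code) :=
      List.mem_map_of_mem (f := fun r => r.toWord.map code) hr
    rw [extW_eq] at h
    exact h

/-- the permutation representation of the presented group on the 122760 points -/
def ρ : ON →* Equiv.Perm ℕ := PresentedGroup.toGroup rels_ok

/-- the generators `a, …, f` of the presented group, by letter -/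
def φ (l : ℕ) : ON := PresentedGroup.of (gen l)

theorem ρ_φ (l : ℕ) (hl : l < 6) : ρ (φ l) = σ8 l := by
  unfold ρ φ
  rw [PresentedGroup.toGroup.of, fperm_gen l hl]

theorem hρ : ∀ l, l < D.K → ∀ c, ρ (φ l) c = sig D l c := by
  intro l hl c
  have hl6 : l < 6 := hl
  rw [ρ_φ l hl6, σ8_lt6 l hl6, perm_apply]

theorem gen_node (l : ℕ) : gen l ∈ coxNodes ON.edges := by
  unfold gen
  split <;> decide

theorem cox_φ (i j : ℕ) : (φ i * φ j) ^ coxLabel ON.edges (gen i) (gen j) = 1 := by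
  have h : (FreeGroup.of (gen i) * FreeGroup.of (gen j)) ^ coxLabel ON.edges (gen i) (gen j) ∈
      coxRelators ON.edges ∪ {r | r ∈ ON.extra} :=
    Or.inl ⟨gen i, gen_node i, gen j, gen_node j, rfl⟩
  have h1 := PresentedGroup.one_of_mem h
  rw [map_pow, map_mul] at h1
  exact h1

theorem hsq : ∀ l, φ l * φ l = 1 := by
  intro l
  have h := cox_φ l l
  rw [coxLabel_self, pow_one] at h
  exact h

theorem φ_inv (l : ℕ) : (φ l)⁻¹ = φ l := inv_eq_of_mul_eq_one_right (hsq l)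

theorem relW_eq : OnhW.relW = coxWords ON.edges gen 6 ++ [[0, 5, 3, 2, 3, 2, 3, 2, 3, 2]] := by
  decide +kernel

theorem rel_af : wprod φ [0, 5, 3, 2, 3, 2, 3, 2, 3, 2] = 1 := by
  have h : (ON.a * ON.f) * (((ON.c * ON.d) ^ 4)⁻¹) ∈ coxRelators ON.edges ∪ {r | r ∈ ON.extra} :=
    Or.inr (List.mem_cons_of_mem _ List.mem_cons_self)
  have h1 := PresentedGroup.one_of_mem h
  rw [map_mul, map_mul, map_inv, map_pow, map_mul] at h1
  have h2 : φ 0 * φ 5 * ((φ 2 * φ 3) ^ 4)⁻¹ = 1 := h1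
  have e : wprod φ [0, 5, 3, 2, 3, 2, 3, 2, 3, 2] = φ 0 * φ 5 * (φ 3 * φ 2) ^ 4 := by
    simp only [wprod, List.map_cons, List.map_nil, List.prod_cons, List.prod_nil, pow_succ, pow_zero,
      mul_assoc, mul_one, one_mul]
  have e3 : φ 3 * φ 2 = (φ 2 * φ 3)⁻¹ := by rw [mul_inv_rev, φ_inv, φ_inv]
  rw [e, e3, inv_pow]
  exact h2

theorem hrelW : ∀ w ∈ OnhW.relW, wprod φ w = 1 := by
  intro w hw
  rw [relW_eq] at hw
  rcases List.mem_append.1 hw with h | h
  · unfold coxWords at h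
    simp only [List.mem_flatMap, List.mem_map, List.mem_filter, List.mem_range,
      decide_eq_true_eq] at h
    obtain ⟨i, hi, j, ⟨hj, hij⟩, rfl⟩ := h
    rw [wprod_coxWord]
    exact cox_φ i j
  · rw [List.mem_singleton] at h
    rw [h]
    exact rel_af

/-- the subgroup generated by the images of `a, …, f` -/
theorem H_eq : (Subgroup.closure ({ON.a, ON.b, ON.c, ON.d, ON.e, ON.f} :
    Set (FreeGroup ON.Gen))).map (PresentedGroup.mk (coxRelators ON.edges ∪ {r | r ∈ ON.extra})) =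
      LS φ [0, 1, 2, 3, 4, 5] := by
  rw [MonoidHom.map_closure]
  unfold LS
  congr 1
  ext x
  constructor
  · rintro ⟨y, hy, rfl⟩
    rcases hy with rfl | rfl | rfl | rfl | rfl | rfl
    · exact ⟨0, by simp, rfl⟩
    · exact ⟨1, by simp, rfl⟩
    · exact ⟨2, by simp, rfl⟩
    · exact ⟨3, by simp, rfl⟩
    · exact ⟨4, by simp, rfl⟩
    · exact ⟨5, by simp, rfl⟩
  · rintro ⟨l, hl, rfl⟩
    simp only [List.mem_cons, List.not_mem_nil, or_false] at hl
    rcases hl with rfl | rfl | rfl | rfl | rfl | rfl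
    · exact ⟨ON.a, by simp, rfl⟩
    · exact ⟨ON.b, by simp, rfl⟩
    · exact ⟨ON.c, by simp, rfl⟩
    · exact ⟨ON.d, by simp, rfl⟩
    · exact ⟨ON.e, by simp, rfl⟩
    · exact ⟨ON.f, by simp, rfl⟩

end Cfsg.Agent.Lib.helper35.Ona
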