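import Cfsg.Agent.Lib.helper35.CosetOrd
import Cfsg.Agent.Lib.helper35.OnhW

set_option autoImplicit false
set_option maxRecDepth 100000

namespace Cfsg.Agent.Lib.helper35.OnhU2

open Cfsg.Agent.Lib.helper35

def TE0_0 : ℕ := nat_lit 0xe000500000000000800030000000000010001
def TE0 : List ℕ := [TE0_0]
def TE1_0 : ℕ := nat_lit 0xf000500000000000900030000000000020001
def TE1 : List ℕ := [TE1_0]
def TE2_0 : ℕ := nat_lit 0x10000500000000000a00030000000000030001
def TE2 : List ℕ := [TE2_0]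
def TE3_0 : ℕ := nat_lit 0x12000500120006000b0003000b00040005000100050002
def TE3 : List ℕ := [TE3_0]
def TE4_0 : ℕ := nat_lit 0xd000300000000000d00050000000000040001
def TE4 : List ℕ := [TE4_0]
def TE5_0 : ℕ := nat_lit 0x11000500000000000700010000000000070003
def TE5 : List ℕ := [TE5_0]
def TJ0_0 : ℕ := nat_lit 0x1000090000000000008000d0000000000000002d
def TJ0 : List ℕ := [TJ0_0]
def TJ1_0 : ℕ := nat_lit 0x1000150000000000008001900000000000000031
def TJ1 : List ℕ := [TJ1_0]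
def TJ2_0 : ℕ := nat_lit 0x10001d0000000000008002100000000000000035
def TJ2 : List ℕ := [TJ2_0]
def TJ3_0 : ℕ := nat_lit 0x50000000140000000300000000c00000001000000004
def TJ3 : List ℕ := [TJ3_0]
def TJ4_0 : ℕ := nat_lit 0x100000000000000001000000000000000039
def TJ4 : List ℕ := [TJ4_0]
def TJ5_0 : ℕ := nat_lit 0x1000250000000000000000800000000000000008
def TJ5 : List ℕ := [TJ5_0]
def EE_0 : ℕ := nat_lit 0x13000500000000000c0003000000000006000100000000
def EE : List ℕ := [EE_0]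
def EJ_0 : ℕ := nat_lit 0x5000a4000000000003000a4000000000001000a400000000
def EJ : List ℕ := [EJ_0]
def DF_0 : ℕ := nat_lit 0x430002400023000050000300000
def DF : List ℕ := [DF_0]
def words : List (List ℕ × List ℕ) := [([0, 1, 0, 1, 0, 1], [1, 0, 1, 0, 1, 0]),
  ([0, 2, 0, 2], [2, 0, 2, 0]),
  ([0, 4, 0, 4], [4, 0, 4, 0]),
  ([0, 5, 0, 5], [5, 0, 5, 0]),
  ([1, 2, 1, 2, 1, 2], [2, 1, 2, 1, 2, 1]),
  ([1, 4, 1, 4], [4, 1, 4, 1]),
  ([1, 5, 1, 5], [5, 1, 5, 1]),
  ([2, 4, 2, 4], [4, 2, 4, 2]),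
  ([2, 5, 2, 5], [5, 2, 5, 2]),
  ([4, 5, 4, 5, 4, 5], [5, 4, 5, 4, 5, 4]),
  ([3], [3]),
  ([0], [0]),
  ([1], [1]),
  ([2], [2]),
  ([4], [4])]

def C : Cert := ⟨6, 6, 16, 65535,
  rdlc [TE0, TE1, TE2, TE3, TE4, TE5] 32 4294967295 11 2047,
  rdlc [TJ0, TJ1, TJ2, TJ3, TJ4, TJ5] 34 17179869183 11 2047,
  rdc EE 32 4294967295 11 2047,
  rdc EJ 34 17179869183 11 2047,
  fun c => Nat.shiftRight (rdc DF 20 1048575 11 2047 c) 4,
  fun c => Nat.land (rdc DF 20 1048575 11 2047 c) 15,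
  words, 11, 20⟩

theorem rows0 : allRange (rowOK C) 0 6 = true := by decide +kernel
theorem fin0 : allRange (finOK C) 0 6 = true := by decide +kernel
theorem cnt0 : countLive C 6 0 = 3 := by decide +kernel
theorem rev_ok : ∀ p ∈ C.words, p.2 = p.1.reverse := by decide +kernel
def S : List ℕ := [0, 1, 2, 4, 5]
def T : List ℕ := [0, 1, 2, 4]
theorem wr_ok : ∀ r, r < C.nrel → wordRel (OnhW.relW) S (nth ([], []) C.words r).1 = true := by decide +kernel
theorem ws_ok : ∀ p ∈ C.words, (wordRel (OnhW.relW) S p.1 || wordSub S T p.1) = true := by decide +kernel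
theorem rows_all : ∀ c, c < C.M → rowOK C c = true := by
  intro c hc
  have hM : C.M = 6 := rfl
  exact allRange_spec rows0 c (by omega) (by omega)

theorem fin_all : ∀ c, c < C.M → finOK C c = true := fun c hc => allRange_spec fin0 c (Nat.zero_le _) (by have hM : C.M = 6 := rfl; omega)

/-- the index bound of this certificate, in any group in which the relators hold -/
theorem bound {Γ : Type*} [Group Γ] (φ : ℕ → Γ) (hsq : ∀ l, φ l * φ l = 1)
    (hrelW : ∀ w ∈ (OnhW.relW), wprod φ w = 1) :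
    (LS φ T).relIndex (LS φ S) ≠ 0 ∧ (LS φ T).relIndex (LS φ S) ≤ 3 := by
  have h := relIndex_le_of_cert φ hsq _ hrelW S T C (by decide) rows_all fin_all (by decide)
    (by decide +kernel) rev_ok wr_ok ws_ok
  rw [show countLive C C.M 0 = 3 from cnt0] at h
  exact h


end Cfsg.Agent.Lib.helper35.OnhU2
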