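import Cfsg.Agent.Lib.helper35.CosetOrd
import Cfsg.Agent.Lib.helper35.OnhW

set_option autoImplicit false
set_option maxRecDepth 100000

namespace Cfsg.Agent.Lib.helper35.OnhU4

open Cfsg.Agent.Lib.helper35

def TE0_0 : ℕ := nat_lit 0x1300060000000000000000000000000013000a0000000000000000000000000004000200010001
def TE0 : List ℕ := [TE0_0]
def TE1_0 : ℕ := nat_lit 0x14000a000000000000000000000000000b0002000000000000000000000000000b000600020001
def TE1 : List ℕ := [TE1_0]
def TE2_0 : ℕ := nat_lit 0x15000a000000000000000000000000000c00060000000000000000000000000003000100030002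
def TE2 : List ℕ := [TE2_0]
def TE3_0 : ℕ := nat_lit 0x1c000a000000000000000000160006001c000e0000000000000000000d00020016000b000000000000000000050001000d000700050003
def TE3 : List ℕ := [TE3_0]
def TE4_0 : ℕ := nat_lit 0x1e000a00000000000000000018000600000000001e000f00000000000f0002000000000018000c000000000007000100000000000f000800070004
def TE4 : List ℕ := [TE4_0]
def TE5_0 : ℕ := nat_lit 0x20000a0000000000000000001a0006000000000000000000200010001100020000000000000000001a000d0009000100000000000000000011000900090005
def TE5 : List ℕ := [TE5_0]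
def TJ0_0 : ℕ := nat_lit 0x900000000000000000000000000000000090000000000000000000000000000010001400000019
def TJ0 : List ℕ := [TJ0_0]
def TJ1_0 : ℕ := nat_lit 0x900004000000000000000000000000000000005000000000000000000000000000000000500000001d
def TJ1 : List ℕ := [TJ1_0]
def TJ2_0 : ℕ := nat_lit 0x9000140000000000000000000000000000500024000000000000000000000000000000001000000004
def TJ2 : List ℕ := [TJ2_0]
def TJ3_0 : ℕ := nat_lit 0xd000000000000000000000000280000000d000000000000000000000000180000000a0000000000000000000000000800000006000000008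
def TJ3 : List ℕ := [TJ3_0]
def TJ4_0 : ℕ := nat_lit 0x38000000000000000000000000b0000000000000000e000000000000000070000000000000000b000000000000000030000000000000000700000000c
def TJ4 : List ℕ := [TJ4_0]
def TJ5_0 : ℕ := nat_lit 0xf00000000000000000000000030000000000000000000000000f000000020000000000000000000000000c0000000100000000000000000000000008000000010
def TJ5 : List ℕ := [TJ5_0]
def EE_0 : ℕ := nat_lit 0x21000a001f000a001d000a001b00060019000600170006000000000012000200100002000e000200000000000a000100080001000600010000000000000000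
def EE : List ℕ := [EE_0]
def EJ_0 : ℕ := nat_lit 0xf0005400380011000d0003400300015000b000440028000d000000000002000150007000440018000d000000000001000150003000440008000d00000000000000000
def EJ : List ℕ := [EJ_0]
def DF_0 : ℕ := nat_lit 0x95000940009300055000540005300050000150001400013000110000500004000030000200000
def DF : List ℕ := [DF_0]
def words : List (List ℕ × List ℕ) := [([0, 1, 0, 1, 0, 1], [1, 0, 1, 0, 1, 0]),
  ([0, 2, 0, 2], [2, 0, 2, 0]),
  ([1, 2, 1, 2, 1, 2], [2, 1, 2, 1, 2, 1]),
  ([3], [3]),
  ([4], [4]),
  ([5], [5]),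
  ([0], [0]),
  ([1], [1])]

def C : Cert := ⟨16, 6, 16, 65535,
  rdlc [TE0, TE1, TE2, TE3, TE4, TE5] 32 4294967295 11 2047,
  rdlc [TJ0, TJ1, TJ2, TJ3, TJ4, TJ5] 34 17179869183 11 2047,
  rdc EE 32 4294967295 11 2047,
  rdc EJ 34 17179869183 11 2047,
  fun c => Nat.shiftRight (rdc DF 20 1048575 11 2047 c) 4,
  fun c => Nat.land (rdc DF 20 1048575 11 2047 c) 15,
  words, 6, 34⟩

theorem rows0 : allRange (rowOK C) 0 16 = true := by decide +kernel
theorem fin0 : allRange (finOK C) 0 16 = true := by decide +kernel
theorem cnt0 : countLive C 16 0 = 4 := by decide +kernel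
theorem rev_ok : ∀ p ∈ C.words, p.2 = p.1.reverse := by decide +kernel
def S : List ℕ := [0, 1, 2]
def T : List ℕ := [0, 1]
theorem wr_ok : ∀ r, r < C.nrel → wordRel (OnhW.relW) S (nth ([], []) C.words r).1 = true := by decide +kernel
theorem ws_ok : ∀ p ∈ C.words, (wordRel (OnhW.relW) S p.1 || wordSub S T p.1) = true := by decide +kernel
theorem rows_all : ∀ c, c < C.M → rowOK C c = true := by
  intro c hc
  have hM : C.M = 16 := rfl
  exact allRange_spec rows0 c (by omega) (by omega)

theorem fin_all : ∀ c, c < C.M → finOK C c = true := fun c hc => allRange_spec fin0 c (Nat.zero_le _) (by have hM : C.M = 16 := rfl; omega)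

/-- the index bound of this certificate, in any group in which the relators hold -/
theorem bound {Γ : Type*} [Group Γ] (φ : ℕ → Γ) (hsq : ∀ l, φ l * φ l = 1)
    (hrelW : ∀ w ∈ (OnhW.relW), wprod φ w = 1) :
    (LS φ T).relIndex (LS φ S) ≠ 0 ∧ (LS φ T).relIndex (LS φ S) ≤ 4 := by
  have h := relIndex_le_of_cert φ hsq _ hrelW S T C (by decide) rows_all fin_all (by decide)
    (by decide +kernel) rev_ok wr_ok ws_ok
  rw [show countLive C C.M 0 = 4 from cnt0] at h
  exact h


end Cfsg.Agent.Lib.helper35.OnhU4
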