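import Cfsg.Agent.Lib.helper35.CosetOrd
import Cfsg.Agent.Lib.helper35.OnhW

set_option autoImplicit false
set_option maxRecDepth 100000

namespace Cfsg.Agent.Lib.helper35.OnhU5

open Cfsg.Agent.Lib.helper35

def TE0_0 : ℕ := nat_lit 0xb000200000000000000000000000000000000000b000700010001
def TE0 : List ℕ := [TE0_0]
def TE1_0 : ℕ := nat_lit 0xc0007000000000000000000000000000000000002000100020002
def TE1 : List ℕ := [TE1_0]
def TE2_0 : ℕ := nat_lit 0x150007000000000000000000000000000d00020015000c00000000000000000000000000030001000d000800030003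
def TE2 : List ℕ := [TE2_0]
def TE3_0 : ℕ := nat_lit 0x170007000000000000000000000000000f0002000000000017000d00000000000000000005000100000000000f000900050004
def TE3 : List ℕ := [TE3_0]
def TE4_0 : ℕ := nat_lit 0x1900070000000000000000000000000011000200000000000000000019000e000000000007000100000000000000000011000a00070005
def TE4 : List ℕ := [TE4_0]
def TE5_0 : ℕ := nat_lit 0x1b000700000000000000000000000000130002000000000000000000000000001b000f000900010000000000000000000000000013000b00090006
def TE5 : List ℕ := [TE5_0]
def TJ0_0 : ℕ := nat_lit 0x18000000000000000000000000000000000000000006000000015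
def TJ0 : List ℕ := [TJ0_0]
def TJ1_0 : ℕ := nat_lit 0x180001000000000000000000000000000000000000000001000000004
def TJ1 : List ℕ := [TJ1_0]
def TJ2_0 : ℕ := nat_lit 0xb000000000000000000000000000000000700000002c000000000000000000000000000000000800000007000000008
def TJ2 : List ℕ := [TJ2_0]
def TJ3_0 : ℕ := nat_lit 0x3000000000000000000000000000000000200000000000000003000000000000000000000000030000000000000000800000000c
def TJ3 : List ℕ := [TJ3_0]
def TJ4_0 : ℕ := nat_lit 0xd000000000000000000000000000000000900000000000000000000000034000000000000000100000000000000000000000009000000010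
def TJ4 : List ℕ := [TJ4_0]
def TJ5_0 : ℕ := nat_lit 0x380000000000000000000000000000000028000000000000000000000000000000003800000005000000000000000000000000000000000a000000014
def TJ5 : List ℕ := [TJ5_0]
def EE_0 : ℕ := nat_lit 0x1c0007001a00070018000700160007001400020012000200100002000e000200000000000a00010008000100060001000400010000000000000000
def EE : List ℕ := [EE_0]
def EJ_0 : ℕ := nat_lit 0x380011000d0003400300009000b000140028001100090003400200009000700014000000000005000440010000d0003000240008000500000000000000000
def EJ : List ℕ := [EJ_0]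
def DF_0 : ℕ := nat_lit 0x650006400063000620001500014000130001200010000050000400003000020000100000
def DF : List ℕ := [DF_0]
def words : List (List ℕ × List ℕ) := [([0, 1, 0, 1, 0, 1], [1, 0, 1, 0, 1, 0]),
  ([2], [2]),
  ([3], [3]),
  ([4], [4]),
  ([5], [5]),
  ([0], [0])]

def C : Cert := ⟨15, 6, 16, 65535,
  rdlc [TE0, TE1, TE2, TE3, TE4, TE5] 32 4294967295 11 2047,
  rdlc [TJ0, TJ1, TJ2, TJ3, TJ4, TJ5] 34 17179869183 11 2047,
  rdc EE 32 4294967295 11 2047,
  rdc EJ 34 17179869183 11 2047,
  fun c => Nat.shiftRight (rdc DF 20 1048575 11 2047 c) 4,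
  fun c => Nat.land (rdc DF 20 1048575 11 2047 c) 15,
  words, 5, 29⟩

theorem rows0 : allRange (rowOK C) 0 15 = true := by decide +kernel
theorem fin0 : allRange (finOK C) 0 15 = true := by decide +kernel
theorem cnt0 : countLive C 15 0 = 3 := by decide +kernel
theorem rev_ok : ∀ p ∈ C.words, p.2 = p.1.reverse := by decide +kernel
def S : List ℕ := [0, 1]
def T : List ℕ := [0]
theorem wr_ok : ∀ r, r < C.nrel → wordRel (OnhW.relW) S (nth ([], []) C.words r).1 = true := by decide +kernel
theorem ws_ok : ∀ p ∈ C.words, (wordRel (OnhW.relW) S p.1 || wordSub S T p.1) = true := by decide +kernel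
theorem rows_all : ∀ c, c < C.M → rowOK C c = true := by
  intro c hc
  have hM : C.M = 15 := rfl
  exact allRange_spec rows0 c (by omega) (by omega)

theorem fin_all : ∀ c, c < C.M → finOK C c = true := fun c hc => allRange_spec fin0 c (Nat.zero_le _) (by have hM : C.M = 15 := rfl; omega)

/-- the index bound of this certificate, in any group in which the relators hold -/
theorem bound {Γ : Type*} [Group Γ] (φ : ℕ → Γ) (hsq : ∀ l, φ l * φ l = 1)
    (hrelW : ∀ w ∈ (OnhW.relW), wprod φ w = 1) :
    (LS φ T).relIndex (LS φ S) ≠ 0 ∧ (LS φ T).relIndex (LS φ S) ≤ 3 := by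
  have h := relIndex_le_of_cert φ hsq _ hrelW S T C (by decide) rows_all fin_all (by decide)
    (by decide +kernel) rev_ok wr_ok ws_ok
  rw [show countLive C C.M 0 = 3 from cnt0] at h
  exact h


end Cfsg.Agent.Lib.helper35.OnhU5
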