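/-
helper35: S5239 sub-piece NUB (racer copy, statement verbatim from tools/S5239NU_Skel.lean.txt):
the Y-shift `[P_j, h] ≤ P_(j+2)`.
-/
import Mathlib
import Cfsg.Agent.Lib.helper68.HallPet
import Cfsg.Agent.Lib.helper79.PearlX

set_option autoImplicit false

namespace Cfsg.Agent.Lib.helper79.P3

open Cfsg.Agent.Lib.helper68

theorem h35_p3_nu_b {G : Type*} [Group G] [Finite G] (n : ℕ) (hn : 4 ≤ n) (hG : Nat.card G = 3 ^ n) (x : G)
    (hx : x ^ 3 = 1) (hC : Nat.card (Subgroup.centralizer ({x} : Set G)) = 3 ^ 2)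
    (hab : ∀ a ∈ gam G 2, ∀ b ∈ gam G 2, a * b = b * a) (h u : G)
    (hu2 : u ∈ gam G 2) (hun : u ∉ gam G (n - 1)) (huh : com u h = 1) :
    ∀ j, 2 ≤ j → ∀ v ∈ gam G j, com v h ∈ gam G (j + 2) := by
  haveI : Fact (Nat.Prime 3) := ⟨Nat.prime_three⟩
  have hcard : ∀ i, 2 ≤ i → i ≤ n → Nat.card (gam G i) = 3 ^ (n - i) :=
    fun i hi hin => h79_px_card 3 n hG x hC (by omega) i hi hin
  have hbot : gam G n = ⊥ := by
    have h1 := hcard n (by omega) le_rfl
    rw [Nat.sub_self, pow_zero] at h1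
    exact (Subgroup.card_eq_one).mp h1
  have htop : ∀ g : G, g ∈ gam G 1 := by
    intro g
    simp [gam]
  have key : ∀ v ∈ gam G 2, com (com v h) x = com (com v x) h := by
    intro v hv
    have hk2 : h * x * h⁻¹ * x⁻¹ ∈ gam G 2 := by
      have h0 := com_mem (i := 1) (j := 1) (a := h⁻¹) (b := x⁻¹) (htop _) (htop _)
      simpa [com] using h0
    have hk := hab v hv _ hk2
    have e1 : x⁻¹ * h⁻¹ * v * h * x = h⁻¹ * x⁻¹ * v * x * h := by
      calc x⁻¹ * h⁻¹ * v * h * x
          = x⁻¹ * h⁻¹ * (v * (h * x * h⁻¹ * x⁻¹)) * (x * h) := by group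
        _ = x⁻¹ * h⁻¹ * ((h * x * h⁻¹ * x⁻¹) * v) * (x * h) := by rw [hk]
        _ = h⁻¹ * x⁻¹ * v * x * h := by group
    have ha : h⁻¹ * v * h ∈ gam G 2 := by
      have h0 := (gam_normal (H := G) 2).conj_mem v hv h⁻¹
      simpa using h0
    have hc : x⁻¹ * v * x ∈ gam G 2 := by
      have h0 := (gam_normal (H := G) 2).conj_mem v hv x⁻¹
      simpa using h0
    have h1 : (h⁻¹ * v * h)⁻¹ * v = v * (h⁻¹ * v * h)⁻¹ :=
      hab _ ((gam G 2).inv_mem ha) v hv
    have h2 : ((h⁻¹ * v * h)⁻¹ * v) * (x⁻¹ * v * x)⁻¹ = (x⁻¹ * v * x)⁻¹ * ((h⁻¹ * v * h)⁻¹ * v) :=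
      hab _ ((gam G 2).mul_mem ((gam G 2).inv_mem ha) hv) _ ((gam G 2).inv_mem hc)
    unfold com
    calc (v⁻¹ * h⁻¹ * v * h)⁻¹ * x⁻¹ * (v⁻¹ * h⁻¹ * v * h) * x
        = ((h⁻¹ * v * h)⁻¹ * v) * (x⁻¹ * v * x)⁻¹ * (x⁻¹ * h⁻¹ * v * h * x) := by group
      _ = (x⁻¹ * v * x)⁻¹ * ((h⁻¹ * v * h)⁻¹ * v) * (x⁻¹ * h⁻¹ * v * h * x) := by rw [h2]
      _ = (x⁻¹ * v * x)⁻¹ * (v * (h⁻¹ * v * h)⁻¹) * (h⁻¹ * x⁻¹ * v * x * h) := by rw [h1, e1]
      _ = (v⁻¹ * x⁻¹ * v * x)⁻¹ * h⁻¹ * (v⁻¹ * x⁻¹ * v * x) * h := by group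
  have triv : ∀ j, n ≤ j + 1 → ∀ v ∈ gam G j, com v h = 1 := by
    intro j hj v hv
    have h1 : com v h ∈ gam G (j + 1) := com_mem hv (htop h)
    have h2 : com v h ∈ gam G n := gam_antitone hj h1
    rw [hbot] at h2
    exact Subgroup.mem_bot.mp h2
  have ex : ∀ k i, 2 ≤ i → i + k = n - 1 → ∀ w ∈ gam G i, w ∉ gam G (n - 1) → com w h = 1 →
      ∃ w' ∈ gam G (n - 2), w' ∉ gam G (n - 1) ∧ com w' h = 1 := by
    intro k
    induction k with
    | zero =>
      intro i hi hik w hw hwn _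
      exfalso
      have hi' : i = n - 1 := by omega
      rw [hi'] at hw
      exact hwn hw
    | succ k ih =>
      intro i hi hik w hw hwn hwh
      by_cases hw1 : w ∈ gam G (i + 1)
      · exact ih (i + 1) (by omega) (by omega) w hw1 hwn hwh
      · rcases Nat.lt_or_ge i (n - 2) with hlt | hge
        · have hun' := h79_px_unis 3 n hG x hC (by omega) i hi (by omega) w hw hw1
          have hw2 : w ∈ gam G 2 := gam_antitone hi hw
          refine ih (i + 1) (by omega) (by omega) (com w x) hun'.1 ?_ ?_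
          · intro hcc
            exact hun'.2 (gam_antitone (by omega) hcc)
          · rw [← key w hw2, hwh]
            simp [com]
        · have hi' : i = n - 2 := by omega
          rw [hi'] at hw
          exact ⟨w, hw, hwn, hwh⟩
  obtain ⟨w, hw, hwn, hwh⟩ := ex (n - 3) 2 le_rfl (by omega) u hu2 hun huh
  have comm_iff : ∀ v : G, com v h = 1 ↔ v ∈ Subgroup.centralizer ({h} : Set G) := by
    intro v
    rw [Subgroup.mem_centralizer_iff]
    constructor
    · intro hv y hy
      rw [Set.mem_singleton_iff] at hy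
      rw [hy]
      unfold com at hv
      calc h * v = h * v * 1 := by rw [mul_one]
        _ = h * v * (v⁻¹ * h⁻¹ * v * h) := by rw [hv]
        _ = v * h := by group
    · intro hv
      have h0 := hv h (Set.mem_singleton h)
      unfold com
      calc v⁻¹ * h⁻¹ * v * h = v⁻¹ * h⁻¹ * (v * h) := by group
        _ = v⁻¹ * h⁻¹ * (h * v) := by rw [h0]
        _ = 1 := by group
  have base : ∀ v ∈ gam G (n - 2), com v h = 1 := by
    have hle1 : gam G (n - 1) ≤ Subgroup.centralizer ({h} : Set G) ⊓ gam G (n - 2) := by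
      intro v hv
      exact ⟨(comm_iff v).mp (triv (n - 1) (by omega) v hv), gam_antitone (by omega) hv⟩
    have hwD : w ∈ Subgroup.centralizer ({h} : Set G) ⊓ gam G (n - 2) := ⟨(comm_iff w).mp hwh, hw⟩
    have hle2 : Subgroup.centralizer ({h} : Set G) ⊓ gam G (n - 2) ≤ gam G (n - 2) := inf_le_right
    have c1 : Nat.card (gam G (n - 1)) = 3 := by
      have h0 := hcard (n - 1) (by omega) (by omega)
      rw [h0]
      have h1 : n - (n - 1) = 1 := by omega
      rw [h1, pow_one]
    have c2 : Nat.card (gam G (n - 2)) = 9 := by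
      have h0 := hcard (n - 2) (by omega) (by omega)
      rw [h0]
      have h1 : n - (n - 2) = 2 := by omega
      rw [h1]
      norm_num
    have d1 : 3 ∣ Nat.card (Subgroup.centralizer ({h} : Set G) ⊓ gam G (n - 2) : Subgroup G) := by
      rw [← c1]
      exact Subgroup.card_dvd_of_le hle1
    have d2 : Nat.card (Subgroup.centralizer ({h} : Set G) ⊓ gam G (n - 2) : Subgroup G) ∣ 9 := by
      rw [← c2]
      exact Subgroup.card_dvd_of_le hle2
    obtain ⟨k, hk⟩ := d1
    have hk3 : k ∣ 3 := by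
      rw [hk] at d2
      exact Nat.dvd_of_mul_dvd_mul_left (by norm_num : 0 < 3) (d2 : 3 * k ∣ 3 * 3)
    rcases (Nat.dvd_prime Nat.prime_three).mp hk3 with hk1 | hk1
    · exfalso
      have h0 : gam G (n - 1) = Subgroup.centralizer ({h} : Set G) ⊓ gam G (n - 2) :=
        Subgroup.eq_of_le_of_card_ge hle1 (by rw [hk, c1, hk1])
      exact hwn (h0 ▸ hwD)
    · have h0 : Subgroup.centralizer ({h} : Set G) ⊓ gam G (n - 2) = gam G (n - 2) :=
        Subgroup.eq_of_le_of_card_ge hle2 (by rw [hk, c2, hk1])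
      intro v hv
      rw [← h0] at hv
      exact (comm_iff v).mpr hv.1
  have main : ∀ d j, 2 ≤ j → n ≤ j + d + 2 → ∀ v ∈ gam G j, com v h ∈ gam G (j + 2) := by
    intro d
    induction d with
    | zero =>
      intro j hj hjd v hv
      rcases Nat.lt_or_ge j (n - 1) with hlt | hge
      · have hj' : j = n - 2 := by omega
        rw [hj'] at hv
        rw [base v hv]
        exact Subgroup.one_mem _
      · rw [triv j (by omega) v hv]
        exact Subgroup.one_mem _
    | succ d ih =>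
      intro j hj hjd v hv
      rcases Nat.lt_or_ge j (n - 2) with hlt | hge
      · by_contra hcon
        have hy1 : com v h ∈ gam G (j + 1) := com_mem hv (htop h)
        have hun' := h79_px_unis 3 n hG x hC (by omega) (j + 1) (by omega) (by omega) (com v h) hy1 hcon
        have hv2 : v ∈ gam G 2 := gam_antitone hj hv
        have hvx : com v x ∈ gam G (j + 1) := com_mem hv (htop x)
        have h0 := ih (j + 1) (by omega) (by omega) (com v x) hvx
        rw [← key v hv2] at h0
        exact hun'.2 h0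
      · rcases Nat.lt_or_ge j (n - 1) with hlt | hge'
        · have hj' : j = n - 2 := by omega
          rw [hj'] at hv
          rw [base v hv]
          exact Subgroup.one_mem _
        · rw [triv j (by omega) v hv]
          exact Subgroup.one_mem _
  intro j hj v hv
  exact main n j hj (by omega) v hv

end Cfsg.Agent.Lib.helper79.P3
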