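/-
helper35: S5238 REST, block G step (4) = F3: `m ∈ γ_i`, `2 ≤ i` ⟹ `m ^ p ∈ γ_(i+p-1)`, by downward
induction with helper68's Hall-Petrescu formula inside the subgroup `⟨x⟩ γ_i`.  Prefix `h35_pg_`.
-/
import Mathlib
import Cfsg.Agent.Lib.helper68.HallPet
import Cfsg.Agent.Lib.helper35.PearlG1

set_option autoImplicit false

namespace Cfsg.Agent.Lib.helper35.PearlG

open Cfsg.Agent.Lib.helper68
open scoped commutatorElement

variable {G : Type*} [Group G]

theorem h35_pg_gam_succ (i : ℕ) (hi : 1 ≤ i) : gam G (i + 1) = ⁅gam G i, (⊤ : Subgroup G)⁆ := by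
  obtain ⟨j, rfl⟩ : ∃ j, i = j + 1 := ⟨i - 1, by omega⟩
  unfold gam
  simp [Subgroup.lowerCentralSeries_succ]

/-- commutators of `⟨x⟩ γ_i` lie in `γ_(i+1)` -/
theorem h35_pg_comm_T (x : G) (i : ℕ) (hi : 1 ≤ i) :
    ⁅Subgroup.zpowers x ⊔ gam G i, Subgroup.zpowers x ⊔ gam G i⁆ ≤ gam G (i + 1) := by
  rw [Subgroup.commutator_le]
  intro s hs t ht
  have hs' : s ∈ ((Subgroup.zpowers x ⊔ gam G i : Subgroup G) : Set G) := hs
  have ht' : t ∈ ((Subgroup.zpowers x ⊔ gam G i : Subgroup G) : Set G) := ht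
  rw [Subgroup.mul_normal] at hs' ht'
  obtain ⟨a, ha, b, hb, rfl⟩ := Set.mem_mul.1 hs'
  obtain ⟨a', ha', b', hb', rfl⟩ := Set.mem_mul.1 ht'
  have hcentral : ∀ c ∈ gam G i, ∀ y : G ⧸ gam G (i + 1),
      Commute (QuotientGroup.mk' (gam G (i + 1)) c) y := by
    intro c hc y
    obtain ⟨g, rfl⟩ := QuotientGroup.mk'_surjective (gam G (i + 1)) y
    rw [← commutatorElement_eq_one_iff_commute, ← map_commutatorElement]
    apply (QuotientGroup.eq_one_iff _).2
    rw [h35_pg_gam_succ i hi]
    exact Subgroup.commutator_mem_commutator hc (Subgroup.mem_top g)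
  have hA : Commute (QuotientGroup.mk' (gam G (i + 1)) a) (QuotientGroup.mk' (gam G (i + 1)) a') := by
    obtain ⟨k, rfl⟩ := Subgroup.mem_zpowers_iff.1 ha
    obtain ⟨l, rfl⟩ := Subgroup.mem_zpowers_iff.1 ha'
    exact ((Commute.refl x).zpow_zpow k l).map _
  suffices h : QuotientGroup.mk' (gam G (i + 1)) ⁅a * b, a' * b'⁆ = 1 from
    (QuotientGroup.eq_one_iff _).1 h
  rw [map_commutatorElement, commutatorElement_eq_one_iff_commute, map_mul, map_mul]
  exact (hA.mul_right (hcentral b' hb' _).symm).mul_left (hcentral b hb _)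

theorem h35_pg_lcs_T (x : G) (i : ℕ) (hi : 1 ≤ i) : ∀ j, 1 ≤ j →
    (Subgroup.zpowers x ⊔ gam G i).lowerCentralSeries j ≤ gam G (i + j) := by
  intro j hj
  induction j, hj using Nat.le_induction with
  | base => exact h35_pg_comm_T x i hi
  | succ j hj ih =>
    rw [Subgroup.lowerCentralSeries_succ]
    have e : gam G (i + (j + 1)) = ⁅gam G (i + j), (⊤ : Subgroup G)⁆ :=
      h35_pg_gam_succ (i + j) (by omega)
    rw [e]
    exact Subgroup.commutator_mono ih le_top

theorem h35_pg_bot [Finite G] (p : ℕ) [Fact p.Prime] (n : ℕ) (hG : Nat.card G = p ^ n) (x : G)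
    (hC : Nat.card (Subgroup.centralizer ({x} : Set G)) = p ^ 2) (hn : 2 ≤ n) (j : ℕ) (hj : n ≤ j) :
    gam G j = ⊥ := by
  have h1 := h35_pg_card p n hG x hC n hn le_rfl
  rw [Nat.sub_self, pow_zero] at h1
  have h2 : gam G n = ⊥ := Subgroup.card_eq_one.1 h1
  exact le_bot_iff.1 (h2 ▸ gam_antitone hj)

/-- F3 -/
theorem h35_pg_F3 [Finite G] (p : ℕ) [Fact p.Prime] (n : ℕ) (hG : Nat.card G = p ^ n) (x : G)
    (hC : Nat.card (Subgroup.centralizer ({x} : Set G)) = p ^ 2) (hn : 3 ≤ n) (hx : x ^ p = 1) :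
    ∀ i, 2 ≤ i → ∀ m ∈ gam G i, m ^ p ∈ gam G (i + p - 1) := by
  have hp : p.Prime := Fact.out
  have hbot := h35_pg_bot p n hG x hC (by omega)
  have key : ∀ d, ∀ i, 2 ≤ i → n ≤ i + d → ∀ m ∈ gam G i, m ^ p ∈ gam G (i + p - 1) := by
    intro d
    induction d with
    | zero =>
      intro i hi hin m hm
      rw [hbot i (by omega)] at hm
      rw [Subgroup.mem_bot.1 hm, one_pow]
      exact Subgroup.one_mem _
    | succ d ih =>
      intro i hi hin m hm
      have hxT : x ∈ Subgroup.zpowers x ⊔ gam G i :=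
        (le_sup_left : Subgroup.zpowers x ≤ _) (Subgroup.mem_zpowers x)
      have hmT : m ∈ Subgroup.zpowers x ⊔ gam G i := (le_sup_right : gam G i ≤ _) hm
      have hΓ := h35_pg_lcs_T x i (by omega)
      have hcT : (⊤ : Subgroup ↥(Subgroup.zpowers x ⊔ gam G i)).lowerCentralSeries n = ⊥ := by
        rw [← Subgroup.map_eq_bot_iff_of_injective _
          (Subgroup.zpowers x ⊔ gam G i).subtype_injective,
          Subgroup.top_subtype_lowerCentralSeries]
        exact le_bot_iff.1 ((hbot (i + n) (by omega)) ▸ hΓ n (by omega))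
      have hmemG : ∀ k, 2 ≤ k → ∀ a ∈ gam ↥(Subgroup.zpowers x ⊔ gam G i) k,
          (a : G) ∈ gam G (i + (k - 1)) := by
        intro k hk a ha
        apply hΓ (k - 1) (by omega)
        rw [← Subgroup.top_subtype_lowerCentralSeries]
        exact Subgroup.mem_map_of_mem _ ha
      obtain ⟨z, hz, hzeq⟩ := hall_petrescu_mem n hcT
        ((gam G (i + p - 1)).subgroupOf (Subgroup.zpowers x ⊔ gam G i)) p
        (by
          intro k hk hkn a ha
          rw [Subgroup.mem_subgroupOf, Subgroup.coe_pow]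
          have haG := hmemG k hk a ha
          rcases lt_trichotomy k p with hlt | heq | hgt
          · obtain ⟨t, ht⟩ := hp.dvd_choose_self (by omega) hlt
            rw [ht, pow_mul]
            have := ih (i + (k - 1)) (by omega) (by omega) (a : G) haG
            exact Subgroup.pow_mem _ (gam_antitone (by omega) this) t
          · subst heq
            rw [Nat.choose_self, pow_one]
            exact gam_antitone (by omega) haG
          · rw [Nat.choose_eq_zero_of_lt hgt, pow_zero]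
            exact Subgroup.one_mem _)
        ⟨x, hxT⟩ ⟨m, hmT⟩
      have hzG := congrArg Subtype.val hzeq
      simp only [Subgroup.coe_mul, Subgroup.coe_pow] at hzG
      rw [h35_pg_order p n hG x hC hn hx m (gam_antitone hi hm), hx, one_mul] at hzG
      have hmz : m ^ p = (z : G)⁻¹ := eq_inv_of_mul_eq_one_left hzG.symm
      rw [hmz]
      exact Subgroup.inv_mem _ (Subgroup.mem_subgroupOf.1 hz)
  intro i hi m hm
  exact key n i hi (by omega) m hm

end Cfsg.Agent.Lib.helper35.PearlG
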