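/-
helper35: S5238 REST, block G steps (5)+(6) = F4: for `2 ≤ i`, `i + p ≤ n`, `m ∈ γ_i \ γ_(i+1)`:
`m ^ p ∈ γ_(i+p-1) \ γ_(i+p)`.  Base via helper65's `pearl_pow` and the uniserial action of `x`;
step via helper68's Hall-Petrescu formula inside `γ_i`.  Prefix `h35_pg_`.
-/
import Mathlib
import Cfsg.Agent.Lib.helper68.HallPet
import Cfsg.Agent.Lib.helper65.PearlPow
import Cfsg.Agent.Lib.helper35.PearlG2

set_option autoImplicit false

namespace Cfsg.Agent.Lib.helper35.PearlG

open Cfsg.Agent.Lib.helper68 Cfsg.Agent.Lib.helper65.PearlPow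

variable {G : Type*} [Group G]

theorem h35_pg_lcs_K (i : ℕ) : ∀ j, (gam G i).lowerCentralSeries j ≤ gam G ((j + 1) * i) := by
  intro j
  induction j with
  | zero => simp
  | succ j ih =>
    rw [Subgroup.lowerCentralSeries_succ]
    have h := gam_comm_le (H := G) ((j + 1) * i) i
    have e : (j + 1) * i + i = (j + 1 + 1) * i := by ring
    rw [e] at h
    exact le_trans (Subgroup.commutator_mono ih le_rfl) h

/-- iterated uniserial action -/
theorem h35_pg_yk [Finite G] (p : ℕ) [Fact p.Prime] (n : ℕ) (hG : Nat.card G = p ^ n) (x : G)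
    (hC : Nat.card (Subgroup.centralizer ({x} : Set G)) = p ^ 2) (j : ℕ) (hj : 2 ≤ j) (m : G)
    (hm : m ∈ gam G j) (hm' : m ∉ gam G (j + 1)) :
    ∀ k, j + k + 1 ≤ n → yk x m k ∈ gam G (j + k) ∧ yk x m k ∉ gam G (j + k + 1) := by
  intro k
  induction k with
  | zero => intro _; exact ⟨hm, hm'⟩
  | succ k ih =>
    intro hk
    obtain ⟨h1, h2⟩ := ih (by omega)
    have hx1 : x ∈ gam G 1 := by unfold gam; simp
    constructor
    · have h3 : com (yk x m k) x ∈ gam G (j + k + 1) := com_mem h1 hx1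
      exact h3
    · exact h35_pg_uniserial p n hG x hC (j + k) (by omega) (by omega) (yk x m k) h1 h2

theorem h35_pg_F4_base [Finite G] (p : ℕ) [Fact p.Prime] (n : ℕ) (hG : Nat.card G = p ^ n) (x : G)
    (hC : Nat.card (Subgroup.centralizer ({x} : Set G)) = p ^ 2) (hx : x ^ p = 1) (i : ℕ)
    (hi : 2 ≤ i) (hin : i + p = n) (m : G) (hm : m ∈ gam G i) (hm' : m ∉ gam G (i + 1)) :
    m ^ p ∉ gam G (i + p) := by
  have hp : p.Prime := Fact.out
  have hp2 := hp.two_le
  have hn : 3 ≤ n := by omega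
  have hbot := h35_pg_bot p n hG x hC (by omega)
  obtain ⟨g, hg, hgm⟩ := h35_pg_onto p n hG x hC hn (i - 1) (by omega) m
    (by rwa [Nat.sub_add_cancel (by omega)])
  have hF3 := h35_pg_F3 p n hG x hC hn hx
  have hpp := pearl_pow p hp (i - 1) (by omega) x g hx hg (hbot (i - 1 + 1 + p) (by omega)) (by
      intro y hy
      have := hF3 (i - 1 + 2) (by omega) y hy
      rw [hbot _ (by omega)] at this
      exact Subgroup.mem_bot.1 this)
  rw [hgm] at hpp
  obtain ⟨-, hyk⟩ := h35_pg_yk p n hG x hC i hi m hm hm' (p - 1) (by omega)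
  intro hcon
  rw [hbot _ (by omega)] at hcon
  rw [Subgroup.mem_bot.1 hcon, one_mul] at hpp
  apply hyk
  rw [hpp]
  exact Subgroup.one_mem _

theorem h35_pg_F4_step [Finite G] (p : ℕ) [Fact p.Prime] (hp2 : p ≠ 2) (n : ℕ)
    (hG : Nat.card G = p ^ n) (x : G)
    (hC : Nat.card (Subgroup.centralizer ({x} : Set G)) = p ^ 2) (hx : x ^ p = 1) (i : ℕ)
    (hi : 2 ≤ i) (hin : i + p + 1 ≤ n)
    (ih : ∀ m' ∈ gam G (i + 1), m' ∉ gam G (i + 1 + 1) → m' ^ p ∉ gam G (i + 1 + p))
    (m : G) (hm : m ∈ gam G i) (hm' : m ∉ gam G (i + 1)) : m ^ p ∉ gam G (i + p) := by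
  have hp : p.Prime := Fact.out
  have hp3 : 3 ≤ p := by have := hp.two_le; omega
  have hn : 3 ≤ n := by omega
  have hbot := h35_pg_bot p n hG x hC (by omega)
  have hF3 := h35_pg_F3 p n hG x hC hn hx
  have hx1 : x ∈ gam G 1 := by unfold gam; simp
  have hc1 : com m x ∈ gam G (i + 1) := com_mem hm hx1
  have hc2 : com m x ∉ gam G (i + 2) := h35_pg_uniserial p n hG x hC i hi (by omega) m hm hm'
  have hcp := ih (com m x) hc1 hc2
  have hΓ := h35_pg_lcs_K (G := G) i
  have hni : n ≤ (n + 1) * i := by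
    calc n ≤ (n + 1) * 1 := by omega
      _ ≤ (n + 1) * i := Nat.mul_le_mul_left _ (by omega)
  have hcK : (⊤ : Subgroup ↥(gam G i)).lowerCentralSeries n = ⊥ := by
    rw [← Subgroup.map_eq_bot_iff_of_injective _ (gam G i).subtype_injective,
      Subgroup.top_subtype_lowerCentralSeries]
    exact le_bot_iff.1 ((hbot ((n + 1) * i) hni) ▸ hΓ n)
  have hmemG : ∀ k, 2 ≤ k → ∀ a ∈ gam ↥(gam G i) k, (a : G) ∈ gam G (k * i) := by
    intro k hk a ha
    have h := hΓ (k - 1)
    have e : (k - 1 + 1) * i = k * i := by rw [Nat.sub_add_cancel (by omega)]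
    rw [e] at h
    apply h
    rw [← Subgroup.top_subtype_lowerCentralSeries]
    exact Subgroup.mem_map_of_mem _ ha
  obtain ⟨z, hz, hzeq⟩ := hall_petrescu_mem n hcK
    ((gam G (i + p + 1)).subgroupOf (gam G i)) p
    (by
      intro k hk hkn a ha
      rw [Subgroup.mem_subgroupOf, Subgroup.coe_pow]
      have haG := hmemG k hk a ha
      have hki : 2 * i ≤ k * i := Nat.mul_le_mul_right i hk
      rcases lt_trichotomy k p with hlt | heq | hgt
      · obtain ⟨t, ht⟩ := hp.dvd_choose_self (by omega) hlt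
        rw [ht, pow_mul]
        have := hF3 (k * i) (by omega) (a : G) haG
        exact Subgroup.pow_mem _ (gam_antitone (by omega) this) t
      · rw [heq, Nat.choose_self, pow_one]
        rw [heq] at haG
        have h1 : p * 2 ≤ p * i := Nat.mul_le_mul_left p hi
        have h2 : 3 * i ≤ p * i := Nat.mul_le_mul_right i hp3
        exact gam_antitone (by omega) haG
      · rw [Nat.choose_eq_zero_of_lt hgt, pow_zero]
        exact Subgroup.one_mem _)
    ⟨m, hm⟩ ⟨com m x, gam_antitone (by omega) hc1⟩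
  have hzG := congrArg Subtype.val hzeq
  simp only [Subgroup.coe_mul, Subgroup.coe_pow] at hzG
  have e1 : m * com m x = x⁻¹ * m * x := by unfold com; group
  have e2 : (x⁻¹ * m * x) ^ p = m ^ p * com (m ^ p) x := by
    have e3 : x⁻¹ * m * x = x⁻¹ * m * x⁻¹⁻¹ := by group
    rw [e3, conj_pow]
    unfold com
    group
  rw [e1, e2] at hzG
  have hkey : com (m ^ p) x = (com m x) ^ p * (z : G) :=
    mul_left_cancel (a := m ^ p) (by rw [hzG, mul_assoc])
  intro hcon
  have h1 : com (m ^ p) x ∈ gam G (i + p + 1) := com_mem hcon hx1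
  rw [hkey] at h1
  have hzm : (z : G) ∈ gam G (i + p + 1) := Subgroup.mem_subgroupOf.1 hz
  have h2 : (com m x) ^ p ∈ gam G (i + p + 1) := by
    have := Subgroup.mul_mem _ h1 (Subgroup.inv_mem _ hzm)
    simpa using this
  apply hcp
  have e : i + 1 + p = i + p + 1 := by omega
  rw [e]
  exact h2

/-- F4, in the shape of the `hpow` hypothesis of the JUMP interfaces. -/
theorem h35_pg_F4 [Finite G] (p : ℕ) [Fact p.Prime] (hp2 : p ≠ 2) (n : ℕ)
    (hG : Nat.card G = p ^ n) (x : G)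
    (hC : Nat.card (Subgroup.centralizer ({x} : Set G)) = p ^ 2) (hx : x ^ p = 1) :
    ∀ i, 2 ≤ i → i + p ≤ n → ∀ m ∈ gam G i, m ∉ gam G (i + 1) →
      m ^ p ∈ gam G (i + p - 1) ∧ m ^ p ∉ gam G (i + p) := by
  have hp : p.Prime := Fact.out
  have hp2' := hp.two_le
  have key : ∀ d, ∀ i, 2 ≤ i → i + p + d = n → ∀ m ∈ gam G i, m ∉ gam G (i + 1) →
      m ^ p ∉ gam G (i + p) := by
    intro d
    induction d with
    | zero =>
      intro i hi hin m hm hm'
      exact h35_pg_F4_base p n hG x hC hx i hi (by omega) m hm hm'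
    | succ d ih =>
      intro i hi hin m hm hm'
      exact h35_pg_F4_step p hp2 n hG x hC hx i hi (by omega)
        (fun m' h1 h2 => ih (i + 1) (by omega) (by omega) m' h1 h2) m hm hm'
  intro i hi hin m hm hm'
  have hn : 3 ≤ n := by omega
  exact ⟨h35_pg_F3 p n hG x hC hn hx i hi m hm, key (n - (i + p)) i hi (by omega) m hm hm'⟩

end Cfsg.Agent.Lib.helper35.PearlG
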