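import Mathlib
import Cfsg.Agent.Lib.helper44.SL3Defs

/-! S2287 piece FLDc: the field with four elements. -/

set_option autoImplicit false

namespace Cfsg.Agent.Lib.helper35.SL3FLDc

theorem h35_two_eq_zero {F : Type*} [Field F] [Fintype F] (hcard : Fintype.card F = 4) :
    (2 : F) = 0 := by
  have h4 : ((Fintype.card F : ℕ) : F) = 0 := FiniteField.cast_card_eq_zero F
  rw [hcard] at h4
  have h22 : (2 : F) * 2 = 0 := by
    have : ((4 : ℕ) : F) = 2 * 2 := by norm_num
    rw [← this]; exact h4
  exact mul_self_eq_zero.mp h22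

theorem h35_sq_of_cube {F : Type*} [Field F] (h2 : (2 : F) = 0) (w : F) (hw1 : w ≠ 1)
    (hw3 : w ^ 3 = 1) : w ^ 2 = w + 1 := by
  have h1 : (w - 1) * (w ^ 2 + w + 1) = 0 := by
    have : (w - 1) * (w ^ 2 + w + 1) = w ^ 3 - 1 := by ring
    rw [this, hw3, sub_self]
  rcases mul_eq_zero.mp h1 with h | h
  · exact absurd (sub_eq_zero.mp h) hw1
  · linear_combination h - (w + 1) * h2

end Cfsg.Agent.Lib.helper35.SL3FLDc

namespace Cfsg.Agent.Lib.helper44.SL3

open Cfsg.Agent.Lib.helper35.SL3FLDc

-- FLDc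
theorem four_prim {F : Type*} [Field F] [Fintype F] (hcard : Fintype.card F = 4) :
    ∃ ω : Fˣ, (ω : F) ^ 2 = ω + 1 := by
  classical
  have h2 : (2 : F) = 0 := h35_two_eq_zero hcard
  have hu : Fintype.card Fˣ = 3 := by
    rw [Fintype.card_units, hcard]
  have hnt : ∃ ω : Fˣ, ω ≠ 1 := by
    by_contra hcon
    have hall : ∀ ω : Fˣ, ω = 1 := fun ω => by
      by_contra h
      exact hcon ⟨ω, h⟩
    have : Fintype.card Fˣ ≤ 1 := Fintype.card_le_one_iff.mpr (fun a b => by rw [hall a, hall b])
    omega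
  obtain ⟨ω, hω1⟩ := hnt
  refine ⟨ω, ?_⟩
  have hω3 : ω ^ 3 = 1 := by
    rw [← hu]; exact pow_card_eq_one
  apply h35_sq_of_cube h2
  · intro h
    apply hω1
    exact Units.ext (by rw [h, Units.val_one])
  · rw [← Units.val_pow_eq_pow_val, hω3, Units.val_one]

-- FLDc
theorem four_adjoin {F : Type*} [Field F] [Fintype F] [Algebra (ZMod 2) F]
    (hcard : Fintype.card F = 4) (ω : F) (hω : ω ^ 2 = ω + 1) :
    Algebra.adjoin (ZMod 2) {ω} = ⊤ ∧ ω ≠ 0 ∧ ω ^ 3 = 1 ∧ CharP F 2 ∧
      ∀ a : F, a = 0 ∨ a = 1 ∨ a = ω ∨ a = ω + 1 := by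
  classical
  have h2 : (2 : F) = 0 := h35_two_eq_zero hcard
  have hchar : CharP F 2 := CharTwo.of_one_ne_zero_of_two_eq_zero one_ne_zero h2
  have hω0 : ω ≠ 0 := by
    intro h
    have : (1 : F) = 0 := by
      rw [h] at hω
      linear_combination -hω
    exact one_ne_zero this
  have hω1 : ω ≠ 1 := by
    intro h
    have : (1 : F) = 0 := by
      rw [h] at hω
      linear_combination -hω
    exact one_ne_zero this
  have hω3 : ω ^ 3 = 1 := by linear_combination (ω + 1) * hω + ω * h2
  have hall : ∀ a : F, a = 0 ∨ a = 1 ∨ a = ω ∨ a = ω + 1 := by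
    have hcardS : ({0, 1, ω, ω + 1} : Finset F).card = 4 := by
      have e1 : (ω + 1) ≠ 0 := by
        intro h
        apply hω1
        linear_combination h - h2
      have e2 : (ω + 1) ≠ 1 := by
        intro h; apply hω0
        linear_combination h
      have e3 : (ω + 1) ≠ ω := by
        intro h
        have : (1 : F) = 0 := by linear_combination h
        exact one_ne_zero this
      rw [Finset.card_insert_of_notMem, Finset.card_insert_of_notMem, Finset.card_insert_of_notMem,
        Finset.card_singleton]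
      · simp only [Finset.mem_singleton]; exact fun h => e3 h.symm
      · simp only [Finset.mem_insert, Finset.mem_singleton, not_or]
        exact ⟨fun h => hω1 h.symm, fun h => e2 h.symm⟩
      · simp only [Finset.mem_insert, Finset.mem_singleton, not_or]
        exact ⟨zero_ne_one, fun h => hω0 h.symm, fun h => e1 h.symm⟩
    have huniv : ({0, 1, ω, ω + 1} : Finset F) = Finset.univ := by
      apply Finset.eq_univ_of_card
      rw [hcardS, hcard]
    intro a
    have ha : a ∈ ({0, 1, ω, ω + 1} : Finset F) := by rw [huniv]; exact Finset.mem_univ a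
    simpa only [Finset.mem_insert, Finset.mem_singleton] using ha
  refine ⟨?_, hω0, hω3, hchar, hall⟩
  rw [eq_top_iff]
  intro a _
  have hωm : ω ∈ Algebra.adjoin (ZMod 2) {ω} := Algebra.subset_adjoin (Set.mem_singleton ω)
  rcases hall a with h | h | h | h
  · rw [h]; exact Subalgebra.zero_mem _
  · rw [h]; exact Subalgebra.one_mem _
  · rw [h]; exact hωm
  · rw [h]; exact Subalgebra.add_mem _ hωm (Subalgebra.one_mem _)

end Cfsg.Agent.Lib.helper44.SL3
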