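import Mathlib
import Cfsg.Agent.Lib.helper44.SL3Defs

/-! S2287 piece MATp: the root subgroup `mX01` in `SL₃(F)` and its `polyWord`s. -/

set_option autoImplicit false

namespace Cfsg.Agent.Lib.helper35.SL3MAT

open Polynomial Cfsg.Agent.Lib.helper44 Cfsg.Agent.Lib.helper44.SL3

theorem h35_mC_val {F : Type*} [Field F] :
    (mC F : Matrix (Fin 3) (Fin 3) F) = !![0, 0, 1; 1, 0, 0; 0, 1, 0] := rfl

theorem h35_mH3_val {F : Type*} [Field F] (ω : Fˣ) :
    (mH3 ω : Matrix (Fin 3) (Fin 3) F) = !![(ω : F), 0, 0; 0, 1, 0; 0, 0, ((ω⁻¹ : Fˣ) : F)] := rfl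

theorem h35_mC_mul_single {F : Type*} [Field F] (i j : Fin 3) (a : F) :
    (mC F : Matrix (Fin 3) (Fin 3) F) * Matrix.single i j a =
      Matrix.single (i + 1) (j + 1) a * (mC F : Matrix (Fin 3) (Fin 3) F) := by
  rw [h35_mC_val]
  ext r s
  fin_cases i <;> fin_cases j <;> fin_cases r <;> fin_cases s <;>
    simp [Matrix.mul_apply, Matrix.single_apply]

/-- Conjugation by the 3-cycle shifts the indices of a transvection. -/
theorem h35_mC_conj {F : Type*} [Field F] (i j : Fin 3) (hij : i ≠ j)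
    (hij' : i + 1 ≠ j + 1) (a : F) :
    mC F * Matrix.SpecialLinearGroup.transvection hij a * (mC F)⁻¹ =
      Matrix.SpecialLinearGroup.transvection hij' a := by
  rw [mul_inv_eq_iff_eq_mul]
  apply Subtype.ext
  simp only [Matrix.SpecialLinearGroup.coe_mul, Matrix.SpecialLinearGroup.transvection_coe,
    mul_add, add_mul, mul_one, one_mul, h35_mC_mul_single]

theorem h35_mH3_mul_single {F : Type*} [Field F] (ω : Fˣ) (i j : Fin 3) (a : F) :
    (mH3 ω : Matrix (Fin 3) (Fin 3) F) * Matrix.single i j a =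
      Matrix.single i j ((![(ω : F), 1, ((ω⁻¹ : Fˣ) : F)] i) *
        (![((ω⁻¹ : Fˣ) : F), 1, (ω : F)] j) * a) * (mH3 ω : Matrix (Fin 3) (Fin 3) F) := by
  rw [h35_mH3_val]
  have hω0 : (ω : F) ≠ 0 := ω.ne_zero
  ext r s
  fin_cases i <;> fin_cases j <;> fin_cases r <;> fin_cases s <;>
    simp [Matrix.mul_apply, Matrix.single_apply] <;> field_simp

/-- Conjugation by the torus element scales a transvection. -/
theorem h35_mH3_conj {F : Type*} [Field F] (ω : Fˣ) (i j : Fin 3) (hij : i ≠ j) (a : F) :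
    mH3 ω * Matrix.SpecialLinearGroup.transvection hij a * (mH3 ω)⁻¹ =
      Matrix.SpecialLinearGroup.transvection hij
        ((![(ω : F), 1, ((ω⁻¹ : Fˣ) : F)] i) * (![((ω⁻¹ : Fˣ) : F), 1, (ω : F)] j) * a) := by
  rw [mul_inv_eq_iff_eq_mul]
  apply Subtype.ext
  simp only [Matrix.SpecialLinearGroup.coe_mul, Matrix.SpecialLinearGroup.transvection_coe,
    mul_add, add_mul, mul_one, one_mul, h35_mH3_mul_single]

theorem h35_mX01_zero {F : Type*} [Field F] : mX01 F 0 = 1 :=
  Matrix.SpecialLinearGroup.transvection_coeff_zero _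

theorem h35_mH3_conj01 {F : Type*} [Field F] (ω : Fˣ) (a : F) :
    mH3 ω * mX01 F a * (mH3 ω)⁻¹ = mX01 F ((ω : F) * a) := by
  have h := h35_mH3_conj ω 0 1 (by decide) a
  have e : (![(ω : F), 1, ((ω⁻¹ : Fˣ) : F)] 0) * (![((ω⁻¹ : Fˣ) : F), 1, (ω : F)] 1) * a =
      (ω : F) * a := by
    simp
  rw [e] at h
  exact h

theorem h35_mH3_pow_conj01 {F : Type*} [Field F] (ω : Fˣ) (n : ℕ) (a : F) :
    mH3 ω ^ n * mX01 F a * (mH3 ω ^ n)⁻¹ = mX01 F ((ω : F) ^ n * a) := by
  induction n generalizing a with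
  | zero => simp
  | succ n ih =>
    have e : mH3 ω ^ (n + 1) * mX01 F a * (mH3 ω ^ (n + 1))⁻¹ =
        mH3 ω * (mH3 ω ^ n * mX01 F a * (mH3 ω ^ n)⁻¹) * (mH3 ω)⁻¹ := by
      rw [pow_succ']
      group
    rw [e, ih, h35_mH3_conj01, ← mul_assoc, ← pow_succ']

theorem h35_mH3_one {F : Type*} [Field F] :
    mH3 (1 : Fˣ) = (1 : Matrix.SpecialLinearGroup (Fin 3) F) := by
  apply Subtype.ext
  rw [h35_mH3_val]
  simp [Matrix.one_fin_three]

end Cfsg.Agent.Lib.helper35.SL3MAT

namespace Cfsg.Agent.Lib.helper44.SL3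

open Polynomial Cfsg.Agent.Lib.helper35.SL3MAT

-- MATp
theorem mX01_add {F : Type*} [Field F] (a b : F) : mX01 F (a + b) = mX01 F a * mX01 F b :=
  Matrix.SpecialLinearGroup.transvection_add _ a b

-- MATp
theorem mX01_pow {F : Type*} [Field F] (a : F) (k : ℕ) : mX01 F a ^ k = mX01 F (k • a) := by
  induction k with
  | zero => rw [pow_zero, zero_smul, h35_mX01_zero]
  | succ k ih => rw [pow_succ, ih, ← mX01_add, succ_nsmul]

-- MATp
theorem polyWord_mX01 {F : Type*} [Field F] {p : ℕ} [Fact p.Prime] [Algebra (ZMod p) F]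
    (ω : Fˣ) (f : (ZMod p)[X]) :
    Pres.polyWord (mH3 ω) (mX01 F 1) f = mX01 F (aeval (ω : F) f) := by
  have hp : NeZero p := ⟨(Fact.out : p.Prime).ne_zero⟩
  have key : ∀ N : ℕ, ((List.range N).map fun n =>
      (mH3 ω ^ n * mX01 F 1 * (mH3 ω ^ n)⁻¹) ^ (f.coeff n).val).prod =
      mX01 F (∑ n ∈ Finset.range N, algebraMap (ZMod p) F (f.coeff n) * (ω : F) ^ n) := by
    intro N
    induction N with
    | zero => simp [h35_mX01_zero]
    | succ N ih =>
      rw [List.range_succ, List.map_append, List.prod_append, ih, Finset.sum_range_succ]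
      simp only [List.map_cons, List.map_nil, List.prod_cons, List.prod_nil, mul_one]
      rw [h35_mH3_pow_conj01, mul_one, mX01_pow, ← mX01_add]
      congr 2
      have h1 : algebraMap (ZMod p) F (f.coeff N) = ((f.coeff N).val : F) := by
        conv_lhs => rw [← ZMod.natCast_zmod_val (f.coeff N)]
        rw [map_natCast]
      rw [h1, nsmul_eq_mul]
  unfold Pres.polyWord
  rw [key, aeval_eq_sum_range]
  congr 1
  apply Finset.sum_congr rfl
  intro n _
  rw [Algebra.smul_def]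

-- MATp
theorem polyWord_mX01_one {F : Type*} [Field F] {p : ℕ} [Fact p.Prime] [Algebra (ZMod p) F]
    (f : (ZMod p)[X]) :
    Pres.polyWord (1 : Matrix.SpecialLinearGroup (Fin 3) F) (mX01 F 1) f =
      mX01 F (aeval (1 : F) f) := by
  have h := polyWord_mX01 (F := F) (1 : Fˣ) f
  rw [h35_mH3_one, Units.val_one] at h
  exact h

end Cfsg.Agent.Lib.helper44.SL3
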