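import Mathlib
import Cfsg.Agent.Lib.helper44.SL3Defs
import Cfsg.Agent.Lib.helper45.SLGen
import Cfsg.Agent.Lib.helper35.SL3MATp

/-! S2287 piece MATs: the Steinberg relators and the relator `R11` hold in `SL₃(F)`. -/

set_option autoImplicit false

namespace Cfsg.Agent.Lib.helper35.SL3MAT

open Cfsg.Agent.Lib.helper44 Cfsg.Agent.Lib.helper44.SL3 Matrix

/-- Two transvections with "disjoint" indices commute. -/
theorem h35_transv_comm {F : Type*} [Field F] {i j k l : Fin 3} (hij : i ≠ j) (hkl : k ≠ l)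
    (hjk : j ≠ k) (hli : l ≠ i) (a b : F) :
    Matrix.SpecialLinearGroup.transvection hij a * Matrix.SpecialLinearGroup.transvection hkl b =
      Matrix.SpecialLinearGroup.transvection hkl b * Matrix.SpecialLinearGroup.transvection hij a := by
  apply Subtype.ext
  simp only [Matrix.SpecialLinearGroup.coe_mul, Matrix.SpecialLinearGroup.transvection_coe, mul_add, add_mul,
    mul_one, one_mul, single_mul_single_of_ne _ _ _ _ hjk, single_mul_single_of_ne _ _ _ _ hli,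
    add_zero]
  abel

theorem h35_cm_one {G : Type*} [Group G] {a b : G} (h : a * b = b * a) : cm a b = 1 := by
  unfold cm
  rw [h]
  group

theorem h35_C_01 {F : Type*} [Field F] (a : F) :
    mC F * mX01 F a * (mC F)⁻¹ =
      Matrix.SpecialLinearGroup.transvection (show (1 : Fin 3) ≠ 2 by decide) a :=
  h35_mC_conj 0 1 (by decide) (by decide) a

theorem h35_C_21 {F : Type*} [Field F] (a : F) :
    mC F * Matrix.SpecialLinearGroup.transvection (show (2 : Fin 3) ≠ 1 by decide) a * (mC F)⁻¹ =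
      Matrix.SpecialLinearGroup.transvection (show (0 : Fin 3) ≠ 2 by decide) a :=
  h35_mC_conj 2 1 (by decide) (by decide) a

theorem h35_C_10 {F : Type*} [Field F] (a : F) :
    mC F * Matrix.SpecialLinearGroup.transvection (show (1 : Fin 3) ≠ 0 by decide) a * (mC F)⁻¹ =
      Matrix.SpecialLinearGroup.transvection (show (2 : Fin 3) ≠ 1 by decide) a :=
  h35_mC_conj 1 0 (by decide) (by decide) a

theorem h35_C_02 {F : Type*} [Field F] (a : F) :
    mC F * Matrix.SpecialLinearGroup.transvection (show (0 : Fin 3) ≠ 2 by decide) a * (mC F)⁻¹ =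
      Matrix.SpecialLinearGroup.transvection (show (1 : Fin 3) ≠ 0 by decide) a :=
  h35_mC_conj 0 2 (by decide) (by decide) a

theorem h35_H_21 {F : Type*} [Field F] (ω : Fˣ) (a : F) :
    mH3 ω * Matrix.SpecialLinearGroup.transvection (show (2 : Fin 3) ≠ 1 by decide) a * (mH3 ω)⁻¹ =
      Matrix.SpecialLinearGroup.transvection (show (2 : Fin 3) ≠ 1 by decide) ((ω : F)⁻¹ * a) := by
  have h := h35_mH3_conj ω 2 1 (by decide) a
  have e : (![(ω : F), 1, ((ω⁻¹ : Fˣ) : F)] 2) * (![((ω⁻¹ : Fˣ) : F), 1, (ω : F)] 1) * a =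
      (ω : F)⁻¹ * a := by
    simp
  rw [e] at h
  exact h

theorem h35_H_10 {F : Type*} [Field F] (ω : Fˣ) (a : F) :
    mH3 ω * Matrix.SpecialLinearGroup.transvection (show (1 : Fin 3) ≠ 0 by decide) a * (mH3 ω)⁻¹ =
      Matrix.SpecialLinearGroup.transvection (show (1 : Fin 3) ≠ 0 by decide) ((ω : F)⁻¹ * a) := by
  have h := h35_mH3_conj ω 1 0 (by decide) a
  have e : (![(ω : F), 1, ((ω⁻¹ : Fˣ) : F)] 1) * (![((ω⁻¹ : Fˣ) : F), 1, (ω : F)] 0) * a =
      (ω : F)⁻¹ * a := by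
    simp
  rw [e] at h
  exact h

/-- `wy` is `x₂₃`. -/
theorem h35_wy {F : Type*} [Field F] (a : F) :
    wy (mX01 F a) (mC F) =
      Matrix.SpecialLinearGroup.transvection (show (1 : Fin 3) ≠ 2 by decide) a :=
  h35_C_01 a

/-- `wz` is `x₁₃(1)`. -/
theorem h35_wz {F : Type*} [Field F] :
    wz (mX01 F 1) (mC F) =
      Matrix.SpecialLinearGroup.transvection (show (0 : Fin 3) ≠ 2 by decide) (1 : F) := by
  unfold wz cm
  rw [h35_C_01]
  have h := Cfsg.Agent.Lib.helper45.transvection_comm (F := F) (show (0 : Fin 3) ≠ 1 by decide)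
    (show (1 : Fin 3) ≠ 2 by decide) (show (0 : Fin 3) ≠ 2 by decide) 1 1
  rw [mul_one] at h
  exact h

/-- `c² x₁₃ c⁻² = x₃₂`. -/
theorem h35_CC_02 {F : Type*} [Field F] (a : F) :
    mC F * mC F * Matrix.SpecialLinearGroup.transvection (show (0 : Fin 3) ≠ 2 by decide) a *
      (mC F * mC F)⁻¹ = Matrix.SpecialLinearGroup.transvection (show (2 : Fin 3) ≠ 1 by decide) a := by
  have e : mC F * mC F * Matrix.SpecialLinearGroup.transvection (show (0 : Fin 3) ≠ 2 by decide) a *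
      (mC F * mC F)⁻¹ = mC F * (mC F *
        Matrix.SpecialLinearGroup.transvection (show (0 : Fin 3) ≠ 2 by decide) a * (mC F)⁻¹) *
        (mC F)⁻¹ := by
    group
  rw [e, h35_C_02, h35_C_10]

/-- `k = c h c⁻¹` acts on `x₁₃` by `ω⁻¹`. -/
theorem h35_K_02 {F : Type*} [Field F] (ω : Fˣ) (a : F) :
    wk (mH3 ω) (mC F) * Matrix.SpecialLinearGroup.transvection (show (0 : Fin 3) ≠ 2 by decide) a *
      (wk (mH3 ω) (mC F))⁻¹ =
      Matrix.SpecialLinearGroup.transvection (show (0 : Fin 3) ≠ 2 by decide) ((ω : F)⁻¹ * a) := by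
  unfold wk
  rw [← h35_C_21 a, ← h35_C_21 ((ω : F)⁻¹ * a), ← h35_H_21 ω a]
  group

/-- `k' = c² h c⁻²` acts on `x₁₃` by `ω⁻¹`. -/
theorem h35_K'_02 {F : Type*} [Field F] (ω : Fˣ) (a : F) :
    wk' (mH3 ω) (mC F) * Matrix.SpecialLinearGroup.transvection (show (0 : Fin 3) ≠ 2 by decide) a *
      (wk' (mH3 ω) (mC F))⁻¹ =
      Matrix.SpecialLinearGroup.transvection (show (0 : Fin 3) ≠ 2 by decide) ((ω : F)⁻¹ * a) := by
  unfold wk'
  rw [← h35_C_21 a, ← h35_C_21 ((ω : F)⁻¹ * a), ← h35_C_10 a, ← h35_C_10 ((ω : F)⁻¹ * a),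
    ← h35_H_10 ω a]
  group

end Cfsg.Agent.Lib.helper35.SL3MAT

namespace Cfsg.Agent.Lib.helper44.SL3

open Cfsg.Agent.Lib.helper35.SL3MAT Matrix

-- MATs
theorem mat_steinberg {F : Type*} [Field F] :
    cm (mX01 F 1) (wz (mX01 F 1) (mC F)) = 1 ∧
    cm (wy (mX01 F 1) (mC F)) (wz (mX01 F 1) (mC F)) = 1 ∧
    cm (wz (mX01 F 1) (mC F)) (mC F * mC F * wz (mX01 F 1) (mC F) * (mC F * mC F)⁻¹) =
      mX01 F 1 := by
  rw [h35_wz, h35_wy, h35_CC_02]
  refine ⟨?_, ?_, ?_⟩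
  · exact h35_cm_one (h35_transv_comm _ _ (by decide) (by decide) 1 1)
  · exact h35_cm_one (h35_transv_comm _ _ (by decide) (by decide) 1 1)
  · have h := Cfsg.Agent.Lib.helper45.transvection_comm (F := F) (show (0 : Fin 3) ≠ 2 by decide)
      (show (2 : Fin 3) ≠ 1 by decide) (show (0 : Fin 3) ≠ 1 by decide) 1 1
    rw [mul_one] at h
    exact h

-- MATs
theorem mat_r11 {F : Type*} [Field F] (ω : Fˣ) :
    cm (wk' (mH3 ω) (mC F) * (wk (mH3 ω) (mC F))⁻¹) (wz (mX01 F 1) (mC F)) = 1 := by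
  rw [h35_wz]
  have hω : (ω : F)⁻¹ * (ω : F) = 1 := inv_mul_cancel₀ ω.ne_zero
  have e1 := h35_K_02 ω (ω : F)
  have e2 := h35_K'_02 ω (ω : F)
  rw [hω] at e1 e2
  calc cm (wk' (mH3 ω) (mC F) * (wk (mH3 ω) (mC F))⁻¹)
        (Matrix.SpecialLinearGroup.transvection (show (0 : Fin 3) ≠ 2 by decide) (1 : F))
      = wk' (mH3 ω) (mC F) * (wk (mH3 ω) (mC F))⁻¹ *
          (wk (mH3 ω) (mC F) *
            Matrix.SpecialLinearGroup.transvection (show (0 : Fin 3) ≠ 2 by decide) (ω : F) *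
            (wk (mH3 ω) (mC F))⁻¹) * (wk' (mH3 ω) (mC F) * (wk (mH3 ω) (mC F))⁻¹)⁻¹ *
          (wk' (mH3 ω) (mC F) *
            Matrix.SpecialLinearGroup.transvection (show (0 : Fin 3) ≠ 2 by decide) (ω : F) *
            (wk' (mH3 ω) (mC F))⁻¹)⁻¹ := by
        rw [e1, e2]
        rfl
    _ = 1 := by group

end Cfsg.Agent.Lib.helper44.SL3
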