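import Mathlib
import Cfsg.Agent.Lib.helper69.SNDefs

/-!
S4073 split (architect helper69), piece E1-B `sn_sylow2_fusion_noncenter` (helper35, parallel copy):
verbatim Skel statement in `Cfsg.Agent.Lib.helper35.SNG`.
-/

set_option autoImplicit false

namespace Cfsg.Agent.Lib.helper35.SNG

open Cfsg.Agent.Lib.helper69.SNG
open scoped Pointwise

universe u

/-- membership in a conjugate Sylow subgroup -/
theorem h35_mem_smul_sylow {G : Type u} [Group G] {p : ℕ} (g x : G) (P : Sylow p G) :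
    x ∈ (g • P : Sylow p G) ↔ g⁻¹ * x * g ∈ P := by
  have h1 : x ∈ (g • P : Sylow p G) ↔ x ∈ (MulAut.conj g • (P : Subgroup G)) := Iff.rfl
  rw [h1, Subgroup.mem_pointwise_smul_iff_inv_smul_mem]
  have h2 : (MulAut.conj g)⁻¹ • x = g⁻¹ * x * g := by simp [MulAut.smul_def]
  rw [h2]
  exact Iff.rfl

/-- a subgroup of index 2 (by cardinality) is normalized -/
theorem h35_le_normalizer_of_two_mul_card {G : Type u} [Group G] [Finite G] (M K : Subgroup G)
    (hMK : M ≤ K) (hc : 2 * Nat.card M = Nat.card K) : K ≤ Subgroup.normalizer (M : Set G) := by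
  have h1 : Nat.card (M.subgroupOf K) = Nat.card M :=
    Nat.card_congr (Subgroup.subgroupOfEquivOfLe hMK).toEquiv
  have h2 := (M.subgroupOf K).card_mul_index
  rw [h1] at h2
  have hpos : 0 < Nat.card M := Nat.card_pos
  have hidx : (M.subgroupOf K).index = 2 := by
    have : Nat.card M * (M.subgroupOf K).index = Nat.card M * 2 := by rw [h2, ← hc, mul_comm]
    exact Nat.eq_of_mul_eq_mul_left hpos this
  have hn : (M.subgroupOf K).Normal := Subgroup.normal_of_index_eq_two hidx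
  exact (Subgroup.normal_subgroupOf_iff_le_normalizer hMK).mp hn

/-- product decomposition in `O ⊔ S` when `S` normalizes `O` -/
theorem h35_mem_sup_of_le_normalizer {G : Type u} [Group G] (O S : Subgroup G)
    (hS : S ≤ Subgroup.normalizer (O : Set G)) (x : G) (hx : x ∈ O ⊔ S) :
    ∃ o ∈ O, ∃ s ∈ S, x = o * s := by
  have hcl : O ⊔ S = Subgroup.closure ((O : Set G) ∪ (S : Set G)) := by
    rw [Subgroup.closure_union, Subgroup.closure_eq, Subgroup.closure_eq]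
  rw [hcl] at hx
  have hconj : ∀ s ∈ S, ∀ o ∈ O, s * o * s⁻¹ ∈ O := by
    intro s hs o ho
    exact (Subgroup.mem_normalizer_iff.mp (hS hs) o).mp ho
  induction hx using Subgroup.closure_induction with
  | mem y hy =>
    rcases hy with hy | hy
    · exact ⟨y, hy, 1, S.one_mem, (mul_one y).symm⟩
    · exact ⟨1, O.one_mem, y, hy, (one_mul y).symm⟩
  | one => exact ⟨1, O.one_mem, 1, S.one_mem, (mul_one 1).symm⟩
  | mul y w _ _ ihy ihw =>
    obtain ⟨o₁, ho₁, s₁, hs₁, rfl⟩ := ihy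
    obtain ⟨o₂, ho₂, s₂, hs₂, rfl⟩ := ihw
    refine ⟨o₁ * (s₁ * o₂ * s₁⁻¹), O.mul_mem ho₁ (hconj s₁ hs₁ o₂ ho₂), s₁ * s₂,
      S.mul_mem hs₁ hs₂, ?_⟩
    group
  | inv y _ ihy =>
    obtain ⟨o, ho, s, hs, rfl⟩ := ihy
    refine ⟨s⁻¹ * o⁻¹ * s⁻¹⁻¹, hconj s⁻¹ (S.inv_mem hs) o⁻¹ (O.inv_mem ho), s⁻¹,
      S.inv_mem hs, ?_⟩
    group

/-- **[E1-B]** -/
theorem sn_sylow2_fusion_noncenter {G : Type u} [Group G] [Finite G] [IsSimpleGroup G]
    (hna : ¬ IsMulCommutative G) (h : SN G) (S : Sylow 2 G) (hS : ¬ IsMulCommutative S)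
    (hP2N : ∀ (K : Subgroup G), K ≠ ⊤ → ∀ T : Sylow 2 G, (T : Subgroup G) ≤ K →
      ∃ O : Subgroup G, O ≤ K ∧ K ≤ Subgroup.normalizer (O : Set G) ∧ Odd (Nat.card O) ∧
        O ⊔ (T : Subgroup G) = K)
    (z : G) (hzS : z ∈ S) (hz1 : z ≠ 1)
    (hz : z ∈ Subgroup.centralizer ((S : Subgroup G) : Set G)) (g : G)
    (hgS : g * z * g⁻¹ ∈ S)
    (hM : 2 * Nat.card ↥((S : Subgroup G) ⊓ Subgroup.centralizer ({g * z * g⁻¹} : Set G))
      = Nat.card S) : False := by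
  have _ := hna
  have _ := h
  have _ := hS
  have : Fact (Nat.Prime 2) := ⟨Nat.prime_two⟩
  obtain ⟨z', hz'⟩ : ∃ z' : G, z' = g * z * g⁻¹ := ⟨_, rfl⟩
  rw [← hz'] at hgS hM
  -- membership in `L = C_G(z')`
  have hL : ∀ x : G, x ∈ Subgroup.centralizer ({z'} : Set G) ↔ z' * x = x * z' := by
    intro x
    rw [Subgroup.mem_centralizer_iff]
    simp
  have hzc : ∀ x ∈ (S : Subgroup G), x * z = z * x :=
    fun x hx => Subgroup.mem_centralizer_iff.mp hz x hx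
  -- `M₁`
  obtain ⟨M₁, hM₁⟩ : ∃ M₁ : Subgroup G,
      M₁ = (S : Subgroup G) ⊓ Subgroup.centralizer ({z'} : Set G) := ⟨_, rfl⟩
  rw [← hM₁] at hM
  have hM₁S : M₁ ≤ (S : Subgroup G) := hM₁ ▸ inf_le_left
  have hM₁L : M₁ ≤ Subgroup.centralizer ({z'} : Set G) := hM₁ ▸ inf_le_right
  have hzM : z ∈ M₁ := by
    rw [hM₁]
    exact ⟨hzS, (hL z).mpr (hzc z' hgS)⟩
  have hz'M : z' ∈ M₁ := by
    rw [hM₁]
    exact ⟨hgS, (hL z').mpr rfl⟩
  -- `S₁ = g • S ≤ L`
  have hS₁L : ((g • S : Sylow 2 G) : Subgroup G) ≤ Subgroup.centralizer ({z'} : Set G) := by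
    intro x hx
    have hx' : g⁻¹ * x * g ∈ S := (h35_mem_smul_sylow g x S).mp hx
    rw [hL, hz']
    have h1 := hzc _ hx'
    calc g * z * g⁻¹ * x = g * (z * (g⁻¹ * x * g)) * g⁻¹ := by group
      _ = g * (g⁻¹ * x * g * z) * g⁻¹ := by rw [h1]
      _ = x * (g * z * g⁻¹) := by group
  -- Sylow's theorem in `L`
  have hSp : IsPGroup 2 (S : Subgroup G) := S.isPGroup'
  have hM₁p : IsPGroup 2 M₁ := hSp.to_le hM₁S
  obtain ⟨Q, hQ⟩ :=
    (hM₁p.comap_subtype (K := Subgroup.centralizer ({z'} : Set G))).exists_le_sylow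
  obtain ⟨k, hk⟩ := MulAction.exists_smul_eq (Subgroup.centralizer ({z'} : Set G))
    ((g • S : Sylow 2 G).subtype hS₁L) Q
  rw [Sylow.smul_subtype] at hk
  obtain ⟨S₂, hS₂⟩ : ∃ S₂ : Sylow 2 G, S₂ = k • (g • S : Sylow 2 G) := ⟨_, rfl⟩
  have hS₂L : (S₂ : Subgroup G) ≤ Subgroup.centralizer ({z'} : Set G) := by
    rw [hS₂]; exact Sylow.smul_le hS₁L k
  have hM₁S₂ : M₁ ≤ (S₂ : Subgroup G) := by
    intro m hm
    have h1 : (⟨m, hM₁L hm⟩ : Subgroup.centralizer ({z'} : Set G)) ∈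
        M₁.comap (Subgroup.centralizer ({z'} : Set G)).subtype := by
      rw [Subgroup.mem_comap]; exact hm
    have h2 := hQ h1
    rw [← hk] at h2
    have h3 : (⟨m, hM₁L hm⟩ : Subgroup.centralizer ({z'} : Set G)) ∈
        ((k • (g • S : Sylow 2 G) : Sylow 2 G) : Subgroup G).subgroupOf _ := h2
    rw [Subgroup.mem_subgroupOf] at h3
    rw [hS₂]; exact h3
  have hcardS₂ : Nat.card (S₂ : Subgroup G) = Nat.card (S : Subgroup G) := by
    rw [Sylow.card_eq_multiplicity, Sylow.card_eq_multiplicity]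
  -- both `S` and `S₂` normalize `M₁`
  have hSN : (S : Subgroup G) ≤ Subgroup.normalizer (M₁ : Set G) :=
    h35_le_normalizer_of_two_mul_card M₁ S hM₁S hM
  have hS₂N : (S₂ : Subgroup G) ≤ Subgroup.normalizer (M₁ : Set G) :=
    h35_le_normalizer_of_two_mul_card M₁ S₂ hM₁S₂ (by rw [hcardS₂]; exact hM)
  have hNtop : Subgroup.normalizer (M₁ : Set G) ≠ ⊤ := by
    intro htop
    have hnorm : M₁.Normal := Subgroup.normalizer_eq_top_iff.mp htop
    rcases IsSimpleGroup.eq_bot_or_eq_top_of_normal M₁ hnorm with hb | ht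
    · rw [hb, Subgroup.mem_bot] at hzM; exact hz1 hzM
    · have h1 : Nat.card M₁ = Nat.card G := by rw [ht, Subgroup.card_top]
      have h2 : Nat.card (S : Subgroup G) ≤ Nat.card G := Subgroup.card_le_card_group _
      have h3 : 0 < Nat.card G := Nat.card_pos
      have h4 : 2 * Nat.card M₁ = Nat.card (S : Subgroup G) := hM
      omega
  obtain ⟨O, hON, hNO, hOodd, hOS⟩ := hP2N _ hNtop S hSN
  -- `O` centralizes `M₁`
  have hOM : O ⊓ M₁ = ⊥ := by
    apply disjoint_iff.mp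
    apply Subgroup.disjoint_of_coprime_natCard
    obtain ⟨j, hj⟩ := hM₁p.exists_card_eq
    rw [hj]
    exact (Nat.coprime_two_right.mpr hOodd).pow_right j
  have hOcomm : ∀ o ∈ O, ∀ m ∈ M₁, o * m = m * o := by
    intro o ho m hm
    have hmN : m ∈ Subgroup.normalizer (O : Set G) := hNO (hSN (hM₁S hm))
    have hoN : o ∈ Subgroup.normalizer (M₁ : Set G) := hON ho
    have h1 : m * o⁻¹ * m⁻¹ ∈ O := (Subgroup.mem_normalizer_iff.mp hmN o⁻¹).mp (O.inv_mem ho)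
    have h2 : o * m * o⁻¹ ∈ M₁ := (Subgroup.mem_normalizer_iff.mp hoN m).mp hm
    have h3 : o * m * o⁻¹ * m⁻¹ ∈ O ⊓ M₁ := by
      refine ⟨?_, M₁.mul_mem h2 (M₁.inv_mem hm)⟩
      have h4 : o * m * o⁻¹ * m⁻¹ = o * (m * o⁻¹ * m⁻¹) := by group
      rw [h4]; exact O.mul_mem ho h1
    rw [hOM, Subgroup.mem_bot] at h3
    have h5 : o * m = (o * m * o⁻¹ * m⁻¹) * (m * o) := by group
    rw [h5, h3, one_mul]
  -- Sylow's theorem in `N`
  obtain ⟨n, hn⟩ := MulAction.exists_smul_eq (Subgroup.normalizer (M₁ : Set G))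
    (S.subtype hSN) (S₂.subtype hS₂N)
  rw [Sylow.smul_subtype] at hn
  have hn' : (n • S : Sylow 2 G) = S₂ := Sylow.subtype_injective hn
  have hnmem : (n : G) ∈ O ⊔ (S : Subgroup G) := by rw [hOS]; exact n.2
  obtain ⟨o, ho, s, hs, hnos⟩ :=
    h35_mem_sup_of_le_normalizer O S (fun x hx => hNO (hSN hx)) _ hnmem
  -- `n⁻¹ z' n` centralizes `S`
  have hw : ∀ x ∈ (S : Subgroup G),
      ((n : G)⁻¹ * z' * n) * x = x * ((n : G)⁻¹ * z' * n) := by
    intro x hx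
    have hx2 : (n : G) * x * (n : G)⁻¹ ∈ (S₂ : Subgroup G) := by
      rw [← hn']
      have h1 : (n • S : Sylow 2 G) = ((n : G) • S : Sylow 2 G) := rfl
      rw [h1]
      apply (h35_mem_smul_sylow (n : G) _ S).mpr
      have h2 : (n : G)⁻¹ * ((n : G) * x * (n : G)⁻¹) * (n : G) = x := by group
      rw [h2]; exact hx
    have h1 := (hL _).mp (hS₂L hx2)
    calc ((n : G)⁻¹ * z' * n) * x = (n : G)⁻¹ * (z' * ((n : G) * x * (n : G)⁻¹)) * n := by group
      _ = (n : G)⁻¹ * ((n : G) * x * (n : G)⁻¹ * z') * n := by rw [h1]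
      _ = x * ((n : G)⁻¹ * z' * n) := by group
  have hoz : o * z' = z' * o := hOcomm o ho z' hz'M
  have hwz : (n : G)⁻¹ * z' * n = s⁻¹ * z' * s := by
    rw [hnos]
    calc (o * s)⁻¹ * z' * (o * s) = s⁻¹ * (o⁻¹ * (z' * o)) * s := by group
      _ = s⁻¹ * (o⁻¹ * (o * z')) * s := by rw [hoz]
      _ = s⁻¹ * z' * s := by group
  rw [hwz] at hw
  -- hence `z'` centralizes `S`
  have hzS' : ∀ y ∈ (S : Subgroup G), z' * y = y * z' := by
    intro y hy
    have h1 := hw (s⁻¹ * y * s)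
      ((S : Subgroup G).mul_mem ((S : Subgroup G).mul_mem ((S : Subgroup G).inv_mem hs) hy) hs)
    calc z' * y = s * ((s⁻¹ * z' * s) * (s⁻¹ * y * s)) * s⁻¹ := by group
      _ = s * ((s⁻¹ * y * s) * (s⁻¹ * z' * s)) * s⁻¹ := by rw [h1]
      _ = y * z' := by group
  have hMS : M₁ = (S : Subgroup G) := by
    rw [hM₁]
    apply le_antisymm inf_le_left
    intro y hy
    exact ⟨hy, (hL y).mpr (hzS' y hy)⟩
  rw [hMS] at hM
  have h1 : 0 < Nat.card (S : Subgroup G) := Nat.card_pos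
  have h2 : 2 * Nat.card (S : Subgroup G) = Nat.card (S : Subgroup G) := hM
  omega

end Cfsg.Agent.Lib.helper35.SNG
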