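/-
helper35: independent proof of KUNIQ (S5977/S5978 block [A]) by Witt induction -- part C: Witt step,
extension from the orthogonal complement, induction, matrix form.  `h35_sfk_uniq` has the verbatim
statement of `sfk_uniq` of helper59's skeleton.  All names carry the seat prefix `h35_`.
-/
import Mathlib
import Cfsg.Prelude.Def_Classical
import Cfsg.Prelude.Def_GeometricClasses
import Cfsg.Agent.Lib.helper49.WittIso
import Cfsg.Agent.Lib.helper35.SfkKUNIQb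

set_option autoImplicit false

namespace Cfsg.Agent.Lib.helper59.Sfk

open Matrix Cfsg.Geo

universe u

section h35abs

variable {F : Type u} [Field F] {V : Type u} [AddCommGroup V] [Module F V]

theorem h35_ku_li (Q : QuadraticForm F V) (a b : V)
    (hG : QuadraticMap.polar (⇑Q) a a * QuadraticMap.polar (⇑Q) b b
      - QuadraticMap.polar (⇑Q) a b ^ 2 ≠ 0) : LinearIndependent F ![a, b] := by
  rw [LinearIndependent.pair_iff]
  intro s t hst
  have e1 : QuadraticMap.polar (⇑Q) (s • a + t • b) a = 0 := by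
    rw [hst]; exact QuadraticMap.polar_zero_left _ _
  have e2 : QuadraticMap.polar (⇑Q) (s • a + t • b) b = 0 := by
    rw [hst]; exact QuadraticMap.polar_zero_left _ _
  have c : QuadraticMap.polar (⇑Q) b a = QuadraticMap.polar (⇑Q) a b := QuadraticMap.polar_comm _ _ _
  simp only [QuadraticMap.polar_add_left, QuadraticMap.polar_smul_left, smul_eq_mul, c] at e1 e2
  constructor
  · have : s * (QuadraticMap.polar (⇑Q) a a * QuadraticMap.polar (⇑Q) b b
        - QuadraticMap.polar (⇑Q) a b ^ 2) = 0 := by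
      linear_combination QuadraticMap.polar (⇑Q) b b * e1 - QuadraticMap.polar (⇑Q) a b * e2
    exact (mul_eq_zero.1 this).resolve_right hG
  · have : t * (QuadraticMap.polar (⇑Q) a a * QuadraticMap.polar (⇑Q) b b
        - QuadraticMap.polar (⇑Q) a b ^ 2) = 0 := by
      linear_combination QuadraticMap.polar (⇑Q) a a * e2 - QuadraticMap.polar (⇑Q) a b * e1
    exact (mul_eq_zero.1 this).resolve_right hG

theorem h35_ku_witt [Fintype F] [FiniteDimensional F V] (h2 : (2 : F) ≠ 0) (Q : QuadraticForm F V)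
    (hQ : (QuadraticMap.polarBilin Q).Nondegenerate) (a b a' b' : V)
    (hG : QuadraticMap.polar (⇑Q) a a * QuadraticMap.polar (⇑Q) b b
      - QuadraticMap.polar (⇑Q) a b ^ 2 ≠ 0)
    (e1 : QuadraticMap.polar (⇑Q) a a = QuadraticMap.polar (⇑Q) a' a')
    (e2 : QuadraticMap.polar (⇑Q) a b = QuadraticMap.polar (⇑Q) a' b')
    (e3 : QuadraticMap.polar (⇑Q) b b = QuadraticMap.polar (⇑Q) b' b') :
    ∃ g₀ : V ≃ₗ[F] V, (∀ v, Q (g₀ v) = Q v) ∧ g₀ a = a' ∧ g₀ b = b' := by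
  have hli₁ : LinearIndependent F ![a, b] := h35_ku_li Q a b hG
  have hli₂ : LinearIndependent F ![a', b'] := h35_ku_li Q a' b' (by rw [← e1, ← e2, ← e3]; exact hG)
  set b₁ := Module.Basis.span hli₁ with hb₁def
  set b₂ := Module.Basis.span hli₂ with hb₂def
  set φ := b₁.equiv b₂ (Equiv.refl _) with hφdef
  have hb₁ : ∀ i, (b₁ i : V) = ![a, b] i := fun i => by
    rw [hb₁def]; exact congrArg Subtype.val (Module.Basis.span_apply hli₁ i)
  have hb₂ : ∀ i, (b₂ i : V) = ![a', b'] i := fun i => by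
    rw [hb₂def]; exact congrArg Subtype.val (Module.Basis.span_apply hli₂ i)
  have hφb : ∀ i, φ (b₁ i) = b₂ i := fun i => by
    rw [hφdef, Module.Basis.equiv_apply]; rfl
  have hφ : ∀ x, Q (φ x : V) = Q (x : V) := by
    intro x
    have hx : x = b₁.repr x 0 • b₁ 0 + b₁.repr x 1 • b₁ 1 := by
      conv_lhs => rw [← b₁.sum_repr x]
      rw [Fin.sum_univ_two]
    have hφx : φ x = b₁.repr x 0 • b₂ 0 + b₁.repr x 1 • b₂ 1 := by
      conv_lhs => rw [hx]
      rw [map_add, map_smul, map_smul, hφb, hφb]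
    have hxV : (x : V) = b₁.repr x 0 • a + b₁.repr x 1 • b := by
      conv_lhs => rw [hx]
      simp [hb₁]
    have hφV : (φ x : V) = b₁.repr x 0 • a' + b₁.repr x 1 • b' := by
      rw [hφx]
      simp [hb₂]
    apply h35_ku_Q_of_polar h2
    rw [hxV, hφV]
    simp only [QuadraticMap.polar_add_left, QuadraticMap.polar_add_right,
      QuadraticMap.polar_smul_left, QuadraticMap.polar_smul_right, smul_eq_mul]
    rw [← e1, ← e3, QuadraticMap.polar_comm (⇑Q) b' a', QuadraticMap.polar_comm (⇑Q) b a, ← e2]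
  obtain ⟨g, hg, hgφ⟩ := Cfsg.Agent.S0750.result Q hQ _ _ φ hφ
  refine ⟨g, hg, ?_, ?_⟩
  · have h0 := hgφ (b₁ 0)
    rw [hφb, hb₁, hb₂] at h0
    simpa using h0
  · have h0 := hgφ (b₁ 1)
    rw [hφb, hb₁, hb₂] at h0
    simpa using h0

theorem h35_ku_ext (Q : QuadraticForm F V) (δ : F) (κa κb : V →ₗ[F] V) (u y : V)
    (hsa : ∀ a b, QuadraticMap.polar (⇑Q) (κa a) b = QuadraticMap.polar (⇑Q) a (κa b))
    (hau : κa u = y) (hay : κa y = δ • u) (hbu : κb u = y) (hby : κb y = δ • u)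
    (hyy : QuadraticMap.polar (⇑Q) y y = δ * QuadraticMap.polar (⇑Q) u u)
    (hD : δ * QuadraticMap.polar (⇑Q) u u ^ 2 - QuadraticMap.polar (⇑Q) u y ^ 2 ≠ 0)
    (sta : ∀ x ∈ h35_kuW Q u y, κa x ∈ h35_kuW Q u y)
    (stb : ∀ x ∈ h35_kuW Q u y, κb x ∈ h35_kuW Q u y)
    (h' : ↥(h35_kuW Q u y) →ₗ[F] ↥(h35_kuW Q u y))
    (hh'Q : ∀ x, Q ((h' x : V)) = Q (x : V))
    (hh'k : ∀ x, h' (κa.restrict sta x) = κb.restrict stb (h' x)) :
    ∃ g₁ : V →ₗ[F] V, (∀ v, Q (g₁ v) = Q v) ∧ ∀ v, g₁ (κa v) = κb (g₁ v) := by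
  have hF1 := h35_ku_F1 Q u y δ hyy hD
  have hπ : ∀ v, (LinearMap.id - (h35_kuα Q u y δ).smulRight u - (h35_kuβ Q u y δ).smulRight y :
      V →ₗ[F] V) v ∈ h35_kuW Q u y := fun v => by
    simpa using hF1 v
  set Pr : V →ₗ[F] ↥(h35_kuW Q u y) :=
    (LinearMap.id - (h35_kuα Q u y δ).smulRight u - (h35_kuβ Q u y δ).smulRight y :
      V →ₗ[F] V).codRestrict (h35_kuW Q u y) hπ with hPrdef
  set g₁ : V →ₗ[F] V := (h35_kuα Q u y δ).smulRight u + (h35_kuβ Q u y δ).smulRight y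
    + (h35_kuW Q u y).subtype ∘ₗ h' ∘ₗ Pr with hg₁def
  have hg₁ : ∀ v, g₁ v = h35_kuα Q u y δ v • u + h35_kuβ Q u y δ v • y + (h' (Pr v) : V) :=
    fun v => by simp [hg₁def]
  have hPr : ∀ v, (Pr v : V) = v - h35_kuα Q u y δ v • u - h35_kuβ Q u y δ v • y :=
    fun v => by simp [hPrdef]
  refine ⟨g₁, ?_, ?_⟩
  · intro v
    rw [hg₁]
    have hv : v = h35_kuα Q u y δ v • u + h35_kuβ Q u y δ v • y + (Pr v : V) := by
      rw [hPr]; abel
    have ho : ∀ x : ↥(h35_kuW Q u y),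
        QuadraticMap.polar (⇑Q) (h35_kuα Q u y δ v • u + h35_kuβ Q u y δ v • y) (x : V) = 0 := by
      intro x
      obtain ⟨m1, m2⟩ := (h35_kuW_mem Q u y x).1 x.2
      rw [QuadraticMap.polar_add_left, QuadraticMap.polar_smul_left, QuadraticMap.polar_smul_left,
        QuadraticMap.polar_comm (⇑Q) u, QuadraticMap.polar_comm (⇑Q) y, m1, m2]
      simp
    have hadd : ∀ p q : V, Q (p + q) = Q p + Q q + QuadraticMap.polar (⇑Q) p q := fun p q => by
      simp [QuadraticMap.polar]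
    conv_rhs => rw [hv]
    rw [hadd _ ((h' (Pr v) : V)), hadd _ ((Pr v : V)), ho, ho, hh'Q]
  · intro v
    rw [hg₁, hg₁]
    obtain ⟨f1, f2⟩ := h35_ku_F2 Q u y δ κa hsa hau hay v
    have hPrk : Pr (κa v) = κa.restrict sta (Pr v) := by
      apply Subtype.ext
      rw [LinearMap.coe_restrict_apply, hPr, hPr, f1, f2]
      simp only [map_sub, map_smul, hau, hay]
      module
    rw [hPrk, hh'k, LinearMap.coe_restrict_apply, f1, f2]
    simp only [map_add, map_smul, hbu, hby]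
    module

theorem h35_ku_polar_iso (Q : QuadraticForm F V) (g : V →ₗ[F] V) (hg : ∀ v, Q (g v) = Q v) (x y : V) :
    QuadraticMap.polar (⇑Q) (g x) (g y) = QuadraticMap.polar (⇑Q) x y := by
  simp only [QuadraticMap.polar]
  rw [← map_add, hg, hg, hg]

end h35abs

section h35ind

variable {F : Type u} [Field F] [Fintype F]

theorem h35_ku_abs (h2 : (2 : F) ≠ 0) (δ : F) (hδ : ∀ r : F, r ^ 2 ≠ δ + 0 * r) :
    ∀ (n : ℕ) (V : Type u) [AddCommGroup V] [Module F V] [FiniteDimensional F V]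
      (Q : QuadraticForm F V) (_ : (QuadraticMap.polarBilin Q).Nondegenerate) (κ₁ κ₂ : V →ₗ[F] V)
      (_ : ∀ v, κ₁ (κ₁ v) = δ • v) (_ : ∀ v, κ₂ (κ₂ v) = δ • v)
      (_ : ∀ u v, QuadraticMap.polar (⇑Q) (κ₁ u) v = QuadraticMap.polar (⇑Q) u (κ₁ v))
      (_ : ∀ u v, QuadraticMap.polar (⇑Q) (κ₂ u) v = QuadraticMap.polar (⇑Q) u (κ₂ v)),
      Module.finrank F V = n →
      ∃ g : V →ₗ[F] V, (∀ v, Q (g v) = Q v) ∧ ∀ v, g (κ₁ v) = κ₂ (g v) := by
  intro n
  induction n using Nat.strong_induction_on with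
  | _ n ih =>
  intro V _ _ _ Q hQ κ₁ κ₂ h1 h1' hs1 hs2 hn
  by_cases htriv : ∀ v : V, v = 0
  · refine ⟨LinearMap.id, fun v => rfl, fun v => ?_⟩
    simp only [LinearMap.id_apply]
    rw [htriv (κ₁ v), htriv v, map_zero]
  push Not at htriv
  obtain ⟨v₀, hv₀⟩ := htriv
  have hQ' := (h35_ku_nondeg_iff Q).1 hQ
  obtain ⟨u, u', e1, e2, hne⟩ := h35_ku_key h2 δ hδ Q hQ' κ₁ κ₂ h1 h1' hs1 hs2 v₀ hv₀
  have k1 : QuadraticMap.polar (⇑Q) (κ₁ u) (κ₁ u) = δ * QuadraticMap.polar (⇑Q) u u := by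
    rw [hs1, h1, QuadraticMap.polar_smul_right, smul_eq_mul]
  have k2 : QuadraticMap.polar (⇑Q) (κ₂ u') (κ₂ u') = δ * QuadraticMap.polar (⇑Q) u' u' := by
    rw [hs2, h1', QuadraticMap.polar_smul_right, smul_eq_mul]
  have hD := h35_ku_D hδ _ _ hne
  obtain ⟨g₀, hg₀, hg₀u, hg₀k⟩ := h35_ku_witt h2 Q hQ u (κ₁ u) u' (κ₂ u')
    (by rw [k1]; intro h; apply hD; linear_combination h) e1 e2 (by rw [k1, k2, e1])
  -- the conjugate of `κ₁`
  set κc : V →ₗ[F] V := g₀.toLinearMap ∘ₗ κ₁ ∘ₗ g₀.symm.toLinearMap with hκcdef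
  have hκc : ∀ v, κc v = g₀ (κ₁ (g₀.symm v)) := fun v => rfl
  have hc1 : ∀ v, κc (κc v) = δ • v := by
    intro v
    rw [hκc, hκc, LinearEquiv.symm_apply_apply, h1, map_smul, LinearEquiv.apply_symm_apply]
  have hpi := h35_ku_polar_iso Q g₀.toLinearMap hg₀
  have hcs : ∀ a b, QuadraticMap.polar (⇑Q) (κc a) b = QuadraticMap.polar (⇑Q) a (κc b) := by
    intro a b
    rw [hκc, hκc]
    have ha : a = g₀ (g₀.symm a) := (LinearEquiv.apply_symm_apply g₀ a).symm
    have hb : b = g₀ (g₀.symm b) := (LinearEquiv.apply_symm_apply g₀ b).symm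
    conv_lhs => rw [hb]
    conv_rhs => rw [ha]
    have p1 := hpi (κ₁ (g₀.symm a)) (g₀.symm b)
    have p2 := hpi (g₀.symm a) (κ₁ (g₀.symm b))
    simp only [LinearEquiv.coe_coe] at p1 p2
    rw [p1, p2, hs1]
  have hcu : κc u' = κ₂ u' := by
    rw [hκc, ← hg₀u, LinearEquiv.symm_apply_apply, hg₀k, hg₀u]
  have hcy : κc (κ₂ u') = δ • u' := by rw [← hcu, hc1]
  have hby : κ₂ (κ₂ u') = δ • u' := h1' u'
  have hne' : QuadraticMap.polar (⇑Q) u' u' ≠ 0 ∨ QuadraticMap.polar (⇑Q) u' (κ₂ u') ≠ 0 := by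
    rw [← e1, ← e2]; exact hne
  have hD' := h35_ku_D hδ _ _ hne'
  have sta := h35_ku_Wstable Q u' (κ₂ u') δ κc hcs hcu hcy
  have stb := h35_ku_Wstable Q u' (κ₂ u') δ κ₂ hs2 rfl hby
  have hWn := h35_ku_Wnondeg Q hQ' u' (κ₂ u') δ k2 hD'
  have hWtop : h35_kuW Q u' (κ₂ u') ≠ ⊤ := by
    intro htop
    have hu' : u' ∈ h35_kuW Q u' (κ₂ u') := by rw [htop]; trivial
    rw [h35_kuW_mem] at hu'
    rcases hne' with h | h
    · exact h hu'.1
    · exact h hu'.2
  have hlt : Module.finrank F ↥(h35_kuW Q u' (κ₂ u')) < n := by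
    rw [← hn]; exact Submodule.finrank_lt hWtop
  obtain ⟨h', hh'Q, hh'k⟩ := ih _ hlt ↥(h35_kuW Q u' (κ₂ u'))
    (Q.comp (h35_kuW Q u' (κ₂ u')).subtype) ((h35_ku_nondeg_iff _).2 hWn)
    (κc.restrict sta) (κ₂.restrict stb)
    (fun x => by
      apply Subtype.ext
      rw [LinearMap.coe_restrict_apply, LinearMap.coe_restrict_apply, hc1]; rfl)
    (fun x => by
      apply Subtype.ext
      rw [LinearMap.coe_restrict_apply, LinearMap.coe_restrict_apply, h1']; rfl)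
    (fun a b => by
      rw [h35_ku_polar_comp, h35_ku_polar_comp]
      simp only [Submodule.subtype_apply, LinearMap.coe_restrict_apply]
      exact hcs _ _)
    (fun a b => by
      rw [h35_ku_polar_comp, h35_ku_polar_comp]
      simp only [Submodule.subtype_apply, LinearMap.coe_restrict_apply]
      exact hs2 _ _)
    rfl
  obtain ⟨g₁, hg₁Q, hg₁k⟩ := h35_ku_ext Q δ κc κ₂ u' (κ₂ u') hcs hcu hcy rfl hby k2 hD' sta stb h'
    (fun x => by
      have := hh'Q x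
      simpa [QuadraticMap.comp_apply] using this)
    hh'k
  refine ⟨g₁ ∘ₗ g₀.toLinearMap, fun v => ?_, fun v => ?_⟩
  · rw [LinearMap.comp_apply, hg₁Q]; exact hg₀ v
  · rw [LinearMap.comp_apply, LinearMap.comp_apply]
    have : (g₀.toLinearMap (κ₁ v)) = κc (g₀ v) := by
      rw [hκc, LinearEquiv.symm_apply_apply]; rfl
    rw [this, hg₁k]; rfl

end h35ind

/-- KUNIQ (verbatim statement of `sfk_uniq`, helper59's skeleton; helper35's independent proof). -/
theorem h35_sfk_uniq {F : Type*} [Field F] [Fintype F] {ι : Type} [Fintype ι] [DecidableEq ι]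
    (h2 : (2 : F) ≠ 0) (Q : QuadraticForm F (ι → F))
    (hQ : (QuadraticMap.polarBilin Q).Nondegenerate)
    (_hQ' : IsNondegenerateQuadraticForm (⇑Q : (ι → F) → F))
    (δ : F) (hδ : ∀ r : F, r ^ 2 ≠ δ + 0 * r) (κ₁ κ₂ : Matrix ι ι F)
    (h1 : κ₁ * κ₁ = δ • (1 : Matrix ι ι F)) (h2' : κ₂ * κ₂ = δ • (1 : Matrix ι ι F))
    (hs1 : ∀ u v : ι → F, QuadraticMap.polar (⇑Q) (κ₁ *ᵥ u) v = QuadraticMap.polar (⇑Q) u (κ₁ *ᵥ v))
    (hs2 : ∀ u v : ι → F, QuadraticMap.polar (⇑Q) (κ₂ *ᵥ u) v = QuadraticMap.polar (⇑Q) u (κ₂ *ᵥ v)) :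
    ∃ h : GL ι F, h ∈ Cfsg.isometryGroup F (⇑Q) ∧
      (h : Matrix ι ι F) * κ₁ = κ₂ * (h : Matrix ι ι F) := by
  obtain ⟨g, hg, hgk⟩ := h35_ku_abs h2 δ hδ _ (ι → F) Q hQ (Matrix.mulVecLin κ₁) (Matrix.mulVecLin κ₂)
    (fun v => by
      rw [Matrix.mulVecLin_apply, Matrix.mulVecLin_apply, Matrix.mulVec_mulVec, h1,
        Matrix.smul_mulVec, Matrix.one_mulVec])
    (fun v => by
      rw [Matrix.mulVecLin_apply, Matrix.mulVecLin_apply, Matrix.mulVec_mulVec, h2',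
        Matrix.smul_mulVec, Matrix.one_mulVec])
    (fun u v => by simpa only [Matrix.mulVecLin_apply] using hs1 u v)
    (fun u v => by simpa only [Matrix.mulVecLin_apply] using hs2 u v) rfl
  have hQn := (h35_ku_nondeg_iff Q).1 hQ
  have hinj : Function.Injective g := by
    rw [← LinearMap.ker_eq_bot, LinearMap.ker_eq_bot']
    intro x hx
    apply hQn
    intro y
    rw [← h35_ku_polar_iso Q g hg x y, hx]
    exact QuadraticMap.polar_zero_left _ _
  set e := LinearEquiv.ofInjectiveEndo g hinj with hedef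
  have he : ∀ v, e v = g v := fun v => by rw [hedef]; rfl
  have hm := Cfsg.Agent.Lib.helper49.isoOfEquiv_mulVecLin (⇑Q) e (fun v => by rw [he]; exact hg v)
  refine ⟨(Cfsg.Agent.Lib.helper49.isoOfEquiv (⇑Q) e (fun v => by rw [he]; exact hg v) : GL ι F),
    Subtype.property _, ?_⟩
  apply Matrix.toLin'.injective
  rw [Matrix.toLin'_apply', Matrix.toLin'_apply', Matrix.mulVecLin_mul, Matrix.mulVecLin_mul, hm]
  apply LinearMap.ext
  intro v
  rw [LinearMap.comp_apply, LinearMap.comp_apply]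
  show e (Matrix.mulVecLin κ₁ v) = Matrix.mulVecLin κ₂ (e v)
  rw [he, he]
  exact hgk v

end Cfsg.Agent.Lib.helper59.Sfk
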