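/-
helper35: independent proof of KUNIQ (S5977/S5978 block [A]) by Witt induction -- part A: one-`κ` lemmas.
All names carry the seat prefix `h35_`.
-/
import Mathlib
import Cfsg.Agent.Lib.helper53.SfoBINREP
import Cfsg.Agent.Lib.helper37.QuadNormSq

set_option autoImplicit false

namespace Cfsg.Agent.Lib.helper59.Sfk

universe u

section h35abs

variable {F : Type u} [Field F] {V : Type u} [AddCommGroup V] [Module F V]

theorem h35_ku_D {δ : F} (hδ : ∀ r : F, r ^ 2 ≠ δ + 0 * r) (A E : F) (h : A ≠ 0 ∨ E ≠ 0) :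
    δ * A ^ 2 - E ^ 2 ≠ 0 := by
  intro h0
  by_cases hA : A = 0
  · rw [hA] at h0
    have hE2 : E ^ 2 = 0 := by linear_combination -h0
    have hE : E = 0 := by simpa using hE2
    rcases h with h | h
    · exact h hA
    · exact h hE
  · apply hδ (E / A)
    field_simp
    linear_combination -h0

theorem h35_ku_nondeg_iff (Q : QuadraticForm F V) :
    (QuadraticMap.polarBilin Q).Nondegenerate ↔
      ∀ x, (∀ y, QuadraticMap.polar (⇑Q) x y = 0) → x = 0 := by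
  constructor
  · intro h x hx
    exact h.1 x (fun y => by rw [QuadraticMap.polarBilin_apply_apply]; exact hx y)
  · intro h
    refine ⟨fun x hx => h x (fun y => ?_), fun y hy => h y (fun x => ?_)⟩
    · have := hx y
      rwa [QuadraticMap.polarBilin_apply_apply] at this
    · have := hy x
      rw [QuadraticMap.polarBilin_apply_apply] at this
      rw [QuadraticMap.polar_comm]
      exact this

theorem h35_ku_polar_comp {W : Type u} [AddCommGroup W] [Module F W] (Q : QuadraticForm F V)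
    (f : W →ₗ[F] V) (x y : W) :
    QuadraticMap.polar (⇑(Q.comp f)) x y = QuadraticMap.polar (⇑Q) (f x) (f y) := by
  simp [QuadraticMap.polar, QuadraticMap.comp_apply]

theorem h35_ku_Q_of_polar (h2 : (2 : F) ≠ 0) (Q : QuadraticForm F V) (a b : V)
    (h : QuadraticMap.polar (⇑Q) a a = QuadraticMap.polar (⇑Q) b b) : Q a = Q b := by
  rw [QuadraticMap.polar_self, QuadraticMap.polar_self] at h
  simp only [nsmul_eq_mul, Nat.cast_ofNat] at h
  exact mul_left_cancel₀ h2 h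

/-- the formula (G) -/
theorem h35_ku_G (Q : QuadraticForm F V) (δ : F) (κ : V →ₗ[F] V)
    (h1 : ∀ v, κ (κ v) = δ • v)
    (hs : ∀ u v, QuadraticMap.polar (⇑Q) (κ u) v = QuadraticMap.polar (⇑Q) u (κ v))
    (w₁ w₂ : V) (hx1 : QuadraticMap.polar (⇑Q) w₁ w₂ = 0)
    (hx2 : QuadraticMap.polar (⇑Q) (κ w₁) w₂ = 0) (s₀ s₁ t₀ t₁ : F) :
    QuadraticMap.polar (⇑Q) (s₀ • w₁ + s₁ • κ w₁ + (t₀ • w₂ + t₁ • κ w₂))
        (s₀ • w₁ + s₁ • κ w₁ + (t₀ • w₂ + t₁ • κ w₂)) =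
      (s₀ ^ 2 + δ * s₁ ^ 2) * QuadraticMap.polar (⇑Q) w₁ w₁
        + 2 * s₀ * s₁ * QuadraticMap.polar (⇑Q) w₁ (κ w₁)
        + (t₀ ^ 2 + δ * t₁ ^ 2) * QuadraticMap.polar (⇑Q) w₂ w₂
        + 2 * t₀ * t₁ * QuadraticMap.polar (⇑Q) w₂ (κ w₂) ∧
    QuadraticMap.polar (⇑Q) (s₀ • w₁ + s₁ • κ w₁ + (t₀ • w₂ + t₁ • κ w₂))
        (κ (s₀ • w₁ + s₁ • κ w₁ + (t₀ • w₂ + t₁ • κ w₂))) =
      (s₀ ^ 2 + δ * s₁ ^ 2) * QuadraticMap.polar (⇑Q) w₁ (κ w₁)
        + 2 * s₀ * s₁ * δ * QuadraticMap.polar (⇑Q) w₁ w₁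
        + (t₀ ^ 2 + δ * t₁ ^ 2) * QuadraticMap.polar (⇑Q) w₂ (κ w₂)
        + 2 * t₀ * t₁ * δ * QuadraticMap.polar (⇑Q) w₂ w₂ := by
  have c1 : QuadraticMap.polar (⇑Q) (κ w₁) w₁ = QuadraticMap.polar (⇑Q) w₁ (κ w₁) :=
    QuadraticMap.polar_comm _ _ _
  have c2 : QuadraticMap.polar (⇑Q) (κ w₂) w₂ = QuadraticMap.polar (⇑Q) w₂ (κ w₂) :=
    QuadraticMap.polar_comm _ _ _
  have k1 : QuadraticMap.polar (⇑Q) (κ w₁) (κ w₁) = δ * QuadraticMap.polar (⇑Q) w₁ w₁ := by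
    rw [hs, h1, QuadraticMap.polar_smul_right, smul_eq_mul]
  have k2 : QuadraticMap.polar (⇑Q) (κ w₂) (κ w₂) = δ * QuadraticMap.polar (⇑Q) w₂ w₂ := by
    rw [hs, h1, QuadraticMap.polar_smul_right, smul_eq_mul]
  have x1 : QuadraticMap.polar (⇑Q) w₂ w₁ = 0 := by rw [QuadraticMap.polar_comm]; exact hx1
  have x2 : QuadraticMap.polar (⇑Q) w₂ (κ w₁) = 0 := by rw [QuadraticMap.polar_comm]; exact hx2
  have x3 : QuadraticMap.polar (⇑Q) w₁ (κ w₂) = 0 := by rw [← hs]; exact hx2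
  have x4 : QuadraticMap.polar (⇑Q) (κ w₂) w₁ = 0 := by rw [QuadraticMap.polar_comm]; exact x3
  have x5 : QuadraticMap.polar (⇑Q) (κ w₁) (κ w₂) = 0 := by
    rw [hs, h1, QuadraticMap.polar_smul_right, hx1, smul_zero]
  have x6 : QuadraticMap.polar (⇑Q) (κ w₂) (κ w₁) = 0 := by rw [QuadraticMap.polar_comm]; exact x5
  simp only [map_add, map_smul, h1, QuadraticMap.polar_add_left, QuadraticMap.polar_add_right,
    QuadraticMap.polar_smul_left, QuadraticMap.polar_smul_right, smul_eq_mul, c1, c2, k1, k2, hx1,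
    hx2, x1, x2, x3, x4, x5, x6]
  constructor <;> ring

/-- the common orthogonal complement of `u` and `y` -/
def h35_kuW (Q : QuadraticForm F V) (u y : V) : Submodule F V :=
  LinearMap.ker ((QuadraticMap.polarBilin Q).flip u) ⊓
    LinearMap.ker ((QuadraticMap.polarBilin Q).flip y)

theorem h35_kuW_mem (Q : QuadraticForm F V) (u y w : V) :
    w ∈ h35_kuW Q u y ↔
      QuadraticMap.polar (⇑Q) w u = 0 ∧ QuadraticMap.polar (⇑Q) w y = 0 := by
  simp [h35_kuW, Submodule.mem_inf, LinearMap.mem_ker, LinearMap.flip_apply]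

noncomputable def h35_kuα (Q : QuadraticForm F V) (u y : V) (δ : F) : V →ₗ[F] F :=
  ((δ * QuadraticMap.polar (⇑Q) u u) /
      (δ * QuadraticMap.polar (⇑Q) u u ^ 2 - QuadraticMap.polar (⇑Q) u y ^ 2)) •
      (QuadraticMap.polarBilin Q).flip u
    - ((QuadraticMap.polar (⇑Q) u y) /
      (δ * QuadraticMap.polar (⇑Q) u u ^ 2 - QuadraticMap.polar (⇑Q) u y ^ 2)) •
      (QuadraticMap.polarBilin Q).flip y

noncomputable def h35_kuβ (Q : QuadraticForm F V) (u y : V) (δ : F) : V →ₗ[F] F :=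
  ((QuadraticMap.polar (⇑Q) u u) /
      (δ * QuadraticMap.polar (⇑Q) u u ^ 2 - QuadraticMap.polar (⇑Q) u y ^ 2)) •
      (QuadraticMap.polarBilin Q).flip y
    - ((QuadraticMap.polar (⇑Q) u y) /
      (δ * QuadraticMap.polar (⇑Q) u u ^ 2 - QuadraticMap.polar (⇑Q) u y ^ 2)) •
      (QuadraticMap.polarBilin Q).flip u

theorem h35_kuα_apply (Q : QuadraticForm F V) (u y : V) (δ : F) (v : V) :
    h35_kuα Q u y δ v =
      (δ * QuadraticMap.polar (⇑Q) u u * QuadraticMap.polar (⇑Q) v u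
        - QuadraticMap.polar (⇑Q) u y * QuadraticMap.polar (⇑Q) v y) /
      (δ * QuadraticMap.polar (⇑Q) u u ^ 2 - QuadraticMap.polar (⇑Q) u y ^ 2) := by
  simp [h35_kuα, LinearMap.flip_apply]
  ring

theorem h35_kuβ_apply (Q : QuadraticForm F V) (u y : V) (δ : F) (v : V) :
    h35_kuβ Q u y δ v =
      (QuadraticMap.polar (⇑Q) u u * QuadraticMap.polar (⇑Q) v y
        - QuadraticMap.polar (⇑Q) u y * QuadraticMap.polar (⇑Q) v u) /
      (δ * QuadraticMap.polar (⇑Q) u u ^ 2 - QuadraticMap.polar (⇑Q) u y ^ 2) := by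
  simp [h35_kuβ, LinearMap.flip_apply]
  ring

theorem h35_ku_F1 (Q : QuadraticForm F V) (u y : V) (δ : F)
    (hyy : QuadraticMap.polar (⇑Q) y y = δ * QuadraticMap.polar (⇑Q) u u)
    (hD : δ * QuadraticMap.polar (⇑Q) u u ^ 2 - QuadraticMap.polar (⇑Q) u y ^ 2 ≠ 0) (v : V) :
    v - h35_kuα Q u y δ v • u - h35_kuβ Q u y δ v • y ∈ h35_kuW Q u y := by
  rw [h35_kuW_mem, h35_kuα_apply, h35_kuβ_apply]
  have c : QuadraticMap.polar (⇑Q) y u = QuadraticMap.polar (⇑Q) u y := QuadraticMap.polar_comm _ _ _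
  simp only [QuadraticMap.polar_sub_left, QuadraticMap.polar_smul_left, smul_eq_mul, hyy, c]
  constructor
  · field_simp
    ring
  · field_simp
    ring

theorem h35_ku_F2 (Q : QuadraticForm F V) (u y : V) (δ : F) (κ : V →ₗ[F] V)
    (hs : ∀ u v, QuadraticMap.polar (⇑Q) (κ u) v = QuadraticMap.polar (⇑Q) u (κ v))
    (hu : κ u = y) (hy : κ y = δ • u) (v : V) :
    h35_kuα Q u y δ (κ v) = δ * h35_kuβ Q u y δ v ∧
      h35_kuβ Q u y δ (κ v) = h35_kuα Q u y δ v := by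
  simp only [h35_kuα_apply, h35_kuβ_apply]
  have e1 : QuadraticMap.polar (⇑Q) (κ v) u = QuadraticMap.polar (⇑Q) v y := by rw [hs, hu]
  have e2 : QuadraticMap.polar (⇑Q) (κ v) y = δ * QuadraticMap.polar (⇑Q) v u := by
    rw [hs, hy, QuadraticMap.polar_smul_right, smul_eq_mul]
  rw [e1, e2]
  constructor <;> ring

theorem h35_ku_Wstable (Q : QuadraticForm F V) (u y : V) (δ : F) (κ : V →ₗ[F] V)
    (hs : ∀ u v, QuadraticMap.polar (⇑Q) (κ u) v = QuadraticMap.polar (⇑Q) u (κ v))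
    (hu : κ u = y) (hy : κ y = δ • u) :
    ∀ x ∈ h35_kuW Q u y, κ x ∈ h35_kuW Q u y := by
  intro x hx
  rw [h35_kuW_mem] at hx ⊢
  constructor
  · rw [hs, hu]; exact hx.2
  · rw [hs, hy, QuadraticMap.polar_smul_right, hx.1, smul_zero]

theorem h35_ku_Wnondeg (Q : QuadraticForm F V)
    (hQ : ∀ x, (∀ y, QuadraticMap.polar (⇑Q) x y = 0) → x = 0) (u y : V) (δ : F)
    (hyy : QuadraticMap.polar (⇑Q) y y = δ * QuadraticMap.polar (⇑Q) u u)
    (hD : δ * QuadraticMap.polar (⇑Q) u u ^ 2 - QuadraticMap.polar (⇑Q) u y ^ 2 ≠ 0) :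
    ∀ x : ↥(h35_kuW Q u y),
      (∀ z : ↥(h35_kuW Q u y),
        QuadraticMap.polar (⇑(Q.comp (h35_kuW Q u y).subtype)) x z = 0) → x = 0 := by
  intro x hx
  apply Subtype.ext
  show (x : V) = 0
  apply hQ
  intro v
  have hv := h35_ku_F1 Q u y δ hyy hD v
  have hx' := hx ⟨_, hv⟩
  rw [h35_ku_polar_comp] at hx'
  simp only [Submodule.subtype_apply] at hx'
  obtain ⟨m1, m2⟩ := (h35_kuW_mem Q u y x).1 x.2
  have hdec : v = (v - h35_kuα Q u y δ v • u - h35_kuβ Q u y δ v • y)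
      + (h35_kuα Q u y δ v • u + h35_kuβ Q u y δ v • y) := by abel
  rw [hdec, QuadraticMap.polar_add_right, QuadraticMap.polar_add_right,
    QuadraticMap.polar_smul_right, QuadraticMap.polar_smul_right, m1, m2, hx']
  simp

theorem h35_ku_exists (h2 : (2 : F) ≠ 0) (Q : QuadraticForm F V)
    (hQ : ∀ x, (∀ y, QuadraticMap.polar (⇑Q) x y = 0) → x = 0) (v₀ : V) (hv₀ : v₀ ≠ 0) :
    ∃ w, QuadraticMap.polar (⇑Q) w w ≠ 0 := by
  by_contra hcon
  push Not at hcon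
  apply hv₀
  apply hQ
  intro y
  have h := hcon (v₀ + y)
  rw [QuadraticMap.polar_add_left, QuadraticMap.polar_add_right, QuadraticMap.polar_add_right,
    hcon v₀, hcon y, QuadraticMap.polar_comm (⇑Q) y v₀] at h
  have h' : (2 : F) * QuadraticMap.polar (⇑Q) v₀ y = 0 := by linear_combination h
  exact (mul_eq_zero.1 h').resolve_left h2

end h35abs

end Cfsg.Agent.Lib.helper59.Sfk
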