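/-
helper35: independent proof of KUNIQ (S5977/S5978 block [A]) by Witt induction -- part B: the key lemma
(two vectors with equal values of the `K'`-form).  All names carry the seat prefix `h35_`.
-/
import Mathlib
import Cfsg.Agent.Lib.helper35.SfkKUNIQa

set_option autoImplicit false

namespace Cfsg.Agent.Lib.helper59.Sfk

universe u

section h35abs

variable {F : Type u} [Field F] {V : Type u} [AddCommGroup V] [Module F V]

theorem h35_ku_Ka [Fintype F] (h2 : (2 : F) ≠ 0) (δ : F) (hδ : ∀ r : F, r ^ 2 ≠ δ + 0 * r)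
    (Q : QuadraticForm F V) (κ : V →ₗ[F] V)
    (h1 : ∀ v, κ (κ v) = δ • v)
    (hs : ∀ u v, QuadraticMap.polar (⇑Q) (κ u) v = QuadraticMap.polar (⇑Q) u (κ v))
    (w₁ w₂ : V) (hA1 : QuadraticMap.polar (⇑Q) w₁ w₁ ≠ 0) (hA2 : QuadraticMap.polar (⇑Q) w₂ w₂ ≠ 0)
    (hx1 : QuadraticMap.polar (⇑Q) w₁ w₂ = 0) (hx2 : QuadraticMap.polar (⇑Q) (κ w₁) w₂ = 0) :
    ∃ u, QuadraticMap.polar (⇑Q) u u = 2 ∧ QuadraticMap.polar (⇑Q) u (κ u) = 0 := by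
  have : Fact (∀ r : F, r ^ 2 ≠ δ + 0 * r) := ⟨hδ⟩
  let : Fintype (QuadraticAlgebra F δ 0) := Fintype.ofEquiv _ (QuadraticAlgebra.equivProd δ 0).symm
  have h2K : (2 : QuadraticAlgebra F δ 0) ≠ 0 := by
    intro h
    apply h2
    have h' : ((1 : QuadraticAlgebra F δ 0) + 1) = 0 := by rw [one_add_one_eq_two]; exact h
    have h3 : (1 : F) + 1 = 0 := by
      have := congrArg QuadraticAlgebra.re h'
      rwa [QuadraticAlgebra.re_add, QuadraticAlgebra.re_one] at this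
    linear_combination h3
  obtain ⟨s, t, hst⟩ := Cfsg.Agent.Lib.helper24.sfo_bin_rep h2K
    (⟨QuadraticMap.polar (⇑Q) w₁ (κ w₁), QuadraticMap.polar (⇑Q) w₁ w₁⟩ : QuadraticAlgebra F δ 0)
    ⟨QuadraticMap.polar (⇑Q) w₂ (κ w₂), QuadraticMap.polar (⇑Q) w₂ w₂⟩ ⟨0, 2⟩
    (by intro h; exact hA1 (by simpa using congrArg QuadraticAlgebra.im h))
    (by intro h; exact hA2 (by simpa using congrArg QuadraticAlgebra.im h))
  refine ⟨s.re • w₁ + s.im • κ w₁ + (t.re • w₂ + t.im • κ w₂), ?_⟩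
  obtain ⟨g1, g2⟩ := h35_ku_G Q δ κ h1 hs w₁ w₂ hx1 hx2 s.re s.im t.re t.im
  rw [g1, g2]
  have hre := congrArg QuadraticAlgebra.re hst
  have him := congrArg QuadraticAlgebra.im hst
  simp [pow_two, -QuadraticMap.polar_self] at hre him
  constructor
  · linear_combination him
  · linear_combination hre

theorem h35_ku_Kb (h2 : (2 : F) ≠ 0) (δ : F) (hδ : ∀ r : F, r ^ 2 ≠ δ + 0 * r)
    (Q : QuadraticForm F V) (hQ : ∀ x, (∀ y, QuadraticMap.polar (⇑Q) x y = 0) → x = 0)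
    (κ : V →ₗ[F] V) (h1 : ∀ v, κ (κ v) = δ • v)
    (hs : ∀ u v, QuadraticMap.polar (⇑Q) (κ u) v = QuadraticMap.polar (⇑Q) u (κ v))
    (w : V) (hA : QuadraticMap.polar (⇑Q) w w ≠ 0)
    (hno : ∀ w₂, QuadraticMap.polar (⇑Q) w₂ w = 0 → QuadraticMap.polar (⇑Q) w₂ (κ w) = 0 →
      QuadraticMap.polar (⇑Q) w₂ w₂ = 0) :
    ∀ v, v = h35_kuα Q w (κ w) δ v • w + h35_kuβ Q w (κ w) δ v • κ w := by
  intro v
  have hyy : QuadraticMap.polar (⇑Q) (κ w) (κ w) = δ * QuadraticMap.polar (⇑Q) w w := by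
    rw [hs, h1, QuadraticMap.polar_smul_right, smul_eq_mul]
  have hD := h35_ku_D hδ (QuadraticMap.polar (⇑Q) w w) (QuadraticMap.polar (⇑Q) w (κ w)) (Or.inl hA)
  have hmem := h35_ku_F1 Q w (κ w) δ hyy hD v
  have hz0 : v - h35_kuα Q w (κ w) δ v • w - h35_kuβ Q w (κ w) δ v • κ w = 0 := by
    by_contra hne
    have hWn := h35_ku_Wnondeg Q hQ w (κ w) δ hyy hD
    obtain ⟨x, hx⟩ := h35_ku_exists h2 (Q.comp (h35_kuW Q w (κ w)).subtype) hWn ⟨_, hmem⟩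
      (by intro h; exact hne (congrArg Subtype.val h))
    apply hx
    rw [h35_ku_polar_comp]
    exact hno x ((h35_kuW_mem Q w (κ w) x).1 x.2).1 ((h35_kuW_mem Q w (κ w) x).1 x.2).2
  rw [← sub_eq_zero, ← hz0]
  abel

theorem h35_ku_Kc [Fintype F] (h2 : (2 : F) ≠ 0) (δ : F) (hδ : ∀ r : F, r ^ 2 ≠ δ + 0 * r)
    (Q : QuadraticForm F V) (κi κj : V →ₗ[F] V)
    (h1i : ∀ v, κi (κi v) = δ • v) (h1j : ∀ v, κj (κj v) = δ • v)
    (hsi : ∀ u v, QuadraticMap.polar (⇑Q) (κi u) v = QuadraticMap.polar (⇑Q) u (κi v))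
    (hsj : ∀ u v, QuadraticMap.polar (⇑Q) (κj u) v = QuadraticMap.polar (⇑Q) u (κj v))
    (w : V) (hA : QuadraticMap.polar (⇑Q) w w ≠ 0)
    (hspan : ∀ v, ∃ a b : F, v = a • w + b • κi w) :
    ∃ u, QuadraticMap.polar (⇑Q) u u = QuadraticMap.polar (⇑Q) w w ∧
      QuadraticMap.polar (⇑Q) u (κj u) = QuadraticMap.polar (⇑Q) w (κi w) := by
  have : Fact (∀ r : F, r ^ 2 ≠ δ + 0 * r) := ⟨hδ⟩
  obtain ⟨x, z, hxz⟩ := hspan (κj w)
  have c1 : QuadraticMap.polar (⇑Q) (κi w) w = QuadraticMap.polar (⇑Q) w (κi w) :=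
    QuadraticMap.polar_comm _ _ _
  have k1 : QuadraticMap.polar (⇑Q) (κi w) (κi w) = δ * QuadraticMap.polar (⇑Q) w w := by
    rw [hsi, h1i, QuadraticMap.polar_smul_right, smul_eq_mul]
  have hEj : QuadraticMap.polar (⇑Q) w (κj w) =
      x * QuadraticMap.polar (⇑Q) w w + z * QuadraticMap.polar (⇑Q) w (κi w) := by
    rw [hxz, QuadraticMap.polar_add_right, QuadraticMap.polar_smul_right,
      QuadraticMap.polar_smul_right, smul_eq_mul, smul_eq_mul]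
  have hkk : δ * QuadraticMap.polar (⇑Q) w w =
      x ^ 2 * QuadraticMap.polar (⇑Q) w w + 2 * x * z * QuadraticMap.polar (⇑Q) w (κi w)
        + z ^ 2 * δ * QuadraticMap.polar (⇑Q) w w := by
    have h0 : QuadraticMap.polar (⇑Q) (κj w) (κj w) = δ * QuadraticMap.polar (⇑Q) w w := by
      rw [hsj, h1j, QuadraticMap.polar_smul_right, smul_eq_mul]
    rw [hxz] at h0
    simp only [QuadraticMap.polar_add_left, QuadraticMap.polar_add_right,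
      QuadraticMap.polar_smul_left, QuadraticMap.polar_smul_right, smul_eq_mul, c1, k1] at h0
    linear_combination -h0
  -- norm identity
  have hN : QuadraticMap.polar (⇑Q) w (κj w) ^ 2 - δ * QuadraticMap.polar (⇑Q) w w ^ 2 =
      z ^ 2 * (QuadraticMap.polar (⇑Q) w (κi w) ^ 2 - δ * QuadraticMap.polar (⇑Q) w w ^ 2) := by
    rw [hEj]
    linear_combination (-QuadraticMap.polar (⇑Q) w w) * hkk
  set A := QuadraticMap.polar (⇑Q) w w with hAdef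
  set Ei := QuadraticMap.polar (⇑Q) w (κi w) with hEidef
  set Ej := QuadraticMap.polar (⇑Q) w (κj w) with hEjdef
  obtain ⟨μ, hμ⟩ := Cfsg.Agent.Lib.helper37.h37_isSquare_of_isSquare_norm h2 δ
    ((⟨Ej, A⟩ : QuadraticAlgebra F δ 0) * ⟨Ei, A⟩)
    ⟨z * (Ei ^ 2 - δ * A ^ 2), by
      rw [map_mul, QuadraticAlgebra.norm_def, QuadraticAlgebra.norm_def]
      simp only []
      linear_combination (Ei ^ 2 - δ * A ^ 2) * hN⟩
  have hcj : (⟨Ej, A⟩ : QuadraticAlgebra F δ 0) ≠ 0 := by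
    intro h
    exact hA (by simpa using congrArg QuadraticAlgebra.im h)
  have hν : (⟨Ej, A⟩ : QuadraticAlgebra F δ 0) *
      ((μ * (⟨Ej, A⟩ : QuadraticAlgebra F δ 0)⁻¹) * (μ * (⟨Ej, A⟩ : QuadraticAlgebra F δ 0)⁻¹)) =
      ⟨Ei, A⟩ := by
    field_simp
    rw [hμ]
    ring
  set ν := μ * (⟨Ej, A⟩ : QuadraticAlgebra F δ 0)⁻¹ with hνdef
  refine ⟨ν.re • w + ν.im • κj w + ((0 : F) • (0 : V) + (0 : F) • κj 0), ?_⟩
  obtain ⟨g1, g2⟩ := h35_ku_G Q δ κj h1j hsj w 0 (QuadraticMap.polar_zero_right _ _)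
    (QuadraticMap.polar_zero_right _ _) ν.re ν.im 0 0
  rw [g1, g2]
  have hre := congrArg QuadraticAlgebra.re hν
  have him := congrArg QuadraticAlgebra.im hν
  simp [-QuadraticMap.polar_self] at hre him
  rw [← hAdef, ← hEjdef]
  constructor
  · linear_combination him
  · linear_combination hre

theorem h35_ku_key [Fintype F] (h2 : (2 : F) ≠ 0) (δ : F) (hδ : ∀ r : F, r ^ 2 ≠ δ + 0 * r)
    (Q : QuadraticForm F V) (hQ : ∀ x, (∀ y, QuadraticMap.polar (⇑Q) x y = 0) → x = 0)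
    (κ₁ κ₂ : V →ₗ[F] V)
    (h1 : ∀ v, κ₁ (κ₁ v) = δ • v) (h1' : ∀ v, κ₂ (κ₂ v) = δ • v)
    (hs1 : ∀ u v, QuadraticMap.polar (⇑Q) (κ₁ u) v = QuadraticMap.polar (⇑Q) u (κ₁ v))
    (hs2 : ∀ u v, QuadraticMap.polar (⇑Q) (κ₂ u) v = QuadraticMap.polar (⇑Q) u (κ₂ v))
    (v₀ : V) (hv₀ : v₀ ≠ 0) :
    ∃ u u', QuadraticMap.polar (⇑Q) u u = QuadraticMap.polar (⇑Q) u' u' ∧
      QuadraticMap.polar (⇑Q) u (κ₁ u) = QuadraticMap.polar (⇑Q) u' (κ₂ u') ∧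
      (QuadraticMap.polar (⇑Q) u u ≠ 0 ∨ QuadraticMap.polar (⇑Q) u (κ₁ u) ≠ 0) := by
  obtain ⟨w, hw⟩ := h35_ku_exists h2 Q hQ v₀ hv₀
  by_cases c1 : ∀ w₂, QuadraticMap.polar (⇑Q) w₂ w = 0 → QuadraticMap.polar (⇑Q) w₂ (κ₁ w) = 0 →
      QuadraticMap.polar (⇑Q) w₂ w₂ = 0
  · have hspan := h35_ku_Kb h2 δ hδ Q hQ κ₁ h1 hs1 w hw c1
    obtain ⟨u', e1, e2⟩ := h35_ku_Kc h2 δ hδ Q κ₁ κ₂ h1 h1' hs1 hs2 w hw (fun v => ⟨_, _, hspan v⟩)
    exact ⟨w, u', e1.symm, e2.symm, Or.inl hw⟩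
  · by_cases c2 : ∀ w₂, QuadraticMap.polar (⇑Q) w₂ w = 0 → QuadraticMap.polar (⇑Q) w₂ (κ₂ w) = 0 →
        QuadraticMap.polar (⇑Q) w₂ w₂ = 0
    · have hspan := h35_ku_Kb h2 δ hδ Q hQ κ₂ h1' hs2 w hw c2
      obtain ⟨u, e1, e2⟩ := h35_ku_Kc h2 δ hδ Q κ₂ κ₁ h1' h1 hs2 hs1 w hw (fun v => ⟨_, _, hspan v⟩)
      exact ⟨u, w, e1, e2, Or.inl (by rw [e1]; exact hw)⟩
    · push Not at c1 c2
      obtain ⟨a, ha1, ha2, ha3⟩ := c1
      obtain ⟨b, hb1, hb2, hb3⟩ := c2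
      obtain ⟨u, hu1, hu2⟩ := h35_ku_Ka h2 δ hδ Q κ₁ h1 hs1 w a hw ha3
        (by rw [QuadraticMap.polar_comm]; exact ha1) (by rw [QuadraticMap.polar_comm]; exact ha2)
      obtain ⟨u', hu1', hu2'⟩ := h35_ku_Ka h2 δ hδ Q κ₂ h1' hs2 w b hw hb3
        (by rw [QuadraticMap.polar_comm]; exact hb1) (by rw [QuadraticMap.polar_comm]; exact hb2)
      exact ⟨u, u', by rw [hu1, hu1'], by rw [hu2, hu2'], Or.inl (by rw [hu1]; exact h2)⟩

end h35abs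

end Cfsg.Agent.Lib.helper59.Sfk
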