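import Cfsg.Agent.Lib.helper35.SpPres
import Cfsg.Agent.Lib.helper35.SpF4

/-!
The presented group `SpP.SP` is isomorphic to the symplectic group `Sp(4, 4)`: its five generators
go to explicit matrices, whose action on the 255 nonzero vectors is the permutation action on the
255 cosets.
-/

set_option autoImplicit false
set_option maxRecDepth 100000

namespace Cfsg.Agent.Lib.helper35.SpIso

open Cfsg.Agent.Lib.helper35 Cfsg.Spor Cfsg.Agent.Lib.helper35.SpF Cfsg.Agent.Lib.helper35.SpP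
open Matrix

/-- the matrix of the fifth generator -/
def m4c : M4 := ((F4.i, F4.o, F4.o, F4.o), (F4.w, F4.i, F4.o, F4.o), (F4.i, F4.o, F4.i, F4.w), (F4.o, F4.o, F4.o, F4.i))

/-- the matrices of the five generators, by rows -/
def mt : ℕ → M4
  | 0 => ((F4.i, F4.o, F4.o, F4.o), (F4.o, F4.i, F4.o, F4.i), (F4.o, F4.o, F4.i, F4.o), (F4.o, F4.o, F4.o, F4.i))
  | 1 => ((F4.i, F4.o, F4.i, F4.o), (F4.o, F4.o, F4.o, F4.v), (F4.o, F4.o, F4.i, F4.o), (F4.o, F4.w, F4.o, F4.o))
  | 2 => ((F4.i, F4.o, F4.i, F4.o), (F4.o, F4.i, F4.o, F4.v), (F4.o, F4.o, F4.i, F4.o), (F4.o, F4.o, F4.o, F4.i))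
  | 3 => ((F4.i, F4.o, F4.o, F4.w), (F4.o, F4.i, F4.w, F4.v), (F4.o, F4.o, F4.i, F4.o), (F4.o, F4.o, F4.o, F4.i))
  | _ => m4c

theorem mt_mem : ∀ l, toM (mt l) ∈ Matrix.symplecticGroup (Fin 2) F4
  | 0 => SymplecticGroup.mem_iff.2 (by decide +kernel)
  | 1 => SymplecticGroup.mem_iff.2 (by decide +kernel)
  | 2 => SymplecticGroup.mem_iff.2 (by decide +kernel)
  | 3 => SymplecticGroup.mem_iff.2 (by decide +kernel)
  | (_ + 4) => (SymplecticGroup.mem_iff.2 (by decide +kernel) : toM m4c ∈ _)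

/-- the symplectic matrices of the generators -/
def φM (l : ℕ) : G := if l < 5 then ⟨toM (mt l), mt_mem l⟩ else 1

theorem φM_lt {l : ℕ} (h : l < 5) : φM l = ⟨toM (mt l), mt_mem l⟩ := by
  unfold φM
  rw [if_pos h]

/-- an element of the field from a number -/
def f4 : ℕ → F4
  | 0 => F4.o
  | 1 => F4.i
  | 2 => F4.w
  | _ => F4.v

/-- the number of an element of the field -/
def n4 : F4 → ℕ
  | F4.o => 0
  | F4.i => 1
  | F4.w => 2
  | F4.v => 3

/-- a quadruple from its number -/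
def dec4 (n : ℕ) : V4 := (f4 (n % 4), f4 (n / 4 % 4), f4 (n / 16 % 4), f4 (n / 64 % 4))

/-- the number of a quadruple -/
def enc4 (x : V4) : ℕ := n4 x.1 + 4 * n4 x.2.1 + 16 * n4 x.2.2.1 + 64 * n4 x.2.2.2

/-- the numbers of the vectors of the 255 points -/
def VT : List ℕ := [1, 25, 208, 24, 17, 220, 217, 209, 16, 89, 213, 221, 216, 93, 84, 95, 152, 212, 88, 92, 80, 91, 157, 82, 94, 144, 151, 153, 85, 81, 90, 29, 86, 222, 149, 146, 31, 83, 21, 159, 150, 145, 156, 28, 87, 223, 210, 215, 148, 154, 23, 30, 20, 158, 147, 211, 214, 27, 219, 155, 22, 26, 218, 19, 18, 192, 204, 8, 200, 201, 72, 196, 197, 193, 76, 68, 70, 136, 205, 137, 9, 64, 66, 140, 74, 142, 128, 143, 73, 129, 141, 12, 78, 14, 132, 139, 206, 134, 138, 4, 135, 71, 77, 69, 5, 133, 131, 199, 194, 198, 130, 67, 75, 65, 7, 203, 207, 10, 202, 6, 15, 79, 13, 195, 11, 97, 101, 47, 111, 99, 175, 107, 103, 45, 35, 109, 167, 169, 164, 237, 105, 173, 33, 165, 161, 172, 231, 162, 166, 225, 232, 239, 171, 163,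 174, 39, 170, 102, 235, 226, 36, 160, 43, 228, 234, 227, 229, 37, 168, 100, 98, 104, 233, 238, 40, 38, 41, 230, 224, 96, 106, 44, 108, 236, 42, 46, 110, 32, 34, 116, 112, 191, 123, 126, 63, 127, 122, 183, 184, 188, 252, 113, 125, 60, 59, 124, 117, 253, 180, 176, 247, 187, 119, 240, 241, 62, 121, 114, 115, 56, 120, 118, 190, 246, 179, 55, 251, 250, 244, 58, 61, 254, 243, 255, 189, 182, 185, 52, 51, 248, 249, 57, 242, 245, 181, 186, 177, 48, 178, 54, 53, 50, 49, 2, 3]

/-- the points of the nonzero vectors, by number -/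
def IT : List ℕ := [0, 0, 253, 254, 99, 104, 119, 114, 67, 80, 117, 124, 91, 122, 93, 120, 8, 4, 64, 63, 52, 38, 60, 50, 3, 1, 61, 57, 43, 31, 51, 36, 187, 142, 188, 134, 160, 167, 175, 155, 174, 176, 184, 162, 181, 133, 185, 127, 247, 252, 251, 238, 237, 250, 249, 225, 219, 241, 229, 204, 203, 230, 215, 194, 81, 113, 82, 111, 75, 103, 76, 101, 70, 88, 84, 112, 74, 102, 92, 121, 20, 29, 23, 37, 14, 28, 32, 44, 18, 9, 30, 21, 19, 13, 24, 15, 179, 125, 170, 129, 169, 126, 157, 132, 171, 140, 180, 131, 182, 135, 186, 128, 190, 201, 217, 218, 189, 206, 221, 212, 220, 216, 196, 192, 205, 202, 193, 195, 86, 89, 110, 106, 94, 105, 97, 100, 77, 79, 98, 95, 83, 90, 85, 87, 25, 41, 35, 54, 48, 34, 40, 26, 16, 27, 49, 59, 42, 22, 53, 39, 161, 144, 147, 153, 138, 143, 148, 136, 168, 137, 156, 152, 145, 141, 154, 130, 209, 246, 248, 224, 208, 244, 235, 197, 198, 236, 245, 211, 199, 234, 222, 191, 65, 73, 108, 123, 71, 72, 109, 107, 68, 69, 118, 115, 66, 78, 96, 116, 2, 7,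 46, 55, 17, 10, 56, 47, 12, 6, 62, 58, 5, 11, 33, 45, 178, 149, 159, 165, 163, 166, 177, 146, 150, 172, 164, 158, 183, 139, 173, 151, 213, 214, 242, 232, 228, 243, 223, 210, 239, 240, 227, 226, 200, 207, 231, 233]

/-- the vector of a point -/
def vt (c : ℕ) : V4 := dec4 (nth 0 VT c)

/-- the generators act on the vectors as on the points -/
theorem eqv : ∀ l, l < 5 → ∀ c, c < 255 → app (mt l) (vt c) = vt (sig Spa.D l c) := by
  decide +kernel

theorem it_vt : ∀ c, c < 255 → nth 0 IT (enc4 (vt c)) = c := by decide +kernel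

theorem vt_inj {c c' : ℕ} (hc : c < 255) (hc' : c' < 255) (h : vt c = vt c') : c = c' := by
  rw [← it_vt c hc, ← it_vt c' hc', h]

theorem vt_basis : vt 0 = q1 ∧ vt 8 = q2 ∧ vt 99 = q3 ∧ vt 81 = q4 := by
  decide +kernel

theorem smul_gen {l : ℕ} (hl : l < 5) {c : ℕ} (hc : c < 255) :
    φM l • toV (vt c) = toV (vt (sig Spa.D l c)) := by
  rw [φM_lt hl, smul_def, toM_mulVec, eqv l hl c hc]

section Rep

variable (ρ : SP →* Equiv.Perm ℕ) (hρ : ∀ l, l < 5 → ∀ c, ρ (φ l) c = sig Spa.D l c)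
  (hlt : ∀ a c, c < 255 → ρ a c < 255)

include hρ hlt

/-- a word of matrices acts on the vectors as the word of generators acts on the points -/
theorem smul_word (w : List ℕ) (hw : ∀ l ∈ w, l < 5) {c : ℕ} (hc : c < 255) :
    wprod φM w • toV (vt c) = toV (vt (ρ (wprod φ w) c)) := by
  induction w with
  | nil => simp [wprod_nil]
  | cons l w ih =>
    rw [wprod_cons, wprod_cons, mul_smul, ih (fun x hx => hw x (List.mem_cons_of_mem _ hx)),
      smul_gen (hw l List.mem_cons_self) (hlt _ _ hc), map_mul, Equiv.Perm.mul_apply,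
      hρ l (hw l List.mem_cons_self)]

/-- a word that is trivial in the presented group is trivial on the matrices -/
theorem word_one (w : List ℕ) (hw : ∀ l ∈ w, l < 5) (h1 : wprod φ w = 1) : wprod φM w = 1 := by
  have key : ∀ c, c < 255 → wprod φM w • toV (vt c) = toV (vt c) := by
    intro c hc
    rw [smul_word ρ hρ hlt w hw hc, h1, map_one, Equiv.Perm.one_apply]
  obtain ⟨e1, e2, e3, e4⟩ := vt_basis
  have hK : wprod φM w ∈ K4 := by
    refine ⟨⟨⟨⟨Subgroup.mem_top _, ?_⟩, ?_⟩, ?_⟩, ?_⟩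
    · exact MulAction.mem_stabilizer_iff.2 (by rw [← e1]; exact key _ (by norm_num))
    · exact MulAction.mem_stabilizer_iff.2 (by rw [← e2]; exact key _ (by norm_num))
    · exact MulAction.mem_stabilizer_iff.2 (by rw [← e3]; exact key _ (by norm_num))
    · exact MulAction.mem_stabilizer_iff.2 (by rw [← e4]; exact key _ (by norm_num))
  rw [K4_eq_bot] at hK
  exact Subgroup.mem_bot.1 hK

theorem φM_sq (i : ℕ) : φM i * φM i = 1 := by
  by_cases hi : i < 5
  · have h := word_one ρ hρ hlt [i, i] (by simpa using hi)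
      (by rw [wprod_cons, wprod_cons, wprod_nil, mul_one]; exact hsq i)
    rwa [wprod_cons, wprod_cons, wprod_nil, mul_one] at h
  · unfold φM
    rw [if_neg hi, mul_one]

theorem φM_rel : ∀ w ∈ relWords edges extra gen code 5, wprod φM w = 1 := by
  intro w hw
  rw [← relW_eq] at hw
  exact word_one ρ hρ hlt w
    (fun l hl => Spa.letters_ok w (List.mem_append_left _ (List.mem_append_left _ hw)) l hl)
    (hrelW w hw)

/-- the homomorphism to the symplectic group is injective and acts on the vectors as the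
presented group acts on the points -/
theorem exists_iso (hfaith : ∀ g : SP, (∀ c, c < 255 → ρ g c = c) → g = 1)
    (hcard : Nat.card SP = 979200) :
    ∃ β : SP →* G, Function.Bijective β ∧ ∀ l, l < 5 → β (φ l) = φM l := by
  obtain ⟨β, hβ⟩ := exists_hom pres φM (φM_sq ρ hρ hlt) (φM_rel ρ hρ hlt)
  have hβ' : ∀ l, l < 5 → β (φ l) = φM l := hβ
  refine ⟨β, ?_, hβ'⟩
  -- equivariance
  let S : Subgroup SP :=
    { carrier := {p | ∀ c, c < 255 → β p • toV (vt c) = toV (vt (ρ p c))}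
      mul_mem' := by
        intro a b ha hb c hc
        rw [map_mul, mul_smul, hb c hc, ha _ (hlt b c hc), map_mul, Equiv.Perm.mul_apply]
      one_mem' := by
        intro c hc
        rw [map_one, one_smul, map_one, Equiv.Perm.one_apply]
      inv_mem' := by
        intro a ha c hc
        have h := ha _ (hlt a⁻¹ c hc)
        rw [← Equiv.Perm.mul_apply, ← map_mul, mul_inv_cancel, map_one, Equiv.Perm.one_apply] at h
        rw [← h, ← mul_smul, ← map_mul, inv_mul_cancel, map_one, one_smul] }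
  have hS : S = ⊤ := by
    rw [eq_top_iff, ← LS_top]
    unfold LS
    rw [Subgroup.closure_le]
    rintro _ ⟨l, hl, rfl⟩
    have hl5 : l < 5 := by revert l; decide
    intro c hc
    show β (φ l) • toV (vt c) = toV (vt (ρ (φ l) c))
    rw [hβ' l hl5, smul_gen hl5 hc, hρ l hl5]
  have hinj : Function.Injective β := by
    rw [injective_iff_map_eq_one]
    intro p hp
    apply hfaith
    intro c hc
    have h : p ∈ S := by rw [hS]; exact Subgroup.mem_top p
    have h2 := h c hc
    rw [hp, one_smul] at h2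
    exact (vt_inj hc (hlt p c hc) (toV_injective h2)).symm
  exact hinj.bijective_of_nat_card_le (by rw [hcard]; exact SpF.card_le)

end Rep

/-- the presented group is the symplectic group `Sp(4, 4)` -/
theorem iso : Nonempty (SP ≃* ↥(Matrix.symplecticGroup (Fin 2) F4)) := by
  obtain ⟨hcard, ρ, hρ, hlt, hfaith⟩ := order_facts
  obtain ⟨β, hβ, -⟩ := exists_iso ρ hρ hlt hfaith hcard
  exact ⟨MulEquiv.ofBijective β hβ⟩

end Cfsg.Agent.Lib.helper35.SpIso
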