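import Cfsg.Agent.S1695
import Cfsg.Agent.Lib.helper35.SpIso
import Cfsg.Agent.Lib.helper35.SpHb

/-!
A subgroup of the presented Held group isomorphic to the symplectic group `Sp(4, 4)`, inside the
subgroup of index 2058: the image of the presented group `SpP.SP`.
-/

set_option autoImplicit false
set_option maxRecDepth 100000

namespace Cfsg.Agent.Lib.helper35.SpHe

open Cfsg.Agent.Lib.helper35 Cfsg.Spor

/-- the images of the five generators in the Held group -/
def ψ (l : ℕ) : He := if l < 5 then wprod S1695.φ (SpHb.sw l) else 1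

theorem sw_rev : ∀ l, l < 5 → (SpHb.sw l).reverse = SpHb.sw l := by decide

theorem sw_letters : ∀ l, l < 5 → ∀ x ∈ SpHb.sw l, x < Hea.D.K := by decide

theorem sw_fix : ∀ l, l < 5 → actP Hea.D (SpHb.sw l) 0 = 0 := by decide +kernel

theorem ψ_sq (l : ℕ) : ψ l * ψ l = 1 := by
  unfold ψ
  split_ifs with h
  · nth_rewrite 2 [← sw_rev l h]
    rw [wprod_reverse _ S1695.hsq, mul_inv_cancel]
  · exact mul_one 1

theorem ψ_word (v : List ℕ) (hv : ∀ l ∈ v, l < 5) :
    wprod ψ v = wprod S1695.φ (SpHb.subst v) := by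
  induction v with
  | nil => rfl
  | cons l v ih =>
    rw [wprod_cons, ih (fun x hx => hv x (List.mem_cons_of_mem _ hx))]
    unfold ψ
    rw [if_pos (hv l List.mem_cons_self)]
    show _ = wprod S1695.φ ((l :: v).flatMap SpHb.sw)
    rw [List.flatMap_cons, wprod_append]
    rfl

theorem rel_base : ∀ w ∈ Spa.relW, ∀ b ∈ [2038, 279, 1, 0],
    actP Hea.D ([] ++ (SpHb.subst w).reverse) b = b := by decide +kernel

theorem rel_letters : ∀ w ∈ Spa.relW, ∀ l ∈ SpHb.subst w, l < Hea.D.K := by decide +kernel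

/-- a subgroup of order `979200` of the subgroup of index 2058, isomorphic to `Sp(4, 4)` -/
theorem he_facts : ∃ Nhe : Subgroup He, Nhe ≤ S1695.HA ∧ Nat.card Nhe = 979200 ∧
    Nonempty (Nhe ≃* ↥(Matrix.symplecticGroup (Fin 2) SpF.F4)) := by
  obtain ⟨cG, -, -, ρ, hρ, hstab, -, hbase⟩ := S1695.order_facts
  have hρ' : ∀ l, l < Hea.D.K → ∀ c, ρ (S1695.φ l) c = sig Hea.D l c := hρ
  have hfinHe : Finite He := Nat.finite_of_card_ne_zero (by rw [cG]; norm_num)
  obtain ⟨cP, -⟩ := SpP.order_facts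
  have hfinP : Finite SpP.SP := Nat.finite_of_card_ne_zero (by rw [cP]; norm_num)
  -- the relators hold
  have hrel : ∀ w ∈ relWords SpP.edges SpP.extra SpP.gen SpP.code 5, wprod ψ w = 1 := by
    intro w hw
    rw [← SpP.relW_eq] at hw
    have hl : ∀ l ∈ w, l < 5 := fun l hl =>
      Spa.letters_ok w (List.mem_append_left _ (List.mem_append_left _ hw)) l hl
    rw [ψ_word w hl]
    have := wprod_eq_of_base ρ S1695.φ S1695.hsq Hea.D Hea.inv_ok hρ' [2038, 279, 1, 0]
      (by decide) hbase (SpHb.subst w) [] (rel_letters w hw) (by simp) (rel_base w hw)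
    rw [this, wprod_nil]
  obtain ⟨α, hα⟩ := exists_hom SpP.pres ψ ψ_sq hrel
  have hα' : ∀ l, l < 5 → α (SpP.φ l) = ψ l := hα
  have hαw : ∀ v : List ℕ, (∀ l ∈ v, l < 5) →
      α (wprod SpP.φ v) = wprod S1695.φ (SpHb.subst v) := by
    intro v hv
    rw [← ψ_word v hv, ← wprod_map]
    induction v with
    | nil => rfl
    | cons l v ih =>
      rw [wprod_cons, wprod_cons, ih (fun x hx => hv x (List.mem_cons_of_mem _ hx)),
        hα' l (hv l List.mem_cons_self)]
  have hle : Nat.card α.range ≤ 979200 := by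
    rw [← cP]
    exact Nat.card_le_card_of_surjective α.rangeRestrict α.rangeRestrict_surjective
  have hge := SpHb.chain ρ S1695.φ S1695.hsq hρ' α.range
    (fun v hv => ⟨wprod SpP.φ v, hαw v hv⟩) Nat.card_pos.ne'
  have hpos : 0 < Nat.card ↥(α.range ⊓ pstab ρ [2050, 279, 1]) := Nat.card_pos
  have hcard : Nat.card α.range = 979200 := by omega
  refine ⟨α.range, ?_, hcard, ?_⟩
  · rw [MonoidHom.range_eq_map, ← SpP.LS_top]
    unfold LS
    rw [MonoidHom.map_closure, Subgroup.closure_le]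
    rintro _ ⟨_, ⟨l, hl, rfl⟩, rfl⟩
    have hl5 : l < 5 := by revert l; decide
    show α (SpP.φ l) ∈ S1695.HA
    rw [hα' l hl5]
    unfold ψ
    rw [if_pos hl5]
    apply (hstab _).1
    rw [← sw_rev l hl5, S1695.rho_eval ρ S1695.φ Hea.D Hea.inv_ok hρ' (SpHb.sw l)
      (sw_letters l hl5) 0 (by decide)]
    exact sw_fix l hl5
  · have hbij : Function.Bijective α.rangeRestrict :=
      α.rangeRestrict_surjective.bijective_of_nat_card_le (by rw [cP, hcard])
    obtain ⟨e⟩ := SpIso.iso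
    exact ⟨(MulEquiv.ofBijective α.rangeRestrict hbij).symm.trans e⟩

end Cfsg.Agent.Lib.helper35.SpHe
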