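import Cfsg.Agent.Lib.helper35.SpaCertData
import Cfsg.Agent.Lib.helper35.SpaCertRows0
import Cfsg.Agent.Lib.helper35.SpaPermRel0
import Cfsg.Agent.Lib.helper35.SpaPermOrb

set_option autoImplicit false
set_option maxRecDepth 100000

namespace Cfsg.Agent.Lib.helper35.Spa

theorem fin0 : allRange (finOK C) 0 330 = true := by decide +kernel
theorem cnt0 : countLive C 330 0 = 255 := by decide +kernel
theorem rev_ok : ∀ p ∈ C.words, p.2 = p.1.reverse := by decide +kernel
theorem wr_ok : ∀ r, r < C.nrel → (nth ([], []) C.words r).1 ∈ relW := by decide +kernel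
theorem ws_ok : ∀ p ∈ C.words, p.1 ∈ relW ∨ p.1 ∈ subW := by decide +kernel
theorem rows_all : ∀ c, c < C.M → rowOK C c = true := by
  intro c hc
  have hM : C.M = 330 := rfl
  rcases Nat.lt_or_ge c 250 with h | h
  · exact allRange_spec rows0 c (by omega) (by omega)
  exact allRange_spec rows1 c (by omega) (by omega)

theorem fin_all : ∀ c, c < C.M → finOK C c = true := fun c hc => allRange_spec fin0 c (Nat.zero_le _) (by have hM : C.M = 330 := rfl; omega)

theorem inv_ok : ∀ l, l < D.K → allRange (invOK D l) 0 D.n = true := fun l hl => allRange_spec inv_all l (Nat.zero_le _) (by have hK : D.K = 5 := rfl; omega)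

theorem rel_ok : ∀ w ∈ relW, allRange (relOK D w) 0 D.n = true := by
  intro w hw
  have hw' : w ∈ relW0 := hw
  exact allList_spec rel0 w hw'

theorem sub_ok : ∀ y ∈ subW, Nat.beq (actP D y 0) 0 = true := fun y hy => allList_spec sub_all y hy

theorem orb_ok : ∀ o ∈ orbs, orbOK D subW o = true := fun o ho => allList_spec orb_all o ho

end Cfsg.Agent.Lib.helper35.Spa
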