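import Cfsg.Agent.Lib.helper35.CosetSS
import Cfsg.Agent.Lib.helper35.CosetGroup2
import Cfsg.Agent.Lib.helper35.SpaChecks
import Cfsg.Agent.Lib.helper35.SpU1
import Cfsg.Agent.Lib.helper35.SpV1
import Cfsg.Agent.Lib.helper35.SpV2
import Cfsg.Agent.Lib.helper35.SpV3
import Cfsg.Agent.Lib.helper35.SpV4
import Cfsg.Agent.Lib.helper35.SpGb

/-!
A presentation of the symplectic group `Sp(4, 4)` on five involutions, the images of the
elements `c, d, e, f` and `b c d g d c b` of the Held group: its order and a faithful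
permutation representation on 255 points.
-/

set_option autoImplicit false
set_option maxRecDepth 100000

namespace Cfsg.Agent.Lib.helper35.SpP

open Cfsg.Agent.Lib.helper35 Cfsg.Spor

/-- the five generators -/
inductive SGen
  | c
  | d
  | e
  | f
  | s
  deriving DecidableEq

/-- the generator `c` as a word -/ abbrev gc : FreeGroup SGen := FreeGroup.of SGen.c
/-- the generator `d` as a word -/ abbrev gd : FreeGroup SGen := FreeGroup.of SGen.d
/-- the generator `e` as a word -/ abbrev ge : FreeGroup SGen := FreeGroup.of SGen.e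
/-- the generator `f` as a word -/ abbrev gf : FreeGroup SGen := FreeGroup.of SGen.f
/-- the generator `s` as a word -/ abbrev gs : FreeGroup SGen := FreeGroup.of SGen.s

/-- the Coxeter graph of the orders of the products of two generators -/
def edges : List (SGen × ℕ × SGen) :=
  [(.c, 10, .d), (.d, 3, .e), (.d, 3, .f), (.d, 5, .s), (.e, 3, .s), (.f, 4, .s)]

/-- four further relators -/
def extra : List (FreeGroup SGen) := [
  gd * ge * gs * gf * gd * gf * ge * gs * gd * gf,
  gc * gd * gc * gd * gs * gc * gd * ge * gc * gd * gc * gd * gs * gd * gc * ge * gd * gs * gf * gs * gc * gd * gs,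
  gc * gd * gc * gd * ge * gd * gc * gd * gc * ge * gd * gc * ge * gd * ge,
  gc * gd * gc * gd * gf * gd * gc * ge * gd * gf * gc * gd * gf * ge * gc * gd * gc * gd * gf * gd * ge ]

/-- the presented group -/
abbrev SP : Type := PresentedGroup (coxRelators edges ∪ {r | r ∈ extra})

/-- numbering of the generators -/
def gen : ℕ → SGen
  | 0 => .c | 1 => .d | 2 => .e | 3 => .f | _ => .s

/-- numbers of the generators -/
def code : SGen → ℕ
  | .c => 0 | .d => 1 | .e => 2 | .f => 3 | .s => 4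

/-- generators of the subgroup of index 255 -/
def ys : List (FreeGroup SGen) := [gc, gd, ge, gf]

theorem pres : Pres edges gen code 5 where
  node := by intro x; cases x <;> decide
  gen_code := by intro x; cases x <;> rfl
  code_lt := by intro x; cases x <;> decide
  code_gen := by intro i hi; interval_cases i <;> rfl

theorem relW_eq : Spa.relW = relWords edges extra gen code 5 := by decide +kernel

theorem subW_eq : Spa.subW = ys.map (wordOf code) := by decide +kernel

theorem checks : Checks edges extra gen code 5 Spa.C Spa.D Spa.relW Spa.subW Spa.orbs ys where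
  pres := pres
  relW_eq := relW_eq
  subW_eq := subW_eq
  cK := rfl
  rows := Spa.rows_all
  fin := Spa.fin_all
  cM := by decide
  live0 := by decide +kernel
  cnt := Spa.cnt0
  rev := Spa.rev_ok
  wr := Spa.wr_ok
  ws := Spa.ws_ok
  dK := rfl
  dn := by decide
  inv := Spa.inv_ok
  rel := Spa.rel_ok
  sub := Spa.sub_ok
  letters := Spa.letters_ok
  tile := Spa.tile_ok
  pos := Spa.pos_ok
  orb := Spa.orb_ok

/-- the generators of the presented group, by letter -/
def φ : ℕ → SP := sG edges extra gen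

theorem hsq : ∀ l, φ l * φ l = 1 := fun l => sG_sq pres l

theorem hrelW : ∀ w ∈ Spa.relW, wprod φ w = 1 := by
  intro w hw
  rw [relW_eq] at hw
  exact relWords_one pres w hw

theorem LS_top : LS φ [0, 1, 2, 3, 4] = ⊤ := by
  rw [eq_top_iff, ← PresentedGroup.closure_range_of]
  unfold LS
  apply Subgroup.closure_mono
  rintro _ ⟨x, rfl⟩
  refine ⟨code x, by cases x <;> decide, ?_⟩
  show PresentedGroup.of x = PresentedGroup.mk _ (FreeGroup.of (gen (code x)))
  rw [pres.gen_code]
  rfl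

theorem card_step {Γ : Type*} [Group Γ] {L' L : Subgroup Γ} (h : L' ≤ L) :
    Nat.card L' * L'.relIndex L = Nat.card L := by
  have := Subgroup.relIndex_mul_relIndex ⊥ L' L bot_le h
  rwa [Subgroup.relIndex_bot_left, Subgroup.relIndex_bot_left] at this

theorem card_le_step {Γ : Type*} [Group Γ] {L' L : Subgroup Γ} (h : L' ≤ L) {a b : ℕ}
    (h1 : Nat.card L' ≠ 0 ∧ Nat.card L' ≤ a) (h2 : L'.relIndex L ≠ 0 ∧ L'.relIndex L ≤ b) :
    Nat.card L ≠ 0 ∧ Nat.card L ≤ a * b := by
  rw [← card_step h]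
  exact ⟨Nat.mul_ne_zero h1.1 h2.1, Nat.mul_le_mul h1.2 h2.2⟩

/-- the order of the presented group and its faithful permutation representation on the 255
cosets of the subgroup generated by the first four generators -/
theorem order_facts :
    Nat.card SP = 979200 ∧
    ∃ ρ : SP →* Equiv.Perm ℕ, (∀ l, l < 5 → ∀ c, ρ (φ l) c = sig Spa.D l c) ∧
      (∀ a c, c < 255 → ρ a c < 255) ∧
      (∀ g : SP, (∀ c, c < 255 → ρ g c = c) → g = 1) := by
  obtain ⟨ρ, hρ, -, htr, hlt, -, -, -⟩ :=
    CoxIndex.main2 checks {y | y ∈ ys} (fun y => Iff.rfl)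
  have hρ' : ∀ l, l < Spa.D.K → ∀ c, ρ (φ l) c = sig Spa.D l c := hρ
  have hn : Spa.D.n = 255 := rfl
  rw [hn] at htr hlt
  have k0 : Nat.card (LS φ []) ≠ 0 ∧ Nat.card (LS φ []) ≤ 1 := by
    rw [LS_nil, Subgroup.card_bot]; exact ⟨one_ne_zero, le_refl 1⟩
  have v4 : (LS φ []).relIndex (LS φ [0]) ≠ 0 ∧ (LS φ []).relIndex (LS φ [0]) ≤ 2 :=
    SpV4.bound φ hsq hrelW
  have v3 : (LS φ [0]).relIndex (LS φ [0, 1]) ≠ 0 ∧ (LS φ [0]).relIndex (LS φ [0, 1]) ≤ 10 :=
    SpV3.bound φ hsq hrelW
  have v2 : (LS φ [0, 1]).relIndex (LS φ [0, 1, 2]) ≠ 0 ∧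
      (LS φ [0, 1]).relIndex (LS φ [0, 1, 2]) ≤ 6 := SpV2.bound φ hsq hrelW
  have v1 : (LS φ [0, 1, 2]).relIndex (LS φ [0, 1, 2, 3]) ≠ 0 ∧
      (LS φ [0, 1, 2]).relIndex (LS φ [0, 1, 2, 3]) ≤ 32 := SpV1.bound φ hsq hrelW
  have u1 : (LS φ [0, 1, 2, 3]).relIndex (LS φ [0, 1, 2, 3, 4]) ≠ 0 ∧
      (LS φ [0, 1, 2, 3]).relIndex (LS φ [0, 1, 2, 3, 4]) ≤ 255 := SpU1.bound φ hsq hrelW
  have a1 := card_le_step (LS_mono φ (S := [0]) (T := []) (by decide)) k0 v4
  have a2 := card_le_step (LS_mono φ (S := [0, 1]) (T := [0]) (by decide)) a1 v3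
  have a3 := card_le_step (LS_mono φ (S := [0, 1, 2]) (T := [0, 1]) (by decide)) a2 v2
  have a4 := card_le_step (LS_mono φ (S := [0, 1, 2, 3]) (T := [0, 1, 2]) (by decide)) a3 v1
  have a5 := card_le_step (LS_mono φ (S := [0, 1, 2, 3, 4]) (T := [0, 1, 2, 3]) (by decide)) a4 u1
  rw [LS_top] at a5
  have hGle : Nat.card (⊤ : Subgroup SP) ≤ 979200 := le_trans a5.2 (by norm_num)
  have hglob := SpGb.chain ρ φ hsq hρ' ⊤ (fun w _ => Subgroup.mem_top _) a5.1
  obtain ⟨cT, hbaseT⟩ := base_of_card ρ ⊤ _ 979200 (by norm_num) a5.1 hglob hGle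
  have hlt' : ∀ a c, c < 255 → ρ a c < 255 := by
    intro a c hc
    obtain ⟨b, rfl⟩ := htr c hc
    rw [← Equiv.Perm.mul_apply, ← map_mul]
    exact hlt _
  refine ⟨by rw [← cT, Subgroup.card_top], ρ, hρ, hlt', fun g hg => ?_⟩
  apply hbaseT g (Subgroup.mem_top g)
  intro b hb
  apply hg
  revert b
  decide

end Cfsg.Agent.Lib.helper35.SpP
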