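import Cfsg.Agent.Lib.helper35.SuzaPermData

set_option autoImplicit false
set_option maxRecDepth 100000

namespace Cfsg.Agent.Lib.helper35.SuzZ

open Cfsg.Agent.Lib.helper35

/-- the word `(dbacdc)^5`: an element of order 3 normalised by `a, b, c, d, f, g` -/
def zw : List ℕ := [3, 1, 0, 2, 3, 2, 3, 1, 0, 2, 3, 2, 3, 1, 0, 2, 3, 2, 3, 1, 0, 2, 3, 2, 3, 1, 0, 2, 3, 2]

/-- the relators of the quotient by the normal closure of `zw` -/
def relZ : List (List ℕ) := zw :: Suza.relW

end Cfsg.Agent.Lib.helper35.SuzZ
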