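import Cfsg.Agent.Lib.helper35.SuzaCertData

set_option autoImplicit false
set_option maxRecDepth 100000

namespace Cfsg.Agent.Lib.helper35.Suza

theorem rows30 : allRange (rowOK C) 9000 300 = true := by decide +kernel
theorem rows31 : allRange (rowOK C) 9300 300 = true := by decide +kernel
theorem rows32 : allRange (rowOK C) 9600 300 = true := by decide +kernel
theorem rows33 : allRange (rowOK C) 9900 300 = true := by decide +kernel
theorem rows34 : allRange (rowOK C) 10200 300 = true := by decide +kernel
theorem rows35 : allRange (rowOK C) 10500 300 = true := by decide +kernel

end Cfsg.Agent.Lib.helper35.Suza
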