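import Cfsg.Agent.Lib.helper35.CosetOrd
import Cfsg.Agent.Lib.helper35.SuzZ
import Cfsg.Agent.Lib.helper35.SuzaChecks

set_option autoImplicit false
set_option maxRecDepth 100000

namespace Cfsg.Agent.Lib.helper35.SuzZid

open Cfsg.Agent.Lib.helper35

open SuzZ
theorem zid0 : allRange (fun c => Nat.beq (actP Suza.D (0 :: (zw ++ [0])) c) (actP Suza.D zw c)) 0 1782 = true := by decide +kernel
theorem zid1 : allRange (fun c => Nat.beq (actP Suza.D (1 :: (zw ++ [1])) c) (actP Suza.D zw c)) 0 1782 = true := by decide +kernel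
theorem zid2 : allRange (fun c => Nat.beq (actP Suza.D (2 :: (zw ++ [2])) c) (actP Suza.D zw c)) 0 1782 = true := by decide +kernel
theorem zid3 : allRange (fun c => Nat.beq (actP Suza.D (3 :: (zw ++ [3])) c) (actP Suza.D zw.reverse c)) 0 1782 = true := by decide +kernel
theorem zid5 : allRange (fun c => Nat.beq (actP Suza.D (5 :: (zw ++ [5])) c) (actP Suza.D zw c)) 0 1782 = true := by decide +kernel
theorem zid6 : allRange (fun c => Nat.beq (actP Suza.D (6 :: (zw ++ [6])) c) (actP Suza.D zw c)) 0 1782 = true := by decide +kernel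

end Cfsg.Agent.Lib.helper35.SuzZid
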