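import Cfsg.Agent.Lib.helper35.SuzbCertData

set_option autoImplicit false
set_option maxRecDepth 100000

namespace Cfsg.Agent.Lib.helper35.Suzb

theorem rows24 : allRange (rowOK C) 7200 300 = true := by decide +kernel
theorem rows25 : allRange (rowOK C) 7500 300 = true := by decide +kernel
theorem rows26 : allRange (rowOK C) 7800 300 = true := by decide +kernel
theorem rows27 : allRange (rowOK C) 8100 300 = true := by decide +kernel
theorem rows28 : allRange (rowOK C) 8400 300 = true := by decide +kernel
theorem rows29 : allRange (rowOK C) 8700 300 = true := by decide +kernel
theorem rows30 : allRange (rowOK C) 9000 300 = true := by decide +kernel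
theorem rows31 : allRange (rowOK C) 9300 300 = true := by decide +kernel
theorem rows32 : allRange (rowOK C) 9600 300 = true := by decide +kernel
theorem rows33 : allRange (rowOK C) 9900 300 = true := by decide +kernel
theorem rows34 : allRange (rowOK C) 10200 300 = true := by decide +kernel
theorem rows35 : allRange (rowOK C) 10500 300 = true := by decide +kernel

end Cfsg.Agent.Lib.helper35.Suzb
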