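import Cfsg.Agent.Lib.helper35.SuzbCertData

set_option autoImplicit false
set_option maxRecDepth 100000

namespace Cfsg.Agent.Lib.helper35.Suzb

theorem rows60 : allRange (rowOK C) 18000 300 = true := by decide +kernel
theorem rows61 : allRange (rowOK C) 18300 300 = true := by decide +kernel
theorem rows62 : allRange (rowOK C) 18600 300 = true := by decide +kernel
theorem rows63 : allRange (rowOK C) 18900 300 = true := by decide +kernel
theorem rows64 : allRange (rowOK C) 19200 300 = true := by decide +kernel
theorem rows65 : allRange (rowOK C) 19500 300 = true := by decide +kernel
theorem rows66 : allRange (rowOK C) 19800 300 = true := by decide +kernel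
theorem rows67 : allRange (rowOK C) 20100 300 = true := by decide +kernel
theorem rows68 : allRange (rowOK C) 20400 300 = true := by decide +kernel
theorem rows69 : allRange (rowOK C) 20700 300 = true := by decide +kernel
theorem rows70 : allRange (rowOK C) 21000 300 = true := by decide +kernel
theorem rows71 : allRange (rowOK C) 21300 300 = true := by decide +kernel

end Cfsg.Agent.Lib.helper35.Suzb
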