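import Cfsg.Agent.Lib.helper35.SuzbCertData

set_option autoImplicit false
set_option maxRecDepth 100000

namespace Cfsg.Agent.Lib.helper35.Suzb

theorem rows72 : allRange (rowOK C) 21600 300 = true := by decide +kernel
theorem rows73 : allRange (rowOK C) 21900 300 = true := by decide +kernel
theorem rows74 : allRange (rowOK C) 22200 300 = true := by decide +kernel
theorem rows75 : allRange (rowOK C) 22500 300 = true := by decide +kernel
theorem rows76 : allRange (rowOK C) 22800 300 = true := by decide +kernel
theorem rows77 : allRange (rowOK C) 23100 300 = true := by decide +kernel
theorem rows78 : allRange (rowOK C) 23400 300 = true := by decide +kernel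
theorem rows79 : allRange (rowOK C) 23700 300 = true := by decide +kernel
theorem rows80 : allRange (rowOK C) 24000 300 = true := by decide +kernel
theorem rows81 : allRange (rowOK C) 24300 300 = true := by decide +kernel
theorem rows82 : allRange (rowOK C) 24600 300 = true := by decide +kernel
theorem rows83 : allRange (rowOK C) 24900 300 = true := by decide +kernel

end Cfsg.Agent.Lib.helper35.Suzb
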