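import Cfsg.Agent.Lib.helper35.SuzbCertData

set_option autoImplicit false
set_option maxRecDepth 100000

namespace Cfsg.Agent.Lib.helper35.Suzb

theorem rows84 : allRange (rowOK C) 25200 300 = true := by decide +kernel
theorem rows85 : allRange (rowOK C) 25500 300 = true := by decide +kernel
theorem rows86 : allRange (rowOK C) 25800 300 = true := by decide +kernel
theorem rows87 : allRange (rowOK C) 26100 300 = true := by decide +kernel
theorem rows88 : allRange (rowOK C) 26400 300 = true := by decide +kernel
theorem rows89 : allRange (rowOK C) 26700 300 = true := by decide +kernel
theorem rows90 : allRange (rowOK C) 27000 300 = true := by decide +kernel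
theorem rows91 : allRange (rowOK C) 27300 300 = true := by decide +kernel
theorem rows92 : allRange (rowOK C) 27600 300 = true := by decide +kernel
theorem rows93 : allRange (rowOK C) 27900 300 = true := by decide +kernel
theorem rows94 : allRange (rowOK C) 28200 300 = true := by decide +kernel
theorem rows95 : allRange (rowOK C) 28500 300 = true := by decide +kernel

end Cfsg.Agent.Lib.helper35.Suzb
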