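import Cfsg.Agent.Lib.helper35.SuzbCertData

set_option autoImplicit false
set_option maxRecDepth 100000

namespace Cfsg.Agent.Lib.helper35.Suzb

theorem rows108 : allRange (rowOK C) 32400 300 = true := by decide +kernel
theorem rows109 : allRange (rowOK C) 32700 300 = true := by decide +kernel
theorem rows110 : allRange (rowOK C) 33000 300 = true := by decide +kernel
theorem rows111 : allRange (rowOK C) 33300 300 = true := by decide +kernel
theorem rows112 : allRange (rowOK C) 33600 173 = true := by decide +kernel

end Cfsg.Agent.Lib.helper35.Suzb
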