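import Cfsg.Agent.Lib.helper35.SuzbPermData

set_option autoImplicit false
set_option maxRecDepth 100000

namespace Cfsg.Agent.Lib.helper35.Suzb

theorem rel4 : allList (fun w => allRange (relOK D w) 0 22880) relW4 = true := by decide +kernel

end Cfsg.Agent.Lib.helper35.Suzb
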