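import Cfsg.Prelude.Def_Classical
import Cfsg.Agent.Lib.helper35.SpF4

/-!
The special unitary group `SU(6, 2)` over the concrete field with four elements: unitary
transvections, and the bound `9196830720` for the order of `PSU(6, 2)`.
-/

set_option autoImplicit false
set_option maxRecDepth 100000

namespace Cfsg.Agent.Lib.helper35.U6F

open Cfsg.Agent.Lib.helper35.SpF Matrix

/-- vectors of length six -/
abbrev W : Type := Fin 6 → F4

theorem add_self' (a : F4) : a + a = 0 := by revert a; decide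

theorem add_sq' (a b : F4) : (a + b) ^ 2 = a ^ 2 + b ^ 2 := by revert a b; decide

theorem pow_four (a : F4) : (a ^ 2) ^ 2 = a := by revert a; decide

theorem sq_eq_zero' {a : F4} (h : a ^ 2 = 0) : a = 0 := by revert a; decide

/-- the Frobenius map -/
def frob : F4 →+* F4 where
  toFun a := a ^ 2
  map_one' := one_pow 2
  map_mul' a b := mul_pow a b 2
  map_zero' := by decide
  map_add' := add_sq'

theorem sum_sq' {ι : Type*} (s : Finset ι) (f : ι → F4) : (∑ i ∈ s, f i) ^ 2 = ∑ i ∈ s, f i ^ 2 :=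
  map_sum frob f s

/-- the hermitian form -/
abbrev hf (u v : W) : F4 := Cfsg.hermForm 6 F4 2 u v

theorem hf_def (u v : W) : hf u v = ∑ i, u i * (v i) ^ 2 := rfl

theorem hf_add_left (u u' v : W) : hf (u + u') v = hf u v + hf u' v := by
  simp [hf_def, add_mul, Finset.sum_add_distrib]

theorem hf_smul_left (c : F4) (u v : W) : hf (c • u) v = c * hf u v := by
  simp [hf_def, Finset.mul_sum, mul_assoc]

theorem hf_add_right (u v v' : W) : hf u (v + v') = hf u v + hf u v' := by
  simp [hf_def, add_sq', mul_add, Finset.sum_add_distrib]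

theorem hf_smul_right (c : F4) (u v : W) : hf u (c • v) = c ^ 2 * hf u v := by
  simp only [hf_def, Pi.smul_apply, smul_eq_mul, mul_pow, Finset.mul_sum]
  apply Finset.sum_congr rfl
  intro i _
  ring

theorem hf_conj (u v : W) : (hf u v) ^ 2 = hf v u := by
  rw [hf_def, hf_def, sum_sq']
  apply Finset.sum_congr rfl
  intro i _
  rw [mul_pow, pow_four, mul_comm]

/-- the matrix of the unitary transvection of the vector `v` -/
def tmat (v : W) : Matrix (Fin 6) (Fin 6) F4 := 1 + Matrix.vecMulVec v (fun j => (v j) ^ 2)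

theorem tmat_mulVec (v x : W) : tmat v *ᵥ x = x + hf x v • v := by
  unfold tmat
  rw [Matrix.add_mulVec, Matrix.one_mulVec, Matrix.vecMulVec_mulVec]
  congr 1
  funext i
  simp only [MulOpposite.smul_eq_mul_unop, MulOpposite.unop_op, Pi.smul_apply, smul_eq_mul,
    hf_def, dotProduct]
  rw [mul_comm]
  congr 1
  apply Finset.sum_congr rfl
  intro j _
  rw [mul_comm]

theorem tmat_det (v : W) (hv : hf v v = 0) : (tmat v).det = 1 := by
  unfold tmat
  rw [Matrix.vecMulVec_eq (ι := Unit), Matrix.det_one_add_replicateCol_mul_replicateRow]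
  have : (fun j => (v j) ^ 2) ⬝ᵥ v = hf v v := by
    simp only [hf_def, dotProduct]
    apply Finset.sum_congr rfl
    intro j _
    rw [mul_comm]
  rw [this, hv, add_zero]

theorem tmat_hf (v : W) (hv : hf v v = 0) (x y : W) :
    hf (tmat v *ᵥ x) (tmat v *ᵥ y) = hf x y := by
  rw [tmat_mulVec, tmat_mulVec, hf_add_left, hf_add_right, hf_add_right, hf_smul_left,
    hf_smul_left, hf_smul_right, hf_smul_right, hv, hf_conj]
  have := add_self' (hf x v * hf v y)
  linear_combination this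

/-- the special unitary group `SU(6, 2)` -/
abbrev SU6 : Subgroup (Matrix.SpecialLinearGroup (Fin 6) F4) := Cfsg.SU 6 F4 2

theorem SU6_hf (A : SU6) (x y : W) : hf (A.1.1 *ᵥ x) (A.1.1 *ᵥ y) = hf x y := A.2 x y

/-- the unitary transvection of an isotropic vector, in the special unitary group -/
def tsu (v : W) (hv : hf v v = 0) : SU6 :=
  ⟨⟨tmat v, tmat_det v hv⟩, fun x y => tmat_hf v hv x y⟩

theorem tsu_coe (v : W) (hv : hf v v = 0) : (tsu v hv).1.1 = tmat v := rfl

instance actW : MulAction SU6 W where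
  smul A x := A.1.1 *ᵥ x
  one_smul x := Matrix.one_mulVec x
  mul_smul A B x := (Matrix.mulVec_mulVec x A.1.1 B.1.1).symm

theorem smul_def (A : SU6) (x : W) : A • x = A.1.1 *ᵥ x := rfl

theorem smul_zero' (A : SU6) : A • (0 : W) = 0 := Matrix.mulVec_zero A.1.1

theorem smul_ne_zero' (A : SU6) {x : W} (hx : x ≠ 0) : A • x ≠ 0 := by
  intro h
  apply hx
  have := congrArg (fun z => A⁻¹ • z) h
  simpa [inv_smul_smul, smul_zero'] using this

theorem hf_smul (A : SU6) (x y : W) : hf (A • x) (A • y) = hf x y := SU6_hf A x y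

/-- vectors as sextuples -/
abbrev V6 : Type := F4 × F4 × F4 × F4 × F4 × F4

/-- the vector of a sextuple -/
def toW (x : V6) : W := ![x.1, x.2.1, x.2.2.1, x.2.2.2.1, x.2.2.2.2.1, x.2.2.2.2.2]

/-- the sextuple of a vector -/
def ofW (u : W) : V6 := (u 0, u 1, u 2, u 3, u 4, u 5)

theorem toW_ofW (u : W) : toW (ofW u) = u := by
  funext j
  fin_cases j <;> rfl

theorem ofW_toW (x : V6) : ofW (toW x) = x := rfl

theorem toW_injective : Function.Injective toW := fun x y h => by
  rw [← ofW_toW x, ← ofW_toW y, h]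

/-- the hermitian form on sextuples -/
def hf6 (x y : V6) : F4 :=
  x.1 * y.1 ^ 2 + x.2.1 * y.2.1 ^ 2 + x.2.2.1 * y.2.2.1 ^ 2 + x.2.2.2.1 * y.2.2.2.1 ^ 2 +
    x.2.2.2.2.1 * y.2.2.2.2.1 ^ 2 + x.2.2.2.2.2 * y.2.2.2.2.2 ^ 2

theorem hf_eq (u v : W) : hf u v = hf6 (ofW u) (ofW v) := by
  simp [hf_def, Fin.sum_univ_six, hf6, ofW]

theorem hf6_smul (A : SU6) (x y : W) :
    hf6 (ofW (A • x)) (ofW (A • y)) = hf6 (ofW x) (ofW y) := by
  rw [← hf_eq, ← hf_eq, hf_smul]

/-- the zero sextuple -/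
def zero6 : V6 := (F4.o, F4.o, F4.o, F4.o, F4.o, F4.o)

/-- the standard basis -/
def e1 : V6 := (F4.i, F4.o, F4.o, F4.o, F4.o, F4.o)
/-- second basis vector -/
def e2 : V6 := (F4.o, F4.i, F4.o, F4.o, F4.o, F4.o)
/-- third basis vector -/
def e3 : V6 := (F4.o, F4.o, F4.i, F4.o, F4.o, F4.o)
/-- fourth basis vector -/
def e4 : V6 := (F4.o, F4.o, F4.o, F4.i, F4.o, F4.o)
/-- fifth basis vector -/
def e5 : V6 := (F4.o, F4.o, F4.o, F4.o, F4.i, F4.o)
/-- sixth basis vector -/
def e6 : V6 := (F4.o, F4.o, F4.o, F4.o, F4.o, F4.i)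

/-- the possible images of the first basis vector -/
def T1 : Finset V6 := Finset.univ.filter fun u => hf6 u u = F4.i
/-- the possible images of the second basis vector when the first is fixed -/
def T2 : Finset V6 := Finset.univ.filter fun u => u.1 = F4.o ∧ hf6 u u = F4.i
/-- the possible images of the third basis vector -/
def T3 : Finset V6 := Finset.univ.filter fun u => u.1 = F4.o ∧ u.2.1 = F4.o ∧ hf6 u u = F4.i
/-- the possible images of the fourth basis vector -/
def T4 : Finset V6 :=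
  Finset.univ.filter fun u => u.1 = F4.o ∧ u.2.1 = F4.o ∧ u.2.2.1 = F4.o ∧ hf6 u u = F4.i
/-- the possible images of the fifth basis vector -/
def T5 : Finset V6 := Finset.univ.filter fun u =>
  u.1 = F4.o ∧ u.2.1 = F4.o ∧ u.2.2.1 = F4.o ∧ u.2.2.2.1 = F4.o ∧ hf6 u u = F4.i

theorem cT1 : T1.card = 2016 := by decide +kernel
theorem cT2 : T2.card = 528 := by decide +kernel
theorem cT3 : T3.card = 120 := by decide +kernel
theorem cT4 : T4.card = 36 := by decide +kernel
theorem cT5 : T5.card = 6 := by decide +kernel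

theorem d1 : ∀ u : V6, hf6 u u = hf6 e1 e1 → hf6 u u = F4.i := fun _ h => h

theorem d2 : ∀ u : V6, hf6 e1 u = hf6 e1 e2 → hf6 u u = hf6 e2 e2 →
    (u.1 = F4.o ∧ hf6 u u = F4.i) := by decide +kernel

theorem d3 : ∀ u : V6, hf6 e1 u = hf6 e1 e3 → hf6 e2 u = hf6 e2 e3 → hf6 u u = hf6 e3 e3 →
    (u.1 = F4.o ∧ u.2.1 = F4.o ∧ hf6 u u = F4.i) := by decide +kernel

theorem d4 : ∀ u : V6, hf6 e1 u = hf6 e1 e4 → hf6 e2 u = hf6 e2 e4 → hf6 e3 u = hf6 e3 e4 →
    hf6 u u = hf6 e4 e4 → (u.1 = F4.o ∧ u.2.1 = F4.o ∧ u.2.2.1 = F4.o ∧ hf6 u u = F4.i) := by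
  decide +kernel

theorem d5 : ∀ u : V6, hf6 e1 u = hf6 e1 e5 → hf6 e2 u = hf6 e2 e5 → hf6 e3 u = hf6 e3 e5 →
    hf6 e4 u = hf6 e4 e5 → hf6 u u = hf6 e5 e5 →
    (u.1 = F4.o ∧ u.2.1 = F4.o ∧ u.2.2.1 = F4.o ∧ u.2.2.2.1 = F4.o ∧ hf6 u u = F4.i) := by
  decide +kernel

theorem d6 : ∀ u : V6, hf6 e1 u = hf6 e1 e6 → hf6 e2 u = hf6 e2 e6 → hf6 e3 u = hf6 e3 e6 →
    hf6 e4 u = hf6 e4 e6 → hf6 e5 u = hf6 e5 e6 →
    u = (F4.o, F4.o, F4.o, F4.o, F4.o, u.2.2.2.2.2) := by decide +kernel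

/-- one step of the count, with the images given as sextuples -/
theorem step (H : Subgroup SU6) (x : W) (T : Finset V6) (n : ℕ) (hn : T.card = n)
    (hT : ∀ A ∈ H, ofW (A • x) ∈ T) :
    Nat.card H ≤ n * Nat.card ↥(H ⊓ MulAction.stabilizer SU6 x) := by
  classical
  have h := SpF.card_le_orbit H x (T.image toW)
    (fun A hA => Finset.mem_image.2 ⟨ofW (A • x), hT A hA, toW_ofW _⟩)
  refine le_trans h (Nat.mul_le_mul_right _ ?_)
  rw [← hn]
  exact Finset.card_image_le

/-- the stabiliser of the first basis vector -/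
def K1 : Subgroup SU6 := ⊤ ⊓ MulAction.stabilizer SU6 (toW e1)
/-- the stabiliser of the first two basis vectors -/
def K2 : Subgroup SU6 := K1 ⊓ MulAction.stabilizer SU6 (toW e2)
/-- the stabiliser of the first three basis vectors -/
def K3 : Subgroup SU6 := K2 ⊓ MulAction.stabilizer SU6 (toW e3)
/-- the stabiliser of the first four basis vectors -/
def K4 : Subgroup SU6 := K3 ⊓ MulAction.stabilizer SU6 (toW e4)
/-- the stabiliser of the first five basis vectors -/
def K5 : Subgroup SU6 := K4 ⊓ MulAction.stabilizer SU6 (toW e5)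

theorem mem_K1 {A : SU6} (h : A ∈ K1) : A • toW e1 = toW e1 := MulAction.mem_stabilizer_iff.1 h.2
theorem mem_K2 {A : SU6} (h : A ∈ K2) : A • toW e2 = toW e2 := MulAction.mem_stabilizer_iff.1 h.2
theorem mem_K3 {A : SU6} (h : A ∈ K3) : A • toW e3 = toW e3 := MulAction.mem_stabilizer_iff.1 h.2
theorem mem_K4 {A : SU6} (h : A ∈ K4) : A • toW e4 = toW e4 := MulAction.mem_stabilizer_iff.1 h.2
theorem mem_K5 {A : SU6} (h : A ∈ K5) : A • toW e5 = toW e5 := MulAction.mem_stabilizer_iff.1 h.2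

theorem toW_single (j : Fin 6) :
    (Pi.single j 1 : W) = toW (![e1, e2, e3, e4, e5, e6] j) := by
  funext k
  fin_cases j <;> fin_cases k <;> rfl

theorem K5_eq_bot : K5 = ⊥ := by
  rw [eq_bot_iff]
  intro A hA
  have h5 := mem_K5 hA
  have h4 := mem_K4 hA.1
  have h3 := mem_K3 hA.1.1
  have h2 := mem_K2 hA.1.1.1
  have h1 := mem_K1 hA.1.1.1.1
  have g1 := hf6_smul A (toW e1) (toW e6)
  rw [h1] at g1
  have g2 := hf6_smul A (toW e2) (toW e6)
  rw [h2] at g2
  have g3 := hf6_smul A (toW e3) (toW e6)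
  rw [h3] at g3
  have g4 := hf6_smul A (toW e4) (toW e6)
  rw [h4] at g4
  have g5 := hf6_smul A (toW e5) (toW e6)
  rw [h5] at g5
  have h6 := d6 _ g1 g2 g3 g4 g5
  obtain ⟨l, hl⟩ : ∃ l : F4, A • toW e6 = toW (F4.o, F4.o, F4.o, F4.o, F4.o, l) :=
    ⟨_, (toW_ofW _).symm.trans (congrArg toW h6)⟩
  have hcol : ∀ j, A.1.1 *ᵥ (Pi.single j 1 : W) =
      toW (![e1, e2, e3, e4, e5, (F4.o, F4.o, F4.o, F4.o, F4.o, l)] j) := by
    intro j
    fin_cases j
    · exact (congrArg (fun z => A.1.1 *ᵥ z) (toW_single 0)).trans h1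
    · exact (congrArg (fun z => A.1.1 *ᵥ z) (toW_single 1)).trans h2
    · exact (congrArg (fun z => A.1.1 *ᵥ z) (toW_single 2)).trans h3
    · exact (congrArg (fun z => A.1.1 *ᵥ z) (toW_single 3)).trans h4
    · exact (congrArg (fun z => A.1.1 *ᵥ z) (toW_single 4)).trans h5
    · exact (congrArg (fun z => A.1.1 *ᵥ z) (toW_single 5)).trans hl
  have hdiag : A.1.1 = Matrix.diagonal ![1, 1, 1, 1, 1, l] := by
    ext k j
    have := congrFun (hcol j) k
    rw [Matrix.mulVec_single_one] at this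
    rw [show (A.1.1 k j) = A.1.1.col j k from rfl, this]
    fin_cases j <;> fin_cases k <;> rfl
  have hdet : A.1.1.det = 1 := A.1.2
  rw [hdiag, Matrix.det_diagonal, Fin.prod_univ_six] at hdet
  have hl1 : l = 1 := by simpa using hdet
  rw [Subgroup.mem_bot]
  apply Subtype.ext
  apply Subtype.ext
  rw [hdiag, hl1]
  ext k j
  fin_cases j <;> fin_cases k <;> rfl

/-- the order of the special unitary group `SU(6, 2)` is at most `27590492160` -/
theorem card_SU6_le : Nat.card SU6 ≤ 27590492160 := by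
  have s1 : Nat.card (⊤ : Subgroup SU6) ≤ 2016 * Nat.card K1 :=
    step ⊤ (toW e1) T1 2016 cT1 (fun A _ =>
      Finset.mem_filter.2 ⟨Finset.mem_univ _, d1 _ (hf6_smul A (toW e1) (toW e1))⟩)
  have s2 : Nat.card K1 ≤ 528 * Nat.card K2 :=
    step K1 (toW e2) T2 528 cT2 (fun A hA => by
      have h := hf6_smul A (toW e1) (toW e2)
      rw [mem_K1 hA] at h
      exact Finset.mem_filter.2 ⟨Finset.mem_univ _, d2 _ h (hf6_smul A (toW e2) (toW e2))⟩)
  have s3 : Nat.card K2 ≤ 120 * Nat.card K3 :=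
    step K2 (toW e3) T3 120 cT3 (fun A hA => by
      have h := hf6_smul A (toW e1) (toW e3)
      rw [mem_K1 hA.1] at h
      have h' := hf6_smul A (toW e2) (toW e3)
      rw [mem_K2 hA] at h'
      exact Finset.mem_filter.2 ⟨Finset.mem_univ _, d3 _ h h' (hf6_smul A (toW e3) (toW e3))⟩)
  have s4 : Nat.card K3 ≤ 36 * Nat.card K4 :=
    step K3 (toW e4) T4 36 cT4 (fun A hA => by
      have h := hf6_smul A (toW e1) (toW e4)
      rw [mem_K1 hA.1.1] at h
      have h' := hf6_smul A (toW e2) (toW e4)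
      rw [mem_K2 hA.1] at h'
      have h'' := hf6_smul A (toW e3) (toW e4)
      rw [mem_K3 hA] at h''
      exact Finset.mem_filter.2
        ⟨Finset.mem_univ _, d4 _ h h' h'' (hf6_smul A (toW e4) (toW e4))⟩)
  have s5 : Nat.card K4 ≤ 6 * Nat.card K5 :=
    step K4 (toW e5) T5 6 cT5 (fun A hA => by
      have h := hf6_smul A (toW e1) (toW e5)
      rw [mem_K1 hA.1.1.1] at h
      have h' := hf6_smul A (toW e2) (toW e5)
      rw [mem_K2 hA.1.1] at h'
      have h'' := hf6_smul A (toW e3) (toW e5)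
      rw [mem_K3 hA.1] at h''
      have h''' := hf6_smul A (toW e4) (toW e5)
      rw [mem_K4 hA] at h'''
      exact Finset.mem_filter.2
        ⟨Finset.mem_univ _, d5 _ h h' h'' h''' (hf6_smul A (toW e5) (toW e5))⟩)
  have s6 : Nat.card K5 = 1 := by rw [K5_eq_bot, Subgroup.card_bot]
  rw [Subgroup.card_top] at s1
  rw [s6] at s5
  omega

/-- the scalar matrix of a cube root of unity, in the special unitary group -/
def zeta : SU6 :=
  ⟨⟨Matrix.diagonal fun _ => F4.w, by
    rw [Matrix.det_diagonal, Fin.prod_univ_six]; decide⟩, fun x y => by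
    show hf ((Matrix.diagonal fun _ => F4.w) *ᵥ x) ((Matrix.diagonal fun _ => F4.w) *ᵥ y) = hf x y
    have h : ∀ z : W, (Matrix.diagonal fun _ => F4.w) *ᵥ z = F4.w • z := by
      intro z
      funext j
      simp [Matrix.mulVec_diagonal]
    rw [h, h, hf_smul_left, hf_smul_right, ← mul_assoc]
    have : F4.w * F4.w ^ 2 = 1 := by decide
    rw [this, one_mul]⟩

theorem zeta_coe : zeta.1.1 = Matrix.diagonal fun _ => F4.w := rfl

theorem zeta_mem_center : zeta ∈ Subgroup.center SU6 := by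
  rw [Subgroup.mem_center_iff]
  intro B
  apply Subtype.ext
  apply Subtype.ext
  show B.1.1 * zeta.1.1 = zeta.1.1 * B.1.1
  rw [zeta_coe]
  ext k j
  rw [Matrix.mul_diagonal, Matrix.diagonal_mul, mul_comm]

theorem zeta_ne_one : zeta ≠ 1 := by
  intro h
  have h1 : zeta.1.1 (0 : Fin 6) 0 = (1 : Matrix (Fin 6) (Fin 6) F4) 0 0 := by
    rw [h]; rfl
  rw [zeta_coe, Matrix.diagonal_apply_eq, Matrix.one_apply_eq] at h1
  exact absurd h1 (by decide)

theorem zeta_pow : zeta ^ 3 = 1 := by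
  apply Subtype.ext
  apply Subtype.ext
  show zeta.1.1 ^ 3 = 1
  rw [zeta_coe, Matrix.diagonal_pow]
  have : (fun _ : Fin 6 => F4.w) ^ 3 = fun _ => 1 := by
    funext j
    show F4.w ^ 3 = 1
    decide
  rw [this, Matrix.diagonal_one]

/-- the order of `PSU(6, 2)` is at most `9196830720` -/
theorem card_PSU6_le : Nat.card (Cfsg.PSU 6 F4 2) ≤ 9196830720 := by
  have ho : orderOf zeta = 3 := orderOf_eq_prime zeta_pow zeta_ne_one
  have hd : 3 ∣ Nat.card (Subgroup.center SU6) := by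
    rw [← ho]
    exact Subgroup.orderOf_dvd_natCard _ zeta_mem_center
  have hpos : 0 < Nat.card (Subgroup.center SU6) := Nat.card_pos
  have h3 : 3 ≤ Nat.card (Subgroup.center SU6) := Nat.le_of_dvd hpos hd
  have hc := Subgroup.card_eq_card_quotient_mul_card_subgroup (Subgroup.center SU6)
  have hle := card_SU6_le
  have : Nat.card (SU6 ⧸ Subgroup.center SU6) * 3 ≤ 27590492160 := by
    calc Nat.card (SU6 ⧸ Subgroup.center SU6) * 3
        ≤ Nat.card (SU6 ⧸ Subgroup.center SU6) * Nat.card (Subgroup.center SU6) :=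
          Nat.mul_le_mul_left _ h3
      _ = Nat.card SU6 := hc.symm
      _ ≤ 27590492160 := hle
  show Nat.card (SU6 ⧸ Subgroup.center SU6) ≤ 9196830720
  omega

/-- a central element maps every nonzero isotropic vector to a multiple of itself -/
theorem center_smul {A : SU6} (hA : A ∈ Subgroup.center SU6) (v : W) (hv : hf v v = 0)
    (hv0 : v ≠ 0) : ∃ μ : F4, A • v = μ • v := by
  -- an auxiliary vector `x` with `hf x v ≠ 0`
  have hx : ∃ x : W, hf x v ≠ 0 := by
    by_contra hcon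
    simp only [not_exists, not_not] at hcon
    apply hv0
    funext j
    have := hcon (Pi.single j 1)
    rw [hf_def] at this
    simp only [Pi.single_apply] at this
    simp at this
    exact this
  obtain ⟨x, hx⟩ := hx
  have hcomm : A * tsu v hv = tsu v hv * A := (Subgroup.mem_center_iff.1 hA (tsu v hv)).symm
  have h1 : A • (tsu v hv • x) = tsu v hv • (A • x) := by
    rw [← mul_smul, ← mul_smul, hcomm]
  have e1 : tsu v hv • x = x + hf x v • v := tmat_mulVec v x
  have e2 : tsu v hv • (A • x) = A • x + hf (A • x) v • v := tmat_mulVec v (A • x)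
  rw [e1, e2] at h1
  have e3 : A • (x + hf x v • v) = A • x + hf x v • (A • v) := by
    show A.1.1 *ᵥ (x + hf x v • v) = A.1.1 *ᵥ x + hf x v • (A.1.1 *ᵥ v)
    rw [Matrix.mulVec_add, Matrix.mulVec_smul]
  rw [e3] at h1
  have h2 : hf x v • (A • v) = hf (A • x) v • v := add_left_cancel h1
  refine ⟨(hf x v)⁻¹ * hf (A • x) v, ?_⟩
  rw [mul_smul, ← h2, smul_smul, inv_mul_cancel₀ hx, one_smul]

theorem smul_add' (A : SU6) (x y : W) : A • (x + y) = A • x + A • y := Matrix.mulVec_add _ _ _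

theorem smul_smul' (A : SU6) (c : F4) (x : W) : A • (c • x) = c • (A • x) :=
  Matrix.mulVec_smul _ _ _

/-- the elements of the special unitary group fixing every isotropic point -/
def Zp : Subgroup SU6 where
  carrier := {E | ∀ v : W, hf v v = 0 → ∃ μ : F4, E • v = μ • v}
  one_mem' := fun v _ => ⟨1, by rw [one_smul, one_smul]⟩
  mul_mem' := by
    intro E E' hE hE' v hv
    obtain ⟨μ', h'⟩ := hE' v hv
    obtain ⟨μ, h⟩ := hE v hv
    exact ⟨μ' * μ, by rw [mul_smul, h', smul_smul', h, smul_smul]⟩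
  inv_mem' := by
    intro E hE v hv
    obtain ⟨μ, h⟩ := hE v hv
    by_cases hv0 : v = 0
    · exact ⟨1, by rw [hv0, smul_zero', smul_zero]⟩
    · have hμ : μ ≠ 0 := by
        intro h0
        rw [h0, zero_smul] at h
        exact smul_ne_zero' E hv0 h
      refine ⟨μ⁻¹, ?_⟩
      have h1 : E⁻¹ • (μ • v) = v := by rw [← h, inv_smul_smul]
      rw [smul_smul'] at h1
      calc E⁻¹ • v = μ⁻¹ • (μ • (E⁻¹ • v)) := by rw [smul_smul, inv_mul_cancel₀ hμ, one_smul]
        _ = μ⁻¹ • v := by rw [h1]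

theorem mem_Zp {E : SU6} : E ∈ Zp ↔ ∀ v : W, hf v v = 0 → ∃ μ : F4, E • v = μ • v := Iff.rfl

instance Zp_normal : Zp.Normal := by
  refine ⟨fun E hE g => ?_⟩
  rw [mem_Zp]
  intro v hv
  have hv' : hf (g⁻¹ • v) (g⁻¹ • v) = 0 := by rw [hf_smul]; exact hv
  obtain ⟨μ, h⟩ := mem_Zp.1 hE (g⁻¹ • v) hv'
  refine ⟨μ, ?_⟩
  rw [mul_smul, mul_smul, h, smul_smul', smul_inv_smul]

theorem center_le_Zp : Subgroup.center SU6 ≤ Zp := by
  intro A hA
  rw [mem_Zp]
  intro v hv
  by_cases hv0 : v = 0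
  · exact ⟨1, by rw [hv0, smul_zero', smul_zero]⟩
  · exact center_smul hA v hv hv0

theorem three_le_card_center : 3 ≤ Nat.card (Subgroup.center SU6) := by
  have ho : orderOf zeta = 3 := orderOf_eq_prime zeta_pow zeta_ne_one
  have hd : 3 ∣ Nat.card (Subgroup.center SU6) := by
    rw [← ho]
    exact Subgroup.orderOf_dvd_natCard _ zeta_mem_center
  exact Nat.le_of_dvd Nat.card_pos hd

theorem card_quot_Zp_le : Nat.card (SU6 ⧸ Zp) ≤ 9196830720 := by
  have h3 : 3 ≤ Nat.card Zp := le_trans three_le_card_center (Subgroup.card_le_of_le center_le_Zp)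
  have hc := Subgroup.card_eq_card_quotient_mul_card_subgroup Zp
  have hle := card_SU6_le
  have : Nat.card (SU6 ⧸ Zp) * 3 ≤ 27590492160 := by
    calc Nat.card (SU6 ⧸ Zp) * 3 ≤ Nat.card (SU6 ⧸ Zp) * Nat.card Zp := Nat.mul_le_mul_left _ h3
      _ = Nat.card SU6 := hc.symm
      _ ≤ 27590492160 := hle
  omega

theorem Zp_eq_center (h : 9196830720 ≤ Nat.card (SU6 ⧸ Zp)) : Zp = Subgroup.center SU6 := by
  have hc := Subgroup.card_eq_card_quotient_mul_card_subgroup Zp
  have hle := card_SU6_le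
  have h3 : Nat.card Zp ≤ 3 := by
    by_contra hcon
    have h4 : 4 ≤ Nat.card Zp := by omega
    have : 9196830720 * 4 ≤ Nat.card SU6 := by
      rw [hc]
      exact Nat.mul_le_mul h h4
    omega
  exact (Subgroup.eq_of_le_of_card_ge center_le_Zp (le_trans h3 three_le_card_center)).symm

/-- a multiple of a sextuple -/
def smul6 (c : F4) (x : V6) : V6 :=
  (c * x.1, c * x.2.1, c * x.2.2.1, c * x.2.2.2.1, c * x.2.2.2.2.1, c * x.2.2.2.2.2)

/-- the sum of two sextuples -/
def add6 (x y : V6) : V6 :=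
  (x.1 + y.1, x.2.1 + y.2.1, x.2.2.1 + y.2.2.1, x.2.2.2.1 + y.2.2.2.1,
    x.2.2.2.2.1 + y.2.2.2.2.1, x.2.2.2.2.2 + y.2.2.2.2.2)

/-- the unitary transvection of `v` on sextuples -/
def tv6 (v x : V6) : V6 := add6 x (smul6 (hf6 x v) v)

theorem toW_smul6 (c : F4) (x : V6) : toW (smul6 c x) = c • toW x := by
  funext j
  fin_cases j <;> rfl

theorem toW_add6 (x y : V6) : toW (add6 x y) = toW x + toW y := by
  funext j
  fin_cases j <;> rfl

theorem hf_toW (x y : V6) : hf (toW x) (toW y) = hf6 x y := hf_eq (toW x) (toW y)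

theorem toW_zero6 : toW zero6 = 0 := by
  funext j
  fin_cases j <;> rfl

theorem tsu_smul_toW (v : V6) (hv : hf (toW v) (toW v) = 0) (x : V6) :
    tsu (toW v) hv • toW x = toW (tv6 v x) := by
  have h : tsu (toW v) hv • toW x = toW x + hf (toW x) (toW v) • toW v := tmat_mulVec (toW v) (toW x)
  rw [h, hf_toW]
  unfold tv6
  rw [toW_add6, toW_smul6]

/-- the first sextuple is a nonzero multiple of the second -/
def pe (y x : V6) : Bool :=
  decide (y = smul6 F4.i x) || decide (y = smul6 F4.w x) || decide (y = smul6 F4.v x)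

theorem pe_spec {y x : V6} (h : pe y x = true) : ∃ μ : F4, μ ≠ 0 ∧ toW y = μ • toW x := by
  unfold pe at h
  simp only [Bool.or_eq_true, decide_eq_true_eq] at h
  rcases h with (h | h) | h
  · exact ⟨F4.i, by decide, by rw [h, toW_smul6]⟩
  · exact ⟨F4.w, by decide, by rw [h, toW_smul6]⟩
  · exact ⟨F4.v, by decide, by rw [h, toW_smul6]⟩

end Cfsg.Agent.Lib.helper35.U6F
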